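import Groth.Agent.H76.FibreFlat
import Mathlib.Algebra.Module.Torsion.Basic
import Mathlib.LinearAlgebra.Basis.VectorSpace
import Mathlib.RingTheory.LocalRing.ResidueField.Basic

/-!
# Injectivity modulo the maximal ideal and flatness of the cokernel (helper76)

Stacks 00ME, Tor-free.
-/

set_option autoImplicit false
universe u v

open TensorProduct

namespace Groth.Agent.H76.InjFlat

section Cancel

variable {R S : Type*} [CommRing R] [CommRing S] [Algebra R S]
  {V : Type*} [AddCommGroup V] [Module R V] [Module S V] [IsScalarTower R S V]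
  {N P : Type*} [AddCommGroup N] [Module R N] [AddCommGroup P] [Module R P]

theorem cancelBaseChange_lTensor (f : N →ₗ[R] P) (x : V ⊗[S] (S ⊗[R] N)) :
    AlgebraTensorModule.cancelBaseChange R S S V P (LinearMap.lTensor V (f.baseChange S) x) =
      LinearMap.lTensor V f (AlgebraTensorModule.cancelBaseChange R S S V N x) := by
  induction x with
  | zero => simp
  | tmul m z =>
    induction z with
    | zero => simp
    | tmul s n => simp
    | add a b ha hb => simp only [TensorProduct.tmul_add, map_add, ha, hb]
  | add a b ha hb => simp only [map_add, ha, hb]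

/-- If `k ⊗ u` is injective for a field `k` over `R`, then `V ⊗ u` is injective for every
`k`-vector space `V`. -/
theorem lTensor_injective_of_field {k : Type*} [Field k] [Algebra R k]
    {W : Type*} [AddCommGroup W] [Module R W] [Module k W] [IsScalarTower R k W]
    (f : N →ₗ[R] P) (h : Function.Injective (LinearMap.lTensor k f)) :
    Function.Injective (LinearMap.lTensor W f) := by
  have h1 : Function.Injective (f.baseChange k) := h
  have h2 : Function.Injective (LinearMap.lTensor W (f.baseChange k)) :=
    Module.Flat.lTensor_preserves_injective_linearMap _ h1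
  intro x y hxy
  obtain ⟨x', rfl⟩ := (AlgebraTensorModule.cancelBaseChange R k k W N).surjective x
  obtain ⟨y', rfl⟩ := (AlgebraTensorModule.cancelBaseChange R k k W N).surjective y
  rw [← cancelBaseChange_lTensor, ← cancelBaseChange_lTensor] at hxy
  rw [h2 ((AlgebraTensorModule.cancelBaseChange R k k W P).injective hxy)]

end Cancel

section Residue

open IsLocalRing

variable {R : Type*} [CommRing R] [IsLocalRing R]
  {N P : Type*} [AddCommGroup N] [Module R N] [AddCommGroup P] [Module R P]

/-- If `k ⊗ u` is injective (`k` the residue field) then `V ⊗ u` is injective for every `R`-module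
`V` killed by the maximal ideal. -/
theorem lTensor_injective_of_residue (f : N →ₗ[R] P)
    (h : Function.Injective (LinearMap.lTensor (ResidueField R) f))
    (V : Type*) [AddCommGroup V] [Module R V]
    (hV : ∀ a ∈ maximalIdeal R, ∀ v : V, a • v = 0) :
    Function.Injective (LinearMap.lTensor V f) := by
  have hT : Module.IsTorsionBySet R V (maximalIdeal R : Set R) := fun v a => hV a.1 a.2 v
  letI : Module (ResidueField R) V := hT.module
  haveI : IsScalarTower R (ResidueField R) V :=
    IsScalarTower.of_algebraMap_smul fun r x => rfl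
  exact lTensor_injective_of_field f h

end Residue

section Mu

variable {R : Type*} [CommRing R] (A : Ideal R) (N : Type*) [AddCommGroup N] [Module R N]

/-- The multiplication map `A ⊗ N → N`. -/
noncomputable def mu : A ⊗[R] N →ₗ[R] N :=
  (TensorProduct.lid R N).toLinearMap ∘ₗ (A.subtype.rTensor N)

@[simp] theorem mu_tmul (a : A) (x : N) : mu A N (a ⊗ₜ x) = (a : R) • x := by
  simp [mu]

theorem mu_mem (t : A ⊗[R] N) : mu A N t ∈ A • (⊤ : Submodule R N) := by
  induction t with
  | zero => simp
  | tmul a x =>
    rw [mu_tmul]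
    exact Submodule.smul_mem_smul a.2 Submodule.mem_top
  | add a b ha hb =>
    rw [map_add]
    exact Submodule.add_mem _ ha hb

variable {A N} in
theorem exists_mu_eq {x : N} (hx : x ∈ A • (⊤ : Submodule R N)) : ∃ t, mu A N t = x := by
  refine Submodule.smul_induction_on hx ?_ ?_
  · intro a ha n _
    exact ⟨(⟨a, ha⟩ : A) ⊗ₜ n, by simp⟩
  · rintro x y ⟨s, rfl⟩ ⟨t, rfl⟩
    exact ⟨s + t, map_add _ _ _⟩

variable {N} in
theorem mu_natural {M : Type*} [AddCommGroup M] [Module R M] (u : N →ₗ[R] M) (t : A ⊗[R] N) :
    mu A M (LinearMap.lTensor A u t) = u (mu A N t) := by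
  induction t with
  | zero => simp
  | tmul a x => simp
  | add a b ha hb => simp only [map_add, ha, hb]

theorem mu_injective [Module.Flat R N] : Function.Injective (mu A N) := by
  have h1 : Function.Injective (A.subtype.rTensor N) :=
    Module.Flat.rTensor_preserves_injective_linearMap _ Subtype.val_injective
  exact (TensorProduct.lid R N).injective.comp h1

variable {A} in
theorem mu_map {B : Ideal R} (φ : B →ₗ[R] A) (hφ : ∀ b, ((φ b : A) : R) = (b : R))
    (t : B ⊗[R] N) : mu A N (φ.rTensor N t) = mu B N t := by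
  induction t with
  | zero => simp
  | tmul a x => simp [hφ]
  | add a b ha hb => simp only [map_add, ha, hb]

end Mu

section Step

variable {R : Type*} [CommRing R] {N M : Type*} [AddCommGroup N] [Module R N]
  [AddCommGroup M] [Module R M] [Module.Flat R M]

/-- One step: if `B ≤ A`, `(A/B) ⊗ u` is injective, `x ∈ AN` and `u x ∈ BM`, then `x ∈ BN`. -/
theorem mem_smul_of_map_mem (u : N →ₗ[R] M) (A B : Ideal R) (hBA : B ≤ A)
    (hV : Function.Injective
      (LinearMap.lTensor (A ⧸ (Submodule.comap A.subtype B : Submodule R A)) u))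
    {x : N} (hx : x ∈ A • (⊤ : Submodule R N)) (hux : u x ∈ B • (⊤ : Submodule R M)) :
    x ∈ B • (⊤ : Submodule R N) := by
  obtain ⟨s, rfl⟩ := exists_mu_eq hx
  obtain ⟨t', ht'⟩ := exists_mu_eq hux
  let B' : Submodule R A := Submodule.comap A.subtype B
  have h1 : LinearMap.lTensor A u s = (Submodule.inclusion hBA).rTensor M t' := by
    apply mu_injective A M
    rw [mu_natural, mu_map M (Submodule.inclusion hBA) (fun b => rfl), ht']
  -- `B → A → A/B'` is zero
  have hzero : B'.mkQ ∘ₗ Submodule.inclusion hBA = 0 := by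
    apply LinearMap.ext
    intro b
    rw [LinearMap.comp_apply, LinearMap.zero_apply, Submodule.mkQ_apply]
    exact (Submodule.Quotient.mk_eq_zero B').mpr b.2
  have h2 : LinearMap.rTensor M B'.mkQ (LinearMap.lTensor A u s) = 0 := by
    rw [h1, ← LinearMap.comp_apply, ← LinearMap.rTensor_comp, hzero, LinearMap.rTensor_zero,
      LinearMap.zero_apply]
  have h3 : LinearMap.lTensor (A ⧸ B') u (LinearMap.rTensor N B'.mkQ s) = 0 := by
    rw [← LinearMap.comp_apply, LinearMap.lTensor_comp_rTensor, ← LinearMap.rTensor_comp_lTensor,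
      LinearMap.comp_apply, h2]
  have h4 : LinearMap.rTensor N B'.mkQ s = 0 := (injective_iff_map_eq_zero _).mp hV _ h3
  have hex : Function.Exact (B'.subtype.rTensor N) (B'.mkQ.rTensor N) :=
    rTensor_exact N (LinearMap.exact_subtype_mkQ B') (Submodule.mkQ_surjective B')
  obtain ⟨s', rfl⟩ := (hex s).mp h4
  clear h1 h2 h3 h4 ht' hx hux
  induction s' with
  | zero => simp
  | tmul b n =>
    rw [LinearMap.rTensor_tmul, mu_tmul]
    exact Submodule.smul_mem_smul b.2 Submodule.mem_top
  | add a b ha hb =>
    rw [map_add, map_add]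
    exact Submodule.add_mem _ ha hb

end Step

section Main

open IsLocalRing

variable {R : Type*} [CommRing R] [IsLocalRing R] {N M : Type*} [AddCommGroup N] [Module R N]
  [AddCommGroup M] [Module R M] [Module.Flat R M]

theorem mem_sup_pow_smul (u : N →ₗ[R] M)
    (h : Function.Injective (LinearMap.lTensor (ResidueField R) u)) (I : Ideal R) {x : N}
    (hx : u x ∈ I • (⊤ : Submodule R M)) (n : ℕ) :
    x ∈ (I ⊔ maximalIdeal R ^ n) • (⊤ : Submodule R N) := by
  induction n with
  | zero =>
    rw [pow_zero, Ideal.one_eq_top, sup_top_eq, Submodule.top_smul]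
    exact Submodule.mem_top
  | succ n ih =>
    have hBA : I ⊔ maximalIdeal R ^ (n + 1) ≤ I ⊔ maximalIdeal R ^ n :=
      sup_le_sup_left (Ideal.pow_le_pow_right (Nat.le_succ n)) I
    refine mem_smul_of_map_mem u _ _ hBA ?_ ih (Submodule.smul_mono_left le_sup_left hx)
    apply lTensor_injective_of_residue u h
    intro a ha v
    obtain ⟨a', rfl⟩ := Submodule.Quotient.mk_surjective _ v
    rw [← Submodule.Quotient.mk_smul, Submodule.Quotient.mk_eq_zero, Submodule.mem_comap]
    show a • (a' : R) ∈ _
    obtain ⟨i, hi, p, hp, hip⟩ := Submodule.mem_sup.mp a'.2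
    rw [← hip, smul_add]
    refine Ideal.add_mem _ (Ideal.mem_sup_left (I.mul_mem_left a hi)) (Ideal.mem_sup_right ?_)
    rw [pow_succ']
    exact Ideal.mul_mem_mul ha hp

variable {S : Type*} [CommRing S] [IsLocalRing S] [IsNoetherianRing S] [Algebra R S]
  [IsLocalHom (algebraMap R S)] [Module S N] [IsScalarTower R S N] [Module.Finite S N]

include S in
/-- `N/IN → M/IM` is injective for every ideal `I`. -/
theorem mem_smul_top_of_map_mem (u : N →ₗ[R] M)
    (h : Function.Injective (LinearMap.lTensor (ResidueField R) u)) (I : Ideal R) {x : N}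
    (hx : u x ∈ I • (⊤ : Submodule R M)) : x ∈ I • (⊤ : Submodule R N) := by
  let J : Ideal S := I.map (algebraMap R S)
  let 𝔫 : Ideal S := (maximalIdeal R).map (algebraMap R S)
  have h𝔫 : 𝔫 ≠ ⊤ := by
    have hle : 𝔫 ≤ maximalIdeal S :=
      Ideal.map_le_iff_le_comap.mpr (fun x hx => map_nonunit (algebraMap R S) x hx)
    intro htop
    rw [htop] at hle
    exact (maximalIdeal.isMaximal S).ne_top (top_le_iff.mp hle)
  let K : Submodule S N := J • ⊤
  have hkrull : (⨅ i : ℕ, 𝔫 ^ i • ⊤ : Submodule S (N ⧸ K)) = ⊥ :=
    Ideal.iInf_pow_smul_eq_bot_of_isLocalRing 𝔫 h𝔫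
  have key : ∀ n : ℕ, K.mkQ x ∈ 𝔫 ^ n • (⊤ : Submodule S (N ⧸ K)) := by
    intro n
    have hmem := mem_sup_pow_smul u h I hx n
    refine Submodule.smul_induction_on hmem ?_ ?_
    · intro a ha y _
      obtain ⟨i, hi, p, hp, rfl⟩ := Submodule.mem_sup.mp ha
      rw [add_smul, map_add]
      have e1 : K.mkQ (i • y) = 0 := by
        rw [Submodule.mkQ_apply, Submodule.Quotient.mk_eq_zero, ← algebraMap_smul S i y]
        exact Submodule.smul_mem_smul (Ideal.mem_map_of_mem _ hi) Submodule.mem_top
      rw [e1, zero_add, ← algebraMap_smul S p y, map_smul]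
      apply Submodule.smul_mem_smul _ Submodule.mem_top
      rw [← Ideal.map_pow]
      exact Ideal.mem_map_of_mem _ hp
    · intro y z hy hz
      rw [map_add]
      exact Submodule.add_mem _ hy hz
  have hzero : K.mkQ x = 0 := by
    have hmem : K.mkQ x ∈ (⨅ i : ℕ, 𝔫 ^ i • ⊤ : Submodule S (N ⧸ K)) :=
      (Submodule.mem_iInf _).mpr key
    rw [hkrull] at hmem
    exact (Submodule.mem_bot S).mp hmem
  have hxK : x ∈ K := (Submodule.Quotient.mk_eq_zero K).mp hzero
  have hJ : ∀ j ∈ J, ∀ y : N, j • y ∈ I • (⊤ : Submodule R N) := by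
    intro j hj
    refine Submodule.span_induction ?_ ?_ ?_ ?_ hj
    · rintro _ ⟨a, ha, rfl⟩ y
      rw [algebraMap_smul]
      exact Submodule.smul_mem_smul ha Submodule.mem_top
    · intro y
      rw [zero_smul]
      exact Submodule.zero_mem _
    · intro a b _ _ ha hb y
      rw [add_smul]
      exact Submodule.add_mem _ (ha y) (hb y)
    · intro s a _ ha y
      rw [smul_eq_mul, mul_comm, mul_smul]
      exact ha (s • y)
  exact Submodule.smul_induction_on hxK (fun j hj y _ => hJ j hj y)
    (fun y z hy hz => Submodule.add_mem _ hy hz)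

include S in
/-- Stacks 00ME. -/
theorem injective_and_flat (u : N →ₗ[R] M)
    (h : Function.Injective (LinearMap.lTensor (ResidueField R) u)) :
    Function.Injective u ∧ Module.Flat R (M ⧸ LinearMap.range u) := by
  constructor
  · rw [injective_iff_map_eq_zero]
    intro x hx
    have h1 : u x ∈ (⊥ : Ideal R) • (⊤ : Submodule R M) := by
      rw [hx]
      exact Submodule.zero_mem _
    have h2 := mem_smul_top_of_map_mem (S := S) u h ⊥ h1
    rw [Submodule.bot_smul] at h2
    exact (Submodule.mem_bot R).mp h2
  · rw [Module.Flat.iff_rTensor_injective']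
    intro I
    rw [injective_iff_map_eq_zero]
    intro z hz
    have hz' : mu I (M ⧸ LinearMap.range u) z = 0 := by
      rw [mu, LinearMap.comp_apply, hz, map_zero]
    obtain ⟨z', rfl⟩ := LinearMap.lTensor_surjective I
      (Submodule.mkQ_surjective (LinearMap.range u)) z
    rw [mu_natural] at hz'
    have h1 : mu I M z' ∈ LinearMap.range u := by
      rwa [Submodule.mkQ_apply, Submodule.Quotient.mk_eq_zero] at hz'
    obtain ⟨n, hn⟩ := h1
    have h2 : u n ∈ I • (⊤ : Submodule R M) := hn ▸ mu_mem I M z'
    have h3 := mem_smul_top_of_map_mem (S := S) u h I h2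
    obtain ⟨n', rfl⟩ := exists_mu_eq h3
    have h4 : z' = LinearMap.lTensor I u n' := mu_injective I M (by rw [mu_natural, hn])
    have h5 : (LinearMap.range u).mkQ ∘ₗ u = 0 := by
      apply LinearMap.ext
      intro y
      rw [LinearMap.comp_apply, LinearMap.zero_apply, Submodule.mkQ_apply,
        Submodule.Quotient.mk_eq_zero]
      exact LinearMap.mem_range_self u y
    rw [h4, ← LinearMap.comp_apply, ← LinearMap.lTensor_comp, h5, LinearMap.lTensor_zero,
      LinearMap.zero_apply]

end Main

end Groth.Agent.H76.InjFlat
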