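import Groth.Agent.H76.LocalCrit2

/-!
# Adic criterion of flatness with `IS ⊆ rad(S)` (helper76)
-/

set_option autoImplicit false
universe u v

open TensorProduct

namespace Groth.Agent.H76.LocalCrit

open Groth.Agent.H76.FlatGlue Groth.Agent.H76.NilFlat

theorem flat_of_adic_jacobson {R S : Type u} [CommRing R] [CommRing S]
    [IsNoetherianRing R] [IsNoetherianRing S] [Algebra R S]
    {M : Type u} [AddCommGroup M] [Module R M] [Module S M] [IsScalarTower R S M]
    [Module.Finite S M] (I : Ideal R) (hJ' : I.map (algebraMap R S) ≤ Ideal.jacobson ⊥)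
    (hT : ∀ (m : ℕ) (P Q : Type u) [AddCommGroup P] [Module R P] [AddCommGroup Q] [Module R Q]
      (u : P →ₗ[R] Q), Function.Injective u → (∀ r ∈ I ^ m, ∀ q : Q, r • q = 0) →
      Function.Injective (u.rTensor M)) : Module.Flat R M := by
  rw [Module.Flat.iff_rTensor_injective']
  intro 𝔞
  set J : Ideal S := I.map (algebraMap R S) with hJdef
  have hJ : J ≤ Ideal.jacobson ⊥ := hJ'
  haveI : Module.Finite R 𝔞 := Module.Finite.of_fg (IsNoetherian.noetherian 𝔞)
  haveI : Module.Finite S (M ⊗[R] 𝔞) := AdicFlat.finite_tensor M 𝔞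
  have hkrull : (⨅ i : ℕ, J ^ i • ⊤ : Submodule S (M ⊗[R] 𝔞)) = ⊥ :=
    Ideal.iInf_pow_smul_eq_bot_of_le_jacobson J hJ
  obtain ⟨k, hk⟩ := Ideal.exists_pow_inf_eq_pow_smul I (𝔞 : Submodule R R)
  rw [injective_iff_map_eq_zero]
  intro z hz
  have hmem : ∀ n : ℕ, TensorProduct.comm R 𝔞 M z ∈ J ^ n • (⊤ : Submodule S (M ⊗[R] 𝔞)) := by
    intro n
    have hAR : I ^ (n + k) ⊓ 𝔞 ≤ I ^ n * 𝔞 := by
      have h0 := hk (n + k) (Nat.le_add_left k n)
      rw [Nat.add_sub_cancel] at h0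
      have e1 : I ^ (n + k) • (⊤ : Submodule R R) = I ^ (n + k) := by
        rw [smul_eq_mul, Ideal.mul_top]
      rw [e1] at h0
      rw [h0]
      intro x hx
      refine Submodule.smul_induction_on hx ?_ ?_
      · intro i hi y hy
        rw [smul_eq_mul]
        exact Ideal.mul_mem_mul hi hy.2
      · intro x y hx hy
        exact Ideal.add_mem _ hx hy
    -- the key sub-lemma on pure tensors
    have hsub : ∀ x ∈ I ^ n * 𝔞, ∀ m : M, ∃ hx : x ∈ 𝔞,
        (m ⊗ₜ[R] (⟨x, hx⟩ : 𝔞) : M ⊗[R] 𝔞) ∈ J ^ n • (⊤ : Submodule S (M ⊗[R] 𝔞)) := by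
      intro x hx m
      refine Submodule.mul_induction_on hx ?_ ?_
      · intro i hi a ha
        refine ⟨𝔞.mul_mem_left i ha, ?_⟩
        have e : (⟨i * a, 𝔞.mul_mem_left i ha⟩ : 𝔞) = i • (⟨a, ha⟩ : 𝔞) := rfl
        rw [e, ← TensorProduct.smul_tmul, ← IsScalarTower.algebraMap_smul S i m,
          ← TensorProduct.smul_tmul']
        apply Submodule.smul_mem_smul _ Submodule.mem_top
        rw [hJdef, ← Ideal.map_pow]
        exact Ideal.mem_map_of_mem _ hi
      · rintro x y ⟨hx, hx'⟩ ⟨hy, hy'⟩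
        refine ⟨𝔞.add_mem hx hy, ?_⟩
        have e : (⟨x + y, 𝔞.add_mem hx hy⟩ : 𝔞) = ⟨x, hx⟩ + ⟨y, hy⟩ := rfl
        rw [e, TensorProduct.tmul_add]
        exact Submodule.add_mem _ hx' hy'
    let 𝔟' : Submodule R 𝔞 := Submodule.comap 𝔞.subtype (I ^ (n + k))
    let u : (𝔞 ⧸ 𝔟') →ₗ[R] (R ⧸ I ^ (n + k)) :=
      𝔟'.liftQ ((I ^ (n + k)).mkQ ∘ₗ 𝔞.subtype) (by
        intro x hx
        rw [LinearMap.mem_ker, LinearMap.comp_apply]
        exact (Submodule.Quotient.mk_eq_zero _).mpr hx)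
    have hu : Function.Injective u := by
      rw [← LinearMap.ker_eq_bot]
      apply Submodule.ker_liftQ_eq_bot
      intro x hx
      rw [LinearMap.mem_ker, LinearMap.comp_apply] at hx
      exact (Submodule.Quotient.mk_eq_zero (I ^ (n + k))).mp hx
    have hTu : Function.Injective (u.rTensor M) := by
      apply hT (n + k) _ _ u hu
      intro r hr y
      obtain ⟨y', rfl⟩ := Submodule.Quotient.mk_surjective _ y
      rw [← Submodule.Quotient.mk_smul]
      exact (Submodule.Quotient.mk_eq_zero _).mpr (Ideal.mul_mem_right y' _ hr)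
    have hcomp : u ∘ₗ 𝔟'.mkQ = (I ^ (n + k)).mkQ ∘ₗ 𝔞.subtype := Submodule.liftQ_mkQ _ _ _
    have h2 : (u.rTensor M) ((𝔟'.mkQ.rTensor M) z) = 0 := by
      rw [← LinearMap.comp_apply, ← LinearMap.rTensor_comp, hcomp, LinearMap.rTensor_comp,
        LinearMap.comp_apply, hz, map_zero]
    have h3 : (𝔟'.mkQ.rTensor M) z = 0 := (injective_iff_map_eq_zero _).mp hTu _ h2
    have hex : Function.Exact (𝔟'.subtype.rTensor M) (𝔟'.mkQ.rTensor M) :=
      rTensor_exact M (LinearMap.exact_subtype_mkQ 𝔟') (Submodule.mkQ_surjective 𝔟')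
    obtain ⟨w, rfl⟩ := (hex z).mp h3
    -- now every element of the range lies in `J^n • ⊤` after `comm`
    have hw : ∀ w : 𝔟' ⊗[R] M, TensorProduct.comm R 𝔞 M ((𝔟'.subtype.rTensor M) w) ∈
        J ^ n • (⊤ : Submodule S (M ⊗[R] 𝔞)) := by
      intro w
      induction w with
      | zero => simp
      | tmul b m =>
        rw [LinearMap.rTensor_tmul, TensorProduct.comm_tmul, Submodule.subtype_apply]
        have hb : ((b : 𝔞) : R) ∈ I ^ (n + k) ⊓ 𝔞 := ⟨b.2, (b : 𝔞).2⟩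
        obtain ⟨_, hx'⟩ := hsub _ (hAR hb) m
        exact hx'
      | add a b ha hb =>
        rw [map_add, map_add]
        exact Submodule.add_mem _ ha hb
    exact hw w
  have hz0 : TensorProduct.comm R 𝔞 M z ∈ (⨅ i : ℕ, J ^ i • ⊤ : Submodule S (M ⊗[R] 𝔞)) := by
    rw [Submodule.mem_iInf]
    exact hmem
  rw [hkrull] at hz0
  have := (Submodule.mem_bot S).mp hz0
  exact (TensorProduct.comm R 𝔞 M).injective (by rw [this, map_zero])

end Groth.Agent.H76.LocalCrit
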