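import Mathlib.RingTheory.Flat.Basic
import Mathlib.RingTheory.Flat.Tensor
import Mathlib.LinearAlgebra.TensorProduct.RightExactness
import Mathlib.LinearAlgebra.TensorProduct.Tower
import Mathlib.Algebra.Module.RingHom

/-!
# Helper lemmas on flatness and injectivity after tensoring (helper76)

* `rTensor_injective_of_flat_baseChange`: if `S ⊗[R] L` is `S`-flat, an injective `S`-linear map
  stays injective after `⊗[R] L`.
* `rTensor_injective_of_surjective_of_flat`: if `R → S` is surjective and `S ⊗[R] L` is `S`-flat,
  an injective `R`-linear map into a module killed by the kernel stays injective after `⊗[R] L`.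
* `rTensor_injective_of_chase`: a diagram chase.
-/

set_option autoImplicit false

open TensorProduct

namespace Groth.Agent.H76.FlatGlue

section BC

variable {R S : Type*} [CommRing R] [CommRing S] [Algebra R S]
  (L : Type*) [AddCommGroup L] [Module R L]
  {X Y : Type*} [AddCommGroup X] [Module R X] [Module S X] [IsScalarTower R S X]
  [AddCommGroup Y] [Module R Y] [Module S Y] [IsScalarTower R S Y]

/-- If `S ⊗[R] L` is flat over `S`, then an injective `S`-linear map stays injective after
tensoring over `R` with `L`. -/
theorem rTensor_injective_of_flat_baseChange [Module.Flat S (S ⊗[R] L)]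
    (g : X →ₗ[S] Y) (hg : Function.Injective g) :
    Function.Injective ((g.restrictScalars R).rTensor L) := by
  have h1 : Function.Injective (g.rTensor (S ⊗[R] L)) :=
    Module.Flat.rTensor_preserves_injective_linearMap g hg
  have hcomm : ∀ z : X ⊗[S] (S ⊗[R] L),
      ((g.restrictScalars R).rTensor L) (AlgebraTensorModule.cancelBaseChange R S S X L z) =
      AlgebraTensorModule.cancelBaseChange R S S Y L ((g.rTensor (S ⊗[R] L)) z) := by
    intro z
    induction z using TensorProduct.induction_on with
    | zero => simp
    | tmul x w =>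
      induction w using TensorProduct.induction_on with
      | zero => simp
      | tmul s l => simp
      | add a b ha hb => simp only [tmul_add, map_add, ha, hb]
    | add a b ha hb => simp only [map_add, ha, hb]
  intro z₁ z₂ h
  obtain ⟨w₁, rfl⟩ := (AlgebraTensorModule.cancelBaseChange R S S X L).surjective z₁
  obtain ⟨w₂, rfl⟩ := (AlgebraTensorModule.cancelBaseChange R S S X L).surjective z₂
  rw [hcomm, hcomm] at h
  rw [h1 ((AlgebraTensorModule.cancelBaseChange R S S Y L).injective h)]

end BC

section Surj

variable {R S : Type*} [CommRing R] [CommRing S] [Algebra R S]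

/-- The `S`-module structure on an `R`-module killed by the kernel of a surjection `R → S`. -/
noncomputable abbrev moduleOfSurjective (hS : Function.Surjective (algebraMap R S))
    (Y : Type*) [AddCommGroup Y] [Module R Y]
    (hY : ∀ r : R, algebraMap R S r = 0 → ∀ y : Y, r • y = 0) : Module S Y :=
  letI : SMul S Y := ⟨fun s y => (Classical.choose (hS s)) • y⟩
  Function.Surjective.moduleLeft (algebraMap R S) hS (by
    intro c y
    show (Classical.choose (hS (algebraMap R S c))) • y = c • y
    have h := Classical.choose_spec (hS (algebraMap R S c))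
    have h0 : (Classical.choose (hS (algebraMap R S c)) - c) • y = 0 :=
      hY _ (by rw [map_sub, h, sub_self]) y
    rw [sub_smul, sub_eq_zero] at h0
    exact h0)

theorem moduleOfSurjective_smul (hS : Function.Surjective (algebraMap R S))
    (Y : Type*) [AddCommGroup Y] [Module R Y]
    (hY : ∀ r : R, algebraMap R S r = 0 → ∀ y : Y, r • y = 0) (c : R) (y : Y) :
    (letI := moduleOfSurjective hS Y hY; algebraMap R S c • y) = c • y := by
  show (Classical.choose (hS (algebraMap R S c))) • y = c • y
  have h := Classical.choose_spec (hS (algebraMap R S c))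
  have h0 : (Classical.choose (hS (algebraMap R S c)) - c) • y = 0 :=
    hY _ (by rw [map_sub, h, sub_self]) y
  rw [sub_smul, sub_eq_zero] at h0
  exact h0

/-- If `R → S` is surjective and `S ⊗[R] L` is flat over `S`, then an injective `R`-linear map
whose target is killed by `ker (R → S)` stays injective after tensoring with `L`. -/
theorem rTensor_injective_of_surjective_of_flat (hS : Function.Surjective (algebraMap R S))
    (L : Type*) [AddCommGroup L] [Module R L] [Module.Flat S (S ⊗[R] L)]
    {X Y : Type*} [AddCommGroup X] [Module R X] [AddCommGroup Y] [Module R Y]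
    (f : X →ₗ[R] Y) (hf : Function.Injective f)
    (hY : ∀ r : R, algebraMap R S r = 0 → ∀ y : Y, r • y = 0) :
    Function.Injective (f.rTensor L) := by
  have hX : ∀ r : R, algebraMap R S r = 0 → ∀ x : X, r • x = 0 := by
    intro r hr x
    apply hf
    rw [map_smul, hY r hr, map_zero]
  letI : Module S Y := moduleOfSurjective hS Y hY
  letI : Module S X := moduleOfSurjective hS X hX
  have smulY : ∀ (r : R) (y : Y), algebraMap R S r • y = r • y :=
    moduleOfSurjective_smul hS Y hY
  have smulX : ∀ (r : R) (x : X), algebraMap R S r • x = r • x :=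
    moduleOfSurjective_smul hS X hX
  haveI : IsScalarTower R S Y := IsScalarTower.of_algebraMap_smul smulY
  haveI : IsScalarTower R S X := IsScalarTower.of_algebraMap_smul smulX
  let g : X →ₗ[S] Y :=
    { toFun := f
      map_add' := f.map_add
      map_smul' := by
        intro s x
        obtain ⟨r, rfl⟩ := hS s
        rw [smulX, RingHom.id_apply, smulY, f.map_smul] }
  have hg : g.restrictScalars R = f := LinearMap.ext fun _ => rfl
  rw [← hg]
  exact rTensor_injective_of_flat_baseChange L g hf

end Surj

section Chase

variable {R : Type*} [CommRing R] (L : Type*) [AddCommGroup L] [Module R L]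
  {Q' Q C : Type*} [AddCommGroup Q'] [Module R Q'] [AddCommGroup Q] [Module R Q]
  [AddCommGroup C] [Module R C]

/-- Diagram chase: to prove that `f ⊗ L` is injective it suffices to do so on the kernel of
`π ∘ f` and on the induced map from the quotient by that kernel. -/
theorem rTensor_injective_of_chase (f : Q' →ₗ[R] Q) (π : Q →ₗ[R] C)
    (ha : Function.Injective ((f ∘ₗ (LinearMap.ker (π ∘ₗ f)).subtype).rTensor L))
    (hb : Function.Injective
      (((LinearMap.ker (π ∘ₗ f)).liftQ (π ∘ₗ f) le_rfl).rTensor L)) :
    Function.Injective (f.rTensor L) := by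
  set K := LinearMap.ker (π ∘ₗ f) with hK
  have hex : Function.Exact (K.subtype.rTensor L) (K.mkQ.rTensor L) :=
    rTensor_exact L (LinearMap.exact_subtype_mkQ K) (Submodule.mkQ_surjective K)
  have hcomp : (K.liftQ (π ∘ₗ f) le_rfl) ∘ₗ K.mkQ = π ∘ₗ f := Submodule.liftQ_mkQ K _ _
  rw [injective_iff_map_eq_zero]
  intro z hz
  have h1 : ((K.liftQ (π ∘ₗ f) le_rfl).rTensor L) ((K.mkQ.rTensor L) z) = 0 := by
    rw [← LinearMap.comp_apply, ← LinearMap.rTensor_comp, hcomp, LinearMap.rTensor_comp,
      LinearMap.comp_apply, hz, map_zero]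
  have h2 : (K.mkQ.rTensor L) z = 0 := (injective_iff_map_eq_zero _).mp hb _ h1
  obtain ⟨w, rfl⟩ := (hex z).mp h2
  have h3 : ((f ∘ₗ K.subtype).rTensor L) w = 0 := by
    rw [LinearMap.rTensor_comp, LinearMap.comp_apply, hz]
  rw [(injective_iff_map_eq_zero _).mp ha w h3, map_zero]

/-- If `(h ∘ u) ⊗ L` is injective, so is `u ⊗ L`. -/
theorem rTensor_injective_of_comp (u : Q' →ₗ[R] Q) (h : Q →ₗ[R] C)
    (hc : Function.Injective ((h ∘ₗ u).rTensor L)) : Function.Injective (u.rTensor L) := by
  rw [LinearMap.rTensor_comp, LinearMap.coe_comp] at hc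
  exact Function.Injective.of_comp hc

/-- Composition of maps injective after `⊗ L`. -/
theorem rTensor_injective_comp (u : Q' →ₗ[R] Q) (h : Q →ₗ[R] C)
    (hu : Function.Injective (u.rTensor L)) (hh : Function.Injective (h.rTensor L)) :
    Function.Injective ((h ∘ₗ u).rTensor L) := by
  rw [LinearMap.rTensor_comp, LinearMap.coe_comp]
  exact hh.comp hu

/-- A bijective linear map is injective after `⊗ L`. -/
theorem rTensor_injective_of_bijective (u : Q' →ₗ[R] Q) (hu : Function.Bijective u) :
    Function.Injective (u.rTensor L) := by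
  let e := LinearEquiv.ofBijective u hu
  have : (e.symm.toLinearMap.rTensor L) ∘ₗ (u.rTensor L) = LinearMap.id := by
    rw [← LinearMap.rTensor_comp]
    have : e.symm.toLinearMap ∘ₗ u = LinearMap.id := by
      ext x
      exact e.symm_apply_apply x
    rw [this, LinearMap.rTensor_id]
  exact Function.LeftInverse.injective (g := e.symm.toLinearMap.rTensor L)
    (fun x => by rw [← LinearMap.comp_apply, this, LinearMap.id_apply])

end Chase

section Chase2

variable {R : Type*} [CommRing R] (L : Type*) [AddCommGroup L] [Module R L]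
  {Q' Q C : Type*} [AddCommGroup Q'] [Module R Q'] [AddCommGroup Q] [Module R Q]
  [AddCommGroup C] [Module R C]

/-- If `(u ∘ e) ⊗ L` is injective with `e` surjective, then `u ⊗ L` is injective. -/
theorem rTensor_injective_of_comp_surjective (e : Q' →ₗ[R] Q) (u : Q →ₗ[R] C)
    (he : Function.Surjective e) (h : Function.Injective ((u ∘ₗ e).rTensor L)) :
    Function.Injective (u.rTensor L) := by
  rw [injective_iff_map_eq_zero]
  intro z hz
  obtain ⟨w, rfl⟩ := LinearMap.rTensor_surjective L he z
  have : ((u ∘ₗ e).rTensor L) w = 0 := by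
    rw [LinearMap.rTensor_comp, LinearMap.comp_apply, hz]
  rw [(injective_iff_map_eq_zero _).mp h w this, map_zero]

/-- Second diagram chase: injectivity after `⊗ L` of an inclusion `P ↪ Q` can be tested on the
preimage of `P` in any module `F` surjecting onto `Q`. -/
theorem rTensor_injective_of_presentation {F : Type*} [AddCommGroup F] [Module R F]
    (p : F →ₗ[R] Q) (hp : Function.Surjective p) (P : Submodule R Q)
    (h : Function.Injective ((P.comap p).subtype.rTensor L)) :
    Function.Injective (P.subtype.rTensor L) := by
  set K := P.comap p with hK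
  let p' : K →ₗ[R] P := p.restrict (fun x hx => hx)
  have hp' : Function.Surjective p' := by
    intro y
    obtain ⟨x, hx⟩ := hp y.1
    exact ⟨⟨x, by rw [hK, Submodule.mem_comap, hx]; exact y.2⟩, Subtype.ext hx⟩
  have hle : LinearMap.ker p ≤ K := by
    intro x hx
    rw [hK, Submodule.mem_comap, LinearMap.mem_ker.mp hx]
    exact P.zero_mem
  let ι : LinearMap.ker p →ₗ[R] K := Submodule.inclusion hle
  have h1 : p ∘ₗ K.subtype = P.subtype ∘ₗ p' := LinearMap.ext fun _ => rfl
  have h2 : K.subtype ∘ₗ ι = (LinearMap.ker p).subtype := LinearMap.ext fun _ => rfl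
  have h3 : p' ∘ₗ ι = 0 := by
    ext x
    exact LinearMap.mem_ker.mp x.2
  have hex : Function.Exact ((LinearMap.ker p).subtype.rTensor L) (p.rTensor L) :=
    rTensor_exact L (LinearMap.exact_subtype_ker_map p) hp
  rw [injective_iff_map_eq_zero]
  intro z hz
  obtain ⟨k, rfl⟩ := LinearMap.rTensor_surjective L hp' z
  have h4 : (p.rTensor L) ((K.subtype.rTensor L) k) = 0 := by
    rw [← LinearMap.comp_apply, ← LinearMap.rTensor_comp, h1, LinearMap.rTensor_comp,
      LinearMap.comp_apply, hz]
  obtain ⟨k₀, hk₀⟩ := (hex _).mp h4
  have h5 : (K.subtype.rTensor L) (k - (ι.rTensor L) k₀) = 0 := by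
    rw [map_sub, ← LinearMap.comp_apply, ← LinearMap.rTensor_comp, h2, hk₀, sub_self]
  have h6 : k = (ι.rTensor L) k₀ := sub_eq_zero.mp ((injective_iff_map_eq_zero _).mp h _ h5)
  rw [h6, ← LinearMap.comp_apply, ← LinearMap.rTensor_comp, h3, LinearMap.rTensor_zero,
    LinearMap.zero_apply]

end Chase2

end Groth.Agent.H76.FlatGlue
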