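import Groth.Agent.H76.PowFlat

/-!
# Flatness modulo `φ⁻¹(φ(I)² R')` (Stacks 051C), Tor-free (helper76)
-/

set_option autoImplicit false
universe u v

open TensorProduct

namespace Groth.Agent.H76.SquareFlat

open Groth.Agent.H76.FlatGlue Groth.Agent.H76.NilFlat Groth.Agent.H76.PowFlat

variable {R R' : Type u} [CommRing R] [CommRing R'] [Algebra R R'] (I : Ideal R)
  (M : Type u) [AddCommGroup M] [Module R M]

/-- Base change of condition (a): `M/IM` flat over `R/I` gives flatness of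
`(A/Ī) ⊗_A (A ⊗_R M)` over `A/Ī` for `A = R/I₂`, `Ī = I A`. -/
theorem flat_residue [Module.Flat (R ⧸ I) ((R ⧸ I) ⊗[R] M)] (I₂ : Ideal R) :
    Module.Flat ((R ⧸ I₂) ⧸ I.map (Ideal.Quotient.mk I₂))
      (((R ⧸ I₂) ⧸ I.map (Ideal.Quotient.mk I₂)) ⊗[R ⧸ I₂] ((R ⧸ I₂) ⊗[R] M)) := by
  rw [Module.Flat.iff_rTensor_injective']
  intro 𝔟
  apply rTensor_baseChange_injective (R := R ⧸ I₂)
  apply rTensor_baseChange_injective (R := R)
  apply tinj_of_killed I M
  · exact Subtype.val_injective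
  · intro i hi y
    obtain ⟨a, rfl⟩ := Ideal.Quotient.mk_surjective y
    obtain ⟨r, rfl⟩ := Ideal.Quotient.mk_surjective a
    have h1 : i • (Ideal.Quotient.mk (I.map (Ideal.Quotient.mk I₂))) ((Ideal.Quotient.mk I₂) r) =
        (Ideal.Quotient.mk (I.map (Ideal.Quotient.mk I₂))) ((Ideal.Quotient.mk I₂) (i * r)) := by
      rw [Algebra.smul_def]
      rfl
    rw [h1, Ideal.Quotient.eq_zero_iff_mem]
    exact Ideal.mem_map_of_mem _ (I.mul_mem_right r hi)

/-- Core: for `J' ⊇ (I R')²` and `I₂ = φ⁻¹(J')`, the map `Ī ⊗_R M → (R/I₂) ⊗_R M` is injective,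
where `Ī = I (R/I₂)`. -/
theorem tinj_core [Module.Flat (R ⧸ I) ((R ⧸ I) ⊗[R] M)] [Module.Flat R' (R' ⊗[R] M)]
    (J' : Ideal R') (hJ' : (I.map (algebraMap R R')) ^ 2 ≤ J') :
    Function.Injective
      ((((I.map (Ideal.Quotient.mk (J'.comap (algebraMap R R')))).subtype).restrictScalars
        R).rTensor M) := by
  set I₂ : Ideal R := J'.comap (algebraMap R R') with hI₂
  let Ī : Ideal (R ⧸ I₂) := I.map (Ideal.Quotient.mk I₂)
  let Ī' : Ideal (R' ⧸ J') := (I.map (algebraMap R R')).map (Ideal.Quotient.mk J')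
  let f0 : R →ₗ[R] (R' ⧸ J') := (J'.mkQ.restrictScalars R) ∘ₗ (Algebra.linearMap R R')
  have hf0 : ∀ r : R, f0 r = Ideal.Quotient.mk J' (algebraMap R R' r) := fun r => rfl
  have hker : ∀ r : R, f0 r = 0 ↔ r ∈ I₂ := by
    intro r
    rw [hf0, Ideal.Quotient.eq_zero_iff_mem, hI₂, Ideal.mem_comap]
  let ψ : (R ⧸ I₂) →ₗ[R] (R' ⧸ J') := Submodule.liftQ I₂ f0 (fun r hr => (hker r).mpr hr)
  have hψ : Function.Injective ψ := by
    rw [← LinearMap.ker_eq_bot]
    apply Submodule.ker_liftQ_eq_bot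
    intro r hr
    exact (hker r).mp hr
  have hψmk : ∀ r : R, ψ (Ideal.Quotient.mk I₂ r) = Ideal.Quotient.mk J' (algebraMap R R' r) :=
    fun r => rfl
  have hmem : ∀ x : Ī, ψ x.1 ∈ Ī' := by
    intro x
    obtain ⟨i, hi, hix⟩ := (Ideal.mem_map_iff_of_surjective _ Ideal.Quotient.mk_surjective).mp x.2
    rw [← hix, hψmk]
    exact Ideal.mem_map_of_mem _ (Ideal.mem_map_of_mem _ hi)
  let u : Ī →ₗ[R] Ī' :=
    { toFun := fun x => ⟨ψ x.1, hmem x⟩
      map_add' := fun x y => by
        apply Subtype.ext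
        simp
      map_smul' := fun r x => by
        apply Subtype.ext
        simp }
  have hu : Function.Injective u := by
    intro x y hxy
    apply Subtype.ext
    apply hψ
    exact congrArg Subtype.val hxy
  have hkill : ∀ i ∈ I, ∀ y : Ī', i • y = 0 := by
    intro i hi y
    apply Subtype.ext
    obtain ⟨z, hz, hzy⟩ := (Ideal.mem_map_iff_of_surjective _ Ideal.Quotient.mk_surjective).mp y.2
    show i • (y : R' ⧸ J') = 0
    rw [← hzy, Algebra.smul_def]
    show Ideal.Quotient.mk J' (algebraMap R R' i) * Ideal.Quotient.mk J' z = 0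
    rw [← map_mul, Ideal.Quotient.eq_zero_iff_mem]
    apply hJ'
    rw [pow_two]
    exact Ideal.mul_mem_mul (Ideal.mem_map_of_mem _ hi) hz
  have h1 : Function.Injective (u.rTensor M) := tinj_of_killed I M u hu hkill
  let g : Ī' →ₗ[R'] (R' ⧸ J') := Ī'.subtype.restrictScalars R'
  have hg : Function.Injective g := Subtype.val_injective
  have h2 : Function.Injective ((g.restrictScalars R).rTensor M) :=
    rTensor_injective_of_flat_baseChange M g hg
  have hcomm : ψ ∘ₗ (Ī.subtype.restrictScalars R) = (g.restrictScalars R) ∘ₗ u :=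
    LinearMap.ext fun _ => rfl
  apply rTensor_injective_of_comp M _ ψ
  rw [hcomm]
  exact rTensor_injective_comp M _ _ h1 h2

/-- Stacks 051C (slightly generalised): for `J' ⊇ (I R')²`, `M/I₂M` is flat over `R/I₂` where
`I₂ = φ⁻¹(J')`. -/
theorem flat_quotient_comap [Module.Flat (R ⧸ I) ((R ⧸ I) ⊗[R] M)] [Module.Flat R' (R' ⊗[R] M)]
    (J' : Ideal R') (hJ' : (I.map (algebraMap R R')) ^ 2 ≤ J') :
    Module.Flat (R ⧸ J'.comap (algebraMap R R')) ((R ⧸ J'.comap (algebraMap R R')) ⊗[R] M) := by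
  set I₂ : Ideal R := J'.comap (algebraMap R R') with hI₂
  haveI := flat_residue I M I₂
  have hnil : IsNilpotent (I.map (Ideal.Quotient.mk I₂)) := by
    refine ⟨2, ?_⟩
    rw [← Ideal.map_pow, Ideal.zero_eq_bot, Ideal.map_eq_bot_iff_le_ker, Ideal.mk_ker, hI₂]
    refine le_trans ?_ (Ideal.comap_mono hJ')
    rw [← Ideal.map_pow]
    exact Ideal.le_comap_map
  apply flat_of_nilpotent (I.map (Ideal.Quotient.mk I₂)) ((R ⧸ I₂) ⊗[R] M) _ hnil
  apply rTensor_baseChange_injective (R := R)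
  exact tinj_core I M J' hJ'

/-- If `R ⧸ J` with `J = ⊥` sees `M` flat, then `M` is flat over `R`. -/
theorem flat_of_quotient_bot (J : Ideal R) (hJ : J = ⊥)
    [Module.Flat (R ⧸ J) ((R ⧸ J) ⊗[R] M)] : Module.Flat R M := by
  rw [Module.Flat.iff_rTensor_injective']
  intro 𝔞
  apply rTensor_injective_of_surjective_of_flat (S := R ⧸ J) Ideal.Quotient.mk_surjective M
    𝔞.subtype Subtype.val_injective
  intro r hr y
  have hr' : r ∈ J := Ideal.Quotient.eq_zero_iff_mem.mp hr
  rw [hJ] at hr'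
  rw [(Submodule.mem_bot R).mp hr', zero_smul]

variable (R') in
/-- The sequence `I₁ = I`, `Iₙ₊₁ = φ⁻¹(φ(Iₙ²) R')`. -/
noncomputable def iseq : ℕ → Ideal R
  | 0 => I
  | n + 1 => (((iseq n) ^ 2).map (algebraMap R R')).comap (algebraMap R R')

/-- Stacks 0520: `R → R'` injective, `I` nilpotent, `M/IM` flat over `R/I`, `R' ⊗ M` flat over
`R'`; then `M` is flat over `R`. -/
theorem flat_of_injective_of_nilpotent (hinj : Function.Injective (algebraMap R R'))
    (hI : IsNilpotent I) [Module.Flat (R ⧸ I) ((R ⧸ I) ⊗[R] M)] [Module.Flat R' (R' ⊗[R] M)] :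
    Module.Flat R M := by
  let Iseq : ℕ → Ideal R := iseq R' I
  have hflat : ∀ n, Module.Flat (R ⧸ Iseq n) ((R ⧸ Iseq n) ⊗[R] M) := by
    intro n
    induction n with
    | zero =>
      show Module.Flat (R ⧸ I) ((R ⧸ I) ⊗[R] M)
      infer_instance
    | succ n ih =>
      haveI := ih
      exact flat_quotient_comap (Iseq n) M ((Iseq n ^ 2).map (algebraMap R R'))
        (by rw [Ideal.map_pow])
  have hle : ∀ n, (Iseq n).map (algebraMap R R') ≤ (I.map (algebraMap R R')) ^ (2 ^ n) := by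
    intro n
    induction n with
    | zero =>
      show I.map (algebraMap R R') ≤ _
      rw [pow_zero, pow_one]
    | succ n ih =>
      have h1 : (Iseq (n + 1)).map (algebraMap R R') ≤ (Iseq n ^ 2).map (algebraMap R R') :=
        Ideal.map_comap_le
      refine le_trans h1 ?_
      rw [Ideal.map_pow]
      have h2 : (I.map (algebraMap R R')) ^ 2 ^ (n + 1) =
          ((I.map (algebraMap R R')) ^ 2 ^ n) ^ 2 := by
        rw [← pow_mul, pow_succ]
      rw [h2]
      exact Ideal.pow_right_mono ih 2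
  obtain ⟨N, hN⟩ := hI
  have hbot : Iseq N = ⊥ := by
    rw [eq_bot_iff]
    intro x hx
    have h1 : algebraMap R R' x ∈ (I.map (algebraMap R R')) ^ (2 ^ N) :=
      hle N (Ideal.mem_map_of_mem _ hx)
    have h2 : (I.map (algebraMap R R')) ^ (2 ^ N) ≤ (I.map (algebraMap R R')) ^ N :=
      Ideal.pow_le_pow_right (Nat.lt_two_pow_self).le
    have h3 : (I.map (algebraMap R R')) ^ N = ⊥ := by
      rw [← Ideal.map_pow, hN]
      exact Ideal.map_bot
    have h4 := h2 h1
    rw [h3] at h4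
    have h5 : algebraMap R R' x = 0 := (Submodule.mem_bot R').mp h4
    rw [Submodule.mem_bot]
    exact hinj (by rw [h5, map_zero])
  haveI := hflat N
  exact flat_of_quotient_bot M (Iseq N) hbot

end Groth.Agent.H76.SquareFlat
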