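import Groth.Prelude.Def_EtMil
import Mathlib.LinearAlgebra.TensorProduct.Quotient
import Mathlib.RingTheory.Ideal.Quotient.Operations

/-!
# Helper lemmas on Milnor squares (helper76)
-/

set_option autoImplicit false
universe u

open TensorProduct

namespace Groth.Agent.H76.Milnor

/-- If `R → S` is surjective and `1 ⊗ l = 0` in `S ⊗[R] M` then `l ∈ ker • ⊤`. -/
theorem mem_smul_top_of_one_tmul_eq_zero {R S M : Type*} [CommRing R] [CommRing S] [Algebra R S]
    [AddCommGroup M] [Module R M]
    (hs : Function.Surjective (algebraMap R S)) (l : M) (h : ((1 : S) ⊗ₜ[R] l : S ⊗[R] M) = 0) :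
    l ∈ (RingHom.ker (algebraMap R S)) • (⊤ : Submodule R M) := by
  let e := RingHom.quotientKerEquivOfSurjective hs
  let g : S →ₗ[R] (R ⧸ RingHom.ker (algebraMap R S)) :=
    { toFun := e.symm
      map_add' := map_add _
      map_smul' := by
        intro r s
        apply e.injective
        simp only [RingHom.id_apply, RingEquiv.apply_symm_apply]
        rw [Algebra.smul_def, Algebra.smul_def, map_mul, RingEquiv.apply_symm_apply]
        congr 1 }
  have hg1 : g 1 = 1 := map_one e.symm
  have h1 : (quotTensorEquivQuotSMul M (RingHom.ker (algebraMap R S)))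
      ((g.rTensor M) ((1 : S) ⊗ₜ[R] l)) = Submodule.Quotient.mk l := by
    rw [LinearMap.rTensor_tmul, hg1, quotTensorEquivQuotSMul_mk_one_tmul]
  rw [h, map_zero, map_zero] at h1
  exact (Submodule.Quotient.mk_eq_zero _).mp h1.symm

variable {B' B A' A : Type u} [CommRing B'] [CommRing B] [CommRing A'] [CommRing A]
  [Algebra B' B] [Algebra B' A'] [Algebra B A] [Algebra A' A] [Algebra B' A]
  [IsScalarTower B' B A] [IsScalarTower B' A' A]

theorem surjective_left (hsq : EtMil.IsFibreSquare B' B A' A) :
    Function.Surjective (algebraMap B' B) := by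
  intro b
  obtain ⟨a', ha'⟩ := hsq.1 (algebraMap B A b)
  obtain ⟨b', ⟨hb', _⟩, _⟩ := hsq.2 b a' ha'.symm
  exact ⟨b', hb'⟩

theorem compat (b' : B') :
    algebraMap B A (algebraMap B' B b') = algebraMap A' A (algebraMap B' A' b') := by
  rw [← IsScalarTower.algebraMap_apply B' B A, ← IsScalarTower.algebraMap_apply B' A' A]

theorem eq_of_maps_eq (hsq : EtMil.IsFibreSquare B' B A' A) {x y : B'}
    (h1 : algebraMap B' B x = algebraMap B' B y) (h2 : algebraMap B' A' x = algebraMap B' A' y) :
    x = y := by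
  obtain ⟨z, _, hz⟩ := hsq.2 (algebraMap B' B y) (algebraMap B' A' y) (compat (B := B) (A' := A') (A := A) y)
  rw [hz x ⟨h1, h2⟩, hz y ⟨rfl, rfl⟩]

/-- For `j ∈ ker (B' → B)` and `a' : A'` there is a unique element of `ker (B' → B)` mapping to
`j a'`. This gives a `B'`-linear map `A' → B'`. -/
theorem exists_lift (hsq : EtMil.IsFibreSquare B' B A' A) (j : B') (hj : algebraMap B' B j = 0)
    (a' : A') : ∃ b' : B', algebraMap B' B b' = 0 ∧ algebraMap B' A' b' = algebraMap B' A' j * a' := by
  have : algebraMap B A 0 = algebraMap A' A (algebraMap B' A' j * a') := by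
    rw [map_zero, map_mul, ← compat (B := B) (A' := A') (A := A), hj, map_zero, zero_mul]
  obtain ⟨b', hb', _⟩ := hsq.2 0 _ this
  exact ⟨b', hb'⟩

/-- The `B'`-linear map `A' → B'`, `a' ↦ (j a')~`. -/
noncomputable def liftMap (hsq : EtMil.IsFibreSquare B' B A' A) (j : B')
    (hj : algebraMap B' B j = 0) : A' →ₗ[B'] B' where
  toFun a' := Classical.choose (exists_lift hsq j hj a')
  map_add' x y := by
    have hx := Classical.choose_spec (exists_lift hsq j hj x)
    have hy := Classical.choose_spec (exists_lift hsq j hj y)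
    have hxy := Classical.choose_spec (exists_lift hsq j hj (x + y))
    apply eq_of_maps_eq hsq
    · rw [hxy.1, map_add, hx.1, hy.1, add_zero]
    · rw [hxy.2, map_add, hx.2, hy.2, mul_add]
  map_smul' r x := by
    have hx := Classical.choose_spec (exists_lift hsq j hj x)
    have hrx := Classical.choose_spec (exists_lift hsq j hj (r • x))
    apply eq_of_maps_eq hsq
    · rw [hrx.1, RingHom.id_apply, smul_eq_mul, map_mul, hx.1, mul_zero]
    · rw [hrx.2, RingHom.id_apply, smul_eq_mul, map_mul, hx.2, Algebra.smul_def]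
      ring

theorem liftMap_one (hsq : EtMil.IsFibreSquare B' B A' A) (j : B')
    (hj : algebraMap B' B j = 0) : liftMap hsq j hj 1 = j := by
  have h1 := Classical.choose_spec (exists_lift hsq j hj 1)
  apply eq_of_maps_eq hsq
  · exact h1.1.trans hj.symm
  · exact h1.2.trans (mul_one _)

/-- If `1 ⊗ l = 0` in `A' ⊗[B'] L'` then `ker (B' → B)` kills `l`. -/
theorem smul_eq_zero_of_one_tmul_eq_zero (hsq : EtMil.IsFibreSquare B' B A' A)
    {L' : Type*} [AddCommGroup L'] [Module B' L'] (l : L')
    (h2 : ((1 : A') ⊗ₜ[B'] l : A' ⊗[B'] L') = 0) (j : B') (hj : algebraMap B' B j = 0) :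
    j • l = 0 := by
  let T : A' ⊗[B'] L' →ₗ[B'] L' :=
    TensorProduct.lift ((LinearMap.lsmul B' L').comp (liftMap hsq j hj))
  have : T ((1 : A') ⊗ₜ[B'] l) = j • l := by
    simp only [T, TensorProduct.lift.tmul, LinearMap.comp_apply, LinearMap.lsmul_apply,
      liftMap_one]
  rw [← this, h2, map_zero]

end Groth.Agent.H76.Milnor
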