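import Mathlib.RingTheory.Flat.Basic
import Mathlib.RingTheory.Flat.Tensor
import Mathlib.RingTheory.Filtration
import Mathlib.RingTheory.TensorProduct.Finite
import Mathlib.LinearAlgebra.TensorProduct.RightExactness
import Mathlib.LinearAlgebra.TensorProduct.Tower
import Mathlib.RingTheory.Flat.Equalizer

/-!
# Flatness from flatness of adic quotients (helper76)

`flat_of_flat_quotients`: `A → B` with `B` Noetherian local, `I` a proper ideal of `B`, `M` a finite
`B`-module with `M / I^(n+1) M` flat over `A` for all `n`; then `M` is flat over `A`.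
(`A` only needs to be Noetherian; no local hypothesis on `A → B` is used.)
-/

set_option autoImplicit false
universe u

open TensorProduct

namespace Groth.Agent.H76.AdicFlat

variable {A B : Type u} [CommRing A] [CommRing B] [Algebra A B]

theorem finite_tensor (M N : Type*) [AddCommGroup M] [Module B M] [Module A M]
    [IsScalarTower A B M] [Module.Finite B M] [AddCommGroup N] [Module A N] [Module.Finite A N] :
    Module.Finite B (M ⊗[A] N) :=
  Module.Finite.equiv (AlgebraTensorModule.cancelBaseChange A B B M N)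

/-- The range of `(I^k M ↪ M) ⊗ N` lies in `I^k (M ⊗ N)`. -/
theorem range_rTensor_le_smul_top (J : Ideal B) (M N : Type*) [AddCommGroup M] [Module B M]
    [Module A M] [IsScalarTower A B M] [AddCommGroup N] [Module A N]
    (z : ↥((J • (⊤ : Submodule B M)).restrictScalars A) ⊗[A] N) :
    (((J • (⊤ : Submodule B M)).restrictScalars A).subtype.rTensor N) z ∈
      J • (⊤ : Submodule B (M ⊗[A] N)) := by
  induction z with
  | zero => rw [map_zero]; exact Submodule.zero_mem _
  | tmul x n =>
    rw [LinearMap.rTensor_tmul, Submodule.subtype_apply]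
    obtain ⟨x, hx⟩ := x
    have hx' : x ∈ J • (⊤ : Submodule B M) := hx
    show x ⊗ₜ[A] n ∈ J • (⊤ : Submodule B (M ⊗[A] N))
    refine Submodule.smul_induction_on hx' ?_ ?_
    · intro j hj m _
      rw [← TensorProduct.smul_tmul']
      exact Submodule.smul_mem_smul hj Submodule.mem_top
    · intro a b ha hb
      rw [TensorProduct.add_tmul]
      exact Submodule.add_mem _ ha hb
  | add a b ha hb => rw [map_add]; exact Submodule.add_mem _ ha hb

theorem flat_of_flat_quotients [IsNoetherianRing A] [IsNoetherianRing B] [IsLocalRing B]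
    (I : Ideal B) (hI : I ≠ ⊤) (M : Type u) [AddCommGroup M]
    [Module B M] [Module A M] [IsScalarTower A B M] [Module.Finite B M]
    (h : ∀ n : ℕ, Module.Flat A (M ⧸ (I ^ (n + 1) • (⊤ : Submodule B M)))) :
    Module.Flat A M := by
  rw [Module.Flat.iff_lTensor_injective']
  intro 𝔞
  haveI : Module.Finite A 𝔞 := Module.Finite.of_fg (IsNoetherian.noetherian 𝔞)
  haveI : Module.Finite B (M ⊗[A] 𝔞) := finite_tensor M 𝔞
  have hkrull : (⨅ i : ℕ, I ^ i • ⊤ : Submodule B (M ⊗[A] 𝔞)) = ⊥ :=
    Ideal.iInf_pow_smul_eq_bot_of_isLocalRing I hI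
  rw [injective_iff_map_eq_zero]
  intro z hz
  have hmem : ∀ n : ℕ, z ∈ I ^ (n + 1) • (⊤ : Submodule B (M ⊗[A] 𝔞)) := by
    intro n
    set P : Submodule B M := I ^ (n + 1) • (⊤ : Submodule B M) with hP
    let q : M →ₗ[A] (M ⧸ P) := P.mkQ.restrictScalars A
    have hq : Function.Surjective q := P.mkQ_surjective
    haveI : Module.Flat A (M ⧸ P) := h n
    have hinj : Function.Injective ((𝔞.subtype).lTensor (M ⧸ P)) :=
      Module.Flat.lTensor_preserves_injective_linearMap _ (Submodule.injective_subtype 𝔞)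
    have h1 : ((𝔞.subtype).lTensor (M ⧸ P)) ((q.rTensor 𝔞) z) = 0 := by
      rw [← LinearMap.comp_apply, LinearMap.lTensor_comp_rTensor, ← LinearMap.rTensor_comp_lTensor,
        LinearMap.comp_apply, hz, map_zero]
    have h2 : (q.rTensor 𝔞) z = 0 := (injective_iff_map_eq_zero _).mp hinj _ h1
    have hex : Function.Exact ((P.restrictScalars A).subtype.rTensor 𝔞) (q.rTensor 𝔞) := by
      apply rTensor_exact 𝔞 _ hq
      intro x
      constructor
      · intro hx
        exact ⟨⟨x, (Submodule.Quotient.mk_eq_zero P).mp hx⟩, rfl⟩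
      · rintro ⟨y, rfl⟩
        exact (Submodule.Quotient.mk_eq_zero P).mpr y.2
    obtain ⟨w, rfl⟩ := (hex z).mp h2
    exact range_rTensor_le_smul_top (I ^ (n + 1)) M 𝔞 w
  have hz0 : z ∈ (⨅ i : ℕ, I ^ i • ⊤ : Submodule B (M ⊗[A] 𝔞)) := by
    rw [Submodule.mem_iInf]
    intro i
    cases i with
    | zero => rw [pow_zero, Ideal.one_eq_top, Submodule.top_smul]; trivial
    | succ n => exact hmem n
  rw [hkrull] at hz0
  exact (Submodule.mem_bot B).mp hz0

/-- An extension of flat modules is flat. -/
theorem flat_of_exact {R : Type*} [CommRing R] {M₁ M₂ M₃ : Type*}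
    [AddCommGroup M₁] [Module R M₁] [AddCommGroup M₂] [Module R M₂] [AddCommGroup M₃] [Module R M₃]
    (i : M₁ →ₗ[R] M₂) (p : M₂ →ₗ[R] M₃) (hi : Function.Injective i) (hp : Function.Surjective p)
    (hex : Function.Exact i p) [Module.Flat R M₁] [Module.Flat R M₃] : Module.Flat R M₂ := by
  rw [Module.Flat.iff_rTensor_injective']
  intro 𝔞
  rw [injective_iff_map_eq_zero]
  intro z hz
  have hR : Function.Injective (i.lTensor R) :=
    LinearMap.lTensor_injective_of_exact_of_flat p hp i hi hex R
  have h3 : Function.Injective (𝔞.subtype.rTensor M₃) :=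
    Module.Flat.rTensor_preserves_injective_linearMap _ (Submodule.injective_subtype 𝔞)
  have h1 : Function.Injective (𝔞.subtype.rTensor M₁) :=
    Module.Flat.rTensor_preserves_injective_linearMap _ (Submodule.injective_subtype 𝔞)
  have e1 : (𝔞.subtype.rTensor M₃) ((p.lTensor 𝔞) z) = (p.lTensor R) ((𝔞.subtype.rTensor M₂) z) := by
    rw [← LinearMap.comp_apply, ← LinearMap.comp_apply, LinearMap.rTensor_comp_lTensor,
      LinearMap.lTensor_comp_rTensor]
  have h4 : (p.lTensor 𝔞) z = 0 := h3 (by rw [e1, hz, map_zero, map_zero])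
  have hex𝔞 : Function.Exact (i.lTensor 𝔞) (p.lTensor 𝔞) := lTensor_exact 𝔞 hex hp
  obtain ⟨w, rfl⟩ := (hex𝔞 z).mp h4
  have e2 : (i.lTensor R) ((𝔞.subtype.rTensor M₁) w) = (𝔞.subtype.rTensor M₂) ((i.lTensor 𝔞) w) := by
    rw [← LinearMap.comp_apply, ← LinearMap.comp_apply, LinearMap.lTensor_comp_rTensor,
      LinearMap.rTensor_comp_lTensor]
  have h5 : (𝔞.subtype.rTensor M₁) w = 0 := hR (by rw [e2, hz, map_zero])
  rw [(injective_iff_map_eq_zero _).mp h1 w h5, map_zero]

end Groth.Agent.H76.AdicFlat
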