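import Groth.Agent.H76.FlatGlue
import Mathlib.LinearAlgebra.TensorProduct.Associator
import Mathlib.RingTheory.Ideal.Quotient.Operations
import Mathlib.RingTheory.Ideal.Operations

/-!
# Nilpotent local criterion of flatness, Tor-free (helper76)

`flat_of_nilpotent`: if `I` is nilpotent, `M/IM` is flat over `A/I` and `I ⊗ M → M` is injective,
then `M` is flat over `A`.  Intermediate steps are valid for any ideal `I`:
`tinj_of_smul_le`: if `I ⊗ M → M` is injective and `M/IM` is flat over `A/I`, then for
`P ⊆ Q` with `I Q ⊆ P` the map `P ⊗ M → Q ⊗ M` is injective (i.e. `Tor₁(X, M) = 0` for all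
`A/I`-modules `X`).
-/

set_option autoImplicit false
universe u v

open TensorProduct

namespace Groth.Agent.H76.NilFlat

open Groth.Agent.H76.FlatGlue

variable {A : Type u} [CommRing A] (I : Ideal A) (M : Type v) [AddCommGroup M] [Module A M]

section

variable [Module.Flat (A ⧸ I) ((A ⧸ I) ⊗[A] M)]

/-- An injective map into a module killed by `I` stays injective after `⊗ M`. -/
theorem tinj_of_killed {X Y : Type*} [AddCommGroup X] [Module A X] [AddCommGroup Y] [Module A Y]
    (u : X →ₗ[A] Y) (hu : Function.Injective u) (hY : ∀ i ∈ I, ∀ y : Y, i • y = 0) :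
    Function.Injective (u.rTensor M) := by
  apply rTensor_injective_of_surjective_of_flat (S := A ⧸ I)
    Ideal.Quotient.mk_surjective M u hu
  intro r hr y
  exact hY r (Ideal.Quotient.eq_zero_iff_mem.mp hr) y

variable (h : Function.Injective (LinearMap.rTensor M (Submodule.subtype I)))

include h in
/-- For flat `F`, the inclusion `I F ↪ F` stays injective after `⊗ M`. -/
theorem tinj_smul_top_of_flat (F : Type*) [AddCommGroup F] [Module A F] [Module.Flat A F] :
    Function.Injective ((I • (⊤ : Submodule A F)).subtype.rTensor M) := by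
  set P : Submodule A F := I • (⊤ : Submodule A F) with hP
  let m' : I ⊗[A] F →ₗ[A] F := (TensorProduct.lid A F).toLinearMap ∘ₗ (I.subtype.rTensor F)
  have hm' : ∀ (i : I) (x : F), m' (i ⊗ₜ[A] x) = (i : A) • x := by
    intro i x
    simp [m']
  have hmem : ∀ z : I ⊗[A] F, m' z ∈ P := by
    intro z
    induction z with
    | zero => rw [map_zero]; exact P.zero_mem
    | tmul i x => rw [hm']; exact Submodule.smul_mem_smul i.2 Submodule.mem_top
    | add a b ha hb => rw [map_add]; exact P.add_mem ha hb
  let e : I ⊗[A] F →ₗ[A] P := m'.codRestrict P hmem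
  have hes : Function.Surjective e := by
    intro p
    have hp := p.2
    have : ∃ z : I ⊗[A] F, m' z = p.1 := by
      refine Submodule.smul_induction_on hp ?_ ?_
      · intro i hi x _
        exact ⟨(⟨i, hi⟩ : I) ⊗ₜ[A] x, hm' _ _⟩
      · rintro x y ⟨a, ha⟩ ⟨b, hb⟩
        exact ⟨a + b, by rw [map_add, ha, hb]⟩
    obtain ⟨z, hz⟩ := this
    exact ⟨z, Subtype.ext hz⟩
  apply rTensor_injective_of_comp_surjective M e _ hes
  have hcomp : P.subtype ∘ₗ e = m' := LinearMap.ext fun _ => rfl
  rw [hcomp]
  apply rTensor_injective_comp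
  · -- `(ι ⊗ F) ⊗ M` is injective
    have h1 : Function.Injective (((I.subtype.rTensor M)).rTensor F) :=
      Module.Flat.rTensor_preserves_injective_linearMap _ h
    have hcomm : ∀ z : (I ⊗[A] F) ⊗[A] M,
        TensorProduct.rightComm A A F M (((I.subtype.rTensor F).rTensor M) z) =
          ((I.subtype.rTensor M).rTensor F) (TensorProduct.rightComm A I F M z) := by
      intro z
      induction z with
      | zero => simp
      | tmul w m =>
        induction w with
        | zero => simp
        | tmul i x => rfl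
        | add a b ha hb =>
          simp only [TensorProduct.add_tmul, map_add, ha, hb]
      | add a b ha hb => simp only [map_add, ha, hb]
    intro z₁ z₂ hz
    have := congrArg (TensorProduct.rightComm A A F M) hz
    rw [hcomm, hcomm] at this
    exact (TensorProduct.rightComm A I F M).injective (h1 this)
  · exact rTensor_injective_of_bijective M _ (TensorProduct.lid A F).bijective

include h in
/-- For flat `F` and `K ⊇ I F`, the inclusion `K ↪ F` stays injective after `⊗ M`. -/
theorem tinj_of_flat (F : Type*) [AddCommGroup F] [Module A F] [Module.Flat A F]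
    (K : Submodule A F) (hK : ∀ i ∈ I, ∀ x : F, i • x ∈ K) :
    Function.Injective (K.subtype.rTensor M) := by
  set P : Submodule A F := I • (⊤ : Submodule A F) with hP
  have hPK : P ≤ K := by
    rw [hP, Submodule.smul_le]
    intro i hi x _
    exact hK i hi x
  apply rTensor_injective_of_chase M K.subtype P.mkQ
  · -- (a)
    have hmem : ∀ x : P, (⟨x.1, hPK x.2⟩ : K) ∈ LinearMap.ker (P.mkQ ∘ₗ K.subtype) := by
      intro x
      rw [LinearMap.mem_ker]
      show P.mkQ x.1 = 0
      exact (Submodule.Quotient.mk_eq_zero P).mpr x.2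
    let e : P →ₗ[A] LinearMap.ker (P.mkQ ∘ₗ K.subtype) :=
      { toFun := fun x => ⟨⟨x.1, hPK x.2⟩, hmem x⟩
        map_add' := fun x y => rfl
        map_smul' := fun r x => rfl }
    have hes : Function.Surjective e := by
      intro k
      have hk : (P.mkQ ∘ₗ K.subtype) (k : K) = 0 := LinearMap.mem_ker.mp k.2
      have hk' : ((k : K) : F) ∈ P := (Submodule.Quotient.mk_eq_zero P).mp hk
      exact ⟨⟨_, hk'⟩, rfl⟩
    apply rTensor_injective_of_comp_surjective M e _ hes
    have hcomp : (K.subtype ∘ₗ (LinearMap.ker (P.mkQ ∘ₗ K.subtype)).subtype) ∘ₗ e = P.subtype :=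
      LinearMap.ext fun _ => rfl
    rw [hcomp]
    exact tinj_smul_top_of_flat I M h F
  · -- (b)
    apply tinj_of_killed I M
    · rw [← LinearMap.ker_eq_bot]
      exact Submodule.ker_liftQ_eq_bot _ _ _ le_rfl
    · intro i hi y
      obtain ⟨x, rfl⟩ := P.mkQ_surjective y
      rw [← map_smul]
      exact (Submodule.Quotient.mk_eq_zero P).mpr (Submodule.smul_mem_smul hi Submodule.mem_top)

include h in
/-- If `I Q ⊆ P ⊆ Q` then `P ⊗ M → Q ⊗ M` is injective. -/
theorem tinj_of_smul_le {Q : Type*} [AddCommGroup Q] [Module A Q] (P : Submodule A Q)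
    (hP : ∀ i ∈ I, ∀ q : Q, i • q ∈ P) : Function.Injective (P.subtype.rTensor M) := by
  let p : (Q →₀ A) →ₗ[A] Q := Finsupp.linearCombination A id
  have hp : Function.Surjective p := Finsupp.linearCombination_surjective A Function.surjective_id
  apply rTensor_injective_of_presentation M p hp P
  apply tinj_of_flat I M h
  intro i hi x
  rw [Submodule.mem_comap, map_smul]
  exact hP i hi (p x)

include h in
/-- Map version of `tinj_of_smul_le`. -/
theorem tinj_of_smul_mem_range {P Q : Type*} [AddCommGroup P] [Module A P] [AddCommGroup Q]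
    [Module A Q] (u : P →ₗ[A] Q) (hu : Function.Injective u)
    (hP : ∀ i ∈ I, ∀ q : Q, i • q ∈ LinearMap.range u) : Function.Injective (u.rTensor M) := by
  have h1 : u = (LinearMap.range u).subtype ∘ₗ u.rangeRestrict := LinearMap.ext fun _ => rfl
  rw [h1]
  apply rTensor_injective_comp
  · apply rTensor_injective_of_bijective
    constructor
    · intro x y hxy
      exact hu (congrArg Subtype.val hxy)
    · exact LinearMap.surjective_rangeRestrict u
  · exact tinj_of_smul_le I M h _ hP

include h in
/-- Nilpotent local criterion of flatness. -/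
theorem flat_of_nilpotent (hI : IsNilpotent I) : Module.Flat A M := by
  obtain ⟨n, hn⟩ := hI
  rw [Module.Flat.iff_rTensor_injective']
  intro 𝔞
  have key : ∀ k : ℕ, Function.Injective ((𝔞 ⊔ I ^ k).subtype.rTensor M) := by
    intro k
    induction k with
    | zero =>
      apply rTensor_injective_of_bijective
      constructor
      · exact Submodule.injective_subtype _
      · intro a
        exact ⟨⟨a, by rw [pow_zero, Ideal.one_eq_top, sup_top_eq]; trivial⟩, rfl⟩
    | succ k ih =>
      have hle : 𝔞 ⊔ I ^ (k + 1) ≤ 𝔞 ⊔ I ^ k :=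
        sup_le_sup_left (Ideal.pow_le_pow_right (Nat.le_succ k)) 𝔞
      have h1 : (𝔞 ⊔ I ^ (k + 1)).subtype =
          (𝔞 ⊔ I ^ k).subtype ∘ₗ Submodule.inclusion hle := LinearMap.ext fun _ => rfl
      rw [h1]
      apply rTensor_injective_comp _ _ _ _ ih
      apply tinj_of_smul_mem_range I M h _ (Submodule.inclusion_injective hle)
      intro i hi q
      have hq : i • (q : A) ∈ 𝔞 ⊔ I ^ (k + 1) := by
        obtain ⟨a, ha, b, hb, hab⟩ := Submodule.mem_sup.mp q.2
        rw [← hab, smul_add]
        apply Submodule.add_mem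
        · exact Submodule.mem_sup_left (𝔞.smul_mem i ha)
        · apply Submodule.mem_sup_right
          rw [pow_succ', smul_eq_mul]
          exact Ideal.mul_mem_mul hi hb
      exact ⟨⟨i • (q : A), hq⟩, rfl⟩
  have h2 := key n
  have hle : 𝔞 ≤ 𝔞 ⊔ I ^ n := le_sup_left
  have h3 : 𝔞.subtype = (𝔞 ⊔ I ^ n).subtype ∘ₗ Submodule.inclusion hle :=
    LinearMap.ext fun _ => rfl
  rw [h3]
  apply rTensor_injective_comp _ _ _ _ h2
  apply rTensor_injective_of_bijective
  constructor
  · exact Submodule.inclusion_injective hle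
  · intro x
    have heq : 𝔞 ⊔ I ^ n = 𝔞 := by rw [hn, Ideal.zero_eq_bot, sup_bot_eq]
    have hall : ∀ a : A, a ∈ 𝔞 ⊔ I ^ n → a ∈ 𝔞 := fun a ha => by rwa [heq] at ha
    exact ⟨⟨x.1, hall x.1 x.2⟩, rfl⟩

end

end Groth.Agent.H76.NilFlat
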