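import Groth.Agent.H76.LocalCrit

/-!
# Flatness of `M/IⁿM` over `R/Iⁿ` (helper76)
-/

set_option autoImplicit false
universe u v

open TensorProduct

namespace Groth.Agent.H76.PowFlat

section Cancel

variable {R S : Type*} [CommRing R] [CommRing S] [Algebra R S]
  {X Y : Type*} [AddCommGroup X] [Module R X] [Module S X] [IsScalarTower R S X]
  [AddCommGroup Y] [Module R Y] [Module S Y] [IsScalarTower R S Y]
  {L : Type*} [AddCommGroup L] [Module R L]

theorem cancelBaseChange_rTensor (g : X →ₗ[S] Y) (z : X ⊗[S] (S ⊗[R] L)) :
    ((g.restrictScalars R).rTensor L) (AlgebraTensorModule.cancelBaseChange R S S X L z) =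
      AlgebraTensorModule.cancelBaseChange R S S Y L ((g.rTensor (S ⊗[R] L)) z) := by
  induction z with
  | zero => simp
  | tmul x w =>
    induction w with
    | zero => simp
    | tmul s l => simp
    | add a b ha hb => simp only [TensorProduct.tmul_add, map_add, ha, hb]
  | add a b ha hb => simp only [map_add, ha, hb]

/-- Converse direction to `FlatGlue.rTensor_injective_of_flat_baseChange`: injectivity after
`⊗[R] L` of the underlying `R`-linear map gives injectivity after `⊗[S] (S ⊗[R] L)`. -/
theorem rTensor_baseChange_injective (g : X →ₗ[S] Y)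
    (h : Function.Injective ((g.restrictScalars R).rTensor L)) :
    Function.Injective (g.rTensor (S ⊗[R] L)) := by
  intro a b hab
  apply (AlgebraTensorModule.cancelBaseChange R S S X L).injective
  apply h
  rw [cancelBaseChange_rTensor, cancelBaseChange_rTensor, hab]

end Cancel

/-- If `I ⊗ M → M` is injective and `M/IM` is flat over `R/I` then `M/IⁿM` is flat over `R/Iⁿ`. -/
theorem flat_quotient_pow {R : Type u} [CommRing R] (I : Ideal R) (M : Type v)
    [AddCommGroup M] [Module R M] [Module.Flat (R ⧸ I) ((R ⧸ I) ⊗[R] M)]
    (htor : Function.Injective ((Submodule.subtype I).rTensor M)) (n : ℕ) :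
    Module.Flat (R ⧸ I ^ n) ((R ⧸ I ^ n) ⊗[R] M) := by
  rw [Module.Flat.iff_rTensor_injective']
  intro 𝔞
  apply rTensor_baseChange_injective (R := R)
  apply Groth.Agent.H76.LocalCrit.tinj_of_pow_smul_mem_range I M htor n
  · exact Subtype.val_injective
  · intro x hx
    have : x = 0 := by
      refine Submodule.smul_induction_on hx ?_ ?_
      · intro i hi y _
        obtain ⟨r, rfl⟩ := Ideal.Quotient.mk_surjective y
        rw [← Ideal.Quotient.mk_eq_mk, ← Submodule.Quotient.mk_smul]
        exact (Submodule.Quotient.mk_eq_zero _).mpr (Ideal.mul_mem_right r _ hi)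
      · intro x y hx hy
        rw [hx, hy, add_zero]
    rw [this]
    exact Submodule.zero_mem _

end Groth.Agent.H76.PowFlat
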