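import Mathlib.LinearAlgebra.TensorProduct.Finiteness
import Mathlib.LinearAlgebra.TensorProduct.RightExactness
import Mathlib.RingTheory.TensorProduct.Basic
import Mathlib.RingTheory.Finiteness.Basic

/-!
# Finite generation and tensor products (helper76)
-/

set_option autoImplicit false

open TensorProduct

namespace Groth.Agent.H76.TensorFinite

/-- If `S ⊗[R] M` is a finite `S`-module, there is a finitely generated `R`-submodule `N'` of `M`
such that `S ⊗[R] (M ⧸ N'') = 0` for every `N'' ≥ N'`. -/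
theorem exists_fg_tensor_quotient_subsingleton {R S M : Type*} [CommRing R] [CommRing S]
    [Algebra R S] [AddCommGroup M] [Module R M] [Module.Finite S (S ⊗[R] M)] :
    ∃ N' : Submodule R M, N'.FG ∧ ∀ N'' : Submodule R M, N' ≤ N'' →
      Subsingleton (S ⊗[R] (M ⧸ N'')) := by
  obtain ⟨s, hs⟩ := (Module.Finite.fg_top : (⊤ : Submodule S (S ⊗[R] M)).FG)
  obtain ⟨N', hN', hsN'⟩ :=
    TensorProduct.exists_finite_submodule_right_of_setFinite (s : Set (S ⊗[R] M)) s.finite_toSet
  refine ⟨N', Module.Finite.iff_fg.mp hN', ?_⟩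
  intro N'' hle
  let g : S ⊗[R] M →ₗ[S] S ⊗[R] (M ⧸ N'') := N''.mkQ.baseChange S
  have hgsurj : Function.Surjective g := by
    have : Function.Surjective (N''.mkQ.lTensor S) :=
      LinearMap.lTensor_surjective S N''.mkQ_surjective
    exact this
  have hker : LinearMap.ker g = ⊤ := by
    rw [eq_top_iff, ← hs, Submodule.span_le]
    intro x hx
    obtain ⟨y, rfl⟩ := hsN' hx
    rw [SetLike.mem_coe, LinearMap.mem_ker]
    show (N''.mkQ.lTensor S) ((N'.subtype.lTensor S) y) = 0
    rw [← LinearMap.comp_apply, ← LinearMap.lTensor_comp]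
    have : N''.mkQ ∘ₗ N'.subtype = 0 := by
      ext z
      simp only [LinearMap.comp_apply, Submodule.subtype_apply, Submodule.mkQ_apply,
        LinearMap.zero_apply, Submodule.Quotient.mk_eq_zero]
      exact hle z.2
    rw [this, LinearMap.lTensor_zero, LinearMap.zero_apply]
  refine ⟨fun a b => ?_⟩
  obtain ⟨a', rfl⟩ := hgsurj a
  obtain ⟨b', rfl⟩ := hgsurj b
  have ha : a' ∈ LinearMap.ker g := hker ▸ Submodule.mem_top
  have hb : b' ∈ LinearMap.ker g := hker ▸ Submodule.mem_top
  rw [LinearMap.mem_ker.mp ha, LinearMap.mem_ker.mp hb]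

end Groth.Agent.H76.TensorFinite
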