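import Mathlib
import Groth.Agent.H76.NilFlat
import Groth.Agent.H76.AdicFlat

/-!
# Local criterion of flatness, infinitesimal form (helper76)

`flat_of_flat_mod_pow`: `R`, `S` Noetherian, `S` an `R`-algebra, `I` an ideal of `R` with
`I S ⊆ rad S`, `M` a finite `S`-module such that `(R/I^(n+1)) ⊗ M` is flat over `R/I^(n+1)` for all
`n`. Then `M` is flat over `R` (Matsumura 22.3 (5) ⇒ (1)).
-/

set_option autoImplicit false
universe u

open TensorProduct

namespace Groth.Agent.H76.LocalCritPow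

variable {R S : Type u} [CommRing R] [CommRing S] [Algebra R S]

/-- Tensors `x ⊗ y` with `y ∈ I^n 𝔞` lie in `(I S)^n (M ⊗ 𝔞)`. -/
theorem tmul_mem_smul_top (I : Ideal R) (n : ℕ) (𝔞 : Ideal R) (M : Type u) [AddCommGroup M]
    [Module R M] [Module S M] [IsScalarTower R S M] (x : M) (y : R)
    (hy : y ∈ I ^ n • 𝔞) (hy' : y ∈ 𝔞) :
    (x ⊗ₜ[R] (⟨y, hy'⟩ : 𝔞) : M ⊗[R] 𝔞) ∈
      (I.map (algebraMap R S)) ^ n • (⊤ : Submodule S (M ⊗[R] 𝔞)) := by
  have key : ∀ y ∈ I ^ n • 𝔞, ∃ hy' : y ∈ 𝔞, (x ⊗ₜ[R] (⟨y, hy'⟩ : 𝔞) : M ⊗[R] 𝔞) ∈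
      (I.map (algebraMap R S)) ^ n • (⊤ : Submodule S (M ⊗[R] 𝔞)) := by
    intro y hy
    refine Submodule.smul_induction_on hy ?_ ?_
    · intro i hi a ha
      refine ⟨𝔞.smul_mem i ha, ?_⟩
      have h1 : (⟨i • a, 𝔞.smul_mem i ha⟩ : 𝔞) = i • (⟨a, ha⟩ : 𝔞) := rfl
      rw [h1, ← TensorProduct.smul_tmul]
      have h2 : (i • x) ⊗ₜ[R] (⟨a, ha⟩ : 𝔞) =
          (algebraMap R S i) • (x ⊗ₜ[R] (⟨a, ha⟩ : 𝔞) : M ⊗[R] 𝔞) := by
        rw [TensorProduct.smul_tmul', algebraMap_smul]
      rw [h2]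
      refine Submodule.smul_mem_smul ?_ Submodule.mem_top
      rw [← Ideal.map_pow]
      exact Ideal.mem_map_of_mem _ hi
    · rintro y₁ y₂ ⟨h₁, m₁⟩ ⟨h₂, m₂⟩
      refine ⟨𝔞.add_mem h₁ h₂, ?_⟩
      have h3 : (⟨y₁ + y₂, 𝔞.add_mem h₁ h₂⟩ : 𝔞) = ⟨y₁, h₁⟩ + ⟨y₂, h₂⟩ := rfl
      rw [h3, TensorProduct.tmul_add]
      exact Submodule.add_mem _ m₁ m₂
  obtain ⟨_, h⟩ := key y hy
  exact h

/-- Core form: flatness from `Tor`-vanishing against modules killed by powers of `I`. -/
theorem flat_of_tinj [IsNoetherianRing R] [IsNoetherianRing S] (I : Ideal R)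
    (hIS : I.map (algebraMap R S) ≤ Ideal.jacobson ⊥)
    (M : Type u) [AddCommGroup M] [Module R M] [Module S M] [IsScalarTower R S M]
    [Module.Finite S M]
    (h : ∀ n : ℕ, ∀ (X Y : Type u) [AddCommGroup X] [Module R X] [AddCommGroup Y] [Module R Y]
      (u : X →ₗ[R] Y), Function.Injective u → (∀ i ∈ I ^ (n + 1), ∀ y : Y, i • y = 0) →
      Function.Injective (u.rTensor M)) :
    Module.Flat R M := by
  rw [Module.Flat.iff_lTensor_injective']
  intro 𝔞
  have : Module.Finite R 𝔞 := Module.Finite.of_fg (IsNoetherian.noetherian 𝔞)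
  have : Module.Finite S (M ⊗[R] 𝔞) := AdicFlat.finite_tensor M 𝔞
  have hkrull : (⨅ i : ℕ, (I.map (algebraMap R S)) ^ i • ⊤ : Submodule S (M ⊗[R] 𝔞)) = ⊥ :=
    Ideal.iInf_pow_smul_eq_bot_of_le_jacobson _ hIS
  rw [injective_iff_map_eq_zero]
  intro z hz
  obtain ⟨k, hk⟩ := Ideal.exists_pow_inf_eq_pow_smul I (𝔞 : Submodule R R)
  have hmem : ∀ n : ℕ, z ∈ (I.map (algebraMap R S)) ^ n • (⊤ : Submodule S (M ⊗[R] 𝔞)) := by
    intro n
    set m := n + k with hm
    let 𝔟' : Submodule R 𝔞 := Submodule.comap 𝔞.subtype (I ^ (m + 1))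
    let u : (𝔞 ⧸ 𝔟') →ₗ[R] (R ⧸ I ^ (m + 1)) :=
      Submodule.mapQ 𝔟' (I ^ (m + 1)) 𝔞.subtype le_rfl
    have hu : Function.Injective u := by
      rw [injective_iff_map_eq_zero]
      intro x hx
      obtain ⟨a, rfl⟩ := 𝔟'.mkQ_surjective x
      rw [Submodule.mkQ_apply, Submodule.mapQ_apply, Submodule.Quotient.mk_eq_zero] at hx
      exact (Submodule.Quotient.mk_eq_zero _).mpr hx
    have hinj : Function.Injective (u.rTensor M) :=
      h m _ _ u hu (by
        intro i hi y
        obtain ⟨r, rfl⟩ := Ideal.Quotient.mk_surjective y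
        have : i • (Ideal.Quotient.mk (I ^ (m + 1)) r) = Ideal.Quotient.mk (I ^ (m + 1)) (i * r) := rfl
        rw [this, Ideal.Quotient.eq_zero_iff_mem]
        exact Ideal.mul_mem_right _ _ hi)
    set z' := TensorProduct.comm R M 𝔞 z with hz'
    have h0 : (𝔞.subtype.rTensor M) z' = 0 := by
      rw [hz', LinearMap.rTensor_comm, hz, map_zero]
    have h1 : (u.rTensor M) ((𝔟'.mkQ.rTensor M) z') = 0 := by
      rw [← LinearMap.comp_apply, ← LinearMap.rTensor_comp]
      have : u ∘ₗ 𝔟'.mkQ = (Submodule.mkQ (I ^ (m + 1))) ∘ₗ 𝔞.subtype := by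
        ext a; rfl
      rw [this, LinearMap.rTensor_comp, LinearMap.comp_apply, h0, map_zero]
    have h2 : (𝔟'.mkQ.rTensor M) z' = 0 := (injective_iff_map_eq_zero _).mp hinj _ h1
    have hex : Function.Exact (𝔟'.subtype.rTensor M) (𝔟'.mkQ.rTensor M) :=
      rTensor_exact M (LinearMap.exact_subtype_mkQ 𝔟') 𝔟'.mkQ_surjective
    obtain ⟨w, hw⟩ := (hex z').mp h2
    have hz_eq : z = (TensorProduct.comm R M 𝔞).symm ((𝔟'.subtype.rTensor M) w) := by
      rw [hw, hz', LinearEquiv.symm_apply_apply]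
    rw [hz_eq]
    have claim : ∀ w : 𝔟' ⊗[R] M, (TensorProduct.comm R M 𝔞).symm ((𝔟'.subtype.rTensor M) w) ∈
        (I.map (algebraMap R S)) ^ n • (⊤ : Submodule S (M ⊗[R] 𝔞)) := by
      intro w
      induction w with
      | zero => simp
      | tmul b x =>
        rw [LinearMap.rTensor_tmul, TensorProduct.comm_symm_tmul]
        have hb1 : ((b : 𝔞) : R) ∈ I ^ (m + 1) := b.2
        have hb2 : ((b : 𝔞) : R) ∈ I ^ (m + 1) • (⊤ : Submodule R R) ⊓ (𝔞 : Submodule R R) := by
          refine ⟨?_, (b : 𝔞).2⟩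
          rw [smul_eq_mul, Ideal.mul_top]
          exact hb1
        rw [hk (m + 1) (by omega)] at hb2
        have hb3 : ((b : 𝔞) : R) ∈ I ^ n • 𝔞 := by
          have hle : I ^ (m + 1 - k) • (I ^ k • (⊤ : Submodule R R) ⊓ (𝔞 : Submodule R R)) ≤
              I ^ n • 𝔞 := by
            refine Submodule.smul_mono ?_ inf_le_right
            apply Ideal.pow_le_pow_right
            omega
          exact hle hb2
        exact tmul_mem_smul_top I n 𝔞 M x _ hb3 (b : 𝔞).2
      | add w₁ w₂ h₁ h₂ =>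
        rw [map_add, map_add]
        exact Submodule.add_mem _ h₁ h₂
    exact claim w
  have hz0 : z ∈ (⨅ i : ℕ, (I.map (algebraMap R S)) ^ i • ⊤ : Submodule S (M ⊗[R] 𝔞)) := by
    rw [Submodule.mem_iInf]
    exact hmem
  rw [hkrull] at hz0
  exact (Submodule.mem_bot S).mp hz0

/-- **Local criterion of flatness, infinitesimal form** (Matsumura 22.3 (5) ⇒ (1)). -/
theorem flat_of_flat_mod_pow [IsNoetherianRing R] [IsNoetherianRing S] (I : Ideal R)
    (hIS : I.map (algebraMap R S) ≤ Ideal.jacobson ⊥)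
    (M : Type u) [AddCommGroup M] [Module R M] [Module S M] [IsScalarTower R S M]
    [Module.Finite S M]
    (h : ∀ n : ℕ, Module.Flat (R ⧸ I ^ (n + 1)) ((R ⧸ I ^ (n + 1)) ⊗[R] M)) :
    Module.Flat R M := by
  apply flat_of_tinj I hIS M
  intro n X Y _ _ _ _ u hu hY
  have := h n
  exact NilFlat.tinj_of_killed (I ^ (n + 1)) M u hu hY

section Transfer

variable {A C : Type u} [CommRing A] [CommRing C] [Algebra A C]

theorem lTensor_injective_of_rTensor {X Y : Type*} [AddCommGroup X] [Module A X] [AddCommGroup Y]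
    [Module A Y] (L : Type*) [AddCommGroup L] [Module A L] (u : X →ₗ[A] Y)
    (hu : Function.Injective (u.rTensor L)) : Function.Injective (u.lTensor L) := by
  have h : ∀ x, u.lTensor L x =
      (TensorProduct.comm A L Y).symm (u.rTensor L (TensorProduct.comm A L X x)) := by
    intro x
    rw [LinearMap.rTensor_comm, LinearEquiv.symm_apply_apply]
  intro a b hab
  rw [h, h] at hab
  exact (TensorProduct.comm A L X).injective (hu ((TensorProduct.comm A L Y).symm.injective hab))

theorem rTensor_injective_of_lTensor {X Y : Type*} [AddCommGroup X] [Module A X] [AddCommGroup Y]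
    [Module A Y] (L : Type*) [AddCommGroup L] [Module A L] (u : X →ₗ[A] Y)
    (hu : Function.Injective (u.lTensor L)) : Function.Injective (u.rTensor L) := by
  have h : ∀ x, u.rTensor L x =
      (TensorProduct.comm A Y L).symm (u.lTensor L (TensorProduct.comm A X L x)) := by
    intro x
    rw [LinearMap.lTensor_comm, LinearEquiv.symm_apply_apply]
  intro a b hab
  rw [h, h] at hab
  exact (TensorProduct.comm A X L).injective (hu ((TensorProduct.comm A Y L).symm.injective hab))

/-- `Tor`-vanishing passes from `C` to a flat `C`-module `B`: if `u ⊗ C` is injective then so is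
`u ⊗ B`. -/
theorem tinj_of_flat_module (B : Type u) [AddCommGroup B] [Module C B] [Module A B]
    [IsScalarTower A C B] [Module.Flat C B]
    {X Y : Type u} [AddCommGroup X] [Module A X] [AddCommGroup Y] [Module A Y] (u : X →ₗ[A] Y)
    (hu : Function.Injective (u.rTensor C)) : Function.Injective (u.rTensor B) := by
  apply rTensor_injective_of_lTensor
  have h1 : Function.Injective (u.lTensor C) := lTensor_injective_of_rTensor C u hu
  let uC : C ⊗[A] X →ₗ[C] C ⊗[A] Y := AlgebraTensorModule.lTensor C C u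
  have huC : Function.Injective uC := h1
  have hB : Function.Injective (uC.lTensor B) :=
    Module.Flat.lTensor_preserves_injective_linearMap uC huC
  have nat : ∀ w : B ⊗[C] (C ⊗[A] X),
      (u.lTensor B) (AlgebraTensorModule.cancelBaseChange A C C B X w) =
        AlgebraTensorModule.cancelBaseChange A C C B Y (uC.lTensor B w) := by
    intro w
    induction w with
    | zero => simp
    | add w₁ w₂ h₁ h₂ => simp only [map_add, h₁, h₂]
    | tmul b t =>
      induction t with
      | zero => simp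
      | add t₁ t₂ h₁ h₂ => simp only [TensorProduct.tmul_add, map_add, h₁, h₂]
      | tmul c x =>
        rw [LinearMap.lTensor_tmul]
        show (u.lTensor B) (AlgebraTensorModule.cancelBaseChange A C C B X (b ⊗ₜ (c ⊗ₜ x))) =
          AlgebraTensorModule.cancelBaseChange A C C B Y (b ⊗ₜ (c ⊗ₜ u x))
        rw [AlgebraTensorModule.cancelBaseChange_tmul, AlgebraTensorModule.cancelBaseChange_tmul,
          LinearMap.lTensor_tmul]
  intro a b hab
  obtain ⟨a', rfl⟩ := (AlgebraTensorModule.cancelBaseChange A C C B X).surjective a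
  obtain ⟨b', rfl⟩ := (AlgebraTensorModule.cancelBaseChange A C C B X).surjective b
  rw [nat, nat] at hab
  rw [hB ((AlgebraTensorModule.cancelBaseChange A C C B Y).injective hab)]

end Transfer

/-- Flatness of a localisation `C_q` over `A` from flatness of `Q n ⊗ C` over quotients `Q n` of `A`
by ideals contained in `J^(n+1)`, when `J C ⊆ q`. -/
theorem flat_localization_of_flat_quotients {A C : Type u} [CommRing A] [CommRing C] [Algebra A C]
    [IsNoetherianRing A] [IsNoetherianRing C] (J : Ideal A) (q : Ideal C) [q.IsPrime]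
    (hJq : J.map (algebraMap A C) ≤ q)
    (Q : ℕ → Type u) [∀ n, CommRing (Q n)] [∀ n, Algebra A (Q n)]
    (hsurj : ∀ n, Function.Surjective (algebraMap A (Q n)))
    (hker : ∀ n, RingHom.ker (algebraMap A (Q n)) ≤ J ^ (n + 1))
    (hflat : ∀ n, Module.Flat (Q n) (Q n ⊗[A] C)) :
    Module.Flat A (Localization.AtPrime q) := by
  apply flat_of_tinj (S := Localization.AtPrime q) J _ (Localization.AtPrime q)
  · intro n X Y _ _ _ _ u hu hY
    apply tinj_of_flat_module (C := C) (Localization.AtPrime q) u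
    have := hflat n
    exact FlatGlue.rTensor_injective_of_surjective_of_flat (S := Q n) (hsurj n) C u hu
      (fun r hr y => hY r (hker n hr) y)
  · rw [IsLocalRing.jacobson_eq_maximalIdeal ⊥ bot_ne_top,
      ← Localization.AtPrime.map_eq_maximalIdeal (I := q),
      IsScalarTower.algebraMap_eq A C (Localization.AtPrime q), ← Ideal.map_map]
    exact Ideal.map_mono hJq

end Groth.Agent.H76.LocalCritPow
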