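import Mathlib

/-!
# Kernels of polynomial matrices under extension of the base domain (helper76)

* `mem_span_of_flat`: flat base change preserves kernels (`IsBaseChange` formulation).
* `flat_of_field_of_injective`: a field containing a domain `D` is flat over `D`.
* `exists_smul_mem_span_of_matMap_mem`: for `φ : A₁ → A₂`, a prime `p₂` of `A₂`, `p₁ = φ⁻¹ p₂` and
  a matrix `c` over `A₁[x]`, any vector `x` over `A₂[x]` with `c x ≡ 0 mod p₂` is, up to an
  element `d ∉ p₂`, a combination of (images of) vectors `u` over `A₁[x]` with `c u ≡ 0 mod p₁`,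
  modulo `p₂`.
-/

set_option autoImplicit false
universe u

open TensorProduct

namespace Groth.Agent.H76.FlatKernel

/-- Flat base change preserves kernels. -/
theorem mem_span_of_flat {D L N₁ N₂ N₁' N₂' : Type*} [CommRing D] [CommRing L] [Algebra D L]
    [Module.Flat D L] [AddCommGroup N₁] [Module D N₁] [AddCommGroup N₂] [Module D N₂]
    [AddCommGroup N₁'] [Module D N₁'] [Module L N₁'] [IsScalarTower D L N₁']
    [AddCommGroup N₂'] [Module D N₂'] [Module L N₂'] [IsScalarTower D L N₂']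
    (h₁ : N₁ →ₗ[D] N₁') (h₂ : N₂ →ₗ[D] N₂') (hb₁ : IsBaseChange L h₁) (hb₂ : IsBaseChange L h₂)
    (C : N₁ →ₗ[D] N₂) (C' : N₁' →ₗ[L] N₂') (hC : ∀ x, C' (h₁ x) = h₂ (C x)) (y : N₁')
    (hy : C' y = 0) : y ∈ Submodule.span L (h₁ '' (LinearMap.ker C : Set N₁)) := by
  obtain ⟨z, rfl⟩ := hb₁.equiv.surjective y
  have hcomm : ∀ z : L ⊗[D] N₁, hb₂.equiv (AlgebraTensorModule.lTensor L L C z) =
      C' (hb₁.equiv z) := by
    intro z
    induction z with
    | zero => simp
    | add a b ha hb => simp only [map_add, ha, hb]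
    | tmul l n =>
      rw [AlgebraTensorModule.lTensor_tmul, IsBaseChange.equiv_tmul, IsBaseChange.equiv_tmul,
        map_smul, hC]
  have hz : z ∈ LinearMap.ker (AlgebraTensorModule.lTensor L L C) := by
    rw [LinearMap.mem_ker]
    apply hb₂.equiv.injective
    rw [hcomm, hy, map_zero]
  rw [Module.Flat.ker_lTensor_eq] at hz
  obtain ⟨z', rfl⟩ := hz
  clear hy
  induction z' with
  | zero => simp
  | add a b ha hb =>
    simp only [map_add]
    exact Submodule.add_mem _ ha hb
  | tmul l n =>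
    rw [AlgebraTensorModule.lTensor_tmul, IsBaseChange.equiv_tmul]
    exact Submodule.smul_mem _ _ (Submodule.subset_span ⟨n.1, n.2, rfl⟩)

/-- A field containing a domain `D` is flat over `D`. -/
theorem flat_of_field_of_injective (D L : Type*) [CommRing D] [IsDomain D] [Field L] [Algebra D L]
    (h : Function.Injective (algebraMap D L)) : Module.Flat D L := by
  letI : Algebra (FractionRing D) L := (IsFractionRing.lift h).toAlgebra
  haveI : IsScalarTower D (FractionRing D) L :=
    IsScalarTower.of_algebraMap_eq (fun x => (IsFractionRing.lift_algebraMap h x).symm)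
  haveI : Module.Flat D (FractionRing D) := IsLocalization.flat (FractionRing D) (nonZeroDivisors D)
  exact Module.Flat.trans D (FractionRing D) L

section Mat

variable {σ κ ι : Type*} [Fintype κ]

/-- The linear map `A[x]^κ → A[x]^ι` given by a matrix `c`. -/
noncomputable abbrev matMap {A : Type*} [CommRing A] (c : κ → ι → MvPolynomial σ A) :
    (κ → MvPolynomial σ A) →ₗ[MvPolynomial σ A] (ι → MvPolynomial σ A) :=
  Fintype.linearCombination (MvPolynomial σ A) c

theorem matMap_apply {A : Type*} [CommRing A] (c : κ → ι → MvPolynomial σ A)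
    (x : κ → MvPolynomial σ A) (i : ι) : matMap c x i = ∑ j, x j * c j i := by
  simp [matMap, Fintype.linearCombination_apply]

/-- Coordinatewise base change of vectors of polynomials. -/
noncomputable def vmap {A A' : Type*} [CommRing A] [CommRing A'] (φ : A →+* A') {κ : Type*}
    (v : κ → MvPolynomial σ A) : κ → MvPolynomial σ A' := fun j => MvPolynomial.map φ (v j)

/-- Base change of a matrix of polynomials. -/
noncomputable def cmap {A A' : Type*} [CommRing A] [CommRing A'] (φ : A →+* A')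
    (c : κ → ι → MvPolynomial σ A) : κ → ι → MvPolynomial σ A' := fun j => vmap φ (c j)

section

variable {A A' : Type*} [CommRing A] [CommRing A'] (φ : A →+* A')

@[simp] theorem vmap_apply {κ : Type*} (v : κ → MvPolynomial σ A) (j : κ) :
    vmap φ v j = MvPolynomial.map φ (v j) := rfl

@[simp] theorem cmap_apply (c : κ → ι → MvPolynomial σ A) (j : κ) (i : ι) :
    cmap φ c j i = MvPolynomial.map φ (c j i) := rfl

theorem vmap_add {κ : Type*} (v w : κ → MvPolynomial σ A) :
    vmap φ (v + w) = vmap φ v + vmap φ w := by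
  ext j : 1; simp

theorem vmap_sub {κ : Type*} (v w : κ → MvPolynomial σ A) :
    vmap φ (v - w) = vmap φ v - vmap φ w := by
  ext j : 1; simp

theorem vmap_zero {κ : Type*} : vmap φ (0 : κ → MvPolynomial σ A) = 0 := by
  ext j : 1; simp

theorem vmap_smul {κ : Type*} (a : MvPolynomial σ A) (v : κ → MvPolynomial σ A) :
    vmap φ (a • v) = MvPolynomial.map φ a • vmap φ v := by
  ext j : 1; simp

theorem vmap_matMap (c : κ → ι → MvPolynomial σ A) (x : κ → MvPolynomial σ A) :
    vmap φ (matMap c x) = matMap (cmap φ c) (vmap φ x) := by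
  ext i : 1
  simp [matMap_apply]

theorem vmap_vmap {A'' : Type*} [CommRing A''] (ψ : A' →+* A'') {κ : Type*}
    (v : κ → MvPolynomial σ A) : vmap ψ (vmap φ v) = vmap (ψ.comp φ) v := by
  ext j : 1; simp [MvPolynomial.map_map]

theorem vmap_surjective (hφ : Function.Surjective φ) {κ : Type*} (w : κ → MvPolynomial σ A') :
    ∃ v : κ → MvPolynomial σ A, vmap φ v = w := by
  choose v hv using fun j => MvPolynomial.map_surjective φ hφ (w j)
  exact ⟨v, funext hv⟩

end

/-- Membership in `J • ⊤` for vectors. -/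
theorem mem_smul_top_pi {P κ : Type*} [CommRing P] [Finite κ] (J : Ideal P) (v : κ → P) :
    v ∈ J • (⊤ : Submodule P (κ → P)) ↔ ∀ j, v j ∈ J := by
  classical
  constructor
  · intro hv
    induction hv using Submodule.smul_induction_on' with
    | smul r hr n _ => intro j; exact J.mul_mem_right _ hr
    | add x _ y _ hx hy => intro j; exact J.add_mem (hx j) (hy j)
  · intro hv
    cases nonempty_fintype κ
    rw [pi_eq_sum_univ v]
    refine Submodule.sum_mem _ fun j _ => ?_
    exact Submodule.smul_mem_smul (hv j) Submodule.mem_top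

end Mat

section Claim

attribute [local instance] MvPolynomial.algebraMvPolynomial

variable {σ κ ι : Type*} [Fintype κ] [Finite ι]
variable {A₁ A₂ : Type*} [CommRing A₁] [CommRing A₂] (φ : A₁ →+* A₂) (p₂ : Ideal A₂) [p₂.IsPrime]

/-- The submodule of vectors `u` over `A[x]` with `c u ≡ 0` modulo `p`. -/
noncomputable abbrev kerMod {A : Type*} [CommRing A] (p : Ideal A) (c : κ → ι → MvPolynomial σ A) :
    Submodule (MvPolynomial σ A) (κ → MvPolynomial σ A) :=
  ((Ideal.map (MvPolynomial.C : A →+* MvPolynomial σ A) p) •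
    (⊤ : Submodule (MvPolynomial σ A) (ι → MvPolynomial σ A))).comap (matMap c)

theorem vmap_eq_zero_iff {A B : Type*} [CommRing A] [CommRing B] (ρ : A →+* B) {κ : Type*}
    [Finite κ] (v : κ → MvPolynomial σ A) :
    vmap ρ v = 0 ↔ v ∈ (Ideal.map (MvPolynomial.C : A →+* MvPolynomial σ A) (RingHom.ker ρ)) •
      (⊤ : Submodule (MvPolynomial σ A) (κ → MvPolynomial σ A)) := by
  rw [mem_smul_top_pi, ← MvPolynomial.ker_map]
  simp only [RingHom.mem_ker]
  constructor
  · intro h j; exact congrFun h j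
  · intro h; ext j : 1; exact h j

theorem exists_smul_mem_span_of_matMap_mem (c : κ → ι → MvPolynomial σ A₁)
    (x : κ → MvPolynomial σ A₂)
    (hx : matMap (cmap φ c) x ∈ (Ideal.map (MvPolynomial.C : A₂ →+* MvPolynomial σ A₂) p₂) •
      (⊤ : Submodule (MvPolynomial σ A₂) (ι → MvPolynomial σ A₂))) :
    ∃ d : A₂, d ∉ p₂ ∧ (MvPolynomial.C d : MvPolynomial σ A₂) • x ∈
      Submodule.span (MvPolynomial σ A₂) (vmap φ '' (kerMod (p₂.comap φ) c : Set _)) ⊔
        (Ideal.map (MvPolynomial.C : A₂ →+* MvPolynomial σ A₂) p₂) •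
          (⊤ : Submodule (MvPolynomial σ A₂) (κ → MvPolynomial σ A₂)) := by
  classical
  set p₁ := p₂.comap φ with hp₁
  let D₁ := A₁ ⧸ p₁
  let D₂ := A₂ ⧸ p₂
  let L := FractionRing D₂
  let φ' : D₁ →+* D₂ := Ideal.quotientMap p₂ φ le_rfl
  have hφ' : Function.Injective φ' := Ideal.quotientMap_injective
  letI : Algebra D₁ L := ((algebraMap D₂ L).comp φ').toAlgebra
  have hinj : Function.Injective (algebraMap D₁ L) := (IsFractionRing.injective D₂ L).comp hφ'
  haveI : Module.Flat D₁ L := flat_of_field_of_injective D₁ L hinj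
  let r₁ : A₁ →+* D₁ := Ideal.Quotient.mk p₁
  let r₂ : A₂ →+* D₂ := Ideal.Quotient.mk p₂
  let ρ : A₂ →+* L := (algebraMap D₂ L).comp r₂
  have hring : (algebraMap D₁ L).comp r₁ = ρ.comp φ := by
    ext a
    simp only [RingHom.algebraMap_toAlgebra, φ', r₁, r₂, ρ, RingHom.coe_comp, Function.comp_apply]
    exact congrArg (algebraMap D₂ L) Ideal.quotientMap_mk
  have hkerρ : RingHom.ker ρ = p₂ := by
    ext a
    simp only [ρ, RingHom.mem_ker, RingHom.coe_comp, Function.comp_apply]
    rw [map_eq_zero_iff _ (IsFractionRing.injective D₂ L)]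
    exact Ideal.Quotient.eq_zero_iff_mem
  have hkerr₁ : RingHom.ker r₁ = p₁ := Ideal.mk_ker
  set T : Submodule (MvPolynomial σ A₂) (κ → MvPolynomial σ A₂) :=
    Submodule.span (MvPolynomial σ A₂) (vmap φ '' (kerMod p₁ c : Set _)) ⊔
        (Ideal.map (MvPolynomial.C : A₂ →+* MvPolynomial σ A₂) p₂) • ⊤ with hT
  -- the base change data
  let h₁ : (κ → MvPolynomial σ D₁) →ₗ[D₁] (κ → MvPolynomial σ L) :=
    (IsScalarTower.toAlgHom D₁ (MvPolynomial σ D₁) (MvPolynomial σ L)).toLinearMap.compLeft κ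
  let h₂ : (ι → MvPolynomial σ D₁) →ₗ[D₁] (ι → MvPolynomial σ L) :=
    (IsScalarTower.toAlgHom D₁ (MvPolynomial σ D₁) (MvPolynomial σ L)).toLinearMap.compLeft ι
  have hb₁ : IsBaseChange L h₁ := IsBaseChange.finitePow κ Algebra.IsPushout.out
  have hb₂ : IsBaseChange L h₂ := IsBaseChange.finitePow ι Algebra.IsPushout.out
  have hh₁ : ∀ v, h₁ v = vmap (algebraMap D₁ L) v := fun v => rfl
  have hh₂ : ∀ v, h₂ v = vmap (algebraMap D₁ L) v := fun v => rfl
  let c' : κ → ι → MvPolynomial σ D₁ := cmap r₁ c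
  let C₁ : (κ → MvPolynomial σ D₁) →ₗ[D₁] (ι → MvPolynomial σ D₁) :=
    (matMap c').restrictScalars D₁
  let C₂ : (κ → MvPolynomial σ L) →ₗ[L] (ι → MvPolynomial σ L) :=
    (matMap (cmap (algebraMap D₁ L) c')).restrictScalars L
  have hC : ∀ v, C₂ (h₁ v) = h₂ (C₁ v) := by
    intro v
    rw [hh₁, hh₂]
    exact (vmap_matMap (algebraMap D₁ L) c' v).symm
  have hcc : cmap (algebraMap D₁ L) c' = cmap ρ (cmap φ c) := by
    ext j i : 2
    simp only [cmap_apply, c', MvPolynomial.map_map, hring]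
  have hy : C₂ (vmap ρ x) = 0 := by
    show matMap (cmap (algebraMap D₁ L) c') (vmap ρ x) = 0
    rw [hcc, ← vmap_matMap, vmap_eq_zero_iff, hkerρ]
    exact hx
  have hspan := mem_span_of_flat h₁ h₂ hb₁ hb₂ C₁ C₂ hC (vmap ρ x) hy
  -- clearing denominators
  have key : ∀ y' ∈ Submodule.span L (h₁ '' (LinearMap.ker C₁ : Set _)),
      ∃ d : A₂, d ∉ p₂ ∧ ∃ z ∈ T, vmap ρ z = (MvPolynomial.C (ρ d) : MvPolynomial σ L) • y' := by
    intro y' hy'
    induction hy' using Submodule.span_induction with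
    | mem y' hmem =>
      obtain ⟨u', hu', rfl⟩ := hmem
      obtain ⟨u, rfl⟩ := vmap_surjective r₁ Ideal.Quotient.mk_surjective u'
      have hu : u ∈ kerMod p₁ c := by
        rw [Submodule.mem_comap, ← hkerr₁, ← vmap_eq_zero_iff, vmap_matMap]
        exact hu'
      refine ⟨1, fun h => ‹p₂.IsPrime›.ne_top ((Ideal.eq_top_iff_one _).mpr h),
        vmap φ u, Submodule.mem_sup_left (Submodule.subset_span ⟨u, hu, rfl⟩), ?_⟩
      rw [map_one, map_one, one_smul, hh₁, vmap_vmap, vmap_vmap, hring]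
    | zero =>
      exact ⟨1, fun h => ‹p₂.IsPrime›.ne_top ((Ideal.eq_top_iff_one _).mpr h), 0, T.zero_mem,
        by rw [vmap_zero, smul_zero]⟩
    | add y₁ y₂ _ _ h1 h2 =>
      obtain ⟨d₁, hd₁, z₁, hz₁, e₁⟩ := h1
      obtain ⟨d₂, hd₂, z₂, hz₂, e₂⟩ := h2
      refine ⟨d₁ * d₂, fun h => (‹p₂.IsPrime›.mem_or_mem h).elim hd₁ hd₂,
        (MvPolynomial.C d₂ : MvPolynomial σ A₂) • z₁ + (MvPolynomial.C d₁ : MvPolynomial σ A₂) • z₂,
        T.add_mem (T.smul_mem _ hz₁) (T.smul_mem _ hz₂), ?_⟩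
      rw [vmap_add, vmap_smul, vmap_smul, e₁, e₂, MvPolynomial.map_C, MvPolynomial.map_C,
        smul_smul, smul_smul, smul_add, ← map_mul, ← map_mul, ← map_mul, ← map_mul,
        mul_comm d₂ d₁]
    | smul l y₁ _ h1 =>
      obtain ⟨d₁, hd₁, z₁, hz₁, e₁⟩ := h1
      obtain ⟨a', b', hb', rfl⟩ := IsFractionRing.div_surjective (A := D₂) l
      obtain ⟨a, rfl⟩ := Ideal.Quotient.mk_surjective a'
      obtain ⟨b, rfl⟩ := Ideal.Quotient.mk_surjective b'
      have hb : b ∉ p₂ := by
        intro hb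
        have : (Ideal.Quotient.mk p₂ b) = 0 := Ideal.Quotient.eq_zero_iff_mem.mpr hb
        rw [this] at hb'
        exact (nonZeroDivisors.ne_zero hb') rfl
      refine ⟨b * d₁, fun h => (‹p₂.IsPrime›.mem_or_mem h).elim hb hd₁,
        (MvPolynomial.C a : MvPolynomial σ A₂) • z₁, T.smul_mem _ hz₁, ?_⟩
      rw [vmap_smul, e₁, MvPolynomial.map_C, smul_smul]
      ext j : 1
      simp only [Pi.smul_apply, MvPolynomial.smul_eq_C_mul, smul_eq_mul]
      rw [← mul_assoc, ← map_mul, ← map_mul, ← map_mul]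
      congr 2
      have hb0 : algebraMap D₂ L (Ideal.Quotient.mk p₂ b) ≠ 0 := by
        intro h0
        rw [map_eq_zero_iff _ (IsFractionRing.injective D₂ L)] at h0
        exact hb (Ideal.Quotient.eq_zero_iff_mem.mp h0)
      rw [map_mul, map_mul]
      show algebraMap D₂ L (Ideal.Quotient.mk p₂ a) * ρ d₁ =
        algebraMap D₂ L (Ideal.Quotient.mk p₂ b) * ρ d₁ * _
      rw [mul_div_assoc', eq_div_iff hb0]
      ring
  obtain ⟨d, hd, z, hz, e⟩ := key _ hspan
  refine ⟨d, hd, ?_⟩
  have h0 : vmap ρ ((MvPolynomial.C d : MvPolynomial σ A₂) • x - z) = 0 := by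
    rw [vmap_sub, vmap_smul, MvPolynomial.map_C, e, sub_self]
  rw [vmap_eq_zero_iff, hkerρ] at h0
  have : (MvPolynomial.C d : MvPolynomial σ A₂) • x =
      z + ((MvPolynomial.C d : MvPolynomial σ A₂) • x - z) := by abel
  rw [this]
  exact T.add_mem hz (Submodule.mem_sup_right h0)

end Claim

end Groth.Agent.H76.FlatKernel
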