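import Mathlib

/-!
# Flatness of a localization of an `S`-module over a base ring `R`, elementwise (helper76)

For an `R`-algebra `S`, an `S`-module `M` and a submonoid `W ⊆ S`, the localization `W⁻¹M` is flat
over `R` iff for all (f.g.) ideals `I ⊆ R` the kernel of `M ⊗ I → M ⊗ R` is `W`-torsion.
-/

set_option autoImplicit false
universe u

open TensorProduct

namespace Groth.Agent.H76.FlatLocal

variable {R S M : Type*} [CommRing R] [CommRing S] [Algebra R S] [AddCommGroup M] [Module R M]
  [Module S M] [IsScalarTower R S M] (W : Submonoid S)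

/-- For an `S`-linear map `ψ` and localizations `f`, `g` at `W`, the induced map is injective iff
the kernel of `ψ` is `W`-torsion. -/
theorem map_injective_iff {A B A' B' : Type*} [AddCommGroup A] [Module S A] [AddCommGroup B]
    [Module S B] [AddCommGroup A'] [Module S A'] [AddCommGroup B'] [Module S B']
    (f : A →ₗ[S] A') (g : B →ₗ[S] B') [IsLocalizedModule W f] [IsLocalizedModule W g]
    (ψ : A →ₗ[S] B) :
    Function.Injective (IsLocalizedModule.map W f g ψ) ↔
      ∀ z : A, ψ z = 0 → ∃ w ∈ W, w • z = 0 := by
  constructor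
  · intro h z hz
    have h1 : IsLocalizedModule.map W f g ψ (f z) = 0 := by
      rw [IsLocalizedModule.map_apply, hz, map_zero]
    have h2 : f z = f 0 := by rw [map_zero]; exact h (by rw [h1, map_zero])
    obtain ⟨w, hw⟩ := IsLocalizedModule.exists_of_eq (S := W) (f := f) h2
    refine ⟨w.1, w.2, ?_⟩
    rw [smul_zero, Submonoid.smul_def] at hw
    exact hw
  · intro h
    rw [injective_iff_map_eq_zero]
    intro ζ hζ
    obtain ⟨⟨z, t⟩, hzt⟩ := IsLocalizedModule.surj W f ζ
    have hzt' : (t.1 : S) • ζ = f z := by rw [← Submonoid.smul_def]; exact hzt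
    have h1 : g (ψ z) = 0 := by
      have : IsLocalizedModule.map W f g ψ ((t.1 : S) • ζ) = 0 := by
        rw [map_smul, hζ, smul_zero]
      rw [hzt', IsLocalizedModule.map_apply] at this
      exact this
    have h2 : g (ψ z) = g 0 := by rw [h1, map_zero]
    obtain ⟨w, hw⟩ := IsLocalizedModule.exists_of_eq (S := W) (f := g) h2
    rw [smul_zero, Submonoid.smul_def] at hw
    have h3 : ψ (w.1 • z) = 0 := by rw [map_smul]; exact hw
    obtain ⟨w', hw', hw'z⟩ := h _ h3
    have h4 : (w' * w.1 * t.1) • ζ = 0 := by
      rw [mul_smul, hzt', ← map_smul, mul_smul, hw'z, map_zero]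
    have hu := IsLocalizedModule.map_units f ⟨w' * w.1 * t.1,
      W.mul_mem (W.mul_mem hw' w.2) t.2⟩
    have hinj := ((Module.End.isUnit_iff _).mp hu).injective
    apply hinj
    rw [map_zero, Module.algebraMap_end_apply]
    exact h4

/-- `X ↦ W⁻¹M ⊗ X` turns `u` into an injective map iff the kernel of `M ⊗ u` is `W`-torsion. -/
theorem lTensor_localized_injective_iff {X Y : Type*} [AddCommGroup X] [Module R X]
    [AddCommGroup Y] [Module R Y] (u : X →ₗ[R] Y) :
    Function.Injective (u.lTensor (LocalizedModule W M)) ↔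
      ∀ z : M ⊗[R] X, u.lTensor M z = 0 → ∃ w ∈ W, w • z = 0 := by
  have h := map_injective_iff W
    (AlgebraTensorModule.rTensor R X (LocalizedModule.mkLinearMap W M))
    (AlgebraTensorModule.rTensor R Y (LocalizedModule.mkLinearMap W M))
    (AlgebraTensorModule.lTensor S M u)
  rw [IsLocalizedModule.map_lTensor] at h
  exact h

/-- Flatness of `W⁻¹M` over `R` in terms of `W`-torsion of kernels. -/
theorem flat_localized_iff :
    Module.Flat R (LocalizedModule W M) ↔
      ∀ I : Ideal R, I.FG → ∀ z : M ⊗[R] I, I.subtype.lTensor M z = 0 → ∃ w ∈ W, w • z = 0 := by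
  rw [Module.Flat.iff_lTensor_injective]
  constructor
  · intro h I hI
    exact (lTensor_localized_injective_iff W I.subtype).mp (h hI)
  · intro h I hI
    exact (lTensor_localized_injective_iff W I.subtype).mpr (h I hI)

/-- If `W⁻¹M` is flat over `R` then kernels of `M ⊗ u` for injective `u` are `W`-torsion. -/
theorem exists_smul_eq_zero_of_flat [Module.Flat R (LocalizedModule W M)] {X Y : Type*}
    [AddCommGroup X] [Module R X] [AddCommGroup Y] [Module R Y] (u : X →ₗ[R] Y)
    (hu : Function.Injective u) (z : M ⊗[R] X) (hz : u.lTensor M z = 0) : ∃ w ∈ W, w • z = 0 :=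
  (lTensor_localized_injective_iff W u).mp
    (Module.Flat.lTensor_preserves_injective_linearMap u hu) z hz

/-- Flatness passes to further localizations. -/
theorem flat_localized_of_le {W W' : Submonoid S} (h : W ≤ W')
    [Module.Flat R (LocalizedModule W M)] : Module.Flat R (LocalizedModule W' M) := by
  rw [flat_localized_iff]
  intro I _ z hz
  obtain ⟨w, hw, hwz⟩ := exists_smul_eq_zero_of_flat W I.subtype Subtype.val_injective z hz
  exact ⟨w, h hw, hwz⟩

end Groth.Agent.H76.FlatLocal
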