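import Mathlib
import Groth.Agent.H76.FlatLocal
import Groth.Agent.H76.AdicFlat
import Groth.Agent.H76.LocalCritPow
import Groth.Agent.Lib.Helper91.GenericFreeness
import Groth.Agent.Lib.Helper16.GenFlat.Alg
import Groth.Agent.Lib.Helper71.FibreCritNoeth

/-!
# Openness of the flat locus, Noetherian case (helper76)

`R` Noetherian, `S` an `R`-algebra of finite type, `M` a finite `S`-module: the set of primes `q`
of `S` with `M_q` flat over `R` is open (EGA IV 11.1.1, Stacks 00RC Noetherian case).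
-/

set_option autoImplicit false
universe u

open TensorProduct

namespace Groth.Agent.H76.FlatLocusNoeth

/-- A subset of the spectrum of a Noetherian ring which is stable under specialization and whose
complement contains, around each of its points `q`, a neighbourhood of `q` in `V(q)`, is closed. -/
theorem isClosed_of_stable_of_local {S : Type*} [CommRing S] [IsNoetherianRing S]
    (Z : Set (PrimeSpectrum S))
    (hZ : ∀ x ∈ Z, ∀ y : PrimeSpectrum S, x.asIdeal ≤ y.asIdeal → y ∈ Z)
    (h : ∀ q : PrimeSpectrum S, q ∉ Z → ∃ g : S, g ∉ q.asIdeal ∧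
      ∀ q' : PrimeSpectrum S, q.asIdeal ≤ q'.asIdeal → g ∉ q'.asIdeal → q' ∉ Z) :
    IsClosed Z := by
  classical
  set I := PrimeSpectrum.vanishingIdeal Z with hI
  suffices hZI : Z = PrimeSpectrum.zeroLocus (I : Set S) by
    rw [hZI]; exact PrimeSpectrum.isClosed_zeroLocus _
  apply Set.Subset.antisymm (PrimeSpectrum.subset_zeroLocus_vanishingIdeal Z)
  intro y hy
  have hIy : I ≤ y.asIdeal := hy
  obtain ⟨𝔮, h𝔮min, h𝔮y⟩ := Ideal.exists_minimalPrimes_le hIy
  have h𝔮prime : 𝔮.IsPrime := h𝔮min.1.1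
  suffices h𝔮Z : (⟨𝔮, h𝔮prime⟩ : PrimeSpectrum S) ∈ Z from hZ _ h𝔮Z y h𝔮y
  by_contra hcon
  obtain ⟨g, hg𝔮, hg⟩ := h ⟨𝔮, h𝔮prime⟩ hcon
  have hfin : (I.minimalPrimes).Finite := Ideal.finite_minimalPrimes_of_isNoetherianRing S I
  -- for each other minimal prime pick an element outside `𝔮`
  have hex : ∀ 𝔮' : Ideal S, ∃ a : S, a ∉ 𝔮 ∧ (𝔮' ∈ I.minimalPrimes → 𝔮' ≠ 𝔮 → a ∈ 𝔮') := by
    intro 𝔮'
    by_cases h1 : 𝔮' ∈ I.minimalPrimes ∧ 𝔮' ≠ 𝔮
    · have hnle : ¬ 𝔮' ≤ 𝔮 := by
        intro hle
        exact h1.2 (le_antisymm hle (h𝔮min.2 h1.1.1 hle))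
      obtain ⟨a, ha', ha⟩ := Set.not_subset.mp hnle
      exact ⟨a, ha, fun _ _ => ha'⟩
    · refine ⟨1, fun h1' => h𝔮prime.ne_top ((Ideal.eq_top_iff_one 𝔮).mpr h1'), fun h2 h3 => ?_⟩
      exact absurd ⟨h2, h3⟩ h1
  choose a ha𝔮 ha using hex
  set e := g * ∏ 𝔮' ∈ hfin.toFinset, a 𝔮' with he
  have he𝔮 : e ∉ 𝔮 := by
    intro hmem
    rcases h𝔮prime.mem_or_mem hmem with h1 | h1
    · exact hg𝔮 h1
    · obtain ⟨𝔮', -, h2⟩ := (Ideal.IsPrime.prod_mem_iff (hp := h𝔮prime)).mp h1
      exact ha𝔮 𝔮' h2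
  apply he𝔮
  have heI : e ∈ I := by
    rw [hI, PrimeSpectrum.mem_vanishingIdeal]
    intro z hz
    have hIz : I ≤ z.asIdeal := PrimeSpectrum.subset_zeroLocus_vanishingIdeal Z hz
    obtain ⟨𝔮'', h𝔮''min, h𝔮''z⟩ := Ideal.exists_minimalPrimes_le hIz
    by_cases heq : 𝔮'' = 𝔮
    · subst heq
      have hgz : g ∈ z.asIdeal := by
        by_contra hgz
        exact hg z h𝔮''z hgz hz
      exact z.asIdeal.mul_mem_right _ hgz
    · apply z.asIdeal.mul_mem_left
      have hmem : 𝔮'' ∈ hfin.toFinset := by rw [Set.Finite.mem_toFinset]; exact h𝔮''min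
      exact Ideal.mem_of_dvd _ (Finset.dvd_prod_of_mem a hmem) (h𝔮''z (ha 𝔮'' h𝔮''min heq))
  exact h𝔮min.1.2 heI

section QuotLoc

variable {S M N : Type*} [CommRing S] [AddCommGroup M] [Module S M] [AddCommGroup N] [Module S N]
  (I : Ideal S) (W : Submonoid S) (g : M →ₗ[S] N)

/-- The map `M / I M → N / I N` induced by `g`, as an `S / I`-linear map. -/
noncomputable def mapQuot : (M ⧸ (I • ⊤ : Submodule S M)) →ₗ[S ⧸ I] (N ⧸ (I • ⊤ : Submodule S N)) :=
  ((I • ⊤ : Submodule S M).mapQ (I • ⊤) g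
    (Submodule.smul_top_le_comap_smul_top I g)).extendScalarsOfSurjective
      Ideal.Quotient.mk_surjective

@[simp]
theorem mapQuot_mk (m : M) :
    mapQuot I g (Submodule.Quotient.mk m) = Submodule.Quotient.mk (g m) := rfl

variable [IsLocalizedModule W g]

include W in
theorem exists_smul_eq_of_mem_smul_top (n : N) (hn : n ∈ (I • ⊤ : Submodule S N)) :
    ∃ t ∈ W, ∃ m' ∈ (I • ⊤ : Submodule S M), t • n = g m' := by
  induction hn using Submodule.smul_induction_on' with
  | smul i hi n₁ _ =>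
    obtain ⟨⟨m₁, t⟩, ht⟩ := IsLocalizedModule.surj W g n₁
    rw [Submonoid.smul_def] at ht
    refine ⟨t.1, t.2, i • m₁, Submodule.smul_mem_smul hi Submodule.mem_top, ?_⟩
    rw [smul_comm, ht, map_smul]
  | add x _ y _ hx hy =>
    obtain ⟨t₁, ht₁, m₁, hm₁, h1⟩ := hx
    obtain ⟨t₂, ht₂, m₂, hm₂, h2⟩ := hy
    refine ⟨t₁ * t₂, W.mul_mem ht₁ ht₂, t₂ • m₁ + t₁ • m₂,
      Submodule.add_mem _ (Submodule.smul_mem _ _ hm₁) (Submodule.smul_mem _ _ hm₂), ?_⟩
    rw [smul_add, map_add, map_smul, map_smul, ← h1, ← h2, mul_comm t₁ t₂, mul_smul, mul_comm t₂ t₁,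
      mul_smul]

/-- The quotient modulo `I` of a localization map is a localization map (over `S / I`). -/
theorem isLocalizedModule_mapQuot :
    IsLocalizedModule (W.map (Ideal.Quotient.mk I)) (mapQuot I g) := by
  refine ⟨?_, ?_, ?_⟩
  · rintro ⟨_, s, hs, rfl⟩
    rw [Module.End.isUnit_iff]
    have hu := IsLocalizedModule.map_units g ⟨s, hs⟩
    rw [Module.End.isUnit_iff] at hu
    constructor
    · rw [injective_iff_map_eq_zero]
      intro y hy
      obtain ⟨n, rfl⟩ := Submodule.Quotient.mk_surjective _ y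
      have h1 : s • n ∈ (I • ⊤ : Submodule S N) := by
        rw [← Submodule.Quotient.mk_eq_zero]
        exact hy
      -- the inverse of multiplication by `s` preserves `I N`
      have h2 : ∀ x ∈ (I • ⊤ : Submodule S N), ∀ n : N, s • n = x → n ∈ (I • ⊤ : Submodule S N) := by
        intro x hx
        induction hx using Submodule.smul_induction_on' with
        | smul i hi n₁ _ =>
          intro n hn
          obtain ⟨n₂, hn₂⟩ := hu.surjective n₁
          have : n = i • n₂ := by
            apply hu.injective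
            simp only [Module.algebraMap_end_apply] at hn₂ ⊢
            rw [hn, smul_comm, hn₂]
          rw [this]
          exact Submodule.smul_mem_smul hi Submodule.mem_top
        | add x _ y _ hx hy =>
          intro n hn
          obtain ⟨nx, hnx⟩ := hu.surjective x
          obtain ⟨ny, hny⟩ := hu.surjective y
          simp only [Module.algebraMap_end_apply] at hnx hny
          have : n = nx + ny := by
            apply hu.injective
            simp only [Module.algebraMap_end_apply]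
            rw [hn, smul_add, hnx, hny]
          rw [this]
          exact Submodule.add_mem _ (hx nx hnx) (hy ny hny)
      rw [Submodule.Quotient.mk_eq_zero]
      exact h2 _ h1 n rfl
    · intro y
      obtain ⟨n, rfl⟩ := Submodule.Quotient.mk_surjective _ y
      obtain ⟨n', hn'⟩ := hu.surjective n
      simp only [Module.algebraMap_end_apply] at hn'
      refine ⟨Submodule.Quotient.mk n', ?_⟩
      simp only [Module.algebraMap_end_apply]
      rw [← hn']
      rfl
  · intro y
    obtain ⟨n, rfl⟩ := Submodule.Quotient.mk_surjective _ y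
    obtain ⟨⟨m, t⟩, ht⟩ := IsLocalizedModule.surj W g n
    rw [Submonoid.smul_def] at ht
    refine ⟨⟨Submodule.Quotient.mk m, ⟨Ideal.Quotient.mk I t.1, t.1, t.2, rfl⟩⟩, ?_⟩
    rw [Submonoid.smul_def, mapQuot_mk, ← ht]
    rfl
  · intro x₁ x₂ h
    obtain ⟨m₁, rfl⟩ := Submodule.Quotient.mk_surjective _ x₁
    obtain ⟨m₂, rfl⟩ := Submodule.Quotient.mk_surjective _ x₂
    rw [mapQuot_mk, mapQuot_mk, Submodule.Quotient.eq, ← map_sub] at h
    obtain ⟨t, ht, m', hm', h1⟩ := exists_smul_eq_of_mem_smul_top I W g _ h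
    rw [← map_smul] at h1
    obtain ⟨t', ht'⟩ := IsLocalizedModule.exists_of_eq (S := W) h1
    rw [Submonoid.smul_def, Submonoid.smul_def] at ht'
    refine ⟨⟨Ideal.Quotient.mk I (t'.1 * t), t'.1 * t, W.mul_mem t'.2 ht, rfl⟩, ?_⟩
    rw [Submonoid.smul_def, Submonoid.smul_def]
    show (Submodule.Quotient.mk ((t'.1 * t) • m₁) : M ⧸ (I • ⊤ : Submodule S M)) =
      Submodule.Quotient.mk ((t'.1 * t) • m₂)
    rw [Submodule.Quotient.eq, ← smul_sub, mul_smul, ht']
    exact Submodule.smul_mem _ _ hm'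

end QuotLoc

section GenericFlat

variable {R S M : Type u} [CommRing R] [CommRing S] [Algebra R S] [Algebra.FiniteType R S]
  [AddCommGroup M] [Module R M] [Module S M] [IsScalarTower R S M] [Module.Finite S M]

/-- Generic flatness modulo a prime: there is `f ∉ p` such that for every localization `N` of `M`
at a submonoid of `S` containing `f`, `N / p N` is flat over `R / p`. -/
theorem exists_flat_quotient_localized (p : Ideal R) [p.IsPrime] :
    ∃ f : R, f ∉ p ∧ ∀ (W : Submonoid S), algebraMap R S f ∈ W →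
      Module.Flat (R ⧸ p) ((R ⧸ p) ⊗[R] LocalizedModule W M) := by
  set I := p.map (algebraMap R S) with hI
  letI instM : Module (R ⧸ p) (M ⧸ (I • ⊤ : Submodule S M)) :=
    Module.compHom _ (algebraMap (R ⧸ p) (S ⧸ I))
  haveI towM : IsScalarTower (R ⧸ p) (S ⧸ I) (M ⧸ (I • ⊤ : Submodule S M)) :=
    IsScalarTower.of_algebraMap_smul fun _ _ => rfl
  haveI : Algebra.FiniteType (R ⧸ p) (S ⧸ I) :=
    Algebra.FiniteType.of_restrictScalars_finiteType R (R ⧸ p) (S ⧸ I)
  haveI : Module.Finite (S ⧸ I) (M ⧸ (I • ⊤ : Submodule S M)) :=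
    Module.Finite.of_restrictScalars_finite S (S ⧸ I) _
  obtain ⟨f', hf', hfree, -, -, -⟩ := Groth.Agent.Lib.Helper91.generic_freeness
    (R := R ⧸ p) (S := S ⧸ I) (M := M ⧸ (I • ⊤ : Submodule S M))
  obtain ⟨f, rfl⟩ := Ideal.Quotient.mk_surjective f'
  refine ⟨f, fun hfp => hf' (Ideal.Quotient.eq_zero_iff_mem.mpr hfp), ?_⟩
  intro W hfW
  letI instN : Module (R ⧸ p) (LocalizedModule W M ⧸ (I • ⊤ : Submodule S (LocalizedModule W M))) :=
    Module.compHom _ (algebraMap (R ⧸ p) (S ⧸ I))
  haveI towN : IsScalarTower (R ⧸ p) (S ⧸ I)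
      (LocalizedModule W M ⧸ (I • ⊤ : Submodule S (LocalizedModule W M))) :=
    IsScalarTower.of_algebraMap_smul fun _ _ => rfl
  haveI := isLocalizedModule_mapQuot I W (LocalizedModule.mkLinearMap W M)
  have hflat : Module.Flat (R ⧸ p)
      (LocalizedModule W M ⧸ (I • ⊤ : Submodule S (LocalizedModule W M))) :=
    Groth.Agent.Lib.Helper16.GenFlat.flat_of_free_away (Ideal.Quotient.mk p f) hfree
      (W.map (Ideal.Quotient.mk I)) ⟨algebraMap R S f, hfW, rfl⟩
      (mapQuot I (LocalizedModule.mkLinearMap W M))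
  have hsub : (p • ⊤ : Submodule R (LocalizedModule W M)) =
      (I • ⊤ : Submodule S (LocalizedModule W M)).restrictScalars R := by
    rw [hI, Ideal.smul_restrictScalars, Submodule.restrictScalars_top]
  haveI towR : IsScalarTower R (R ⧸ p)
      (LocalizedModule W M ⧸ (I • ⊤ : Submodule S (LocalizedModule W M))) := by
    refine IsScalarTower.of_algebraMap_smul fun r x => ?_
    obtain ⟨n, rfl⟩ := Submodule.Quotient.mk_surjective _ x
    show (algebraMap (R ⧸ p) (S ⧸ I) (Ideal.Quotient.mk p r)) •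
      (Submodule.Quotient.mk n : LocalizedModule W M ⧸ (I • ⊤ : Submodule S (LocalizedModule W M)))
        = r • Submodule.Quotient.mk n
    rw [Ideal.Quotient.algebraMap_quotient_map_quotient]
    show (Submodule.Quotient.mk (algebraMap R S r • n) :
      LocalizedModule W M ⧸ (I • ⊤ : Submodule S (LocalizedModule W M))) =
      Submodule.Quotient.mk (r • n)
    rw [algebraMap_smul]
  let e := ((TensorProduct.quotTensorEquivQuotSMul (LocalizedModule W M) p) ≪≫ₗ
    (Submodule.quotEquivOfEq _ _ hsub) ≪≫ₗ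
    (Submodule.Quotient.restrictScalarsEquiv R
      (I • ⊤ : Submodule S (LocalizedModule W M)))).extendScalarsOfSurjective
        (Ideal.Quotient.mk_surjective (I := p))
  exact Module.Flat.of_linearEquiv e

end GenericFlat

section Main

/-- A finitely generated submodule all of whose elements are `W`-torsion is killed by a single
element of `W`. -/
theorem exists_smul_eq_zero_of_fg {S A : Type*} [CommRing S] [AddCommGroup A] [Module S A]
    (W : Submonoid S) (K : Submodule S A) (hK : K.FG)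
    (h : ∀ z ∈ K, ∃ w ∈ W, w • z = 0) : ∃ w ∈ W, ∀ z ∈ K, w • z = 0 := by
  classical
  obtain ⟨s, hs⟩ := hK
  have h' : ∀ z : A, ∃ w ∈ W, z ∈ K → w • z = 0 := by
    intro z
    by_cases hz : z ∈ K
    · obtain ⟨w, hw, hwz⟩ := h z hz
      exact ⟨w, hw, fun _ => hwz⟩
    · exact ⟨1, W.one_mem, fun h => absurd h hz⟩
  choose w hw hwz using h'
  refine ⟨∏ z ∈ s, w z, W.prod_mem fun z _ => hw z, ?_⟩
  intro z hz
  rw [← hs] at hz
  induction hz using Submodule.span_induction with
  | mem x hx =>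
    have hxK : x ∈ K := hs ▸ Submodule.subset_span hx
    obtain ⟨c, hc⟩ := Finset.dvd_prod_of_mem w hx
    rw [hc, mul_comm, mul_smul, hwz x hxK, smul_zero]
  | zero => exact smul_zero _
  | add x y _ _ hx hy => rw [smul_add, hx, hy, add_zero]
  | smul a x _ hx => rw [smul_comm, hx, smul_zero]

variable {R S M : Type u} [CommRing R] [IsNoetherianRing R] [CommRing S] [Algebra R S]
  [Algebra.FiniteType R S] [AddCommGroup M] [Module R M] [Module S M] [IsScalarTower R S M]
  [Module.Finite S M]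

/-- Around a point `q` of the flat locus, the flat locus contains a neighbourhood of `q` in
`V(q)`. -/
theorem exists_flat_nhds (q : Ideal S) [q.IsPrime]
    [hq : Module.Flat R (LocalizedModule q.primeCompl M)] :
    ∃ g : S, g ∉ q ∧ ∀ (q' : Ideal S) [q'.IsPrime], q ≤ q' → g ∉ q' →
      Module.Flat R (LocalizedModule q'.primeCompl M) := by
  have hS : IsNoetherianRing S := Algebra.FiniteType.isNoetherianRing R S
  set p : Ideal R := q.comap (algebraMap R S) with hp
  have hpprime : p.IsPrime := Ideal.comap_isPrime _ _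
  obtain ⟨f, hfp, hf⟩ := exists_flat_quotient_localized (S := S) (M := M) p
  have hfin : Module.Finite S (M ⊗[R] p) := Groth.Agent.H76.AdicFlat.finite_tensor M p
  set u : M ⊗[R] p →ₗ[S] M ⊗[R] R := AlgebraTensorModule.lTensor S M p.subtype with hu
  have hKfg : (LinearMap.ker u).FG := IsNoetherian.noetherian _
  obtain ⟨g₀, hg₀, hg₀K⟩ := exists_smul_eq_zero_of_fg q.primeCompl (LinearMap.ker u) hKfg
    (fun z hz => Groth.Agent.H76.FlatLocal.exists_smul_eq_zero_of_flat q.primeCompl p.subtype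
      Subtype.val_injective z hz)
  have hfq : algebraMap R S f ∉ q := hfp
  refine ⟨g₀ * algebraMap R S f, fun h => (‹q.IsPrime›.mem_or_mem h).elim hg₀ hfq, ?_⟩
  intro q' _ hqq' hgq'
  have hg₀q' : g₀ ∉ q' := fun h => hgq' (q'.mul_mem_right _ h)
  have hfq' : algebraMap R S f ∉ q' := fun h => hgq' (q'.mul_mem_left _ h)
  haveI : Module.Flat (R ⧸ p) ((R ⧸ p) ⊗[R] LocalizedModule q'.primeCompl M) :=
    hf q'.primeCompl hfq'
  apply Groth.Agent.Lib.Helper71.FibreCritNoeth.flat_of_rTensor_injective (A := R) p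
    (B := Localization.AtPrime q') (LocalizedModule q'.primeCompl M)
  · rw [IsLocalRing.jacobson_eq_maximalIdeal ⊥ bot_ne_top, Ideal.map_le_iff_le_comap]
    intro r hr
    rw [Ideal.mem_comap, IsScalarTower.algebraMap_apply R S (Localization.AtPrime q'),
      IsLocalization.AtPrime.to_map_mem_maximal_iff (Localization.AtPrime q') q']
    exact hqq' hr
  · apply Groth.Agent.H76.LocalCritPow.rTensor_injective_of_lTensor
    rw [Groth.Agent.H76.FlatLocal.lTensor_localized_injective_iff]
    intro z hz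
    exact ⟨g₀, hg₀q', hg₀K z hz⟩

/-- **Openness of the flat locus**, Noetherian case. -/
theorem isOpen_flatLocus :
    IsOpen {q : PrimeSpectrum S | Module.Flat R (LocalizedModule q.asIdeal.primeCompl M)} := by
  have hS : IsNoetherianRing S := Algebra.FiniteType.isNoetherianRing R S
  rw [← isClosed_compl_iff]
  apply isClosed_of_stable_of_local
  · intro x hx y hxy hy
    apply hx
    have hle : y.asIdeal.primeCompl ≤ x.asIdeal.primeCompl := fun s hs hsx => hs (hxy hsx)
    have : Module.Flat R (LocalizedModule y.asIdeal.primeCompl M) := hy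
    exact Groth.Agent.H76.FlatLocal.flat_localized_of_le hle
  · intro q hq
    have hq' : Module.Flat R (LocalizedModule q.asIdeal.primeCompl M) := by
      by_contra h
      exact hq h
    obtain ⟨g, hg, hgq⟩ := exists_flat_nhds (R := R) (M := M) q.asIdeal
    refine ⟨g, hg, fun q' hqq' hgq' hq'Z => hq'Z ?_⟩
    exact hgq q'.asIdeal hqq' hgq'

end Main

end Groth.Agent.H76.FlatLocusNoeth
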