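import Mathlib
import Groth.Agent.H76.FlatLocal
import Groth.Agent.H76.FlatLocusNoeth

/-!
# Flatness of a localized quotient `W⁻¹(F/K)` in terms of `K ∩ IF` and `IK` (helper76)

For an `S`-module `F`, flat over `R`, a submodule `K` and an ideal `I` of `R`, the kernel of
`(F/K) ⊗ I → F/K` is `(K ∩ IF)/IK`.  We use this to characterize flatness of `W⁻¹(F/K)`
elementwise.
-/

set_option autoImplicit false
universe u

open TensorProduct

namespace Groth.Agent.H76.FlatPresent

section Bridge

variable {R S F : Type*} [CommRing R] [CommRing S] [Algebra R S] [AddCommGroup F] [Module R F]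
  [Module S F] [IsScalarTower R S F] (I : Ideal R)

/-- The multiplication map `F ⊗ I → F`, as an `S`-linear map. -/
noncomputable def mulMap : F ⊗[R] I →ₗ[S] F :=
  (AlgebraTensorModule.rid R S F).toLinearMap ∘ₗ AlgebraTensorModule.lTensor S F I.subtype

@[simp]
theorem mulMap_tmul (f : F) (i : I) : mulMap (S := S) I (f ⊗ₜ[R] i) = (i : R) • f := by
  simp [mulMap]

theorem mulMap_eq_zero_iff (z : F ⊗[R] I) :
    mulMap (S := S) I z = 0 ↔ I.subtype.lTensor F z = 0 := by
  simp only [mulMap, LinearMap.coe_comp, LinearEquiv.coe_coe, Function.comp_apply,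
    EmbeddingLike.map_eq_zero_iff]
  rfl

theorem mulMap_injective [Module.Flat R F] :
    Function.Injective (mulMap (S := S) (F := F) I) := by
  have h := Module.Flat.lTensor_preserves_injective_linearMap (M := F) I.subtype
    Subtype.val_injective
  rw [injective_iff_map_eq_zero]
  intro z hz
  rw [mulMap_eq_zero_iff] at hz
  exact (injective_iff_map_eq_zero _).mp h z hz

theorem mulMap_mem (z : F ⊗[R] I) :
    mulMap (S := S) I z ∈ (I.map (algebraMap R S)) • (⊤ : Submodule S F) := by
  induction z with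
  | zero => simp
  | add x y hx hy => rw [map_add]; exact Submodule.add_mem _ hx hy
  | tmul f i =>
    rw [mulMap_tmul, ← algebraMap_smul S (i : R) f]
    exact Submodule.smul_mem_smul (Ideal.mem_map_of_mem _ i.2) Submodule.mem_top

variable (N : Submodule S F)

theorem mulMap_rTensor_mem (k : N ⊗[R] I) :
    mulMap (S := S) I (AlgebraTensorModule.rTensor R I N.subtype k) ∈
      (I.map (algebraMap R S)) • N := by
  induction k with
  | zero => simp
  | add x y hx hy => rw [map_add, map_add]; exact Submodule.add_mem _ hx hy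
  | tmul f i =>
    rw [AlgebraTensorModule.rTensor_tmul, mulMap_tmul, ← algebraMap_smul S (i : R)]
    exact Submodule.smul_mem_smul (Ideal.mem_map_of_mem _ i.2) f.2

theorem exists_mulMap_rTensor_eq (y : F) (hy : y ∈ (I.map (algebraMap R S)) • N) :
    ∃ k : N ⊗[R] I, mulMap (S := S) I (AlgebraTensorModule.rTensor R I N.subtype k) = y := by
  have hy' : y ∈ I • N.restrictScalars R := by
    rw [← Ideal.smul_restrictScalars]
    exact hy
  clear hy
  induction hy' using Submodule.smul_induction_on' with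
  | smul r hr n hn =>
    refine ⟨(⟨n, hn⟩ : N) ⊗ₜ[R] (⟨r, hr⟩ : I), ?_⟩
    rw [AlgebraTensorModule.rTensor_tmul, mulMap_tmul]
    rfl
  | add x _ y _ hx hy =>
    obtain ⟨k₁, h1⟩ := hx
    obtain ⟨k₂, h2⟩ := hy
    exact ⟨k₁ + k₂, by rw [map_add, map_add, h1, h2]⟩

theorem exists_mulMap_eq (y : F) (hy : y ∈ (I.map (algebraMap R S)) • (⊤ : Submodule S F)) :
    ∃ z : F ⊗[R] I, mulMap (S := S) I z = y := by
  obtain ⟨k, hk⟩ := exists_mulMap_rTensor_eq I ⊤ y hy
  exact ⟨_, hk⟩

variable (K : Submodule S F)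

theorem mulMap_mkQ (z : F ⊗[R] I) :
    mulMap (S := S) I (AlgebraTensorModule.rTensor R I K.mkQ z) = K.mkQ (mulMap (S := S) I z) := by
  induction z with
  | zero => simp
  | add x y hx hy => simp only [map_add, hx, hy]
  | tmul f i => simp

theorem exists_rTensor_eq_of_mkQ_eq_zero (z : F ⊗[R] I)
    (hz : AlgebraTensorModule.rTensor R I K.mkQ z = 0) :
    ∃ k : K ⊗[R] I, AlgebraTensorModule.rTensor R I K.subtype k = z := by
  have hex := rTensor_exact I (f := K.subtype.restrictScalars R) (g := K.mkQ.restrictScalars R)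
    (LinearMap.exact_subtype_mkQ K) (Submodule.mkQ_surjective K)
  exact (hex z).mp hz

/-- If the kernel of `(F/K) ⊗ I → F/K` is `W`-torsion then `K ∩ IF` is contained in `IK` up to
`W`. -/
theorem exists_smul_mem_of_torsion (W : Submonoid S)
    (h : ∀ z : (F ⧸ K) ⊗[R] I, I.subtype.lTensor (F ⧸ K) z = 0 → ∃ w ∈ W, w • z = 0)
    (y : F) (hyK : y ∈ K) (hyI : y ∈ (I.map (algebraMap R S)) • (⊤ : Submodule S F)) :
    ∃ w ∈ W, w • y ∈ (I.map (algebraMap R S)) • K := by
  obtain ⟨z, rfl⟩ := exists_mulMap_eq I y hyI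
  have h1 : I.subtype.lTensor (F ⧸ K) (AlgebraTensorModule.rTensor R I K.mkQ z) = 0 := by
    rw [← mulMap_eq_zero_iff (S := S), mulMap_mkQ, Submodule.mkQ_apply,
      Submodule.Quotient.mk_eq_zero]
    exact hyK
  obtain ⟨w, hw, hwz⟩ := h _ h1
  refine ⟨w, hw, ?_⟩
  rw [← map_smul] at hwz
  obtain ⟨k, hk⟩ := exists_rTensor_eq_of_mkQ_eq_zero I K _ hwz
  rw [← map_smul, ← hk]
  exact mulMap_rTensor_mem I K k

/-- Conversely, if `F` is flat and `K ∩ IF` is contained in `IK` up to `W`, then the kernel of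
`(F/K) ⊗ I → F/K` is `W`-torsion. -/
theorem torsion_of_exists_smul_mem [Module.Flat R F] (W : Submonoid S)
    (h : ∀ y ∈ K, y ∈ (I.map (algebraMap R S)) • (⊤ : Submodule S F) →
      ∃ w ∈ W, w • y ∈ (I.map (algebraMap R S)) • K)
    (z : (F ⧸ K) ⊗[R] I) (hz : I.subtype.lTensor (F ⧸ K) z = 0) : ∃ w ∈ W, w • z = 0 := by
  obtain ⟨z', rfl⟩ := LinearMap.rTensor_surjective I (g := K.mkQ.restrictScalars R)
    (Submodule.mkQ_surjective K) z
  have hz' : I.subtype.lTensor (F ⧸ K) (AlgebraTensorModule.rTensor R I K.mkQ z') = 0 := hz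
  rw [← mulMap_eq_zero_iff (S := S), mulMap_mkQ, Submodule.mkQ_apply,
    Submodule.Quotient.mk_eq_zero] at hz'
  obtain ⟨w, hw, hwy⟩ := h _ hz' (mulMap_mem I z')
  obtain ⟨k, hk⟩ := exists_mulMap_rTensor_eq I K _ hwy
  rw [← map_smul] at hk
  have h2 := mulMap_injective (S := S) I hk
  refine ⟨w, hw, ?_⟩
  show w • (AlgebraTensorModule.rTensor R I K.mkQ z') = 0
  rw [← map_smul, ← h2]
  have hex := rTensor_exact I (f := K.subtype.restrictScalars R) (g := K.mkQ.restrictScalars R)
    (LinearMap.exact_subtype_mkQ K) (Submodule.mkQ_surjective K)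
  exact (hex _).mpr ⟨k, rfl⟩

/-- If `W⁻¹(F/K)` is flat over `R` then `K ∩ IF ⊆ IK` up to `W`, for every ideal `I`. -/
theorem exists_smul_mem_of_flat (W : Submonoid S) [Module.Flat R (LocalizedModule W (F ⧸ K))]
    (y : F) (hyK : y ∈ K) (hyI : y ∈ (I.map (algebraMap R S)) • (⊤ : Submodule S F)) :
    ∃ w ∈ W, w • y ∈ (I.map (algebraMap R S)) • K :=
  exists_smul_mem_of_torsion I K W
    (fun z hz => Groth.Agent.H76.FlatLocal.exists_smul_eq_zero_of_flat W I.subtype
      Subtype.val_injective z hz) y hyK hyI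

end Bridge

section Noeth

variable {R S F : Type u} [CommRing R] [IsNoetherianRing R] [CommRing S] [Algebra R S]
  [Algebra.FiniteType R S] [AddCommGroup F] [Module R F] [Module S F] [IsScalarTower R S F]
  [Module.Finite S F] [Module.Flat R F]

/-- Noetherian case: `(F/K)_q` is flat over `R` as soon as `K ∩ pF ⊆ pK` up to `S ∖ q`, where
`p = q ∩ R`. -/
theorem flat_localized_quotient_of_exists_smul_mem (K : Submodule S F) (q : Ideal S) [q.IsPrime]
    (h : ∀ y ∈ K, y ∈ ((q.comap (algebraMap R S)).map (algebraMap R S)) • (⊤ : Submodule S F) →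
      ∃ w ∈ q.primeCompl, w • y ∈ ((q.comap (algebraMap R S)).map (algebraMap R S)) • K) :
    Module.Flat R (LocalizedModule q.primeCompl (F ⧸ K)) := by
  have hS : IsNoetherianRing S := Algebra.FiniteType.isNoetherianRing R S
  set p : Ideal R := q.comap (algebraMap R S) with hp
  have hpprime : p.IsPrime := Ideal.comap_isPrime _ _
  obtain ⟨f, hfp, hf⟩ := Groth.Agent.H76.FlatLocusNoeth.exists_flat_quotient_localized
    (S := S) (M := F ⧸ K) p
  have hfq : algebraMap R S f ∉ q := hfp
  haveI : Module.Flat (R ⧸ p) ((R ⧸ p) ⊗[R] LocalizedModule q.primeCompl (F ⧸ K)) :=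
    hf q.primeCompl hfq
  apply Groth.Agent.Lib.Helper71.FibreCritNoeth.flat_of_rTensor_injective (A := R) p
    (B := Localization.AtPrime q) (LocalizedModule q.primeCompl (F ⧸ K))
  · rw [IsLocalRing.jacobson_eq_maximalIdeal ⊥ bot_ne_top, Ideal.map_le_iff_le_comap]
    intro r hr
    rw [Ideal.mem_comap, IsScalarTower.algebraMap_apply R S (Localization.AtPrime q),
      IsLocalization.AtPrime.to_map_mem_maximal_iff (Localization.AtPrime q) q]
    exact hr
  · apply Groth.Agent.H76.LocalCritPow.rTensor_injective_of_lTensor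
    rw [Groth.Agent.H76.FlatLocal.lTensor_localized_injective_iff]
    intro z hz
    exact torsion_of_exists_smul_mem p K q.primeCompl h z hz

end Noeth

end Groth.Agent.H76.FlatPresent
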