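import Mathlib
import Groth.Agent.H76.FlatPresent
import Groth.Agent.H76.FlatKernel

/-!
# Local descent of flatness to a finitely generated subring (helper76)

Stacks 00R6 / 02JO, EGA IV 11.2.6, for cokernels of polynomial matrices.
-/

set_option autoImplicit false
universe u

open TensorProduct Groth.Agent.H76.FlatKernel

namespace Groth.Agent.H76.FlatDescentLocal

section B1

variable {σ κ ι : Type*} [Fintype κ] [Finite ι]
variable {A₁ A₂ : Type*} [CommRing A₁] [CommRing A₂] (φ : A₁ →+* A₂)
  (q₂ : Ideal (MvPolynomial σ A₂)) [q₂.IsPrime]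

/-- The extension to `A[x]` of the contraction of `q` to `A`. -/
noncomputable abbrev baseIdeal {A : Type*} [CommRing A] (q : Ideal (MvPolynomial σ A)) :
    Ideal (MvPolynomial σ A) :=
  Ideal.map (MvPolynomial.C : A →+* MvPolynomial σ A)
    (q.comap (MvPolynomial.C : A →+* MvPolynomial σ A))

/-- The vectors `x` for which `c x` lies in `J K` up to the complement of `q`. -/
noncomputable def good {A : Type*} [CommRing A] (q : Ideal (MvPolynomial σ A)) [q.IsPrime]
    (J : Ideal (MvPolynomial σ A)) (c : κ → ι → MvPolynomial σ A) :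
    Submodule (MvPolynomial σ A) (κ → MvPolynomial σ A) where
  carrier := {x | ∃ w ∈ q.primeCompl, w • matMap c x ∈
    J • Submodule.span (MvPolynomial σ A) (Set.range c)}
  add_mem' := by
    rintro x y ⟨w₁, hw₁, h1⟩ ⟨w₂, hw₂, h2⟩
    refine ⟨w₁ * w₂, q.primeCompl.mul_mem hw₁ hw₂, ?_⟩
    rw [map_add, smul_add, mul_comm w₁ w₂, mul_smul, mul_comm w₂ w₁, mul_smul]
    exact Submodule.add_mem _ (Submodule.smul_mem _ _ h1) (Submodule.smul_mem _ _ h2)
  zero_mem' := ⟨1, q.primeCompl.one_mem, by simp⟩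
  smul_mem' := by
    rintro a x ⟨w, hw, h⟩
    refine ⟨w, hw, ?_⟩
    rw [map_smul, smul_comm]
    exact Submodule.smul_mem _ _ h

theorem mem_good {A : Type*} [CommRing A] (q : Ideal (MvPolynomial σ A)) [q.IsPrime]
    (J : Ideal (MvPolynomial σ A)) (c : κ → ι → MvPolynomial σ A) (x : κ → MvPolynomial σ A) :
    x ∈ good q J c ↔ ∃ w ∈ q.primeCompl, w • matMap c x ∈
      J • Submodule.span (MvPolynomial σ A) (Set.range c) := Iff.rfl

/-- Verification of the Tor-condition at the second stage. -/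
theorem exists_smul_mem_stage (c₁ : κ → ι → MvPolynomial σ A₁)
    (gens : Set (κ → MvPolynomial σ A₁))
    (hspan : kerMod ((q₂.comap (MvPolynomial.C : A₂ →+* MvPolynomial σ A₂)).comap φ) c₁ ≤
      Submodule.span (MvPolynomial σ A₁) gens)
    (hgen : ∀ u ∈ gens, vmap φ u ∈
      good q₂ (baseIdeal q₂) (cmap φ c₁))
    (y : ι → MvPolynomial σ A₂)
    (hyK : y ∈ Submodule.span (MvPolynomial σ A₂) (Set.range (cmap φ c₁)))
    (hyJ : y ∈ baseIdeal q₂ •
      (⊤ : Submodule (MvPolynomial σ A₂) (ι → MvPolynomial σ A₂))) :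
    ∃ w ∈ q₂.primeCompl, w • y ∈
      baseIdeal q₂ • Submodule.span (MvPolynomial σ A₂) (Set.range (cmap φ c₁)) := by
  set p₂ : Ideal A₂ := q₂.comap (MvPolynomial.C : A₂ →+* MvPolynomial σ A₂) with hp₂
  haveI : p₂.IsPrime := Ideal.comap_isPrime _ _
  set J₂ := Ideal.map (MvPolynomial.C : A₂ →+* MvPolynomial σ A₂) p₂ with hJ₂
  rw [← Fintype.range_linearCombination] at hyK
  obtain ⟨x, rfl⟩ := hyK
  obtain ⟨d, hd, hdx⟩ := exists_smul_mem_span_of_matMap_mem φ p₂ c₁ x hyJ
  have hT : Submodule.span (MvPolynomial σ A₂) (vmap φ '' (kerMod (p₂.comap φ) c₁ : Set _)) ⊔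
      J₂ • (⊤ : Submodule (MvPolynomial σ A₂) (κ → MvPolynomial σ A₂)) ≤
        good q₂ J₂ (cmap φ c₁) := by
    apply sup_le
    · rw [Submodule.span_le]
      rintro _ ⟨u, hu, rfl⟩
      have hu' := hspan hu
      clear hu
      induction hu' using Submodule.span_induction with
      | mem u hu => exact hgen u hu
      | zero => rw [vmap_zero]; exact Submodule.zero_mem _
      | add u v _ _ hu hv => rw [vmap_add]; exact Submodule.add_mem _ hu hv
      | smul a u _ hu => rw [vmap_smul]; exact Submodule.smul_mem _ _ hu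
    · intro x hx
      rw [mem_smul_top_pi] at hx
      refine ⟨1, q₂.primeCompl.one_mem, ?_⟩
      rw [one_smul]
      show Fintype.linearCombination _ _ x ∈ _
      rw [Fintype.linearCombination_apply]
      refine Submodule.sum_mem _ fun j _ => ?_
      exact Submodule.smul_mem_smul (hx j) (Submodule.subset_span ⟨j, rfl⟩)
  obtain ⟨w, hw, hwx⟩ := hT hdx
  refine ⟨w * MvPolynomial.C d, q₂.primeCompl.mul_mem hw hd, ?_⟩
  rw [map_smul, smul_smul] at hwx
  exact hwx

end B1

section B2

variable {A : Type u} [CommRing A] [IsNoetherianRing A] {n b : ℕ} {κ : Type} [Fintype κ]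

/-- Flatness at a Noetherian stage from the Tor-condition. -/
theorem flat_stage (c : κ → Fin b → MvPolynomial (Fin n) A) (q : Ideal (MvPolynomial (Fin n) A))
    [q.IsPrime]
    (h : ∀ y ∈ Submodule.span (MvPolynomial (Fin n) A) (Set.range c),
      y ∈ baseIdeal q • (⊤ : Submodule (MvPolynomial (Fin n) A) (Fin b → MvPolynomial (Fin n) A)) →
      ∃ w ∈ q.primeCompl, w • y ∈
        baseIdeal q • Submodule.span (MvPolynomial (Fin n) A) (Set.range c)) :
    Module.Flat A (LocalizedModule q.primeCompl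
      ((Fin b → MvPolynomial (Fin n) A) ⧸
        Submodule.span (MvPolynomial (Fin n) A) (Set.range c))) :=
  Groth.Agent.H76.FlatPresent.flat_localized_quotient_of_exists_smul_mem
    (R := A) (S := MvPolynomial (Fin n) A) (F := Fin b → MvPolynomial (Fin n) A) _ q h

end B2

section Aux

variable {σ κ ι : Type*} [Fintype κ]

theorem matMap_mem_smul_span {A : Type*} [CommRing A] (J : Ideal (MvPolynomial σ A))
    (c : κ → ι → MvPolynomial σ A) (x : κ → MvPolynomial σ A) (hx : ∀ j, x j ∈ J) :
    matMap c x ∈ J • Submodule.span (MvPolynomial σ A) (Set.range c) := by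
  show Fintype.linearCombination _ _ x ∈ _
  rw [Fintype.linearCombination_apply]
  refine Submodule.sum_mem _ fun j _ => ?_
  exact Submodule.smul_mem_smul (hx j) (Submodule.subset_span ⟨j, rfl⟩)

theorem map_mem_map_C {A B : Type*} [CommRing A] [CommRing B] (ρ : A →+* B) (I : Ideal A)
    (I' : Ideal B) (h : I ≤ I'.comap ρ) (f : MvPolynomial σ A)
    (hf : f ∈ Ideal.map (MvPolynomial.C : A →+* MvPolynomial σ A) I) :
    MvPolynomial.map ρ f ∈ Ideal.map (MvPolynomial.C : B →+* MvPolynomial σ B) I' := by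
  rw [MvPolynomial.mem_map_C_iff] at hf ⊢
  intro m
  rw [MvPolynomial.coeff_map]
  exact h (hf m)

theorem mem_map_C_of_map_mem {A B : Type*} [CommRing A] [CommRing B] (ρ : A →+* B) (I : Ideal A)
    (I' : Ideal B) (h : I'.comap ρ ≤ I) (f : MvPolynomial σ A)
    (hf : MvPolynomial.map ρ f ∈ Ideal.map (MvPolynomial.C : B →+* MvPolynomial σ B) I') :
    f ∈ Ideal.map (MvPolynomial.C : A →+* MvPolynomial σ A) I := by
  rw [MvPolynomial.mem_map_C_iff] at hf ⊢
  intro m
  have := hf m
  rw [MvPolynomial.coeff_map] at this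
  exact h this

theorem vmap_injective {A B : Type*} [CommRing A] [CommRing B] (ρ : A →+* B)
    (hρ : Function.Injective ρ) {κ : Type*} :
    Function.Injective (vmap (σ := σ) (κ := κ) ρ) := by
  intro v w h
  ext j : 1
  exact MvPolynomial.map_injective ρ hρ (congrFun h j)

theorem comap_C_comap_map {A B : Type*} [CommRing A] [CommRing B] (ρ : A →+* B)
    (q : Ideal (MvPolynomial σ B)) :
    (q.comap (MvPolynomial.map ρ)).comap (MvPolynomial.C : A →+* MvPolynomial σ A) =
      (q.comap (MvPolynomial.C : B →+* MvPolynomial σ B)).comap ρ := by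
  ext a
  simp only [Ideal.mem_comap, MvPolynomial.map_C]

end Aux

section Stage

variable {R : Type u} [CommRing R]

/-- The stage ring: the subring generated by a finite set. -/
abbrev Stg (s : Finset R) : Subalgebra ℤ R := Algebra.adjoin ℤ (s : Set R)

instance (s : Finset R) : Algebra.FiniteType ℤ (Stg s) :=
  (Subalgebra.fg_iff_finiteType _).mp (Subalgebra.fg_adjoin_finset s)

instance (s : Finset R) : IsNoetherianRing (Stg s) := Algebra.FiniteType.isNoetherianRing ℤ _

theorem algebraMap_stg_injective (s : Finset R) : Function.Injective (algebraMap (Stg s) R) :=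
  Subtype.val_injective

theorem exists_map_eq (s : Finset R) {σ : Type*} (f : MvPolynomial σ R)
    (hf : f.coeffs ⊆ s) :
    ∃ f₁ : MvPolynomial σ (Stg s), MvPolynomial.map (algebraMap (Stg s) R) f₁ = f := by
  have : f ∈ Set.range (MvPolynomial.map (algebraMap (Stg s) R)) := by
    rw [MvPolynomial.mem_range_map_iff_coeffs_subset]
    intro x hx
    exact ⟨⟨x, Algebra.subset_adjoin (hf hx)⟩, rfl⟩
  exact this

/-- Inclusion of stages. -/
noncomputable def stgIncl {s₁ s₂ : Finset R} (h : s₁ ⊆ s₂) : Stg s₁ →+* Stg s₂ :=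
  (Subalgebra.inclusion (Algebra.adjoin_mono (by exact_mod_cast h))).toRingHom

theorem algebraMap_comp_stgIncl {s₁ s₂ : Finset R} (h : s₁ ⊆ s₂) :
    (algebraMap (Stg s₂) R).comp (stgIncl h) = algebraMap (Stg s₁) R := by
  ext x; rfl

/-- **Local descent of flatness.** If the cokernel of a polynomial matrix `c` over `R[x]` is flat
over `R` at a prime `q`, the same holds over a finitely generated subring (stage) containing any
given finite set. -/
theorem exists_stage_flat {n a b : ℕ} (c : Fin a → Fin b → MvPolynomial (Fin n) R)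
    (q : Ideal (MvPolynomial (Fin n) R)) [q.IsPrime]
    [hflat : Module.Flat R (LocalizedModule q.primeCompl ((Fin b → MvPolynomial (Fin n) R) ⧸
      Submodule.span (MvPolynomial (Fin n) R) (Set.range c)))]
    (s₀ : Finset R) :
    ∃ s : Finset R, s₀ ⊆ s ∧ ∃ c' : Fin a → Fin b → MvPolynomial (Fin n) (Stg s),
      cmap (algebraMap (Stg s) R) c' = c ∧
      Module.Flat (Stg s)
        (LocalizedModule (q.comap (MvPolynomial.map (algebraMap (Stg s) R))).primeCompl
          ((Fin b → MvPolynomial (Fin n) (Stg s)) ⧸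
            Submodule.span (MvPolynomial (Fin n) (Stg s)) (Set.range c'))) := by
  classical
  -- Stage 1
  set s₁ : Finset R := s₀ ∪ Finset.univ.biUnion
    (fun j => Finset.univ.biUnion (fun i => (c j i).coeffs)) with hs₁
  have hc₁ : ∀ j i, ∃ f : MvPolynomial (Fin n) (Stg s₁),
      MvPolynomial.map (algebraMap (Stg s₁) R) f = c j i := by
    intro j i
    apply exists_map_eq
    intro x hx
    rw [hs₁]
    apply Finset.mem_union_right
    simp only [Finset.mem_biUnion, Finset.mem_univ, true_and]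
    exact ⟨j, i, hx⟩
  choose c₁ hc₁ using hc₁
  have hcc₁ : cmap (algebraMap (Stg s₁) R) c₁ = c := by
    ext j i : 2
    exact hc₁ j i
  set ι₁ := algebraMap (Stg s₁) R with hι₁
  set p : Ideal R := q.comap (MvPolynomial.C : R →+* MvPolynomial (Fin n) R) with hp
  set q₁ := q.comap (MvPolynomial.map ι₁) with hq₁
  set p₁ : Ideal (Stg s₁) := q₁.comap (MvPolynomial.C : Stg s₁ →+* MvPolynomial (Fin n) (Stg s₁))
    with hp₁
  have hp₁p : p₁ = p.comap ι₁ := comap_C_comap_map ι₁ q
  obtain ⟨m, g, hg⟩ := Submodule.fg_iff_exists_fin_generating_family.mp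
    (IsNoetherian.noetherian (kerMod p₁ c₁))
  have hstep : ∀ l : Fin m, ∃ w ∈ q.primeCompl, ∃ t : Fin a → MvPolynomial (Fin n) R,
      (∀ j, t j ∈ Ideal.map (MvPolynomial.C : R →+* MvPolynomial (Fin n) R) p) ∧
        w • matMap c (vmap ι₁ (g l)) = matMap c t := by
    intro l
    have hgl : g l ∈ kerMod p₁ c₁ := hg ▸ Submodule.subset_span ⟨l, rfl⟩
    have hyK : matMap c (vmap ι₁ (g l)) ∈
        Submodule.span (MvPolynomial (Fin n) R) (Set.range c) := by
      rw [← Fintype.range_linearCombination]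
      exact ⟨_, rfl⟩
    have hyI : matMap c (vmap ι₁ (g l)) ∈
        (p.map (algebraMap R (MvPolynomial (Fin n) R))) •
          (⊤ : Submodule (MvPolynomial (Fin n) R) (Fin b → MvPolynomial (Fin n) R)) := by
      rw [← hcc₁, ← vmap_matMap, mem_smul_top_pi]
      intro i
      have h1 := Submodule.mem_comap.mp hgl
      rw [mem_smul_top_pi] at h1
      exact map_mem_map_C ι₁ p₁ p hp₁p.le _ (h1 i)
    obtain ⟨w, hw, hwy⟩ := Groth.Agent.H76.FlatPresent.exists_smul_mem_of_flat p
      (Submodule.span (MvPolynomial (Fin n) R) (Set.range c)) q.primeCompl _ hyK hyI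
    rw [Submodule.mem_ideal_smul_span_iff_exists_sum] at hwy
    obtain ⟨t, ht, hsum⟩ := hwy
    refine ⟨w, hw, t, ht, ?_⟩
    rw [← hsum, Finsupp.sum_fintype _ _ (fun _ => by rw [zero_smul])]
    show _ = Fintype.linearCombination _ _ _
    rw [Fintype.linearCombination_apply]
  choose w hw t ht hwt using hstep
  -- Stage 2
  set s₂ : Finset R := s₁ ∪ (Finset.univ.biUnion (fun l => (w l).coeffs) ∪
    Finset.univ.biUnion (fun l => Finset.univ.biUnion (fun j => (t l j).coeffs))) with hs₂
  have h12 : s₁ ⊆ s₂ := Finset.subset_union_left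
  have hw₂ : ∀ l, ∃ f : MvPolynomial (Fin n) (Stg s₂),
      MvPolynomial.map (algebraMap (Stg s₂) R) f = w l := by
    intro l
    apply exists_map_eq
    intro x hx
    rw [hs₂]
    apply Finset.mem_union_right
    apply Finset.mem_union_left
    simp only [Finset.mem_biUnion, Finset.mem_univ, true_and]
    exact ⟨l, hx⟩
  have ht₂ : ∀ l j, ∃ f : MvPolynomial (Fin n) (Stg s₂),
      MvPolynomial.map (algebraMap (Stg s₂) R) f = t l j := by
    intro l j
    apply exists_map_eq
    intro x hx
    rw [hs₂]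
    apply Finset.mem_union_right
    apply Finset.mem_union_right
    simp only [Finset.mem_biUnion, Finset.mem_univ, true_and]
    exact ⟨l, j, hx⟩
  choose w₂ hw₂ using hw₂
  choose t₂ ht₂ using ht₂
  set ι₂ := algebraMap (Stg s₂) R with hι₂
  have hι₂inj : Function.Injective ι₂ := algebraMap_stg_injective s₂
  set φ : Stg s₁ →+* Stg s₂ := stgIncl h12 with hφ
  have hφι : ι₂.comp φ = ι₁ := algebraMap_comp_stgIncl h12
  set q₂ := q.comap (MvPolynomial.map ι₂) with hq₂
  have hcc₂ : cmap ι₂ (cmap φ c₁) = c := by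
    rw [← hcc₁]
    ext j i : 2
    simp only [cmap_apply, MvPolynomial.map_map, hφι]
  refine ⟨s₂, (Finset.subset_union_left).trans h12, cmap φ c₁, hcc₂, ?_⟩
  apply flat_stage
  intro y hyK hyJ
  have hp₂p : q₂.comap (MvPolynomial.C : Stg s₂ →+* MvPolynomial (Fin n) (Stg s₂)) = p.comap ι₂ :=
    comap_C_comap_map ι₂ q
  apply exists_smul_mem_stage φ q₂ c₁ (Set.range g) ?_ ?_ y hyK hyJ
  · have : (q₂.comap (MvPolynomial.C : Stg s₂ →+* MvPolynomial (Fin n) (Stg s₂))).comap φ = p₁ := by
      rw [hp₂p, hp₁p, Ideal.comap_comap, hφι]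
    rw [this, hg]
  · rintro _ ⟨l, rfl⟩
    refine ⟨w₂ l, ?_, ?_⟩
    · show w₂ l ∉ q₂
      rw [hq₂, Ideal.mem_comap, hw₂]
      exact hw l
    · have heq : w₂ l • matMap (cmap φ c₁) (vmap φ (g l)) = matMap (cmap φ c₁) (t₂ l) := by
        apply vmap_injective ι₂ hι₂inj
        rw [vmap_smul, vmap_matMap, vmap_matMap, hcc₂, vmap_vmap, hφι, hw₂]
        have : vmap ι₂ (t₂ l) = t l := funext fun j => ht₂ l j
        rw [this]
        exact hwt l
      rw [heq]
      apply matMap_mem_smul_span
      intro j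
      apply mem_map_C_of_map_mem ι₂ _ p hp₂p.ge
      rw [ht₂]
      exact ht l j

end Stage

end Groth.Agent.H76.FlatDescentLocal
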