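import Mathlib
import Groth.Agent.H76.FlatLocal

/-!
# Base change of flatness of localized modules (helper76)

* `flat_localized_of_isLocalizedModule_of_le`
* `flat_localized_baseChange`: for a pushout square `A₁ → A₂`, `A₁ → P₁`, `P₂ = A₂ ⊗ P₁`, a
  `P₁`-module `M₁` with base change `M₂ = P₂ ⊗ M₁`: if `W₁⁻¹ M₁` is flat over `A₁` then
  `W₂⁻¹ M₂` is flat over `A₂` whenever `W₂` contains the image of `W₁`.
* `isBaseChange_coker`: cokernels of matrices commute with base change.
-/

set_option autoImplicit false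
universe u

open TensorProduct

namespace Groth.Agent.H76.FlatBaseChange

section Loc

variable {R S M M' : Type*} [CommRing R] [CommRing S] [Algebra R S] [AddCommGroup M] [Module R M]
  [Module S M] [IsScalarTower R S M] [AddCommGroup M'] [Module R M'] [Module S M']
  [IsScalarTower R S M'] (W : Submonoid S) (f : M →ₗ[S] M') [IsLocalizedModule W f]

include f in
/-- Version of `FlatLocal.lTensor_localized_injective_iff` for an arbitrary localization map. -/
theorem lTensor_injective_iff {X Y : Type*} [AddCommGroup X] [Module R X]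
    [AddCommGroup Y] [Module R Y] (u : X →ₗ[R] Y) :
    Function.Injective (u.lTensor M') ↔
      ∀ z : M ⊗[R] X, u.lTensor M z = 0 → ∃ w ∈ W, w • z = 0 := by
  have h := Groth.Agent.H76.FlatLocal.map_injective_iff W
    (AlgebraTensorModule.rTensor R X f) (AlgebraTensorModule.rTensor R Y f)
    (AlgebraTensorModule.lTensor S M u)
  rw [IsLocalizedModule.map_lTensor] at h
  exact h

include f in
/-- If some localization of `M` at `W` is flat over `R`, so is the localization at any larger
submonoid. -/
theorem flat_localized_of_isLocalizedModule_of_le [Module.Flat R M'] {W' : Submonoid S}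
    (hle : W ≤ W') : Module.Flat R (LocalizedModule W' M) := by
  rw [Groth.Agent.H76.FlatLocal.flat_localized_iff]
  intro I _ z hz
  obtain ⟨w, hw, hwz⟩ := (lTensor_injective_iff W f I.subtype).mp
    (Module.Flat.lTensor_preserves_injective_linearMap I.subtype Subtype.val_injective) z hz
  exact ⟨w, hle hw, hwz⟩

include f in
/-- Flatness of one localization is equivalent to flatness of the standard one. -/
theorem flat_iff_flat_localized : Module.Flat R M' ↔ Module.Flat R (LocalizedModule W M) := by
  constructor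
  · intro h
    exact flat_localized_of_isLocalizedModule_of_le W f le_rfl
  · intro h
    rw [Module.Flat.iff_lTensor_injective]
    intro I hI
    rw [lTensor_injective_iff W f]
    intro z hz
    exact Groth.Agent.H76.FlatLocal.exists_smul_eq_zero_of_flat W I.subtype
      Subtype.val_injective z hz

end Loc

section Surj

variable {P S M : Type*} [CommRing P] [CommRing S] [Algebra P S] [AddCommGroup M] [Module P M]
  [Module S M] [IsScalarTower P S M]

/-- For a surjection `P → S`, localizing an `S`-module at a prime `q` of `S` is the same as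
localizing it as a `P`-module at the preimage of `q`. -/
theorem isLocalizedModule_restrictScalars_of_surjective
    (hf : Function.Surjective (algebraMap P S)) (q : Ideal S) [q.IsPrime] :
    IsLocalizedModule (q.comap (algebraMap P S)).primeCompl
      ((LocalizedModule.mkLinearMap q.primeCompl M).restrictScalars P) := by
  have hW : Algebra.algebraMapSubmonoid S (q.comap (algebraMap P S)).primeCompl =
      q.primeCompl := by
    ext x
    constructor
    · rintro ⟨y, hy, rfl⟩
      exact hy
    · intro hx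
      obtain ⟨y, rfl⟩ := hf x
      exact ⟨y, hx, rfl⟩
  haveI : IsLocalizedModule (Algebra.algebraMapSubmonoid S (q.comap (algebraMap P S)).primeCompl)
      (LocalizedModule.mkLinearMap q.primeCompl M) := by
    rw [hW]; infer_instance
  exact IsLocalizedModule.restrictScalars _ _

end Surj

section LTensor

variable {A M M' : Type*} [CommRing A] [AddCommGroup M] [Module A M] [AddCommGroup M']
  [Module A M'] (S : Submonoid A) (g : M →ₗ[A] M') [IsLocalizedModule S g]
  (Q : Type*) [AddCommGroup Q] [Module A Q]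

/-- `Q ⊗ S⁻¹M = S⁻¹(Q ⊗ M)`. -/
theorem isLocalizedModule_lTensor : IsLocalizedModule S (g.lTensor Q) := by
  have h1 : IsLocalizedModule S (AlgebraTensorModule.rTensor A Q g) := inferInstance
  have h2 : g.lTensor Q = (TensorProduct.comm A M' Q).toLinearMap ∘ₗ
      (AlgebraTensorModule.rTensor A Q g) ∘ₗ (TensorProduct.comm A Q M).toLinearMap := by
    ext q m
    simp
  rw [h2]
  have : IsLocalizedModule S ((AlgebraTensorModule.rTensor A Q g) ∘ₗ
      (TensorProduct.comm A Q M).toLinearMap) := IsLocalizedModule.of_linearEquiv_right S _ _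
  exact IsLocalizedModule.of_linearEquiv S _ _

end LTensor

section BC

variable {A₁ A₂ P₁ P₂ M₁ M₂ : Type*} [CommRing A₁] [CommRing A₂] [CommRing P₁] [CommRing P₂]
  [Algebra A₁ A₂] [Algebra A₁ P₁] [Algebra A₂ P₂] [Algebra P₁ P₂] [Algebra A₁ P₂]
  [IsScalarTower A₁ A₂ P₂] [IsScalarTower A₁ P₁ P₂] [Algebra.IsPushout A₁ A₂ P₁ P₂]
  [AddCommGroup M₁] [Module P₁ M₁] [Module A₁ M₁] [IsScalarTower A₁ P₁ M₁]
  [AddCommGroup M₂] [Module P₂ M₂] [Module A₂ M₂] [IsScalarTower A₂ P₂ M₂] [Module P₁ M₂]
  [IsScalarTower P₁ P₂ M₂]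

/-- Base change of flatness of a localized module along a pushout square. -/
theorem flat_localized_baseChange (h : M₁ →ₗ[P₁] M₂) (hbc : IsBaseChange P₂ h)
    (W₁ : Submonoid P₁) [Module.Flat A₁ (LocalizedModule W₁ M₁)] (W₂ : Submonoid P₂)
    (hW : Algebra.algebraMapSubmonoid P₂ W₁ ≤ W₂) :
    Module.Flat A₂ (LocalizedModule W₂ M₂) := by
  set N := LocalizedModule W₁ M₁ with hN
  haveI hflat : Module.Flat A₂ (P₂ ⊗[P₁] N) :=
    Module.Flat.of_linearEquiv (Algebra.IsPushout.cancelBaseChange A₁ A₂ P₁ P₂ N)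
  let f' : P₂ ⊗[P₁] M₁ →ₗ[P₂] P₂ ⊗[P₁] N :=
    AlgebraTensorModule.lTensor P₂ P₂ (LocalizedModule.mkLinearMap W₁ M₁)
  haveI h1 : IsLocalizedModule W₁ (f'.restrictScalars P₁) :=
    isLocalizedModule_lTensor W₁ (LocalizedModule.mkLinearMap W₁ M₁) P₂
  haveI h2 : IsLocalizedModule (Algebra.algebraMapSubmonoid P₂ W₁) f' :=
    IsLocalizedModule.of_restrictScalars W₁ f'
  let f : M₂ →ₗ[P₂] P₂ ⊗[P₁] N := f' ∘ₗ hbc.equiv.symm.toLinearMap
  haveI h3 : IsLocalizedModule (Algebra.algebraMapSubmonoid P₂ W₁) f :=
    IsLocalizedModule.of_linearEquiv_right _ f' hbc.equiv.symm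
  exact flat_localized_of_isLocalizedModule_of_le (R := A₂)
    (Algebra.algebraMapSubmonoid P₂ W₁) f hW

end BC

section Coker

variable {P₁ P₂ : Type*} [CommRing P₁] [CommRing P₂] [Algebra P₁ P₂] {κ ι : Type*} [Fintype κ]
  [Finite ι]

/-- The natural map between cokernels of a matrix and its base change. -/
noncomputable def cokerMap (c₁ : κ → ι → P₁) :
    ((ι → P₁) ⧸ Submodule.span P₁ (Set.range c₁)) →ₗ[P₁]
      ((ι → P₂) ⧸ Submodule.span P₂ (Set.range fun j i => algebraMap P₁ P₂ (c₁ j i))) :=
  Submodule.liftQ _ ((Submodule.mkQ _).restrictScalars P₁ ∘ₗ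
    (Algebra.linearMap P₁ P₂).compLeft ι) (by
      rw [Submodule.span_le]
      rintro _ ⟨j, rfl⟩
      simp only [SetLike.mem_coe, LinearMap.mem_ker, LinearMap.coe_comp,
        LinearMap.coe_restrictScalars, Function.comp_apply, Submodule.mkQ_apply,
        Submodule.Quotient.mk_eq_zero]
      exact Submodule.subset_span ⟨j, rfl⟩)

@[simp]
theorem cokerMap_mk (c₁ : κ → ι → P₁) (v : ι → P₁) :
    cokerMap (P₂ := P₂) c₁ (Submodule.Quotient.mk v) =
      Submodule.Quotient.mk (fun i => algebraMap P₁ P₂ (v i)) := rfl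

theorem isBaseChange_cokerMap (c₁ : κ → ι → P₁) : IsBaseChange P₂ (cokerMap (P₂ := P₂) c₁) := by
  have hb₁ : IsBaseChange P₂ ((Algebra.linearMap P₁ P₂).compLeft κ) :=
    IsBaseChange.finitePow κ (IsBaseChange.linearMap P₁ P₂)
  have hb₂ : IsBaseChange P₂ ((Algebra.linearMap P₁ P₂).compLeft ι) :=
    IsBaseChange.finitePow ι (IsBaseChange.linearMap P₁ P₂)
  refine IsBaseChange.of_right_exact P₂ _ _ (cokerMap (P₂ := P₂) c₁)
    (f := Fintype.linearCombination P₁ c₁)
    (g := (Submodule.span P₁ (Set.range c₁)).mkQ)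
    (f' := Fintype.linearCombination P₂ (fun j i => algebraMap P₁ P₂ (c₁ j i)))
    (g' := (Submodule.span P₂ (Set.range fun j i => algebraMap P₁ P₂ (c₁ j i))).mkQ)
    ?_ ?_ hb₁ hb₂ ?_ (Submodule.mkQ_surjective _) ?_ (Submodule.mkQ_surjective _)
  · ext x : 1
    simp only [LinearMap.coe_comp, Function.comp_apply, LinearMap.coe_restrictScalars,
      Fintype.linearCombination_apply]
    ext i
    simp [Algebra.smul_def]
  · ext x : 1
    rfl
  · rw [LinearMap.exact_iff, Submodule.ker_mkQ, Fintype.range_linearCombination]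
  · rw [LinearMap.exact_iff, Submodule.ker_mkQ, Fintype.range_linearCombination]

end Coker

end Groth.Agent.H76.FlatBaseChange
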