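import Mathlib
import Groth.Agent.H76.FlatLocusNoeth
import Groth.Agent.H76.FlatDescentLocal
import Groth.Agent.H76.FlatBaseChange

/-!
# Openness of the flat locus, finitely presented case (helper76)
-/

set_option autoImplicit false
universe u

open TensorProduct Groth.Agent.H76.FlatKernel Groth.Agent.H76.FlatDescentLocal
  Groth.Agent.H76.FlatBaseChange

namespace Groth.Agent.H76.FlatLocusFP

attribute [local instance] MvPolynomial.algebraMvPolynomial

section CmapBC

variable {A₁ A₂ : Type*} [CommRing A₁] [CommRing A₂] [Algebra A₁ A₂] {n a b : ℕ}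

/-- Base change of flatness of a localized matrix cokernel along `A₁ → A₂`. -/
theorem flat_localized_cmap (c₁ : Fin a → Fin b → MvPolynomial (Fin n) A₁)
    (q : Ideal (MvPolynomial (Fin n) A₂)) [q.IsPrime]
    (h : Module.Flat A₁
      (LocalizedModule (q.comap (MvPolynomial.map (algebraMap A₁ A₂))).primeCompl
        ((Fin b → MvPolynomial (Fin n) A₁) ⧸
          Submodule.span (MvPolynomial (Fin n) A₁) (Set.range c₁)))) :
    Module.Flat A₂ (LocalizedModule q.primeCompl ((Fin b → MvPolynomial (Fin n) A₂) ⧸
      Submodule.span (MvPolynomial (Fin n) A₂) (Set.range (cmap (algebraMap A₁ A₂) c₁)))) := by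
  haveI := h
  refine flat_localized_baseChange (A₁ := A₁) (A₂ := A₂) (P₁ := MvPolynomial (Fin n) A₁)
    (P₂ := MvPolynomial (Fin n) A₂) (cokerMap (P₂ := MvPolynomial (Fin n) A₂) c₁)
    (isBaseChange_cokerMap c₁)
    (q.comap (MvPolynomial.map (algebraMap A₁ A₂))).primeCompl q.primeCompl ?_
  rintro _ ⟨y, hy, rfl⟩
  exact hy

end CmapBC

section StageBC

variable {R : Type u} [CommRing R] {n a b : ℕ}

/-- Base change of flatness from a stage to `R`. -/
theorem flat_of_stage_flat (s : Finset R) (c₁ : Fin a → Fin b → MvPolynomial (Fin n) (Stg s))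
    (q : Ideal (MvPolynomial (Fin n) R)) [q.IsPrime]
    (h : Module.Flat (Stg s)
      (LocalizedModule (q.comap (MvPolynomial.map (algebraMap (Stg s) R))).primeCompl
        ((Fin b → MvPolynomial (Fin n) (Stg s)) ⧸
          Submodule.span (MvPolynomial (Fin n) (Stg s)) (Set.range c₁)))) :
    Module.Flat R (LocalizedModule q.primeCompl ((Fin b → MvPolynomial (Fin n) R) ⧸
      Submodule.span (MvPolynomial (Fin n) R) (Set.range (cmap (algebraMap (Stg s) R) c₁)))) := by
  haveI := h
  refine flat_localized_baseChange (A₁ := Stg s) (A₂ := R) (P₁ := MvPolynomial (Fin n) (Stg s))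
    (P₂ := MvPolynomial (Fin n) R) (cokerMap (P₂ := MvPolynomial (Fin n) R) c₁)
    (isBaseChange_cokerMap c₁)
    (q.comap (MvPolynomial.map (algebraMap (Stg s) R))).primeCompl q.primeCompl ?_
  rintro _ ⟨y, hy, rfl⟩
  exact hy

end StageBC

section PolyCoker

variable {R : Type u} [CommRing R] {n a b : ℕ}

/-- Openness of the flat locus for the cokernel of a matrix over a polynomial ring. -/
theorem isOpen_flatLocus_coker (c : Fin a → Fin b → MvPolynomial (Fin n) R) :
    IsOpen {q : PrimeSpectrum (MvPolynomial (Fin n) R) |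
      Module.Flat R (LocalizedModule q.asIdeal.primeCompl ((Fin b → MvPolynomial (Fin n) R) ⧸
        Submodule.span (MvPolynomial (Fin n) R) (Set.range c)))} := by
  rw [isOpen_iff_forall_mem_open]
  intro q hq
  haveI : Module.Flat R (LocalizedModule q.asIdeal.primeCompl
      ((Fin b → MvPolynomial (Fin n) R) ⧸
        Submodule.span (MvPolynomial (Fin n) R) (Set.range c))) := hq
  obtain ⟨s, -, c₁, hc₁, hflat₁⟩ := exists_stage_flat c q.asIdeal ∅
  subst hc₁
  have hopen := Groth.Agent.H76.FlatLocusNoeth.isOpen_flatLocus (R := Stg s)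
    (S := MvPolynomial (Fin n) (Stg s))
    (M := (Fin b → MvPolynomial (Fin n) (Stg s)) ⧸
          Submodule.span (MvPolynomial (Fin n) (Stg s)) (Set.range c₁))
  refine ⟨PrimeSpectrum.comap (MvPolynomial.map (algebraMap (Stg s) R)) ⁻¹' _, ?_,
    hopen.preimage (PrimeSpectrum.continuous_comap _), hflat₁⟩
  intro q' hq'
  exact flat_of_stage_flat s c₁ q'.asIdeal hq'

end PolyCoker

section General

variable {R S M : Type u} [CommRing R] [CommRing S] [Algebra R S]
  [Algebra.FinitePresentation R S] [AddCommGroup M] [Module S M] [Module R M]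
  [IsScalarTower R S M] [Module.FinitePresentation S M]

/-- **Openness of the flat locus** for a finitely presented module over a finitely presented
algebra (Stacks 00RC, EGA IV 11.3.1). -/
theorem isOpen_flatLocus :
    IsOpen {q : PrimeSpectrum S | Module.Flat R (LocalizedModule q.asIdeal.primeCompl M)} := by
  obtain ⟨n, f, hf, hker⟩ := Algebra.FinitePresentation.out (R := R) (A := S)
  letI algPS : Algebra (MvPolynomial (Fin n) R) S := f.toRingHom.toAlgebra
  haveI : IsScalarTower R (MvPolynomial (Fin n) R) S :=
    IsScalarTower.of_algebraMap_eq (fun r => (f.commutes r).symm)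
  letI modPM : Module (MvPolynomial (Fin n) R) M := Module.compHom M f.toRingHom
  haveI : IsScalarTower (MvPolynomial (Fin n) R) S M :=
    IsScalarTower.of_algebraMap_smul (fun _ _ => rfl)
  haveI : IsScalarTower R (MvPolynomial (Fin n) R) M := by
    constructor
    intro r p m
    show f (r • p) • m = r • (f p • m)
    rw [map_smul, smul_assoc]
  have hfsurj : Function.Surjective (algebraMap (MvPolynomial (Fin n) R) S) := hf
  haveI : Module.FinitePresentation (MvPolynomial (Fin n) R) S :=
    Module.finitePresentation_of_surjective (Algebra.linearMap (MvPolynomial (Fin n) R) S)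
      hfsurj hker
  haveI : Module.FinitePresentation (MvPolynomial (Fin n) R) M :=
    Module.FinitePresentation.trans (MvPolynomial (Fin n) R) M S
  obtain ⟨b, K, e, hK⟩ := Module.FinitePresentation.exists_fin (MvPolynomial (Fin n) R) M
  obtain ⟨a, c, hc⟩ := Submodule.fg_iff_exists_fin_generating_family.mp hK
  subst hc
  have hopen := isOpen_flatLocus_coker c
  have hpre : {q : PrimeSpectrum S | Module.Flat R (LocalizedModule q.asIdeal.primeCompl M)} =
      PrimeSpectrum.comap (algebraMap (MvPolynomial (Fin n) R) S) ⁻¹'
        {q : PrimeSpectrum (MvPolynomial (Fin n) R) |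
          Module.Flat R (LocalizedModule q.asIdeal.primeCompl
            ((Fin b → MvPolynomial (Fin n) R) ⧸
              Submodule.span (MvPolynomial (Fin n) R) (Set.range c)))} := by
    ext q
    simp only [Set.mem_setOf_eq, Set.mem_preimage]
    haveI h1 := isLocalizedModule_restrictScalars_of_surjective (M := M) hfsurj q.asIdeal
    haveI h2 : IsLocalizedModule (q.asIdeal.comap (algebraMap (MvPolynomial (Fin n) R) S)).primeCompl
        (((LocalizedModule.mkLinearMap q.asIdeal.primeCompl M).restrictScalars
          (MvPolynomial (Fin n) R)) ∘ₗ e.symm.toLinearMap) :=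
      IsLocalizedModule.of_linearEquiv_right _ _ e.symm
    exact flat_iff_flat_localized (R := R)
      (q.asIdeal.comap (algebraMap (MvPolynomial (Fin n) R) S)).primeCompl
      (((LocalizedModule.mkLinearMap q.asIdeal.primeCompl M).restrictScalars
          (MvPolynomial (Fin n) R)) ∘ₗ e.symm.toLinearMap)
  rw [hpre]
  exact hopen.preimage (PrimeSpectrum.continuous_comap _)

end General

end Groth.Agent.H76.FlatLocusFP
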