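import Mathlib
import Groth.Agent.H76.FlatLocusFP

/-!
# Global descent of flatness to a finitely generated subring (helper76)

If the cokernel of a polynomial matrix over `R[x]` is flat over `R`, then the cokernel of the
same matrix over `R₀[x]` is flat over `R₀` for a suitable finitely generated subring `R₀ ⊆ R`
(Stacks 02JO / EGA IV 11.2.6.1).
-/

set_option autoImplicit false
universe u

open TensorProduct Groth.Agent.H76.FlatKernel Groth.Agent.H76.FlatDescentLocal
  Groth.Agent.H76.FlatBaseChange Groth.Agent.H76.FlatLocusFP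

namespace Groth.Agent.H76.FlatDescentGlobal

attribute [local instance] MvPolynomial.algebraMvPolynomial

variable {R : Type u} [CommRing R] {n a b : ℕ}

/-- Local data at a prime: a stage, a model of the matrix and a function `g` not vanishing at the
prime such that the model is flat on `D(g)`. -/
theorem exists_local_data (c : Fin a → Fin b → MvPolynomial (Fin n) R)
    [hflat : Module.Flat R ((Fin b → MvPolynomial (Fin n) R) ⧸
      Submodule.span (MvPolynomial (Fin n) R) (Set.range c))]
    (q : PrimeSpectrum (MvPolynomial (Fin n) R)) :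
    ∃ (s : Finset R) (c' : Fin a → Fin b → MvPolynomial (Fin n) (Stg s))
      (g : MvPolynomial (Fin n) (Stg s)),
      cmap (algebraMap (Stg s) R) c' = c ∧
      MvPolynomial.map (algebraMap (Stg s) R) g ∉ q.asIdeal ∧
      ∀ r : Ideal (MvPolynomial (Fin n) (Stg s)), ∀ _ : r.IsPrime, g ∉ r →
        Module.Flat (Stg s) (LocalizedModule r.primeCompl
          ((Fin b → MvPolynomial (Fin n) (Stg s)) ⧸
            Submodule.span (MvPolynomial (Fin n) (Stg s)) (Set.range c'))) := by
  haveI : Module.Flat R (LocalizedModule q.asIdeal.primeCompl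
      ((Fin b → MvPolynomial (Fin n) R) ⧸
        Submodule.span (MvPolynomial (Fin n) R) (Set.range c))) :=
    Groth.Agent.Lib.Helper16.GenFlat.flat_of_isLocalizedModule_algebra q.asIdeal.primeCompl
      (LocalizedModule.mkLinearMap _ _)
  obtain ⟨s, -, c', hc', hfl⟩ := exists_stage_flat c q.asIdeal ∅
  have hopen := Groth.Agent.H76.FlatLocusNoeth.isOpen_flatLocus (R := Stg s)
    (S := MvPolynomial (Fin n) (Stg s))
    (M := (Fin b → MvPolynomial (Fin n) (Stg s)) ⧸
          Submodule.span (MvPolynomial (Fin n) (Stg s)) (Set.range c'))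
  let q₁ : PrimeSpectrum (MvPolynomial (Fin n) (Stg s)) :=
    ⟨q.asIdeal.comap (MvPolynomial.map (algebraMap (Stg s) R)), inferInstance⟩
  obtain ⟨_, ⟨g, rfl⟩, hgq, hgU⟩ :=
    PrimeSpectrum.isTopologicalBasis_basic_opens.exists_subset_of_mem_open
      (show q₁ ∈ _ from hfl) hopen
  refine ⟨s, c', g, hc', hgq, fun r hr hgr => ?_⟩
  exact hgU (show (⟨r, hr⟩ : PrimeSpectrum _) ∈ (PrimeSpectrum.basicOpen g : Set _) from hgr)

/-- **Global descent of flatness** for matrix cokernels over polynomial rings. -/
theorem exists_stage_flat_global (c : Fin a → Fin b → MvPolynomial (Fin n) R)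
    [hflat : Module.Flat R ((Fin b → MvPolynomial (Fin n) R) ⧸
      Submodule.span (MvPolynomial (Fin n) R) (Set.range c))]
    (s₀ : Finset R) :
    ∃ s : Finset R, s₀ ⊆ s ∧ ∃ c' : Fin a → Fin b → MvPolynomial (Fin n) (Stg s),
      cmap (algebraMap (Stg s) R) c' = c ∧
      Module.Flat (Stg s) ((Fin b → MvPolynomial (Fin n) (Stg s)) ⧸
        Submodule.span (MvPolynomial (Fin n) (Stg s)) (Set.range c')) := by
  classical
  choose sq cq gq hcq hgq hflq using exists_local_data c
  set G : PrimeSpectrum (MvPolynomial (Fin n) R) → MvPolynomial (Fin n) R :=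
    fun q => MvPolynomial.map (algebraMap (Stg (sq q)) R) (gq q) with hG
  have hspan : Ideal.span (Set.range G) = ⊤ := by
    by_contra hne
    obtain ⟨m, hm, hle⟩ := Ideal.exists_le_maximal _ hne
    exact hgq ⟨m, hm.isPrime⟩ (hle (Ideal.subset_span ⟨_, rfl⟩))
  have h1 : (1 : MvPolynomial (Fin n) R) ∈ Ideal.span (Set.range G) := hspan ▸ Submodule.mem_top
  obtain ⟨coef, hcoef⟩ := Finsupp.mem_span_range_iff_exists_finsupp.mp h1
  set T := coef.support with hT
  set s : Finset R := s₀ ∪ (Finset.univ.biUnion
    (fun j => Finset.univ.biUnion (fun i => (c j i).coeffs)) ∪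
    (T.biUnion sq ∪ T.biUnion (fun q => (coef q).coeffs))) with hs
  have hsq : ∀ q ∈ T, sq q ⊆ s := by
    intro q hq x hx
    rw [hs]
    apply Finset.mem_union_right
    apply Finset.mem_union_right
    apply Finset.mem_union_left
    exact Finset.mem_biUnion.mpr ⟨q, hq, hx⟩
  have hc' : ∀ j i, ∃ f : MvPolynomial (Fin n) (Stg s),
      MvPolynomial.map (algebraMap (Stg s) R) f = c j i := by
    intro j i
    apply exists_map_eq
    intro x hx
    rw [hs]
    apply Finset.mem_union_right
    apply Finset.mem_union_left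
    simp only [Finset.mem_biUnion, Finset.mem_univ, true_and]
    exact ⟨j, i, hx⟩
  choose c' hc' using hc'
  have hcc' : cmap (algebraMap (Stg s) R) c' = c := by
    ext j i : 2
    exact hc' j i
  have hinj : Function.Injective (algebraMap (Stg s) R) := algebraMap_stg_injective s
  -- lifts of the coefficients and of the functions
  have hcoef' : ∀ q, ∃ f : MvPolynomial (Fin n) (Stg s), q ∈ T →
      MvPolynomial.map (algebraMap (Stg s) R) f = coef q := by
    intro q
    by_cases hq : q ∈ T
    · obtain ⟨f, hf⟩ := exists_map_eq s (coef q) (by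
        intro x hx
        rw [hs]
        apply Finset.mem_union_right
        apply Finset.mem_union_right
        apply Finset.mem_union_right
        exact Finset.mem_biUnion.mpr ⟨q, hq, hx⟩)
      exact ⟨f, fun _ => hf⟩
    · exact ⟨0, fun h => absurd h hq⟩
  choose coef' hcoef' using hcoef'
  have hG' : ∀ q, ∃ f : MvPolynomial (Fin n) (Stg s), ∀ hq : q ∈ T,
      f = MvPolynomial.map (stgIncl (hsq q hq)) (gq q) := by
    intro q
    by_cases hq : q ∈ T
    · exact ⟨MvPolynomial.map (stgIncl (hsq q hq)) (gq q), fun _ => rfl⟩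
    · exact ⟨0, fun h => absurd h hq⟩
  choose G' hG' using hG'
  have hGG' : ∀ q ∈ T, MvPolynomial.map (algebraMap (Stg s) R) (G' q) = G q := by
    intro q hq
    rw [hG' q hq, MvPolynomial.map_map, algebraMap_comp_stgIncl]
  have hone : ∑ q ∈ T, coef' q * G' q = 1 := by
    apply MvPolynomial.map_injective _ hinj
    rw [map_sum, map_one, ← hcoef, Finsupp.sum]
    refine Finset.sum_congr rfl fun q hq => ?_
    rw [map_mul, hcoef' q hq, hGG' q hq, smul_eq_mul]
  refine ⟨s, Finset.subset_union_left, c', hcc', ?_⟩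
  refine Module.flat_of_isLocalized_maximal (MvPolynomial (Fin n) (Stg s)) _
    (fun P _ => LocalizedModule P.primeCompl _) (fun P _ => LocalizedModule.mkLinearMap _ _) ?_
  intro r hr
  haveI hrp : r.IsPrime := hr.isPrime
  -- some `G' q` is outside `r`
  have hex : ∃ q ∈ T, G' q ∉ r := by
    by_contra hcon
    push_neg at hcon
    have : (1 : MvPolynomial (Fin n) (Stg s)) ∈ r := by
      rw [← hone]
      exact r.sum_mem fun q hq => r.mul_mem_left _ (hcon q hq)
    exact hrp.ne_top ((Ideal.eq_top_iff_one r).mpr this)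
  obtain ⟨q, hq, hGq⟩ := hex
  letI : Algebra (Stg (sq q)) (Stg s) := (stgIncl (hsq q hq)).toAlgebra
  have halg : algebraMap (Stg (sq q)) (Stg s) = stgIncl (hsq q hq) :=
    RingHom.algebraMap_toAlgebra _
  have hgr : gq q ∉ r.comap (MvPolynomial.map (algebraMap (Stg (sq q)) (Stg s))) := by
    rw [Ideal.mem_comap, halg, ← hG' q hq]
    exact hGq
  have hfl := hflq q _ (Ideal.comap_isPrime _ _) hgr
  have hbc := flat_localized_cmap (cq q) r hfl
  have hceq : cmap (algebraMap (Stg (sq q)) (Stg s)) (cq q) = c' := by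
    ext j i : 2
    apply MvPolynomial.map_injective _ hinj
    rw [hc', cmap_apply, halg, MvPolynomial.map_map, algebraMap_comp_stgIncl]
    exact congrFun (congrFun (hcq q) j) i
  rw [hceq] at hbc
  exact hbc

end Groth.Agent.H76.FlatDescentGlobal
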