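import Mathlib
import Groth.Agent.H46.LimSmooth
import Groth.Agent.Lib.Helper71.FlatColim

/-!
# Descent of flat morphisms through cofiltered limits (helper76)

Ring level: along an `AlgPathSystem` (helper48), flatness of a finitely presented module over the
colimit descends to a stage.  Scheme level: plug into helper46's `LimSmooth` framework.
-/

set_option autoImplicit false
universe u

open CategoryTheory Limits AlgebraicGeometry TensorProduct

namespace Groth.Agent.H76.LimFlat

open Groth.Agent.Lib.Helper48 Groth.Agent.H76.FlatKernel Groth.Agent.H76.FlatDescentLocal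
  Groth.Agent.H76.FlatDescentGlobal Groth.Agent.Lib.Helper71.FlatColim

section Ring

variable {ι : Type*} {R : Type u} [CommRing R] {T : ι → Type u}
  [∀ i, CommRing (T i)] [∀ i, Algebra R (T i)] {L : Type u} [CommRing L] [Algebra R L]
  {γ : ∀ i, T i →ₐ[R] L} {Tr : ∀ i j, (T i →ₐ[R] T j) → Prop}

/-- Restriction of scalars to `ℤ` of an `AlgPathSystem`. -/
theorem restrictScalarsInt (h : AlgPathSystem R T L γ Tr) :
    AlgPathSystem ℤ T L (fun i => (γ i).restrictScalars ℤ)
      (fun i j φ' => ∃ φ, Tr i j φ ∧ φ' = φ.restrictScalars ℤ) where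
  comp_eq := by
    rintro i j _ ⟨φ, hφ, rfl⟩
    ext x
    exact congr($(h.comp_eq hφ) x)
  trans := by
    rintro i j k _ _ ⟨φ, hφ, rfl⟩ ⟨ψ, hψ, rfl⟩
    exact ⟨ψ.comp φ, h.trans hφ hψ, rfl⟩
  dir := fun i j => by
    obtain ⟨k, φ, ψ, hφ, hψ⟩ := h.dir i j
    exact ⟨k, _, _, ⟨φ, hφ, rfl⟩, ⟨ψ, hψ, rfl⟩⟩
  surj := h.surj
  ker := fun i x hx => by
    obtain ⟨j, φ, hφ, hj⟩ := h.ker i x hx
    exact ⟨j, _, ⟨φ, hφ, rfl⟩, hj⟩

/-- Polynomials over a stage which agree over the colimit agree at a later stage. -/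
theorem exists_stage_forall_map_eq (h : AlgPathSystem R T L γ Tr) {κ σ : Type*} [Finite κ] {i : ι}
    (p q : κ → MvPolynomial σ (T i))
    (hpq : ∀ k, MvPolynomial.map (γ i).toRingHom (p k) = MvPolynomial.map (γ i).toRingHom (q k)) :
    ∃ j φ, Tr i j φ ∧ ∀ k, MvPolynomial.map φ.toRingHom (p k) =
      MvPolynomial.map φ.toRingHom (q k) := by
  classical
  have := Fintype.ofFinite κ
  obtain ⟨j, φ, hφ, hj⟩ := h.kill_finset i
    (Finset.univ.biUnion fun k => (p k - q k).coeffs) (by
      intro x hx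
      obtain ⟨k, -, hk⟩ := Finset.mem_biUnion.mp hx
      obtain ⟨m, -, rfl⟩ := MvPolynomial.mem_coeffs_iff.mp hk
      have := MvPolynomial.coeff_map (γ i).toRingHom (p k - q k) m
      rw [map_sub, hpq k, sub_self, MvPolynomial.coeff_zero] at this
      exact this.symm)
  refine ⟨j, φ, hφ, fun k => ?_⟩
  rw [← sub_eq_zero, ← map_sub]
  ext m
  rw [MvPolynomial.coeff_map, MvPolynomial.coeff_zero]
  by_cases hm : m ∈ (p k - q k).support
  · exact hj _ (Finset.mem_biUnion.mpr ⟨k, Finset.mem_univ k,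
      MvPolynomial.coeff_mem_coeffs _ (MvPolynomial.mem_support_iff.mp hm)⟩)
  · rw [MvPolynomial.notMem_support_iff.mp hm, map_zero]

/-- **Flatness descends to a stage** along an `AlgPathSystem`. -/
theorem exists_flat (h : AlgPathSystem R T L γ Tr)
    (B₀ : Type u) [CommRing B₀] [Algebra R B₀] [Algebra.FinitePresentation R B₀]
    (M₀ : Type u) [AddCommGroup M₀] [Module B₀ M₀] [Module R M₀] [IsScalarTower R B₀ M₀]
    [Module.FinitePresentation B₀ M₀]
    (hL : Module.Flat L (L ⊗[R] M₀)) :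
    ∃ i, Module.Flat (T i) (T i ⊗[R] M₀) := by
  classical
  obtain ⟨i₀, -, -⟩ := h.surj 0
  obtain ⟨n, a, b, c₀, ⟨e⟩⟩ := exists_presentation (A₀ := R) B₀ M₀
  have h1 : Module.Flat L (Coker (cmap (algebraMap R L) c₀)) :=
    (flat_coker_iff L c₀ M₀ e).mp hL
  obtain ⟨s, -, c', hc', hfl⟩ := exists_stage_flat_global (cmap (algebraMap R L) c₀) ∅
  have : Algebra.FinitePresentation ℤ (Stg s) :=
    Algebra.FinitePresentation.of_finiteType.mp inferInstance
  obtain ⟨i, -, -, ψ, hψ⟩ := (restrictScalarsInt h).exists_algHom (Stg s)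
    ((Stg s).val) i₀
  have hψ' : ∀ x, γ i (ψ x) = algebraMap (Stg s) L x := fun x => congr($hψ x)
  obtain ⟨j, φ, hφ, hj⟩ := exists_stage_forall_map_eq h (κ := Fin a × Fin b)
    (fun k => MvPolynomial.map ψ.toRingHom (c' k.1 k.2))
    (fun k => MvPolynomial.map (algebraMap R (T i)) (c₀ k.1 k.2)) (by
      intro k
      rw [MvPolynomial.map_map, MvPolynomial.map_map]
      have e1 : (γ i).toRingHom.comp ψ.toRingHom = algebraMap (Stg s) L := by
        ext x; exact hψ' x
      have e2 : (γ i).toRingHom.comp (algebraMap R (T i)) = algebraMap R L := by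
        ext r; exact (γ i).commutes r
      rw [e1, e2]
      exact congrFun (congrFun hc' k.1) k.2)
  refine ⟨j, ?_⟩
  let _ : Algebra (Stg s) (T j) := (φ.toRingHom.comp ψ.toRingHom).toAlgebra
  have halg : algebraMap (Stg s) (T j) = φ.toRingHom.comp ψ.toRingHom :=
    RingHom.algebraMap_toAlgebra _
  have h2 : Module.Flat (T j) (Coker (cmap (algebraMap (Stg s) (T j)) c')) :=
    (flat_coker_iff (T j) c' (Coker c') (LinearEquiv.refl _ _)).mp inferInstance
  have h3 : cmap (algebraMap (Stg s) (T j)) c' = cmap (algebraMap R (T j)) c₀ := by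
    ext k l : 2
    have h4 := hj (k, l)
    simp only [MvPolynomial.map_map] at h4
    rw [cmap_apply, cmap_apply, halg]
    have h5 : (φ.toRingHom.comp (algebraMap R (T i))) = algebraMap R (T j) := by
      ext r
      exact φ.commutes r
    rw [← h5]
    exact h4
  rw [h3] at h2
  exact (flat_coker_iff (T j) c₀ M₀ e).mpr h2

end Ring

end Groth.Agent.H76.LimFlat

namespace Groth.Agent.H76.LimFlat

open Groth.Agent.Lib.Helper13.LimDescent Groth.Agent.Lib.Helper48 Groth.Agent.H46.LimSmooth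

section AffineCase

variable {J : Type u} [SmallCategory J] (E : J ⥤ Scheme.{u}) (cE : Cone E) (j₀ : J)
  {X₀ : Scheme.{u}} (f₀ : X₀ ⟶ E.obj j₀)

attribute [local instance] algT algL

set_option backward.isDefEq.respectTransparency false in
/-- **Descent of flat morphisms**, all-affine case. -/
theorem exists_flat_pullback_fst_of_isAffine [IsCofiltered J] (hcE : IsLimit cE)
    [∀ j, IsAffine (E.obj j)] [IsAffine X₀] [LocallyOfFinitePresentation f₀]
    (h : Flat (pullback.fst (cE.π.app j₀) f₀)) :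
    ∃ k : Over j₀, Flat (pullback.fst (E.map k.hom) f₀) := by
  have hpt : IsAffine cE.pt := Scheme.isAffine_of_isLimit cE hcE
  have hpt' : IsAffine (((Functor.const J).obj cE.pt).obj j₀) := hpt
  let _ : Algebra Γ(E.obj j₀, ⊤) Γ(X₀, ⊤) := f₀.appTop.hom.toAlgebra
  have hfp : Algebra.FinitePresentation Γ(E.obj j₀, ⊤) Γ(X₀, ⊤) :=
    RingHom.finitePresentation_algebraMap.mp
      ((HasRingHomProperty.iff_of_isAffine (P := @LocallyOfFinitePresentation)).mp ‹_›)
  have hL : Module.Flat Γ(cE.pt, ⊤) (Γ(cE.pt, ⊤) ⊗[Γ(E.obj j₀, ⊤)] Γ(X₀, ⊤)) :=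
    RingHom.flat_algebraMap_iff.mp
      ((prop_pullback_fst_iff @Flat @RingHom.Flat (cE.π.app j₀) f₀).mp h)
  obtain ⟨i, hi⟩ := exists_flat (algPathSystem E cE j₀ hcE) Γ(X₀, ⊤) Γ(X₀, ⊤) hL
  exact ⟨i, (prop_pullback_fst_iff @Flat @RingHom.Flat (E.map i.hom) f₀).mpr
    (RingHom.flat_algebraMap_iff.mpr hi)⟩

end AffineCase

section Localize

variable {J : Type u} [SmallCategory J] (E : J ⥤ Scheme.{u}) (cE : Cone E) (j₀ : J)
  {X₀ : Scheme.{u}} (f₀ : X₀ ⟶ E.obj j₀)

variable [hE : ∀ {i j : J} (f : i ⟶ j), IsAffineHom (E.map f)]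

set_option backward.isDefEq.respectTransparency false in
/-- **Descent of flat morphisms** (locally of finite presentation). -/
theorem exists_flat_pullback_fst [IsCofiltered J] (hcE : IsLimit cE) [CompactSpace (E.obj j₀)]
    [QuasiSeparatedSpace (E.obj j₀)] [CompactSpace X₀] [LocallyOfFinitePresentation f₀]
    (h : Flat (pullback.fst (cE.π.app j₀) f₀)) :
    ∃ k : Over j₀, Flat (pullback.fst (E.map k.hom) f₀) :=
  exists_pullback_fst_of_affine_case E cE j₀ f₀ @Flat
    (fun E' cE' j₀' _ f₀' hcE' => exists_flat_pullback_fst_of_isAffine E' cE' j₀' f₀' hcE') hcE h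

end Localize

end Groth.Agent.H76.LimFlat
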