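import Groth.Agent.Lib.Helper23.FpDescent
import Groth.Agent.H46.LimSmooth2
import Groth.Agent.H76.LimFlat

/-!
# Descending fppf coverings along cofiltered limits (helper76)

Port of helper93's étale version (`Lib.Helper93.LimitEtaleCover`), with descent of étaleness
replaced by descent of flatness (`H76.LimFlat`).
-/

set_option autoImplicit false
universe u

open CategoryTheory CategoryTheory.Limits AlgebraicGeometry TopologicalSpace

namespace Groth.Agent.H76.LimFppfCover

open Groth.Agent.H46.LimSmooth Groth.Agent.H76.LimFlat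

section General

variable {J : Type u} [SmallCategory J] (E : J ⥤ Scheme.{u}) (cE : Cone E) (j₀ : J)
  {X₀ : Scheme.{u}} (f₀ : X₀ ⟶ E.obj j₀)

variable [hE : ∀ {i j : J} (f : i ⟶ j), IsAffineHom (E.map f)]

set_option backward.isDefEq.respectTransparency false in
/-- **Descent of flat morphisms** (locally of finite presentation, compact source). -/
theorem exists_flat_pullback_fst' [IsCofiltered J] (hcE : IsLimit cE) [CompactSpace X₀]
    [LocallyOfFinitePresentation f₀] (h : Flat (pullback.fst (cE.π.app j₀) f₀)) :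
    ∃ k : Over j₀, Flat (pullback.fst (E.map k.hom) f₀) :=
  exists_pullback_fst_of_affine_case' E cE j₀ f₀ @Flat (fun _ _ => inferInstance)
    (fun E' cE' j₀' _ f₀' hcE' => exists_flat_pullback_fst_of_isAffine E' cE' j₀' f₀' hcE') hcE h

end General

variable {I : Type u} [SmallCategory I] [IsCofiltered I] (D : I ⥤ Scheme.{u}) (c : Cone D)
  (hc : IsLimit c) [∀ {i j : I} (f : i ⟶ j), IsAffineHom (D.map f)]
  [∀ i, QuasiSeparatedSpace ↥(D.obj i)] [∀ i, CompactSpace ↥(D.obj i)]

include hc in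
/-- A flat, finitely presented morphism to the limit is the base change of such a
morphism to a stage. -/
theorem exists_fppf_model {X : Scheme.{u}} (f : X ⟶ c.pt) [Flat f]
    [LocallyOfFinitePresentation f] [QuasiCompact f] [QuasiSeparated f] :
    ∃ (i : I) (Xi : Scheme.{u}) (xi : Xi ⟶ D.obj i) (q : X ⟶ Xi), Flat xi ∧
      LocallyOfFinitePresentation xi ∧ QuasiCompact xi ∧
      QuasiSeparated xi ∧ IsPullback q f xi (c.π.app i) := by
  obtain ⟨i, Xi, xi, q, h1, h2, h3, hpb⟩ :=
    Groth.Agent.Lib.Helper23.descends_of_finitePresentation D c hc f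
  have hFl : Flat (pullback.fst (c.π.app i) xi) := by
    have h := hpb.flip.isoPullback_hom_fst
    rw [← MorphismProperty.cancel_left_of_respectsIso @Flat hpb.flip.isoPullback.hom, h]
    infer_instance
  have : CompactSpace Xi := QuasiCompact.compactSpace_of_compactSpace xi
  obtain ⟨k, hk⟩ := exists_flat_pullback_fst' D c i xi hc hFl
  have hw : (f ≫ c.π.app k.left) ≫ D.map k.hom = q ≫ xi := by
    rw [Category.assoc, c.w, hpb.w]
  refine ⟨k.left, pullback (D.map k.hom) xi, pullback.fst _ _,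
    pullback.lift (f ≫ c.π.app k.left) q hw, hk, inferInstance, inferInstance, inferInstance, ?_⟩
  have hbig : IsPullback (pullback.lift (f ≫ c.π.app k.left) q hw ≫ pullback.snd _ _) f xi
      (c.π.app k.left ≫ D.map k.hom) := by
    rw [pullback.lift_snd, c.w]
    exact hpb
  exact IsPullback.of_right hbig (pullback.lift_fst _ _ _) (IsPullback.of_hasPullback _ _).flip

include hc in
/-- A jointly surjective family of fppf (flat, finitely presented) morphisms to the limit descends
to a finite jointly surjective family of such morphisms to a stage. -/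
theorem exists_fppf_cover_descends {ι : Type u} (U : ι → Scheme.{u}) (u : ∀ a, U a ⟶ c.pt)
    [∀ a, Flat (u a)] [∀ a, LocallyOfFinitePresentation (u a)] [∀ a, QuasiCompact (u a)]
    [∀ a, QuasiSeparated (u a)]
    (hcov : ∀ x : c.pt, ∃ (a : ι) (y : U a), (u a).base y = x) :
    ∃ (i : I) (n : ℕ) (V : Fin n → Scheme.{u}) (v : ∀ j, V j ⟶ D.obj i) (a : Fin n → ι)
      (e : ∀ j, U (a j) ⟶ V j),
      (∀ j, Flat (v j) ∧ LocallyOfFinitePresentation (v j) ∧ QuasiCompact (v j) ∧
        QuasiSeparated (v j)) ∧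
      (∀ x : D.obj i, ∃ (j : Fin n) (y : V j), (v j).base y = x) ∧
      ∀ j, IsPullback (e j) (u (a j)) (v j) (c.π.app i) := by
  classical
  have : CompactSpace c.pt := Scheme.compactSpace_of_isLimit D c hc
  obtain ⟨t, ht⟩ := isCompact_univ.elim_finite_subcover (fun a => Set.range (u a))
    (fun a => (u a).isOpenMap.isOpen_range) (by
      intro x _
      obtain ⟨a, y, rfl⟩ := hcov x
      exact Set.mem_iUnion.mpr ⟨a, y, rfl⟩)
  have hA := fun a => exists_fppf_model D c hc (u a)
  choose iA VA vA qA hFl hFP hQC hQS hPB using hA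
  have hUO : ∀ a, UniversallyOpen (vA a) := fun a => by
    have := hFl a
    have := hFP a
    infer_instance
  let aj : Fin t.card → ι := fun j => ((t.equivFin).symm j).1
  have hcovj : ∀ x : c.pt, ∃ j : Fin t.card, x ∈ Set.range (u (aj j)) := by
    intro x
    obtain ⟨a, ha⟩ := Set.mem_iUnion.mp (ht (Set.mem_univ x))
    obtain ⟨hat, hx⟩ := Set.mem_iUnion.mp ha
    refine ⟨t.equivFin ⟨a, hat⟩, ?_⟩
    have : aj (t.equivFin ⟨a, hat⟩) = a := by simp [aj]
    rw [this]
    exact hx
  obtain ⟨k, hk⟩ := IsCofiltered.inf_objs_exists (Finset.univ.image (fun j => iA (aj j)))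
  have hφ : ∀ j : Fin t.card, Nonempty (k ⟶ iA (aj j)) := fun j =>
    hk (Finset.mem_image_of_mem _ (Finset.mem_univ j))
  let φ : ∀ j : Fin t.card, k ⟶ iA (aj j) := fun j => (hφ j).some
  let W : ∀ a, (D.obj (iA a)).Opens := fun a =>
    ⟨Set.range (vA a), (vA a).isOpenMap.isOpen_range⟩
  let O : Fin t.card → (D.obj k).Opens := fun j => D.map (φ j) ⁻¹ᵁ W (aj j)
  have hO : c.π.app k ⁻¹ᵁ (⨆ j, O j) = ⊤ := by
    rw [eq_top_iff]
    intro x _
    obtain ⟨j, y, hy⟩ := hcovj x
    rw [Scheme.Hom.preimage_iSup]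
    refine Opens.mem_iSup.mpr ⟨j, ?_⟩
    change D.map (φ j) (c.π.app k x) ∈ Set.range (vA (aj j))
    refine ⟨qA (aj j) y, ?_⟩
    rw [← hy]
    have h1 : (qA (aj j) ≫ vA (aj j)) y = (u (aj j) ≫ c.π.app (iA (aj j))) y := by
      rw [(hPB (aj j)).w]
    have h2 : (c.π.app k ≫ D.map (φ j)) (u (aj j) y) = c.π.app (iA (aj j)) (u (aj j) y) := by
      rw [c.w]
    rw [Scheme.Hom.comp_apply] at h1 h2
    rw [h1, h2, Scheme.Hom.comp_apply]
  obtain ⟨k', ψ, hk'⟩ := exists_map_eq_top D c hc (⨆ j, O j) hO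
  have hw : ∀ j, (u (aj j) ≫ c.π.app k') ≫ D.map (ψ ≫ φ j) = qA (aj j) ≫ vA (aj j) := fun j => by
    rw [Category.assoc, c.w, (hPB (aj j)).w]
  refine ⟨k', t.card, fun j => pullback (D.map (ψ ≫ φ j)) (vA (aj j)), fun j => pullback.fst _ _,
    aj, fun j => pullback.lift (u (aj j) ≫ c.π.app k') (qA (aj j)) (hw j), ?_, ?_, ?_⟩
  · intro j
    have := hFl (aj j)
    have := hFP (aj j)
    have := hQC (aj j)
    have := hQS (aj j)
    exact ⟨inferInstance, inferInstance, inferInstance, inferInstance⟩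
  · intro x
    have hx : x ∈ D.map ψ ⁻¹ᵁ (⨆ j, O j) := by rw [hk']; trivial
    rw [Scheme.Hom.preimage_iSup] at hx
    obtain ⟨j, hj⟩ := Opens.mem_iSup.mp hx
    have hxr : x ∈ Set.range (pullback.fst (D.map (ψ ≫ φ j)) (vA (aj j))) := by
      rw [Scheme.Pullback.range_fst]
      change D.map (ψ ≫ φ j) x ∈ Set.range (vA (aj j))
      rw [D.map_comp, Scheme.Hom.comp_apply]
      exact hj
    obtain ⟨y, hy⟩ := hxr
    exact ⟨j, y, hy⟩
  · intro j
    have hbig : IsPullback (pullback.lift (u (aj j) ≫ c.π.app k') (qA (aj j)) (hw j) ≫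
        pullback.snd _ _) (u (aj j)) (vA (aj j)) (c.π.app k' ≫ D.map (ψ ≫ φ j)) := by
      rw [pullback.lift_snd, c.w]
      exact hPB (aj j)
    exact IsPullback.of_right hbig (pullback.lift_fst _ _ _) (IsPullback.of_hasPullback _ _).flip

end Groth.Agent.H76.LimFppfCover
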