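import Mathlib
import Groth.Agent.H76.FlatModel

/-!
# Kernels of surjections onto flat finitely presented modules (helper76)

If `S` is a finitely presented `R`-algebra and `M` a finitely presented `S`-module which is flat
over `R`, then the kernel of any surjection `G → M` from a finitely presented `S`-module is
finitely presented (EGA IV 11.3.9.1-type statement, via Noetherian approximation).
-/

set_option autoImplicit false
universe u

open TensorProduct

namespace Groth.Agent.H76.FlatKerFP

section Chase

variable {R : Type*} [CommRing R] {K F M : Type*} [AddCommGroup K] [Module R K]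
  [AddCommGroup F] [Module R F] [AddCommGroup M] [Module R M]

/-- Auxiliary form of `lTensor_injective_of_flat_coker` with a chosen flat cover `ρ : G → N`. -/
theorem lTensor_injective_of_flat_coker_aux (i : K →ₗ[R] F) (π : F →ₗ[R] M)
    (hi : Function.Injective i) (hex : Function.Exact i π) (hπ : Function.Surjective π)
    [Module.Flat R M] {N G : Type*} [AddCommGroup N] [Module R N] [AddCommGroup G] [Module R G]
    [Module.Flat R G] (ρ : G →ₗ[R] N) (hρ : Function.Surjective ρ) :
    Function.Injective (i.lTensor N) := by
  have hιρ : Function.Exact (LinearMap.ker ρ).subtype ρ := by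
    intro x
    constructor
    · intro hx
      exact ⟨⟨x, hx⟩, rfl⟩
    · rintro ⟨y, rfl⟩
      exact y.2
  have hρι : ρ ∘ₗ (LinearMap.ker ρ).subtype = 0 := by
    ext l
    exact l.2
  rw [injective_iff_map_eq_zero]
  intro x hx
  -- lift to `G ⊗ K`
  obtain ⟨y, rfl⟩ := LinearMap.rTensor_surjective K hρ x
  -- `y' = (G ⊗ i) y` maps to zero in `N ⊗ F`
  have h1 : ρ.rTensor F (i.lTensor G y) = 0 := by
    rw [← LinearMap.comp_apply, LinearMap.rTensor_comp_lTensor, ← LinearMap.lTensor_comp_rTensor,
      LinearMap.comp_apply]
    exact hx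
  obtain ⟨z, hz⟩ := (rTensor_exact F hιρ hρ (i.lTensor G y)).mp h1
  -- image of `z` in `L ⊗ M` is zero
  have h2 : (LinearMap.ker ρ).subtype.rTensor M (π.lTensor (LinearMap.ker ρ) z) = 0 := by
    rw [← LinearMap.comp_apply, LinearMap.rTensor_comp_lTensor, ← LinearMap.lTensor_comp_rTensor,
      LinearMap.comp_apply, hz, ← LinearMap.comp_apply, ← LinearMap.lTensor_comp]
    have : π ∘ₗ i = 0 := by
      ext k
      exact hex.apply_apply_eq_zero k
    rw [this, LinearMap.lTensor_zero, LinearMap.zero_apply]
  have h3 : π.lTensor (LinearMap.ker ρ) z = 0 :=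
    (injective_iff_map_eq_zero _).mp
      (Module.Flat.rTensor_preserves_injective_linearMap (LinearMap.ker ρ).subtype
        (LinearMap.ker ρ).injective_subtype) _ h2
  obtain ⟨w, hw⟩ := (lTensor_exact (LinearMap.ker ρ) hex hπ z).mp h3
  -- `G ⊗ K → G ⊗ F` is injective
  have hGinj : Function.Injective (i.lTensor G) :=
    Module.Flat.lTensor_preserves_injective_linearMap i hi
  have h4 : (LinearMap.ker ρ).subtype.rTensor K w = y := by
    apply hGinj
    rw [← hz, ← hw, ← LinearMap.comp_apply, ← LinearMap.comp_apply,
      LinearMap.lTensor_comp_rTensor, LinearMap.rTensor_comp_lTensor]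
  rw [← h4, ← LinearMap.comp_apply, ← LinearMap.rTensor_comp, hρι, LinearMap.rTensor_zero,
    LinearMap.zero_apply]

/-- If `0 → K → F → M → 0` is exact with `M` flat, then `N ⊗ K → N ⊗ F` is injective for every
module `N` (`Tor₁(N, M) = 0`). -/
theorem lTensor_injective_of_flat_coker (i : K →ₗ[R] F) (π : F →ₗ[R] M)
    (hi : Function.Injective i) (hex : Function.Exact i π) (hπ : Function.Surjective π)
    [Module.Flat R M] (N : Type*) [AddCommGroup N] [Module R N] :
    Function.Injective (i.lTensor N) := by
  classical
  refine lTensor_injective_of_flat_coker_aux i π hi hex hπ (G := N →₀ R)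
    (Finsupp.linearCombination R (id : N → N)) ?_
  intro x
  exact ⟨Finsupp.single x 1, by rw [Finsupp.linearCombination_single, one_smul]; rfl⟩

end Chase

section Schanuel

variable {S : Type*} [CommRing S] {M F₁ F₂ : Type*} [AddCommGroup M] [Module S M]
  [AddCommGroup F₁] [Module S F₁] [AddCommGroup F₂] [Module S F₂]

/-- Schanuel-type lemma: if one surjection from a projective module onto `M` has finitely
presented kernel, then so has any surjection from a finite projective module. -/
theorem finitePresentation_ker_of_projective (h : F₁ →ₗ[S] M) (g : F₂ →ₗ[S] M)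
    (hh : Function.Surjective h) (hg : Function.Surjective g) [Module.Projective S F₁]
    [Module.Projective S F₂] [Module.Finite S F₂] [Module.FinitePresentation S (LinearMap.ker h)] :
    Module.FinitePresentation S (LinearMap.ker g) := by
  obtain ⟨α, hα⟩ := Module.projective_lifting_property h g hh
  obtain ⟨β, hβ⟩ := Module.projective_lifting_property g h hg
  have hα' : ∀ x, h (α x) = g x := fun x => congr($hα x)
  have hβ' : ∀ y, g (β y) = h y := fun y => congr($hβ y)
  haveI : Module.FinitePresentation S F₂ := Module.finitePresentation_of_projective S F₂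
  let f : LinearMap.ker g →ₗ[S] F₂ × LinearMap.ker h :=
    LinearMap.prod (LinearMap.ker g).subtype
      (LinearMap.codRestrict (LinearMap.ker h) (α ∘ₗ (LinearMap.ker g).subtype) (fun x => by
        rw [LinearMap.mem_ker, LinearMap.comp_apply, hα']
        exact x.2))
  let θ : F₂ × LinearMap.ker h →ₗ[S] F₁ :=
    LinearMap.coprod α (-(LinearMap.ker h).subtype)
  have hθ : ∀ x z, θ (x, z) = α x - z := fun x z => by
    simp only [θ, LinearMap.coprod_apply, LinearMap.neg_apply, Submodule.subtype_apply]
    abel
  have hf : Function.Injective f := by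
    intro x y hxy
    have := congrArg Prod.fst hxy
    exact Subtype.ext this
  have hθs : Function.Surjective θ := by
    intro y
    refine ⟨(β y, ⟨α (β y) - y, ?_⟩), ?_⟩
    · rw [LinearMap.mem_ker, map_sub, hα', hβ', sub_self]
    · rw [hθ]
      simp
  have H : Function.Exact f θ := by
    rintro ⟨x, z⟩
    constructor
    · intro hxz
      rw [hθ, sub_eq_zero] at hxz
      have hx : x ∈ LinearMap.ker g := by
        rw [LinearMap.mem_ker, ← hα', hxz]
        exact z.2
      refine ⟨⟨x, hx⟩, ?_⟩
      refine Prod.ext rfl (Subtype.ext ?_)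
      exact hxz
    · rintro ⟨y, hy⟩
      rw [← hy, hθ]
      simp [f]
  exact Module.finitePresentation_of_projective_of_exact f θ hf hθs H

/-- The same for a surjection from an arbitrary finitely presented module. -/
theorem finitePresentation_ker_of_finitePresentation {G : Type*} [AddCommGroup G] [Module S G]
    [Module.FinitePresentation S G] (h : F₁ →ₗ[S] M) (g : G →ₗ[S] M)
    (hh : Function.Surjective h) (hg : Function.Surjective g) [Module.Projective S F₁]
    [Module.FinitePresentation S (LinearMap.ker h)] :
    Module.FinitePresentation S (LinearMap.ker g) := by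
  obtain ⟨k, τ, hτ⟩ := Module.Finite.exists_fin' S G
  have hgτ : Function.Surjective (g ∘ₗ τ) := hg.comp hτ
  haveI : Module.FinitePresentation S (LinearMap.ker (g ∘ₗ τ)) :=
    finitePresentation_ker_of_projective h (g ∘ₗ τ) hh hgτ
  let l : LinearMap.ker (g ∘ₗ τ) →ₗ[S] LinearMap.ker g :=
    LinearMap.codRestrict (LinearMap.ker g) (τ ∘ₗ (LinearMap.ker (g ∘ₗ τ)).subtype) (fun x => by
      rw [LinearMap.mem_ker, LinearMap.comp_apply]
      exact x.2)
  have hl : Function.Surjective l := by
    rintro ⟨y, hy⟩
    obtain ⟨x, rfl⟩ := hτ y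
    exact ⟨⟨x, hy⟩, rfl⟩
  refine Module.finitePresentation_of_surjective l hl ?_
  have hτfg : (LinearMap.ker τ).FG := Module.FinitePresentation.fg_ker τ hτ
  refine Submodule.fg_of_fg_map_injective (LinearMap.ker (g ∘ₗ τ)).subtype
    (Submodule.injective_subtype _) ?_
  have : Submodule.map (LinearMap.ker (g ∘ₗ τ)).subtype (LinearMap.ker l) = LinearMap.ker τ := by
    ext x
    constructor
    · rintro ⟨y, hy, rfl⟩
      have : l y = 0 := hy
      have h2 := congrArg Subtype.val this
      exact h2
    · intro hx
      have hx' : x ∈ LinearMap.ker (g ∘ₗ τ) := by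
        rw [LinearMap.mem_ker, LinearMap.comp_apply, LinearMap.mem_ker.mp hx, map_zero]
      refine ⟨⟨x, hx'⟩, ?_, rfl⟩
      show l ⟨x, hx'⟩ = 0
      exact Subtype.ext hx
  rw [this]
  exact hτfg

end Schanuel

section Main

open Groth.Agent.H76.FlatModel

/-- There is a surjection from a finite free module onto `M` with finitely presented kernel. -/
theorem exists_free_surjective_fp_ker (R : Type u) [CommRing R] (S : Type u) [CommRing S]
    [Algebra R S] [Algebra.FinitePresentation R S] (M : Type u) [AddCommGroup M] [Module S M]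
    [Module R M] [IsScalarTower R S M] [Module.FinitePresentation S M] [Module.Flat R M] :
    ∃ (F : Type u) (_ : AddCommGroup F) (_ : Module S F) (_ : Module.Free S F)
      (_ : Module.Finite S F) (h : F →ₗ[S] M), Function.Surjective h ∧
        Module.FinitePresentation S (LinearMap.ker h) := by
  obtain ⟨R₀, _, _, S₀, _, _, _, _, _, _, M₀, _, _, _, _, _, _, f, hR₀, hS₀, hM₀fin, hM₀flat,
    hpo, hbc⟩ := exists_flat_model R S M
  haveI : IsNoetherianRing R₀ := Algebra.FiniteType.isNoetherianRing ℤ R₀
  haveI : IsNoetherianRing S₀ := Algebra.FiniteType.isNoetherianRing R₀ S₀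
  obtain ⟨m, g₀, hg₀⟩ := Module.Finite.exists_fin' S₀ M₀
  haveI : Module.FinitePresentation S₀ (LinearMap.ker g₀) :=
    Module.finitePresentation_of_finite S₀ (LinearMap.ker g₀)
  let φ : S ⊗[S₀] (LinearMap.ker g₀) →ₗ[S] S ⊗[S₀] (Fin m → S₀) :=
    (LinearMap.ker g₀).subtype.baseChange S
  let h : S ⊗[S₀] (Fin m → S₀) →ₗ[S] M := hbc.equiv.toLinearMap ∘ₗ (g₀.baseChange S)
  have hh : Function.Surjective h :=
    hbc.equiv.surjective.comp (LinearMap.lTensor_surjective S hg₀)
  -- exactness
  have hex₀ : Function.Exact (LinearMap.ker g₀).subtype g₀ := LinearMap.exact_subtype_ker_map g₀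
  have hex : Function.Exact φ (g₀.baseChange S) := lTensor_exact S hex₀ hg₀
  have hker : LinearMap.ker h = LinearMap.range φ := by
    ext x
    rw [LinearMap.mem_ker, LinearMap.comp_apply, LinearEquiv.coe_coe,
      LinearEquiv.map_eq_zero_iff]
    exact hex x
  -- injectivity of `φ`
  have hφ : Function.Injective φ := by
    let i₀ : (LinearMap.ker g₀) →ₗ[R₀] (Fin m → S₀) := (LinearMap.ker g₀).subtype.restrictScalars R₀
    let π₀ : (Fin m → S₀) →ₗ[R₀] M₀ := g₀.restrictScalars R₀
    have h1 : Function.Injective (i₀.lTensor R) :=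
      lTensor_injective_of_flat_coker i₀ π₀ (Submodule.injective_subtype _) hex₀ hg₀ R
    let eK := Algebra.IsPushout.cancelBaseChange R₀ R S₀ S (LinearMap.ker g₀)
    let eF := Algebra.IsPushout.cancelBaseChange R₀ R S₀ S (Fin m → S₀)
    have hnat : ∀ t : R ⊗[R₀] (LinearMap.ker g₀), φ (eK.symm t) = eF.symm (i₀.lTensor R t) := by
      intro t
      induction t with
      | zero => simp
      | add a b ha hb => simp only [map_add, ha, hb]
      | tmul r k =>
        rw [Algebra.IsPushout.cancelBaseChange_symm_tmul, LinearMap.lTensor_tmul,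
          Algebra.IsPushout.cancelBaseChange_symm_tmul]
        rfl
    intro x y hxy
    have hx := hnat (eK x)
    have hy := hnat (eK y)
    rw [LinearEquiv.symm_apply_apply] at hx hy
    rw [hx, hy] at hxy
    exact eK.injective (h1 (eF.symm.injective hxy))
  let e : S ⊗[S₀] (LinearMap.ker g₀) ≃ₗ[S] LinearMap.ker h :=
    (LinearEquiv.ofInjective φ hφ) ≪≫ₗ (LinearEquiv.ofEq _ _ hker.symm)
  exact ⟨S ⊗[S₀] (Fin m → S₀), inferInstance, inferInstance, inferInstance, inferInstance, h, hh,
    Module.FinitePresentation.of_equiv e⟩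

/-- **Kernels of surjections onto flat finitely presented modules are finitely presented.** -/
theorem finitePresentation_ker (R : Type u) [CommRing R] {S : Type u} [CommRing S]
    [Algebra R S] [Algebra.FinitePresentation R S] {M : Type u} [AddCommGroup M] [Module S M]
    [Module R M] [IsScalarTower R S M] [Module.FinitePresentation S M] [Module.Flat R M]
    {G : Type*} [AddCommGroup G] [Module S G]
    [Module.FinitePresentation S G] (g : G →ₗ[S] M) (hg : Function.Surjective g) :
    Module.FinitePresentation S (LinearMap.ker g) := by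
  obtain ⟨F, _, _, _, _, h, hh, hfp⟩ := exists_free_surjective_fp_ker R S M
  exact finitePresentation_ker_of_finitePresentation h g hh hg

end Main

end Groth.Agent.H76.FlatKerFP
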