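import Mathlib
import Groth.Agent.H76.FlatLocusFP
import Groth.Agent.Lib.Helper12.FlatOverSections
import Groth.Agent.Lib.Helper49.FinitePresentation2

/-!
# Openness of the flat locus of a finitely presented module on a scheme (helper76)
-/

set_option linter.style.haveILetI false
set_option autoImplicit false
universe u

open CategoryTheory CategoryTheory.Limits AlgebraicGeometry TopologicalSpace Opposite

namespace Groth.Agent.H76.FlatLocusSheaf

open Groth.Agent.Lib.Helper12.FlatOver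

variable {X Y : Scheme.{u}}

/-- Flatness of `F` over `Y` at a point of an affine open `W ⊆ u⁻¹ V`, `V` affine, in terms of the
localization of `Γ(F, W)` as a `Γ(Y, V)`-module. -/
theorem isFlatOverAt_iff_flat_localizedModule (u : X ⟶ Y) (F : X.Modules) [F.IsQuasicoherent]
    {V : Y.Opens} (hV : IsAffineOpen V) {W : X.Opens} (hW : IsAffineOpen W) (e : W ≤ u ⁻¹ᵁ V)
    (x : W) :
    letI : Algebra Γ(Y, V) Γ(X, W) := (u.appLE V W e).hom.toAlgebra
    letI : Module Γ(Y, V) Γ(F, W) := Module.compHom _ (u.appLE V W e).hom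
    haveI : IsScalarTower Γ(Y, V) Γ(X, W) Γ(F, W) := IsScalarTower.of_compHom _ _ _
    FlatMod.IsFlatOverAt u F (x : X) ↔
      Module.Flat Γ(Y, V) (LocalizedModule (hW.primeIdealOf x).asIdeal.primeCompl Γ(F, W)) := by
  rw [isFlatOverAt_iff_flat_stalk u F hV e x]
  letI algRS : Algebra Γ(Y, V) Γ(X, W) := (u.appLE V W e).hom.toAlgebra
  letI modRM : Module Γ(Y, V) Γ(F, W) := Module.compHom _ (u.appLE V W e).hom
  haveI : IsScalarTower Γ(Y, V) Γ(X, W) Γ(F, W) := IsScalarTower.of_compHom _ _ _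
  letI modSN : Module Γ(X, W) (F.presheaf.stalk (x : X)) :=
    Groth.Agent.Lib.Helper45.stalkModuleSections F x
  letI modRN : Module Γ(Y, V) (F.presheaf.stalk (x : X)) := stalkModuleBase u F e x
  haveI : IsScalarTower Γ(Y, V) Γ(X, W) (F.presheaf.stalk (x : X)) := by
    refine ⟨fun r s n => ?_⟩
    change algebraMap Γ(X, W) (X.presheaf.stalk (x : X)) (r • s) • n =
      ((algebraMap Γ(X, W) (X.presheaf.stalk (x : X))).comp (algebraMap Γ(Y, V) Γ(X, W))) r •
        (algebraMap Γ(X, W) (X.presheaf.stalk (x : X)) s • n)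
    rw [Algebra.smul_def, map_mul, mul_smul]
    rfl
  haveI hloc := Groth.Agent.Lib.Helper45.isLocalizedModule_germₗ hW F x
  let eq : LocalizedModule (hW.primeIdealOf x).asIdeal.primeCompl Γ(F, W) ≃ₗ[Γ(X, W)]
      F.presheaf.stalk (x : X) :=
    IsLocalizedModule.iso (hW.primeIdealOf x).asIdeal.primeCompl
      (Groth.Agent.Lib.Helper45.germₗ F x)
  exact ⟨fun h => Module.Flat.of_linearEquiv (eq.restrictScalars Γ(Y, V)),
    fun h => Module.Flat.of_linearEquiv (eq.symm.restrictScalars Γ(Y, V))⟩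

/-- **Openness of the flat locus** of a finitely presented quasi-coherent module, for a morphism
locally of finite presentation (EGA IV 11.3.1). -/
theorem isOpen_isFlatOverAt (f : X ⟶ Y) [LocallyOfFinitePresentation f] (F : X.Modules)
    [F.IsQuasicoherent] (hF : SheafOfModules.IsFinitePresentation (R := X.ringCatSheaf) F) :
    IsOpen {x : X | FlatMod.IsFlatOverAt f F x} := by
  rw [isOpen_iff_mem_nhds]
  intro x hx
  obtain ⟨V, hV, hxV, -⟩ := exists_isAffineOpen_mem_and_subset (x := f x) (U := ⊤) trivial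
  obtain ⟨W, hW, hxW, hWV⟩ := exists_isAffineOpen_mem_and_subset (x := x) (U := f ⁻¹ᵁ V) hxV
  letI algAB : Algebra Γ(Y, V) Γ(X, W) := (f.appLE V W hWV).hom.toAlgebra
  letI modRM : Module Γ(Y, V) Γ(F, W) := Module.compHom _ (f.appLE V W hWV).hom
  haveI : IsScalarTower Γ(Y, V) Γ(X, W) Γ(F, W) := IsScalarTower.of_compHom _ _ _
  have hfp : (f.appLE V W hWV).hom.FinitePresentation :=
    HasRingHomProperty.appLE (P := @LocallyOfFinitePresentation) f inferInstance ⟨V, hV⟩ ⟨W, hW⟩ hWV
  haveI : Algebra.FinitePresentation Γ(Y, V) Γ(X, W) := hfp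
  haveI : Module.FinitePresentation Γ(X, W) Γ(F, W) :=
    Groth.Agent.Lib.Helper49.finitePresentation_sections_of_isFinitePresentation F hF hW
  have hT : IsOpen {q : PrimeSpectrum Γ(X, W) |
      Module.Flat Γ(Y, V) (LocalizedModule q.asIdeal.primeCompl Γ(F, W))} :=
    Groth.Agent.H76.FlatLocusFP.isOpen_flatLocus
  have hopen : IsOpen (hW.fromSpec '' {q : PrimeSpectrum Γ(X, W) |
      Module.Flat Γ(Y, V) (LocalizedModule q.asIdeal.primeCompl Γ(F, W))}) :=
    hW.fromSpec.isOpenEmbedding.isOpenMap _ hT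
  refine Filter.mem_of_superset (hopen.mem_nhds ?_) ?_
  · refine ⟨hW.primeIdealOf ⟨x, hxW⟩, ?_, hW.fromSpec_primeIdealOf ⟨x, hxW⟩⟩
    exact (isFlatOverAt_iff_flat_localizedModule f F hV hW hWV ⟨x, hxW⟩).mp hx
  · rintro _ ⟨q, hq, rfl⟩
    have hyW : hW.fromSpec q ∈ W := by
      have : hW.fromSpec q ∈ Set.range hW.fromSpec := ⟨q, rfl⟩
      rw [hW.range_fromSpec] at this
      exact this
    have hq' : hW.primeIdealOf ⟨hW.fromSpec q, hyW⟩ = q := by
      apply hW.fromSpec.isOpenEmbedding.injective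
      exact hW.fromSpec_primeIdealOf ⟨hW.fromSpec q, hyW⟩
    refine (isFlatOverAt_iff_flat_localizedModule f F hV hW hWV ⟨hW.fromSpec q, hyW⟩).mpr ?_
    rw [hq']
    exact hq

end Groth.Agent.H76.FlatLocusSheaf
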