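import Mathlib
import Groth.Agent.H76.FlatKerFP
import Groth.Agent.Lib.Helper18.FPQuot
import Groth.Agent.Lib.Helper12.FlatOverSections
import Groth.Agent.Lib.Helper49.FinitePresentation2

/-!
# Kernel of an epimorphism onto a flat finitely presented module is finitely presented (helper76)
-/

set_option linter.style.haveILetI false
set_option autoImplicit false
universe u

open CategoryTheory CategoryTheory.Limits AlgebraicGeometry TopologicalSpace Opposite

namespace Groth.Agent.H76.KerFPSheaf

open Groth.Agent.Lib.Helper49 Groth.Agent.Lib.Helper45 Groth.Agent.Lib.Helper12.FlatOver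

variable {X Y : Scheme.{u}}

/-- Sections of the kernel over an affine open `W ⊆ f⁻¹ V` are finitely presented. -/
theorem finitePresentation_sections_kernel (f : X ⟶ Y) [LocallyOfFinitePresentation f]
    (G H : X.Modules) [G.IsQuasicoherent] [H.IsQuasicoherent]
    (hG : SheafOfModules.IsFinitePresentation (R := X.ringCatSheaf) G)
    (hH : SheafOfModules.IsFinitePresentation (R := X.ringCatSheaf) H)
    (hflat : FlatMod.IsFlatOver f H) (p : G ⟶ H) [Epi p]
    {V : Y.Opens} (hV : IsAffineOpen V) {W : X.Opens} (hW : IsAffineOpen W) (e : W ≤ f ⁻¹ᵁ V) :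
    Module.FinitePresentation Γ(X, W) Γ(kernel p, W) := by
  letI algAB : Algebra Γ(Y, V) Γ(X, W) := (f.appLE V W e).hom.toAlgebra
  letI modRM : Module Γ(Y, V) Γ(H, W) := Module.compHom _ (f.appLE V W e).hom
  haveI : IsScalarTower Γ(Y, V) Γ(X, W) Γ(H, W) := IsScalarTower.of_compHom _ _ _
  have hfp : (f.appLE V W e).hom.FinitePresentation :=
    HasRingHomProperty.appLE (P := @LocallyOfFinitePresentation) f inferInstance ⟨V, hV⟩ ⟨W, hW⟩ e
  haveI : Algebra.FinitePresentation Γ(Y, V) Γ(X, W) := hfp
  haveI : Module.FinitePresentation Γ(X, W) Γ(H, W) :=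
    finitePresentation_sections_of_isFinitePresentation H hH hW
  haveI : Module.FinitePresentation Γ(X, W) Γ(G, W) :=
    finitePresentation_sections_of_isFinitePresentation G hG hW
  haveI : Module.Flat Γ(Y, V) Γ(H, W) :=
    flat_sections_of_isFlatOverAt f H hV hW e (fun x => hflat x)
  have hS : (ShortComplex.mk (kernel.ι p) p (kernel.condition p)).ShortExact :=
    ⟨ShortComplex.exact_of_f_is_kernel _ (kernelIsKernel p)⟩
  have hex := Groth.Agent.Lib.Helper45.app_exact_of_shortExact _ hS W
  have hsurj : Function.Surjective (Groth.Agent.Lib.Helper45.appₗ p W) :=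
    Groth.Agent.Lib.Helper42.app_surjective_of_epi p hW
  have hkfp : Module.FinitePresentation Γ(X, W) (LinearMap.ker (Groth.Agent.Lib.Helper45.appₗ p W)) :=
    Groth.Agent.H76.FlatKerFP.finitePresentation_ker Γ(Y, V) (Groth.Agent.Lib.Helper45.appₗ p W) hsurj
  have hinj : Function.Injective (Groth.Agent.Lib.Helper45.appₗ (kernel.ι p) W) :=
    Groth.Agent.Lib.Helper45.app_injective_of_mono (kernel.ι p) W
  have hrange : LinearMap.range (Groth.Agent.Lib.Helper45.appₗ (kernel.ι p) W) = LinearMap.ker (Groth.Agent.Lib.Helper45.appₗ p W) := by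
    ext b
    exact (hex b).symm
  have : Module.FinitePresentation Γ(X, W) ↥(LinearMap.range (Groth.Agent.Lib.Helper45.appₗ (kernel.ι p) W)) := by
    rw [hrange]; exact hkfp
  exact Module.FinitePresentation.of_equiv (LinearEquiv.ofInjective _ hinj).symm

/-- **EGA IV 11.3.9.1-type**: the kernel of an epimorphism of finitely presented quasi-coherent
modules onto an `f`-flat one is finitely presented (`f` locally of finite presentation). -/
theorem isFinitePresentation_kernel_of_epi (f : X ⟶ Y) [LocallyOfFinitePresentation f]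
    (G H : X.Modules) [G.IsQuasicoherent] [H.IsQuasicoherent]
    (hG : SheafOfModules.IsFinitePresentation (R := X.ringCatSheaf) G)
    (hH : SheafOfModules.IsFinitePresentation (R := X.ringCatSheaf) H)
    (hflat : FlatMod.IsFlatOver f H) (p : G ⟶ H) [Epi p] :
    SheafOfModules.IsFinitePresentation (R := X.ringCatSheaf) (kernel p) := by
  have hK : (kernel p).IsQuasicoherent := isQuasicoherent_kernel p inferInstance inferInstance
  let ι := {W : X.affineOpens // ∃ V : Y.affineOpens, W.1 ≤ f ⁻¹ᵁ V.1}
  refine isFinitePresentation_of_forall_restrict (kernel p) (fun U : ι => Spec Γ(X, U.1.1))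
    (fun U => U.1.2.fromSpec) (fun x => ?_) fun U => ?_
  · obtain ⟨V, hV, hxV, -⟩ := exists_isAffineOpen_mem_and_subset (x := f x) (U := ⊤) trivial
    obtain ⟨W, hW, hxW, hWV⟩ := exists_isAffineOpen_mem_and_subset (x := x) (U := f ⁻¹ᵁ V) hxV
    refine ⟨⟨⟨W, hW⟩, ⟨V, hV⟩, hWV⟩, ?_⟩
    rw [hW.range_fromSpec]
    exact hxW
  · obtain ⟨⟨W, hW⟩, ⟨V, hV⟩, hWV⟩ := U
    have : ((kernel p).restrict hW.fromSpec).IsQuasicoherent :=
      Scheme.Modules.isQuasicoherent_restrictFunctor _ _
    have h1 : Module.FinitePresentation Γ(X, W) Γ(kernel p, W) :=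
      finitePresentation_sections_kernel f G H hG hH hflat p hV hW hWV
    have : Module.FinitePresentation Γ(X, W)
        Γ((kernel p).restrict hW.fromSpec, (⊤ : (Spec Γ(X, W)).Opens)) :=
      Module.FinitePresentation.of_equiv (sectionsFromSpecTopEquiv hW (kernel p)).symm
    exact @exists_finite_presentation_of_finitePresentation_Γ Γ(X, W)
      ((kernel p).restrict hW.fromSpec) _ this

end Groth.Agent.H76.KerFPSheaf
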