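import Groth.Agent.H76.NilFlat
import Groth.Agent.H76.AdicFlat
import Mathlib.RingTheory.Filtration
import Mathlib.RingTheory.LocalRing.RingHom.Basic

/-!
# Local criterion of flatness, Tor-free (helper76)

`flat_of_local`: for a local homomorphism `R → S` of Noetherian local rings, a proper ideal `I` of
`R` and a finite `S`-module `M` with `I ⊗ M → M` injective and `M/IM` flat over `R/I`,
`M` is flat over `R`.
-/

set_option autoImplicit false
universe u v

open TensorProduct

namespace Groth.Agent.H76.LocalCrit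

open Groth.Agent.H76.FlatGlue Groth.Agent.H76.NilFlat

section Pow

variable {R : Type u} [CommRing R] (I : Ideal R) (M : Type v) [AddCommGroup M] [Module R M]
  [Module.Flat (R ⧸ I) ((R ⧸ I) ⊗[R] M)]
  (h : Function.Injective (LinearMap.rTensor M (Submodule.subtype I)))

include h in
/-- If `I^k Q ⊆ P ⊆ Q` then `P ⊗ M → Q ⊗ M` is injective. -/
theorem tinj_of_pow_smul_le (k : ℕ) {Q : Type*} [AddCommGroup Q] [Module R Q] (P : Submodule R Q)
    (hP : I ^ k • (⊤ : Submodule R Q) ≤ P) : Function.Injective (P.subtype.rTensor M) := by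
  induction k generalizing P with
  | zero =>
    have hP' : P = ⊤ := by
      rw [eq_top_iff]
      rwa [pow_zero, Ideal.one_eq_top, Submodule.top_smul] at hP
    apply rTensor_injective_of_bijective
    constructor
    · exact Submodule.injective_subtype P
    · intro q
      exact ⟨⟨q, hP' ▸ Submodule.mem_top⟩, rfl⟩
  | succ k ih =>
    set P₁ : Submodule R Q := P ⊔ I ^ k • (⊤ : Submodule R Q) with hP₁
    have h1 : Function.Injective (P₁.subtype.rTensor M) := ih P₁ le_sup_right
    have hle : P ≤ P₁ := le_sup_left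
    have h2 : Function.Injective ((Submodule.inclusion hle).rTensor M) := by
      apply tinj_of_smul_mem_range I M h _ (Submodule.inclusion_injective hle)
      intro i hi q
      have hq : i • (q : Q) ∈ P := by
        obtain ⟨a, ha, b, hb, hab⟩ := Submodule.mem_sup.mp q.2
        rw [← hab, smul_add]
        apply P.add_mem (P.smul_mem i ha)
        apply hP
        have : i • b ∈ I • (I ^ k • (⊤ : Submodule R Q)) := Submodule.smul_mem_smul hi hb
        rwa [← Submodule.mul_smul, ← pow_succ'] at this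
      exact ⟨⟨i • (q : Q), hq⟩, rfl⟩
    have h3 : P.subtype = P₁.subtype ∘ₗ Submodule.inclusion hle := LinearMap.ext fun _ => rfl
    rw [h3]
    exact rTensor_injective_comp M _ _ h2 h1

include h in
/-- Map version of `tinj_of_pow_smul_le`. -/
theorem tinj_of_pow_smul_mem_range (k : ℕ) {P Q : Type*} [AddCommGroup P] [Module R P]
    [AddCommGroup Q] [Module R Q] (u : P →ₗ[R] Q) (hu : Function.Injective u)
    (hP : I ^ k • (⊤ : Submodule R Q) ≤ LinearMap.range u) :
    Function.Injective (u.rTensor M) := by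
  have h1 : u = (LinearMap.range u).subtype ∘ₗ u.rangeRestrict := LinearMap.ext fun _ => rfl
  rw [h1]
  apply rTensor_injective_comp
  · apply rTensor_injective_of_bijective
    constructor
    · intro x y hxy
      exact hu (congrArg Subtype.val hxy)
    · exact LinearMap.surjective_rangeRestrict u
  · exact tinj_of_pow_smul_le I M h k _ hP

end Pow

open IsLocalRing in
theorem flat_of_local {R S : Type u} [CommRing R] [CommRing S] [IsLocalRing R] [IsLocalRing S]
    [IsNoetherianRing R] [IsNoetherianRing S] [Algebra R S] [IsLocalHom (algebraMap R S)]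
    {M : Type u} [AddCommGroup M] [Module R M] [Module S M] [IsScalarTower R S M]
    [Module.Finite S M] (I : Ideal R) (hI : I ≠ ⊤)
    (h1 : Function.Injective (LinearMap.rTensor M (Submodule.subtype I)))
    [Module.Flat (R ⧸ I) ((R ⧸ I) ⊗[R] M)] : Module.Flat R M := by
  rw [Module.Flat.iff_rTensor_injective']
  intro 𝔞
  set J : Ideal S := I.map (algebraMap R S) with hJdef
  have hJ : J ≠ ⊤ := by
    have hle : J ≤ maximalIdeal S :=
      Ideal.map_le_iff_le_comap.mpr (fun x hx => map_nonunit _ x (le_maximalIdeal hI hx))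
    intro htop
    rw [htop] at hle
    exact (maximalIdeal.isMaximal S).ne_top (top_le_iff.mp hle)
  haveI : Module.Finite R 𝔞 := Module.Finite.of_fg (IsNoetherian.noetherian 𝔞)
  haveI : Module.Finite S (M ⊗[R] 𝔞) := AdicFlat.finite_tensor M 𝔞
  have hkrull : (⨅ i : ℕ, J ^ i • ⊤ : Submodule S (M ⊗[R] 𝔞)) = ⊥ :=
    Ideal.iInf_pow_smul_eq_bot_of_isLocalRing J hJ
  obtain ⟨k, hk⟩ := Ideal.exists_pow_inf_eq_pow_smul I (𝔞 : Submodule R R)
  rw [injective_iff_map_eq_zero]
  intro z hz
  have hmem : ∀ n : ℕ, TensorProduct.comm R 𝔞 M z ∈ J ^ n • (⊤ : Submodule S (M ⊗[R] 𝔞)) := by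
    intro n
    have hAR : I ^ (n + k) ⊓ 𝔞 ≤ I ^ n * 𝔞 := by
      have h0 := hk (n + k) (Nat.le_add_left k n)
      rw [Nat.add_sub_cancel] at h0
      have e1 : I ^ (n + k) • (⊤ : Submodule R R) = I ^ (n + k) := by
        rw [smul_eq_mul, Ideal.mul_top]
      rw [e1] at h0
      rw [h0]
      intro x hx
      refine Submodule.smul_induction_on hx ?_ ?_
      · intro i hi y hy
        rw [smul_eq_mul]
        exact Ideal.mul_mem_mul hi hy.2
      · intro x y hx hy
        exact Ideal.add_mem _ hx hy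
    -- the key sub-lemma on pure tensors
    have hsub : ∀ x ∈ I ^ n * 𝔞, ∀ m : M, ∃ hx : x ∈ 𝔞,
        (m ⊗ₜ[R] (⟨x, hx⟩ : 𝔞) : M ⊗[R] 𝔞) ∈ J ^ n • (⊤ : Submodule S (M ⊗[R] 𝔞)) := by
      intro x hx m
      refine Submodule.mul_induction_on hx ?_ ?_
      · intro i hi a ha
        refine ⟨𝔞.mul_mem_left i ha, ?_⟩
        have e : (⟨i * a, 𝔞.mul_mem_left i ha⟩ : 𝔞) = i • (⟨a, ha⟩ : 𝔞) := rfl
        rw [e, ← TensorProduct.smul_tmul, ← IsScalarTower.algebraMap_smul S i m,
          ← TensorProduct.smul_tmul']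
        apply Submodule.smul_mem_smul _ Submodule.mem_top
        rw [hJdef, ← Ideal.map_pow]
        exact Ideal.mem_map_of_mem _ hi
      · rintro x y ⟨hx, hx'⟩ ⟨hy, hy'⟩
        refine ⟨𝔞.add_mem hx hy, ?_⟩
        have e : (⟨x + y, 𝔞.add_mem hx hy⟩ : 𝔞) = ⟨x, hx⟩ + ⟨y, hy⟩ := rfl
        rw [e, TensorProduct.tmul_add]
        exact Submodule.add_mem _ hx' hy'
    let 𝔟' : Submodule R 𝔞 := Submodule.comap 𝔞.subtype (I ^ (n + k))
    let u : (𝔞 ⧸ 𝔟') →ₗ[R] (R ⧸ I ^ (n + k)) :=
      𝔟'.liftQ ((I ^ (n + k)).mkQ ∘ₗ 𝔞.subtype) (by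
        intro x hx
        rw [LinearMap.mem_ker, LinearMap.comp_apply]
        exact (Submodule.Quotient.mk_eq_zero _).mpr hx)
    have hu : Function.Injective u := by
      rw [← LinearMap.ker_eq_bot]
      apply Submodule.ker_liftQ_eq_bot
      intro x hx
      rw [LinearMap.mem_ker, LinearMap.comp_apply] at hx
      exact (Submodule.Quotient.mk_eq_zero (I ^ (n + k))).mp hx
    have hTu : Function.Injective (u.rTensor M) := by
      apply tinj_of_pow_smul_mem_range I M h1 (n + k) u hu
      intro x hx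
      have : x = 0 := by
        refine Submodule.smul_induction_on hx ?_ ?_
        · intro i hi y _
          obtain ⟨r, rfl⟩ := Submodule.Quotient.mk_surjective _ y
          rw [← Submodule.Quotient.mk_smul]
          exact (Submodule.Quotient.mk_eq_zero _).mpr (Ideal.mul_mem_right r _ hi)
        · intro x y hx hy
          rw [hx, hy, add_zero]
      rw [this]
      exact Submodule.zero_mem _
    have hcomp : u ∘ₗ 𝔟'.mkQ = (I ^ (n + k)).mkQ ∘ₗ 𝔞.subtype := Submodule.liftQ_mkQ _ _ _
    have h2 : (u.rTensor M) ((𝔟'.mkQ.rTensor M) z) = 0 := by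
      rw [← LinearMap.comp_apply, ← LinearMap.rTensor_comp, hcomp, LinearMap.rTensor_comp,
        LinearMap.comp_apply, hz, map_zero]
    have h3 : (𝔟'.mkQ.rTensor M) z = 0 := (injective_iff_map_eq_zero _).mp hTu _ h2
    have hex : Function.Exact (𝔟'.subtype.rTensor M) (𝔟'.mkQ.rTensor M) :=
      rTensor_exact M (LinearMap.exact_subtype_mkQ 𝔟') (Submodule.mkQ_surjective 𝔟')
    obtain ⟨w, rfl⟩ := (hex z).mp h3
    -- now every element of the range lies in `J^n • ⊤` after `comm`
    have hw : ∀ w : 𝔟' ⊗[R] M, TensorProduct.comm R 𝔞 M ((𝔟'.subtype.rTensor M) w) ∈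
        J ^ n • (⊤ : Submodule S (M ⊗[R] 𝔞)) := by
      intro w
      induction w with
      | zero => simp
      | tmul b m =>
        rw [LinearMap.rTensor_tmul, TensorProduct.comm_tmul, Submodule.subtype_apply]
        have hb : ((b : 𝔞) : R) ∈ I ^ (n + k) ⊓ 𝔞 := ⟨b.2, (b : 𝔞).2⟩
        obtain ⟨_, hx'⟩ := hsub _ (hAR hb) m
        exact hx'
      | add a b ha hb =>
        rw [map_add, map_add]
        exact Submodule.add_mem _ ha hb
    exact hw w
  have hz0 : TensorProduct.comm R 𝔞 M z ∈ (⨅ i : ℕ, J ^ i • ⊤ : Submodule S (M ⊗[R] 𝔞)) := by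
    rw [Submodule.mem_iInf]
    exact hmem
  rw [hkrull] at hz0
  have := (Submodule.mem_bot S).mp hz0
  exact (TensorProduct.comm R 𝔞 M).injective (by rw [this, map_zero])

end Groth.Agent.H76.LocalCrit
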