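import Mathlib
import Groth.Agent.Lib.Helper78.DVRDominate

/-!
# Approximating a valuation ring by a discrete valuation ring

Given a Noetherian ring `B`, a ring map `φ : B → L` to a field which is finitely generated (as a
field) over the image of `B`, a valuation subring `V` of `L` containing `φ B` and finitely many
elements `d` of the maximal ideal of `V` (not all zero), there is a discrete valuation subring `R`
of `L` containing `φ B`, with `φ⁻¹ m_V ⊆ φ⁻¹ m_R` and `d ⊆ m_R`.
-/

set_option autoImplicit false
universe u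

namespace Groth.Agent.H76.DVRApprox

open IsLocalRing

theorem exists_dvr_approx {B : Type u} [CommRing B] [IsNoetherianRing B] {L : Type u} [Field L]
    (φ : B →+* L) (V : ValuationSubring L) (hV : ∀ b, φ b ∈ V)
    (d : Finset L) (hd : ∀ x ∈ d, V.valuation x < 1) (hd0 : ∃ x ∈ d, x ≠ 0)
    (T : Finset L) (hT : Subfield.closure (Set.range φ ∪ (T : Set L)) = ⊤) :
    ∃ R : ValuationSubring L, IsDiscreteValuationRing R ∧ (∀ b, φ b ∈ R) ∧
      (∀ b, V.valuation (φ b) < 1 → R.valuation (φ b) < 1) ∧ ∀ x ∈ d, R.valuation x < 1 := by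
  classical
  letI : Algebra B L := φ.toAlgebra
  -- the finitely generated subalgebra
  let D₀a : Subalgebra B L := Algebra.adjoin B (d : Set L)
  have hft : Algebra.FiniteType B D₀a :=
    (Subalgebra.fg_iff_finiteType _).mp (Subalgebra.fg_adjoin_finset d)
  have hN₀ : IsNoetherianRing D₀a := Algebra.FiniteType.isNoetherianRing B D₀a
  let D₀ : Subring L := D₀a.toSubring
  have hN₀' : IsNoetherianRing D₀ := hN₀
  have hD₀V : ∀ z ∈ D₀, z ∈ V := by
    intro z hz
    have hz' : z ∈ Algebra.adjoin B (d : Set L) := hz
    clear hz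
    induction hz' using Algebra.adjoin_induction with
    | mem x hx => exact (V.valuation_le_one_iff x).mp (hd x hx).le
    | algebraMap r => exact hV r
    | add x y _ _ hx hy => exact V.add_mem _ _ hx hy
    | mul x y _ _ hx hy => exact V.mul_mem _ _ hx hy
  -- the prime ideal
  let ψ : D₀ →+* V := (D₀.subtype).codRestrict V.toSubring (fun z => hD₀V z.1 z.2)
  let n : Ideal D₀ := (maximalIdeal V).comap ψ
  have hn : n.IsPrime := Ideal.comap_isPrime ψ _
  have hmem_n : ∀ z : D₀, z ∈ n ↔ V.valuation (z : L) < 1 := by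
    intro z
    show ψ z ∈ maximalIdeal V ↔ _
    rw [V.valuation_lt_one_iff]
    rfl
  -- the localization as a subring
  let DL : LocalSubring L := LocalSubring.ofPrime D₀ n
  let D : Subring L := DL.toSubring
  have : IsLocalRing D := DL.isLocalRing
  have hloc : IsLocalization.AtPrime D n := inferInstanceAs (IsLocalization.AtPrime (LocalSubring.ofPrime D₀ n).toSubring n)
  have : IsNoetherianRing D := IsLocalization.isNoetherianRing n.primeCompl D hN₀'
  have hle : D₀ ≤ D := LocalSubring.le_ofPrime D₀ n
  have hmax : ∀ z : D₀, V.valuation (z : L) < 1 →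
      (⟨z.1, hle z.2⟩ : D) ∈ maximalIdeal D := by
    intro z hz
    have : algebraMap D₀ D z ∈ maximalIdeal D :=
      (IsLocalization.AtPrime.to_map_mem_maximal_iff D n z).mpr ((hmem_n z).mpr hz)
    exact this
  -- `D` is not a field
  have hD : ¬ IsField D := by
    obtain ⟨x, hx, hx0⟩ := hd0
    have hxD₀ : x ∈ D₀ := Algebra.subset_adjoin hx
    have h1 := hmax ⟨x, hxD₀⟩ (hd x hx)
    rw [IsLocalRing.isField_iff_maximalIdeal_eq]
    intro hbot
    rw [hbot, Ideal.mem_bot] at h1
    exact hx0 (congrArg Subtype.val h1)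
  -- the fraction field
  have : FaithfulSMul D L := (faithfulSMul_iff_algebraMap_injective D L).mpr Subtype.val_injective
  letI : Algebra (FractionRing D) L := FractionRing.liftAlgebra D L
  have : IsScalarTower D (FractionRing D) L := FractionRing.isScalarTower_liftAlgebra D L
  have hfg : (⊤ : IntermediateField (FractionRing D) L).FG := by
    refine ⟨T, ?_⟩
    rw [eq_top_iff]
    intro z _
    have hz : z ∈ Subfield.closure (Set.range φ ∪ (T : Set L)) := by rw [hT]; trivial
    have hle' : Subfield.closure (Set.range φ ∪ (T : Set L)) ≤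
        (IntermediateField.adjoin (FractionRing D) (T : Set L)).toSubfield := by
      rw [Subfield.closure_le]
      rintro w (⟨b, rfl⟩ | hw)
      · have hb : φ b ∈ D := hle (Subalgebra.algebraMap_mem D₀a b)
        have : φ b = algebraMap (FractionRing D) L (algebraMap D (FractionRing D) ⟨φ b, hb⟩) := by
          rw [← IsScalarTower.algebraMap_apply D (FractionRing D) L]
          rfl
        show φ b ∈ IntermediateField.adjoin (FractionRing D) (T : Set L)
        rw [this]
        exact IntermediateField.algebraMap_mem _ _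
      · exact IntermediateField.subset_adjoin _ _ hw
    exact hle' hz
  obtain ⟨R, hR, hR1, hR2⟩ :=
    Groth.Agent.Lib.Helper78.exists_dvr_dominating D hD (FractionRing D) L hfg
  refine ⟨R, hR, fun b => ?_, fun b hb => ?_, fun x hx => ?_⟩
  · have hb : φ b ∈ D := hle (Subalgebra.algebraMap_mem D₀a b)
    exact hR1 ⟨φ b, hb⟩
  · have hb' : φ b ∈ D₀ := Subalgebra.algebraMap_mem D₀a b
    exact hR2 _ (hmax ⟨φ b, hb'⟩ hb)
  · have hxD₀ : x ∈ D₀ := Algebra.subset_adjoin hx
    exact hR2 _ (hmax ⟨x, hxD₀⟩ (hd x hx))

end Groth.Agent.H76.DVRApprox
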