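import Mathlib
import Groth.Agent.S4449
import Groth.Agent.H76.DVRApprox

/-!
# Universal closedness from existence of lifts for discrete valuation rings through a dense family
-/

set_option autoImplicit false
universe u

namespace Groth.Agent.H76.DVRThrough

open CategoryTheory CategoryTheory.Limits AlgebraicGeometry IsLocalRing

variable {X U : Scheme.{u}}

/-- The ring map `O_{X,x} → κ(u)` for a point `x` of `X` to which `h u` specializes. -/
noncomputable def toRes (h : U ⟶ X) (u : U) {x : X} (hx : h.base u ⤳ x) :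
    X.presheaf.stalk x ⟶ U.residueField u :=
  X.presheaf.stalkSpecializes hx ≫ h.stalkMap u ≫ U.residue u

theorem SpecMap_toRes_fromSpecStalk (h : U ⟶ X) (u : U) {x : X} (hx : h.base u ⤳ x) :
    Spec.map (toRes h u hx) ≫ X.fromSpecStalk x = U.fromSpecResidueField u ≫ h := by
  unfold toRes Scheme.fromSpecResidueField
  rw [Spec.map_comp, Spec.map_comp, Category.assoc, Category.assoc,
    Scheme.SpecMap_stalkSpecializes_fromSpecStalk, Scheme.SpecMap_stalkMap_fromSpecStalk,
    Category.assoc]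

theorem toRes_stalkSpecializes (h : U ⟶ X) (u : U) {x x' : X} (hx' : h.base u ⤳ x')
    (hx'x : x' ⤳ x) :
    X.presheaf.stalkSpecializes hx'x ≫ toRes h u hx' = toRes h u (hx'.trans hx'x) := by
  unfold toRes
  rw [← Category.assoc, TopCat.Presheaf.stalkSpecializes_comp]

theorem toRes_germ (h : U ⟶ X) (u : U) {x : X} (hx : h.base u ⤳ x) (W : X.Opens) (hxW : x ∈ W) :
    X.presheaf.germ W x hxW ≫ toRes h u hx =
      X.presheaf.germ W (h.base u) (hx.mem_open W.isOpen hxW) ≫ h.stalkMap u ≫ U.residue u := by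
  unfold toRes
  rw [TopCat.Presheaf.germ_stalkSpecializes_assoc]

/-- the kernel of `toRes` is the maximal ideal when `x = h u`; in general nonunits need not die,
but units go to nonzero elements. -/
theorem toRes_comp {S : Scheme.{u}} (h : U ⟶ X) (f : X ⟶ S) (u : U) {x : X} (hx : h.base u ⤳ x)
    {s : S} (hs : f.base x ⤳ s) :
    S.presheaf.stalkSpecializes hs ≫ f.stalkMap x ≫ toRes h u hx =
      toRes (h ≫ f) u (show (h ≫ f).base u ⤳ s from
        ((hx.map f.base.hom.continuous).trans hs)) := by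
  unfold toRes
  rw [Scheme.Hom.stalkMap_comp]
  have h1 : f.stalkMap x ≫ X.presheaf.stalkSpecializes hx =
      S.presheaf.stalkSpecializes (hx.map f.base.hom.continuous) ≫ f.stalkMap (h.base u) :=
    (Scheme.Hom.stalkSpecializes_stalkMap f (h.base u) x hx).symm
  rw [← Category.assoc (f.stalkMap x), ← Category.assoc (f.stalkMap x ≫ _), h1]
  simp only [Category.assoc]
  rw [← Category.assoc (S.presheaf.stalkSpecializes hs), TopCat.Presheaf.stalkSpecializes_comp]
  rfl


/-- Two morphisms from the spectrum of a local domain that agree at the generic point and send the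
closed point into a common affine open are equal. -/
theorem eq_of_common_affine {A B : CommRingCat.{u}} [IsDomain A] [IsLocalRing A] (φ : A ⟶ B)
    (hφ : Function.Injective φ.hom) {S : Scheme.{u}} (S₀ : S.Opens) (hS₀ : IsAffineOpen S₀)
    (a b : Spec A ⟶ S) (ha : a.base (closedPoint A) ∈ S₀) (hb : b.base (closedPoint A) ∈ S₀)
    (hab : Spec.map φ ≫ a = Spec.map φ ≫ b) : a = b := by
  have hr : ∀ c : Spec A ⟶ S, c.base (closedPoint A) ∈ S₀ →
      Set.range c.base ⊆ Set.range S₀.ι.base := by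
    intro c hc
    rw [Scheme.Opens.range_ι]
    rintro _ ⟨z, rfl⟩
    exact ((IsLocalRing.specializes_closedPoint z).map c.base.hom.continuous).mem_open
      S₀.isOpen hc
  let a' := IsOpenImmersion.lift S₀.ι a (hr a ha)
  let b' := IsOpenImmersion.lift S₀.ι b (hr b hb)
  have ha' : a' ≫ S₀.ι = a := IsOpenImmersion.lift_fac _ _ _
  have hb' : b' ≫ S₀.ι = b := IsOpenImmersion.lift_fac _ _ _
  have : IsAffine S₀ := hS₀
  have hab' : a' = b' := by
    apply Groth.Agent.S4449.ext_of_injective φ hφ a' b'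
    rw [← cancel_mono S₀.ι, Category.assoc, Category.assoc, ha', hb', hab]
  rw [← ha', ← hb', hab']

/-- A lift of the generic point `Spec κ(u) → U → X` to `Spec R` has a centre. -/
theorem center_of_lift (h : U ⟶ X) (u : U) (R : ValuationSubring (U.residueField u))
    (l : Spec (CommRingCat.of R) ⟶ X)
    (hl : Spec.map (CommRingCat.ofHom R.subtype) ≫ l = U.fromSpecResidueField u ≫ h) :
    ∃ hx : h.base u ⤳ l.base (closedPoint R),
      (∀ a, (toRes h u hx).hom a ∈ R) ∧
      ∀ a ∈ maximalIdeal (X.presheaf.stalk (l.base (closedPoint R))),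
        R.valuation ((toRes h u hx).hom a) < 1 := by
  have hx : h.base u ⤳ l.base (closedPoint R) := by
    let pt : Spec (U.residueField u) := closedPoint (U.residueField u)
    have h1 : (Spec.map (CommRingCat.ofHom R.subtype) ≫ l).base pt = h.base u := by
      rw [hl, Scheme.Hom.comp_apply, Scheme.fromSpecResidueField_apply]
    rw [← h1, Scheme.Hom.comp_apply]
    exact (IsLocalRing.specializes_closedPoint _).map l.base.hom.continuous
  refine ⟨hx, ?_⟩
  let θ := Scheme.stalkClosedPointTo l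
  have hθ : Spec.map θ ≫ X.fromSpecStalk _ = l := Scheme.Spec_stalkClosedPointTo_fromSpecStalk l
  have key : θ ≫ CommRingCat.ofHom R.subtype = toRes h u hx := by
    apply Spec.map_injective
    rw [← cancel_mono (X.fromSpecStalk _), Spec.map_comp, Category.assoc, hθ, hl,
      SpecMap_toRes_fromSpecStalk]
  have key' : ∀ a, (toRes h u hx).hom a = ((θ.hom a : R) : U.residueField u) := by
    intro a
    rw [← key]
    rfl
  constructor
  · intro a
    rw [key']
    exact (θ.hom a).2
  · intro a ha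
    rw [key']
    have hloc : IsLocalHom θ.hom := Scheme.isLocalHom_stalkClosedPointTo l
    have hnu : ¬ IsUnit (θ.hom a) := fun hu => (mem_maximalIdeal a).mp ha (hloc.map_nonunit a hu)
    exact (R.valuation_lt_one_iff _).mp ((mem_maximalIdeal _).mpr hnu)

/-- If all sections over an affine open `W ∋ h u` land in `R`, there is a lift with closed point in
`W`. -/
theorem exists_lift_of_sections (h : U ⟶ X) (u : U) (R : ValuationSubring (U.residueField u))
    {W : X.Opens} (hW : IsAffineOpen W) (huW : h.base u ∈ W)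
    (hR : ∀ c : Γ(X, W),
      (X.presheaf.germ W (h.base u) huW ≫ h.stalkMap u ≫ U.residue u).hom c ∈ R) :
    ∃ l : Spec (CommRingCat.of R) ⟶ X,
      Spec.map (CommRingCat.ofHom R.subtype) ≫ l = U.fromSpecResidueField u ≫ h ∧
      l.base (closedPoint R) ∈ W := by
  let γ : Γ(X, W) ⟶ CommRingCat.of R :=
    CommRingCat.ofHom ((X.presheaf.germ W (h.base u) huW ≫ h.stalkMap u ≫
      U.residue u).hom.codRestrict R.toSubring hR)
  refine ⟨Spec.map γ ≫ hW.fromSpec, ?_, ?_⟩
  · have e : γ ≫ CommRingCat.ofHom R.subtype =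
        X.presheaf.germ W (h.base u) huW ≫ h.stalkMap u ≫ U.residue u := by
      ext a; rfl
    rw [← Spec.map_comp_assoc, e, Spec.map_comp, Spec.map_comp, Category.assoc, Category.assoc]
    have h1 : Spec.map (X.presheaf.germ W (h.base u) huW) ≫ hW.fromSpec =
        X.fromSpecStalk (h.base u) := hW.fromSpecStalk_eq_fromSpecStalk huW
    rw [h1, Scheme.SpecMap_stalkMap_fromSpecStalk]
    rfl
  · rw [Scheme.Hom.comp_apply]
    have h2 : Set.range hW.fromSpec.base = W := hW.range_fromSpec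
    have h3 : hW.fromSpec.base ((Spec.map γ).base (closedPoint R)) ∈ Set.range hW.fromSpec.base :=
      ⟨_, rfl⟩
    rw [h2] at h3
    exact h3


/-- The residue field at `u` is a finitely generated field extension of the image of the local ring
of a specialization of `g u`, for `g` locally of finite type. -/
theorem exists_finset_closure_eq_top {S : Scheme.{u}} (g : U ⟶ S) [LocallyOfFiniteType g] (u : U)
    {s : S} (hs : g.base u ⤳ s) :
    ∃ T : Finset (U.residueField u),
      Subfield.closure (Set.range (toRes g u hs).hom ∪ (T : Set (U.residueField u))) = ⊤ := by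
  classical
  obtain ⟨S₀, hS₀, hsS₀⟩ : ∃ S₀ : S.Opens, IsAffineOpen S₀ ∧ s ∈ S₀ := by
    obtain ⟨_, ⟨W, hW, rfl⟩, hyW, -⟩ :=
      S.isBasis_affineOpens.exists_subset_of_mem_open (Set.mem_univ s) isOpen_univ
    exact ⟨W, hW, hyW⟩
  have hu₀ : u ∈ g ⁻¹ᵁ S₀ := hs.mem_open S₀.isOpen hsS₀
  obtain ⟨U₁, hU₁, huU₁, hU₁le⟩ : ∃ U₁ : U.Opens, IsAffineOpen U₁ ∧ u ∈ U₁ ∧ U₁ ≤ g ⁻¹ᵁ S₀ := by
    obtain ⟨_, ⟨W, hW, rfl⟩, huW, hWle⟩ :=
      U.isBasis_affineOpens.exists_subset_of_mem_open hu₀ (g ⁻¹ᵁ S₀).isOpen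
    exact ⟨W, hW, huW, hWle⟩
  have hft := LocallyOfFiniteType.finiteType_appLE g hS₀ hU₁ hU₁le
  let _ : Algebra Γ(S, S₀) Γ(U, U₁) := (g.appLE S₀ U₁ hU₁le).hom.toAlgebra
  have hft' : Algebra.FiniteType Γ(S, S₀) Γ(U, U₁) := hft
  obtain ⟨t, ht⟩ := hft'.out
  let γ : Γ(U, U₁) ⟶ U.residueField u := U.presheaf.germ U₁ u huU₁ ≫ U.residue u
  have hcompat : S.presheaf.germ S₀ s hsS₀ ≫ toRes g u hs = g.appLE S₀ U₁ hU₁le ≫ γ := by
    unfold toRes
    rw [TopCat.Presheaf.germ_stalkSpecializes_assoc, Scheme.Hom.germ_stalkMap_assoc,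
      Scheme.Hom.appLE, Category.assoc]
    congr 1
    rw [← Category.assoc, U.presheaf.germ_res (homOfLE hU₁le) u huU₁]
  refine ⟨t.image γ.hom, ?_⟩
  rw [eq_top_iff]
  intro z _
  have key : ∀ a : Γ(U, U₁), γ.hom a ∈ Subfield.closure
      (Set.range (toRes g u hs).hom ∪ ((t.image γ.hom : Finset _) : Set (U.residueField u))) := by
    intro a
    have ha : a ∈ Algebra.adjoin Γ(S, S₀) (t : Set Γ(U, U₁)) := by rw [ht]; trivial
    induction ha using Algebra.adjoin_induction with
    | mem x hx =>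
      exact Subfield.subset_closure
        (Or.inr (Finset.mem_coe.mpr (Finset.mem_image_of_mem _ hx)))
    | algebraMap r =>
      refine Subfield.subset_closure (Or.inl ⟨S.presheaf.germ S₀ s hsS₀ r, ?_⟩)
      exact congrArg (fun k => k.hom r) hcompat
    | add x y _ _ hx hy => rw [map_add]; exact add_mem hx hy
    | mul x y _ _ hx hy => rw [map_mul]; exact mul_mem hx hy
  obtain ⟨w, rfl⟩ := U.residue_surjective u z
  letI := TopCat.Presheaf.algebra_section_stalk U.presheaf ⟨u, huU₁⟩
  have hloc := hU₁.isLocalization_stalk ⟨u, huU₁⟩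
  obtain ⟨a, b, rfl⟩ :=
    IsLocalization.exists_mk'_eq (hU₁.primeIdealOf ⟨u, huU₁⟩).asIdeal.primeCompl w
  have h1 := IsLocalization.mk'_spec (U.presheaf.stalk u) a b
  have h2 := congrArg (U.residue u).hom h1
  rw [map_mul] at h2
  have hb : γ.hom b.1 ≠ 0 :=
    ((IsLocalization.map_units (U.presheaf.stalk u) b).map (U.residue u).hom).ne_zero
  have h3 : (U.residue u).hom (IsLocalization.mk' (U.presheaf.stalk u) a b) =
      γ.hom a / γ.hom b.1 := by
    rw [eq_div_iff hb]
    exact h2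
  change (U.residue u).hom (IsLocalization.mk' (U.presheaf.stalk u) a b) ∈ _
  rw [h3]
  exact div_mem (key a) (key b.1)


/-- Key step: if discrete valuation subrings of `κ(u)` have lifts, then so does every valuation
subring containing the image of the local ring `O_{S,s}`. -/
theorem exists_lift_of_dvr_lifts {X S U : Scheme.{u}} [IsLocallyNoetherian S] (f : X ⟶ S)
    [LocallyOfFiniteType f] [QuasiCompact f] (h : U ⟶ X) [LocallyOfFiniteType h] (u : U)
    (H : ∀ (A : ValuationSubring (U.residueField u)), IsDiscreteValuationRing A →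
      ∀ y : Spec (CommRingCat.of A) ⟶ S,
        Spec.map (CommRingCat.ofHom A.subtype) ≫ y = U.fromSpecResidueField u ≫ h ≫ f →
        ∃ l : Spec (CommRingCat.of A) ⟶ X, l ≫ f = y ∧
          Spec.map (CommRingCat.ofHom A.subtype) ≫ l = U.fromSpecResidueField u ≫ h)
    {s : S} (hs : (h ≫ f).base u ⤳ s) (S₀ : S.Opens) (hS₀ : IsAffineOpen S₀) (hsS₀ : s ∈ S₀)
    (R : ValuationSubring (U.residueField u)) (hR : ∀ b, (toRes (h ≫ f) u hs).hom b ∈ R) :
    ∃ l : Spec (CommRingCat.of R) ⟶ X,
      Spec.map (CommRingCat.ofHom R.subtype) ≫ l = U.fromSpecResidueField u ≫ h ∧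
      f.base (l.base (closedPoint R)) ∈ S₀ := by
  classical
  by_contra hno
  push Not at hno
  let β : S.presheaf.stalk s →+* U.residueField u := (toRes (h ≫ f) u hs).hom
  have P : ∀ i : X.affineOpens, ∃ d : U.residueField u, i.1 ≤ f ⁻¹ᵁ S₀ →
      (R.valuation d < 1 ∧ (h.base u ∈ i.1 → d ≠ 0) ∧
      ∀ R' : ValuationSubring (U.residueField u), R'.valuation d < 1 →
        ∀ l' : Spec (CommRingCat.of R') ⟶ X,
        Spec.map (CommRingCat.ofHom R'.subtype) ≫ l' = U.fromSpecResidueField u ≫ h →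
        l'.base (closedPoint R') ∉ i.1) := by
    intro i
    by_cases hi : i.1 ≤ f ⁻¹ᵁ S₀
    swap
    · exact ⟨0, fun hi' => absurd hi' hi⟩
    by_cases huW : h.base u ∈ i.1
    · have hex : ∃ c : Γ(X, i.1),
          (X.presheaf.germ i.1 (h.base u) huW ≫ h.stalkMap u ≫ U.residue u).hom c ∉ R := by
        by_contra hall
        push Not at hall
        obtain ⟨l, hl1, hl2⟩ := exists_lift_of_sections h u R i.2 huW hall
        exact hno l hl1 (hi hl2)
      obtain ⟨c, hc⟩ := hex
      have hc0 : (X.presheaf.germ i.1 (h.base u) huW ≫ h.stalkMap u ≫ U.residue u).hom c ≠ 0 :=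
        fun h0 => hc (h0 ▸ R.zero_mem)
      refine ⟨((X.presheaf.germ i.1 (h.base u) huW ≫ h.stalkMap u ≫ U.residue u).hom c)⁻¹,
        fun _ => ⟨Groth.Agent.Lib.Helper78.ValuationSubring.valuation_lt_one_of_inv_not_mem R _
          (by rwa [inv_inv]), fun _ => inv_ne_zero hc0, ?_⟩⟩
      intro R' hR' l' hl' hmem
      obtain ⟨hx, hx1, -⟩ := center_of_lift h u R' l' hl'
      have h1 : (X.presheaf.germ i.1 (h.base u) huW ≫ h.stalkMap u ≫ U.residue u).hom c ∈ R' := by
        have h2 := hx1 ((X.presheaf.germ i.1 _ hmem).hom c)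
        have e := congrArg (fun k => k.hom c) (toRes_germ h u hx i.1 hmem)
        have e' : (toRes h u hx).hom ((X.presheaf.germ i.1 _ hmem).hom c) =
            (X.presheaf.germ i.1 (h.base u) huW ≫ h.stalkMap u ≫ U.residue u).hom c := e
        rw [e'] at h2
        exact h2
      have h2 := (R'.valuation_le_one_iff _).mpr h1
      have h3 : R'.valuation
          (((X.presheaf.germ i.1 (h.base u) huW ≫ h.stalkMap u ≫ U.residue u).hom c)⁻¹) *
          R'.valuation ((X.presheaf.germ i.1 (h.base u) huW ≫ h.stalkMap u ≫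
            U.residue u).hom c) = 1 := by
        rw [← map_mul, inv_mul_cancel₀ hc0, map_one]
      have h4 : (1 : _) ≤ R'.valuation
          (((X.presheaf.germ i.1 (h.base u) huW ≫ h.stalkMap u ≫ U.residue u).hom c)⁻¹) := by
        calc (1 : _) = _ := h3.symm
          _ ≤ R'.valuation (((X.presheaf.germ i.1 (h.base u) huW ≫ h.stalkMap u ≫
              U.residue u).hom c)⁻¹) * 1 := mul_le_mul' le_rfl h2
          _ = _ := mul_one _
      exact absurd hR' (not_lt.mpr h4)
    · refine ⟨0, fun _ => ⟨by rw [map_zero]; exact zero_lt_one, fun hc => absurd hc huW, ?_⟩⟩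
      intro R' _ l' hl' hmem
      obtain ⟨hx, -, -⟩ := center_of_lift h u R' l' hl'
      exact huW (hx.mem_open i.1.isOpen hmem)
  choose dfun hdfun using P
  -- a finite affine cover of the preimage of `S₀`
  have hqc : IsCompact ((f ⁻¹ᵁ S₀ : X.Opens) : Set X) :=
    QuasiCompact.isCompact_preimage (f := f) _ S₀.isOpen hS₀.isCompact
  obtain ⟨σ, hσfin, hσ⟩ := isCompact_iff_finite_and_eq_biUnion_affineOpens.mp hqc
  have hle : ∀ i ∈ σ, i.1 ≤ f ⁻¹ᵁ S₀ := by
    intro i hi
    rw [hσ]
    exact le_iSup₂ (f := fun (i : X.affineOpens) (_ : i ∈ σ) => (i : X.Opens)) i hi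
  have hmem_σ : ∀ x : X, x ∈ f ⁻¹ᵁ S₀ → ∃ i ∈ σ, x ∈ i.1 := by
    intro x hx
    rw [hσ] at hx
    simpa [TopologicalSpace.Opens.mem_iSup] using hx
  have hu₀ : h.base u ∈ f ⁻¹ᵁ S₀ := hs.mem_open S₀.isOpen hsS₀
  obtain ⟨i₁, hi₁σ, hui₁⟩ := hmem_σ _ hu₀
  let d : Finset (U.residueField u) := hσfin.toFinset.image dfun
  have hd : ∀ x ∈ d, R.valuation x < 1 := by
    intro x hx
    obtain ⟨i, hi, rfl⟩ := Finset.mem_image.mp hx
    exact (hdfun i (hle i (hσfin.mem_toFinset.mp hi))).1
  have hd0 : ∃ x ∈ d, x ≠ 0 :=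
    ⟨dfun i₁, Finset.mem_image_of_mem _ (hσfin.mem_toFinset.mpr hi₁σ),
      (hdfun i₁ (hle i₁ hi₁σ)).2.1 hui₁⟩
  obtain ⟨T, hT⟩ := exists_finset_closure_eq_top (h ≫ f) u hs
  obtain ⟨R', hR'dvr, hR'1, -, hR'3⟩ :=
    Groth.Agent.H76.DVRApprox.exists_dvr_approx β R hR d hd hd0 T hT
  let βR' : S.presheaf.stalk s ⟶ CommRingCat.of R' :=
    CommRingCat.ofHom (β.codRestrict R'.toSubring hR'1)
  let y : Spec (CommRingCat.of R') ⟶ S := Spec.map βR' ≫ S.fromSpecStalk s
  have hy : Spec.map (CommRingCat.ofHom R'.subtype) ≫ y = U.fromSpecResidueField u ≫ h ≫ f := by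
    have e : βR' ≫ CommRingCat.ofHom R'.subtype = toRes (h ≫ f) u hs := by
      ext a; rfl
    rw [← Spec.map_comp_assoc, e, SpecMap_toRes_fromSpecStalk]
  obtain ⟨l', hl'f, hl'g⟩ := H R' hR'dvr y hy
  have h1 : f.base (l'.base (closedPoint R')) ∈ S₀ := by
    have h2 : (l' ≫ f).base (closedPoint R') ∈ Set.range (S.fromSpecStalk s).base := by
      rw [hl'f, Scheme.Hom.comp_apply]
      exact ⟨_, rfl⟩
    rw [Scheme.range_fromSpecStalk] at h2
    exact (h2 : _ ⤳ s).mem_open S₀.isOpen hsS₀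
  obtain ⟨i, hiσ, hxi⟩ := hmem_σ _ h1
  exact (hdfun i (hle i hiσ)).2.2 R'
    (hR'3 _ (Finset.mem_image_of_mem _ (hσfin.mem_toFinset.mpr hiσ))) l' hl'g hxi


open Groth.Agent.Lib.Helper20.CompVal in
/-- Universal closedness from existence of lifts for discrete valuation rings through a family of
points `G` of `U` whose images generize every point of `X`. -/
theorem universallyClosed_of_dvr_through {X S U : Scheme.{u}} [IsLocallyNoetherian S] (f : X ⟶ S)
    [IsSeparated f] [LocallyOfFiniteType f] [QuasiCompact f] (h : U ⟶ X) [LocallyOfFiniteType h]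
    (G : Set U) (hG : ∀ x : X, ∃ u ∈ G, h.base u ⤳ x)
    (H : ∀ u ∈ G, ∀ (A : ValuationSubring (U.residueField u)), IsDiscreteValuationRing A →
      ∀ y : Spec (CommRingCat.of A) ⟶ S,
        Spec.map (CommRingCat.ofHom A.subtype) ≫ y = U.fromSpecResidueField u ≫ h ≫ f →
        ∃ l : Spec (CommRingCat.of A) ⟶ X, l ≫ f = y ∧
          Spec.map (CommRingCat.ofHom A.subtype) ≫ l = U.fromSpecResidueField u ≫ h) :
    UniversallyClosed f := by
  apply UniversallyClosed.of_valuativeCriterion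
  intro Sq
  let x' : X := Sq.i₁.base (closedPoint Sq.K)
  let φ : X.presheaf.stalk x' ⟶ CommRingCat.of Sq.K := Scheme.stalkClosedPointTo Sq.i₁
  have hφ : Spec.map φ ≫ X.fromSpecStalk x' = Sq.i₁ :=
    Scheme.Spec_stalkClosedPointTo_fromSpecStalk Sq.i₁
  have hφloc : IsLocalHom φ.hom := Scheme.isLocalHom_stalkClosedPointTo' Sq.i₁
  let s : S := Sq.i₂.base (closedPoint Sq.R)
  let ψ : S.presheaf.stalk s ⟶ CommRingCat.of Sq.R := Scheme.stalkClosedPointTo Sq.i₂
  have hψ : Spec.map ψ ≫ S.fromSpecStalk s = Sq.i₂ :=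
    Scheme.Spec_stalkClosedPointTo_fromSpecStalk Sq.i₂
  have hψloc : IsLocalHom ψ.hom := Scheme.isLocalHom_stalkClosedPointTo' Sq.i₂
  obtain ⟨u, huG, hux'⟩ := hG x'
  let ι : X.presheaf.stalk x' →+* U.residueField u := (toRes h u hux').hom
  obtain ⟨V, R, hRV, hV, hVloc, h2, h3⟩ :=
    exists_comp_valuationSubring (X.presheaf.stalk x') (U.residueField u) ι Sq.K φ.hom Sq.R
  -- `f x' ⤳ s`
  have hfx's : f.base x' ⤳ s := by
    have h1 : (Spec.map (CommRingCat.ofHom (algebraMap Sq.R Sq.K))).base (closedPoint Sq.K) ⤳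
        closedPoint Sq.R := IsLocalRing.specializes_closedPoint _
    have h2 := h1.map Sq.i₂.base.hom.continuous
    have h3 : Sq.i₂.base ((Spec.map (CommRingCat.ofHom (algebraMap Sq.R Sq.K))).base
        (closedPoint Sq.K)) = f.base x' := by
      rw [← Scheme.Hom.comp_apply, ← Sq.commSq.w, Scheme.Hom.comp_apply]
    rw [← h3]
    exact h2
  have hs : (h ≫ f).base u ⤳ s := (hux'.map f.base.hom.continuous).trans hfx's
  have E1 : S.presheaf.stalkSpecializes hfx's ≫ f.stalkMap x' ≫ φ =
      ψ ≫ CommRingCat.ofHom (algebraMap Sq.R Sq.K) := by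
    apply Spec.map_injective
    have : Mono (S.fromSpecStalk s) := inferInstance
    rw [← cancel_mono (S.fromSpecStalk s)]
    rw [Spec.map_comp, Spec.map_comp, Spec.map_comp, Category.assoc, Category.assoc, Category.assoc,
      Scheme.SpecMap_stalkSpecializes_fromSpecStalk, Scheme.SpecMap_stalkMap_fromSpecStalk,
      reassoc_of% hφ, hψ, Sq.commSq.w]
  -- `R` contains the image of `O_{S,s}`
  have hRβ : ∀ b, (toRes (h ≫ f) u hs).hom b ∈ R := by
    intro b
    have e := toRes_comp h f u hux' hfx's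
    let o : X.presheaf.stalk x' := (S.presheaf.stalkSpecializes hfx's ≫ f.stalkMap x').hom b
    have ho : φ.hom o = algebraMap Sq.R Sq.K (ψ.hom b) := congrArg (fun g => g.hom b) E1
    have hb : (toRes (h ≫ f) u hs).hom b = ι o := (congrArg (fun g => g.hom b) e).symm
    rw [hb]
    exact (h2 o (ψ.hom b) ho).1
  obtain ⟨S₀, hS₀, hsS₀⟩ : ∃ S₀ : S.Opens, IsAffineOpen S₀ ∧ s ∈ S₀ := by
    obtain ⟨_, ⟨W, hW, rfl⟩, hyW, -⟩ :=
      S.isBasis_affineOpens.exists_subset_of_mem_open (Set.mem_univ s) isOpen_univ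
    exact ⟨W, hW, hyW⟩
  obtain ⟨lR, hlR, hlRS₀⟩ := exists_lift_of_dvr_lifts f h u (H u huG) hs S₀ hS₀ hsS₀ R hRβ
  obtain ⟨hux, hx1, -⟩ := center_of_lift h u R lR hlR
  -- `x' ⤳ x` by separatedness of `f`
  have hx'x : x' ⤳ lR.base (closedPoint R) := by
    let ρ : X.presheaf.stalk x' ⟶ CommRingCat.of V :=
      CommRingCat.ofHom (ι.codRestrict V.toSubring hV)
    have hρloc : IsLocalHom ρ.hom := by
      constructor
      intro o ho
      by_contra hnu
      have h1 := hVloc o hnu
      have h2 := (V.valuation_eq_one_iff _).mp ho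
      have h3 : V.valuation (ι o) = 1 := h2
      rw [h3] at h1
      exact lt_irrefl _ h1
    let incRV : CommRingCat.of R ⟶ CommRingCat.of V :=
      CommRingCat.ofHom (ValuationSubring.inclusion R V hRV)
    let m₁ : Spec (CommRingCat.of V) ⟶ X := Spec.map incRV ≫ lR
    let m₂ : Spec (CommRingCat.of V) ⟶ X := Spec.map ρ ≫ X.fromSpecStalk x'
    let incV : CommRingCat.of V ⟶ U.residueField u := CommRingCat.ofHom V.subtype
    have g1 : Spec.map incV ≫ m₁ = U.fromSpecResidueField u ≫ h := by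
      have e : incRV ≫ incV = CommRingCat.ofHom R.subtype := by
        ext a; rfl
      rw [← Spec.map_comp_assoc, e, hlR]
    have g2 : Spec.map incV ≫ m₂ = U.fromSpecResidueField u ≫ h := by
      have e : ρ ≫ incV = toRes h u hux' := by
        ext a; rfl
      rw [← Spec.map_comp_assoc, e, SpecMap_toRes_fromSpecStalk]
    have c2 : m₂.base (closedPoint V) = x' := by
      rw [Scheme.Hom.comp_apply, Spec_closedPoint (f := ρ), Scheme.fromSpecStalk_closedPoint]
    have c1 : m₁.base (closedPoint V) ⤳ lR.base (closedPoint R) := by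
      rw [Scheme.Hom.comp_apply]
      exact (IsLocalRing.specializes_closedPoint _).map lR.base.hom.continuous
    have hf12 : m₁ ≫ f = m₂ ≫ f := by
      apply eq_of_common_affine incV Subtype.val_injective S₀ hS₀
      · rw [Scheme.Hom.comp_apply]
        exact (c1.map f.base.hom.continuous).mem_open S₀.isOpen hlRS₀
      · rw [Scheme.Hom.comp_apply, c2]
        exact hfx's.mem_open S₀.isOpen hsS₀
      · calc Spec.map incV ≫ m₁ ≫ f = (Spec.map incV ≫ m₁) ≫ f := (Category.assoc _ _ _).symm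
          _ = (Spec.map incV ≫ m₂) ≫ f := by rw [g1, g2]
          _ = _ := Category.assoc _ _ _
    have huniq := IsSeparated.valuativeCriterion f
    let Sq' : ValuativeCommSq f :=
      { R := V, K := U.residueField u
        i₁ := U.fromSpecResidueField u ≫ h
        i₂ := m₁ ≫ f
        commSq := ⟨by rw [← g1, Category.assoc]; rfl⟩ }
    have := huniq Sq'
    let L₁ : Sq'.commSq.LiftStruct := ⟨m₁, g1, rfl⟩
    let L₂ : Sq'.commSq.LiftStruct := ⟨m₂, g2, hf12.symm⟩
    have h12 : m₁ = m₂ := congrArg CommSq.LiftStruct.l (Subsingleton.elim L₁ L₂)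
    rw [h12, c2] at c1
    exact c1
  -- the ring map `O_{X,x} → Sq.R`
  let g : X.presheaf.stalk (lR.base (closedPoint R)) →+* Sq.K :=
    (X.presheaf.stalkSpecializes hx'x ≫ φ).hom
  have hinj : Function.Injective (algebraMap Sq.R Sq.K) := IsFractionRing.injective Sq.R Sq.K
  have hg : ∀ a, g a ∈ (algebraMap Sq.R Sq.K).range := by
    intro a
    let a' : X.presheaf.stalk x' := (X.presheaf.stalkSpecializes hx'x).hom a
    have ha' : ι a' = (toRes h u hux).hom a :=
      congrArg (fun g => g.hom a) (toRes_stalkSpecializes h u hux' hx'x)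
    have hmem : ι a' ∈ R := by rw [ha']; exact hx1 a
    obtain ⟨r, hr, -⟩ := h3 a' hmem
    exact ⟨r, hr⟩
  let e : Sq.R ≃+* (algebraMap Sq.R Sq.K).range :=
    RingEquiv.ofBijective (algebraMap Sq.R Sq.K).rangeRestrict
      ⟨fun a b hab => hinj (congrArg Subtype.val hab),
        (algebraMap Sq.R Sq.K).rangeRestrict_surjective⟩
  let θ : X.presheaf.stalk (lR.base (closedPoint R)) →+* Sq.R :=
    e.symm.toRingHom.comp (g.codRestrict (algebraMap Sq.R Sq.K).range hg)
  have hθ : ∀ a, algebraMap Sq.R Sq.K (θ a) = g a := by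
    intro a
    have h1 : e (θ a) = g.codRestrict (algebraMap Sq.R Sq.K).range hg a := e.apply_symm_apply _
    exact congrArg Subtype.val h1
  let θ' : X.presheaf.stalk (lR.base (closedPoint R)) ⟶ CommRingCat.of Sq.R := CommRingCat.ofHom θ
  have hθ' : θ' ≫ CommRingCat.ofHom (algebraMap Sq.R Sq.K) =
      X.presheaf.stalkSpecializes hx'x ≫ φ := by
    ext a
    exact hθ a
  let l : Spec (CommRingCat.of Sq.R) ⟶ X := Spec.map θ' ≫ X.fromSpecStalk _
  have hl1 : Spec.map (CommRingCat.ofHom (algebraMap Sq.R Sq.K)) ≫ l = Sq.i₁ := by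
    show _ ≫ Spec.map θ' ≫ X.fromSpecStalk _ = _
    rw [← Spec.map_comp_assoc, hθ', Spec.map_comp, Category.assoc,
      Scheme.SpecMap_stalkSpecializes_fromSpecStalk, hφ]
  have hl2 : l ≫ f = Sq.i₂ := by
    apply eq_of_common_affine (CommRingCat.ofHom (algebraMap Sq.R Sq.K)) hinj S₀ hS₀
    · have h4 : l.base (closedPoint Sq.R) ∈
          Set.range (X.fromSpecStalk (lR.base (closedPoint R))).base := by
        show (Spec.map θ' ≫ X.fromSpecStalk (lR.base (closedPoint R))).base _ ∈ _
        rw [Scheme.Hom.comp_apply]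
        exact ⟨_, rfl⟩
      rw [Scheme.range_fromSpecStalk] at h4
      rw [Scheme.Hom.comp_apply]
      exact ((h4 : _ ⤳ _).map f.base.hom.continuous).mem_open S₀.isOpen hlRS₀
    · exact hsS₀
    · rw [reassoc_of% hl1, Sq.commSq.w]
  exact ⟨⟨⟨l, hl1, hl2⟩⟩⟩

end Groth.Agent.H76.DVRThrough
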