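import Mathlib
import Groth.Agent.H76.FlatLocal
import Groth.Agent.H76.FlatBaseChange
import Groth.Agent.H76.FlatLocusFP

/-!
# Flat locus on an intermediate base (helper76)

For `A → B → C` and a `C`-module `M`: the set of primes `q` of `B` with `M_q` flat over `A` is the
complement of `V(f⁻¹ J)` where `V(J)` is the non-flat locus in `Spec C`.
-/

set_option autoImplicit false
universe u

open TensorProduct

namespace Groth.Agent.H76.FlatLocusTower

section Local

variable {R S M : Type*} [CommRing R] [CommRing S] [Algebra R S] [AddCommGroup M] [Module R M]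
  [Module S M] [IsScalarTower R S M] (W : Submonoid S)

/-- Flatness of `W⁻¹M` can be checked at the primes disjoint from `W`. -/
theorem flat_localized_iff_forall_prime :
    Module.Flat R (LocalizedModule W M) ↔
      ∀ r : Ideal S, ∀ _ : r.IsPrime, Disjoint (r : Set S) W →
        Module.Flat R (LocalizedModule r.primeCompl M) := by
  constructor
  · intro h r _ hr
    refine Groth.Agent.H76.FlatLocal.flat_localized_of_le (W := W) ?_
    intro w hw hwr
    exact Set.disjoint_left.mp hr hwr hw
  · intro h
    rw [Groth.Agent.H76.FlatLocal.flat_localized_iff]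
    intro I _ z hz
    by_contra hcon
    push_neg at hcon
    set ann : Ideal S := LinearMap.ker (LinearMap.toSpanSingleton S (M ⊗[R] I) z) with hann
    have hmem : ∀ c : S, c ∈ ann ↔ c • z = 0 := by
      intro c
      rw [hann, LinearMap.mem_ker, LinearMap.toSpanSingleton_apply]
    have hdisj : Disjoint (ann : Set S) W := by
      rw [Set.disjoint_left]
      intro c hc hcW
      exact hcon c hcW ((hmem c).mp hc)
    obtain ⟨r, hrprime, hle, hrW⟩ := Ideal.exists_le_prime_disjoint ann W hdisj
    haveI := h r hrprime hrW
    obtain ⟨w, hw, hwz⟩ := Groth.Agent.H76.FlatLocal.exists_smul_eq_zero_of_flat r.primeCompl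
      I.subtype Subtype.val_injective z hz
    exact hw (hle ((hmem w).mpr hwz))

end Local

section Tower

/-- For `A → B → C` of finite presentation and a finitely presented `C`-module `M`, the set of
primes `q` of `B` such that `M_q` is flat over `A` is open. -/
theorem isOpen_flatLocus_tower {A B C : Type u} [CommRing A] [CommRing B] [CommRing C]
    [Algebra A B] [Algebra B C] [Algebra A C] [IsScalarTower A B C]
    [Algebra.FinitePresentation A B] [Algebra.FinitePresentation B C]
    (M : Type u) [AddCommGroup M] [Module C M] [Module B M] [Module A M]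
    [IsScalarTower B C M] [IsScalarTower A C M] [IsScalarTower A B M]
    [Module.FinitePresentation C M] :
    IsOpen {q : PrimeSpectrum B | Module.Flat A (LocalizedModule q.asIdeal.primeCompl M)} := by
  haveI : Algebra.FinitePresentation A C := Algebra.FinitePresentation.trans A B C
  have hopen := Groth.Agent.H76.FlatLocusFP.isOpen_flatLocus (R := A) (S := C) (M := M)
  obtain ⟨J, hJ⟩ := (PrimeSpectrum.isClosed_iff_zeroLocus_ideal _).mp hopen.isClosed_compl
  suffices h : {q : PrimeSpectrum B |
      Module.Flat A (LocalizedModule q.asIdeal.primeCompl M)} =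
      (PrimeSpectrum.zeroLocus (J.comap (algebraMap B C) : Set B))ᶜ by
    rw [h]
    exact (PrimeSpectrum.isClosed_zeroLocus _).isOpen_compl
  ext q
  set W := Algebra.algebraMapSubmonoid C q.asIdeal.primeCompl with hW
  have h1 : Module.Flat A (LocalizedModule q.asIdeal.primeCompl M) ↔
      Module.Flat A (LocalizedModule W M) := by
    haveI : IsLocalizedModule q.asIdeal.primeCompl
        ((LocalizedModule.mkLinearMap W M).restrictScalars B) :=
      IsLocalizedModule.restrictScalars _ _
    exact (Groth.Agent.H76.FlatBaseChange.flat_iff_flat_localized (R := A) q.asIdeal.primeCompl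
      ((LocalizedModule.mkLinearMap W M).restrictScalars B)).symm
  have hmemZ : ∀ r : PrimeSpectrum C, J ≤ r.asIdeal ↔
      ¬ Module.Flat A (LocalizedModule r.asIdeal.primeCompl M) := by
    intro r
    have : r ∈ PrimeSpectrum.zeroLocus (J : Set C) ↔ r ∈ {r : PrimeSpectrum C |
        Module.Flat A (LocalizedModule r.asIdeal.primeCompl M)}ᶜ := by rw [hJ]
    exact this
  simp only [Set.mem_setOf_eq, Set.mem_compl_iff, PrimeSpectrum.mem_zeroLocus, SetLike.coe_subset_coe]
  rw [h1, flat_localized_iff_forall_prime]
  constructor
  · intro h hle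
    have hdisj : Disjoint (J : Set C) W := by
      rw [Set.disjoint_left]
      rintro _ hcJ ⟨b, hb, rfl⟩
      exact hb (hle hcJ)
    obtain ⟨r, hrprime, hJr, hrW⟩ := Ideal.exists_le_prime_disjoint J W hdisj
    exact (hmemZ ⟨r, hrprime⟩).mp hJr (h r hrprime hrW)
  · intro h r hrprime hrW
    by_contra hnf
    apply h
    have hJr : J ≤ r := (hmemZ ⟨r, hrprime⟩).mpr hnf
    intro b hb
    by_contra hbq
    exact Set.disjoint_left.mp hrW (hJr hb) ⟨b, hbq, rfl⟩

end Tower

end Groth.Agent.H76.FlatLocusTower
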