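import Mathlib

/-!
# Universal injectivity of maps from projective modules into flat modules over local rings (helper76)
-/

set_option autoImplicit false
universe u

open TensorProduct

namespace Groth.Agent.H76.UnivInj

section Prod

variable {R : Type u} [CommRing R]

/-- The product of two flat modules is flat. -/
theorem flat_prod (M₁ M₂ : Type u) [AddCommGroup M₁] [Module R M₁] [AddCommGroup M₂] [Module R M₂]
    [Module.Flat R M₁] [Module.Flat R M₂] : Module.Flat R (M₁ × M₂) := by
  rw [Module.Flat.iff_rTensor_preserves_injective_linearMap]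
  intro N P _ _ _ _ f hf
  rw [injective_iff_map_eq_zero]
  intro z hz
  have h1 : (LinearMap.fst R M₁ M₂).lTensor N z = 0 := by
    apply Module.Flat.rTensor_preserves_injective_linearMap (M := M₁) f hf
    have : (f.rTensor M₁) ((LinearMap.fst R M₁ M₂).lTensor N z) =
        (LinearMap.fst R M₁ M₂).lTensor P ((f.rTensor (M₁ × M₂)) z) := by
      rw [← LinearMap.comp_apply, ← LinearMap.comp_apply, LinearMap.rTensor_comp_lTensor,
        LinearMap.lTensor_comp_rTensor]
    rw [this, hz, map_zero, map_zero]
  have h2 : (LinearMap.snd R M₁ M₂).lTensor N z = 0 := by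
    apply Module.Flat.rTensor_preserves_injective_linearMap (M := M₂) f hf
    have : (f.rTensor M₂) ((LinearMap.snd R M₁ M₂).lTensor N z) =
        (LinearMap.snd R M₁ M₂).lTensor P ((f.rTensor (M₁ × M₂)) z) := by
      rw [← LinearMap.comp_apply, ← LinearMap.comp_apply, LinearMap.rTensor_comp_lTensor,
        LinearMap.lTensor_comp_rTensor]
    rw [this, hz, map_zero, map_zero]
  have hid : (LinearMap.id : M₁ × M₂ →ₗ[R] M₁ × M₂) =
      (LinearMap.inl R M₁ M₂) ∘ₗ (LinearMap.fst R M₁ M₂) +
        (LinearMap.inr R M₁ M₂) ∘ₗ (LinearMap.snd R M₁ M₂) := by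
    ext x <;> simp
  have : z = (LinearMap.id : M₁ × M₂ →ₗ[R] M₁ × M₂).lTensor N z := by
    rw [LinearMap.lTensor_id, LinearMap.id_apply]
  rw [this, hid, LinearMap.lTensor_add, LinearMap.add_apply, LinearMap.lTensor_comp,
    LinearMap.lTensor_comp, LinearMap.comp_apply, LinearMap.comp_apply, h1, h2, map_zero,
    map_zero, add_zero]

end Prod

section Core

variable {R : Type u} [CommRing R]

theorem finsuppScalarLeft_lmapDomain {ι ι' : Type*} [DecidableEq ι] [DecidableEq ι']
    (f : ι' → ι) (Q : Type*) [AddCommGroup Q] [Module R Q]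
    (z : (ι' →₀ R) ⊗[R] Q) :
    finsuppScalarLeft R Q ι ((Finsupp.lmapDomain R R f).rTensor Q z) =
      Finsupp.mapDomain f (finsuppScalarLeft R Q ι' z) := by
  induction z using TensorProduct.induction_on with
  | zero => simp
  | add x y hx hy => rw [map_add, map_add, hx, hy, map_add, Finsupp.mapDomain_add]
  | tmul p n =>
    induction p using Finsupp.induction_linear with
    | zero => simp
    | add p₁ p₂ h₁ h₂ =>
      rw [TensorProduct.add_tmul, map_add, map_add, h₁, h₂, map_add, Finsupp.mapDomain_add]
    | single i r =>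
      rw [LinearMap.rTensor_tmul, Finsupp.lmapDomain_apply, Finsupp.mapDomain_single,
        finsuppScalarLeft_apply_tmul, finsuppScalarLeft_apply_tmul,
        Finsupp.sum_single_index (by simp), Finsupp.sum_single_index (by simp),
        Finsupp.mapDomain_single]

variable [IsLocalRing R]
variable {N : Type u} [AddCommGroup N] [Module R N] [Module.Flat R N]

open IsLocalRing

/-- The finite free case. -/
theorem rTensor_injective_of_fintype {ι : Type u} [Fintype ι]
    (v : (ι →₀ R) →ₗ[R] N) (h : Function.Injective (v.lTensor (ResidueField R)))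
    (Q : Type u) [AddCommGroup Q] [Module R Q] : Function.Injective (v.rTensor Q) := by
  classical
  rw [injective_iff_map_eq_zero]
  intro x hx
  set q : ι →₀ Q := finsuppScalarLeft R Q ι x with hq
  have hxq : x = ∑ i, (Finsupp.single i (1 : R)) ⊗ₜ[R] q i := by
    have h1 : x = (finsuppScalarLeft R Q ι).symm q := by rw [hq, LinearEquiv.symm_apply_apply]
    rw [h1]
    conv_lhs => rw [← Finsupp.univ_sum_single q]
    rw [map_sum]
    refine Finset.sum_congr rfl (fun i _ => ?_)
    rw [finsuppScalarLeft_symm_apply_single]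
  set y : ι → N := fun i => v (Finsupp.single i 1) with hy
  have hsum : ∑ i, q i ⊗ₜ[R] y i = (0 : Q ⊗[R] N) := by
    have : (TensorProduct.comm R N Q) (v.rTensor Q x) = ∑ i, q i ⊗ₜ[R] y i := by
      rw [hxq, map_sum, map_sum]
      refine Finset.sum_congr rfl (fun i _ => ?_)
      rw [LinearMap.rTensor_tmul, TensorProduct.comm_tmul]
    rw [← this, hx, map_zero]
  obtain ⟨k, a, y', hy', ha⟩ :=
    TensorProduct.vanishesTrivially_of_sum_tmul_eq_zero_of_rTensor_injective R
      (Module.Flat.rTensor_preserves_injective_linearMap _ Subtype.val_injective) hsum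
  -- the matrix `a` as a linear map
  let α : ι → (Fin k →₀ R) := fun i => Finsupp.equivFunOnFinite.symm (a i)
  let At : (ι →₀ R) →ₗ[R] (Fin k →₀ R) := Finsupp.linearCombination R α
  let w : (Fin k →₀ R) →ₗ[R] N := Finsupp.linearCombination R y'
  have hv : v = w ∘ₗ At := by
    apply Finsupp.lhom_ext'
    intro i
    apply LinearMap.ext_ring
    rw [LinearMap.comp_apply, LinearMap.comp_apply, LinearMap.comp_apply, Finsupp.lsingle_apply]
    show y i = _
    rw [hy' i]
    show _ = w (Finsupp.linearCombination R α (Finsupp.single i 1))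
    rw [Finsupp.linearCombination_single, one_smul]
    show _ = Finsupp.linearCombination R y' (α i)
    rw [Finsupp.linearCombination_apply, Finsupp.sum_fintype _ _ (by simp)]
    rfl
  have hAt : Function.Injective (At.lTensor (ResidueField R)) := by
    have : v.lTensor (ResidueField R) =
        w.lTensor (ResidueField R) ∘ₗ At.lTensor (ResidueField R) := by
      rw [hv, LinearMap.lTensor_comp]
    rw [this] at h
    exact Function.Injective.of_comp h
  obtain ⟨L, hL⟩ :=
    (IsLocalRing.split_injective_iff_lTensor_residueField_injective At).mpr hAt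
  have hAx : At.rTensor Q x = 0 := by
    apply (finsuppScalarLeft R Q (Fin k)).injective
    rw [map_zero]
    ext j
    rw [hxq, map_sum, map_sum, Finsupp.coe_finset_sum, Finset.sum_apply, Finsupp.zero_apply]
    rw [← ha j]
    refine Finset.sum_congr rfl (fun i _ => ?_)
    rw [LinearMap.rTensor_tmul, finsuppScalarLeft_apply_tmul_apply]
    show (Finsupp.linearCombination R α (Finsupp.single i 1)) j • q i = _
    rw [Finsupp.linearCombination_single, one_smul]
    rfl
  have : x = (L.rTensor Q) ((At.rTensor Q) x) := by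
    rw [← LinearMap.comp_apply, ← LinearMap.rTensor_comp, hL, LinearMap.rTensor_id,
      LinearMap.id_apply]
  rw [this, hAx, map_zero]

/-- The free case. -/
theorem rTensor_injective_of_finsupp {ι : Type u}
    (v : (ι →₀ R) →ₗ[R] N) (h : Function.Injective (v.lTensor (ResidueField R)))
    (Q : Type u) [AddCommGroup Q] [Module R Q] : Function.Injective (v.rTensor Q) := by
  classical
  rw [injective_iff_map_eq_zero]
  intro x hx
  set q : ι →₀ Q := finsuppScalarLeft R Q ι x with hq
  let f : {i // i ∈ q.support} → ι := Subtype.val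
  have hf : Function.Injective f := Subtype.val_injective
  let incl : ({i // i ∈ q.support} →₀ R) →ₗ[R] (ι →₀ R) := Finsupp.lmapDomain R R f
  let retr : (ι →₀ R) →ₗ[R] ({i // i ∈ q.support} →₀ R) := Finsupp.lcomapDomain f hf
  have hri : retr ∘ₗ incl = LinearMap.id := by
    apply LinearMap.ext
    intro l
    exact Finsupp.comapDomain_mapDomain f hf l
  let x₀ : ({i // i ∈ q.support} →₀ R) ⊗[R] Q :=
    (finsuppScalarLeft R Q _).symm (Finsupp.comapDomain f q hf.injOn)
  have hx₀ : incl.rTensor Q x₀ = x := by
    apply (finsuppScalarLeft R Q ι).injective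
    rw [finsuppScalarLeft_lmapDomain, LinearEquiv.apply_symm_apply]
    apply Finsupp.mapDomain_comapDomain f hf q
    intro i hi
    exact ⟨⟨i, hi⟩, rfl⟩
  have hincl : Function.Injective (incl.lTensor (ResidueField R)) := by
    apply Function.HasLeftInverse.injective
    refine ⟨retr.lTensor (ResidueField R), fun z => ?_⟩
    rw [← LinearMap.comp_apply, ← LinearMap.lTensor_comp, hri, LinearMap.lTensor_id,
      LinearMap.id_apply]
  have h' : Function.Injective ((v ∘ₗ incl).lTensor (ResidueField R)) := by
    rw [LinearMap.lTensor_comp]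
    exact h.comp hincl
  have h0 : x₀ = 0 := by
    apply rTensor_injective_of_fintype (v ∘ₗ incl) h' Q
    rw [LinearMap.rTensor_comp, LinearMap.comp_apply, hx₀, hx, map_zero]
  rw [← hx₀, h0, map_zero]

/-- The projective case. -/
theorem rTensor_injective_of_projective {M : Type u} [AddCommGroup M] [Module R M]
    [Module.Projective R M]
    (u : M →ₗ[R] N) (h : Function.Injective (u.lTensor (ResidueField R)))
    (Q : Type u) [AddCommGroup Q] [Module R Q] : Function.Injective (u.rTensor Q) := by
  classical
  obtain ⟨s, hs⟩ := Module.projective_def'.mp (inferInstance : Module.Projective R M)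
  set p : (M →₀ R) →ₗ[R] M := Finsupp.linearCombination R id with hp
  haveI : Module.Flat R (N × (M →₀ R)) := flat_prod N (M →₀ R)
  let û : (M →₀ R) →ₗ[R] N × (M →₀ R) :=
    (LinearMap.inl R N (M →₀ R)) ∘ₗ u ∘ₗ p +
      (LinearMap.inr R N (M →₀ R)) ∘ₗ (LinearMap.id - s ∘ₗ p)
  have h1 : (LinearMap.fst R N (M →₀ R)) ∘ₗ û = u ∘ₗ p := by
    ext x <;> simp [û]
  have h2 : (LinearMap.snd R N (M →₀ R)) ∘ₗ û = LinearMap.id - s ∘ₗ p := by
    ext x <;> simp [û]
  have hû : Function.Injective (û.lTensor (ResidueField R)) := by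
    rw [injective_iff_map_eq_zero]
    intro z hz
    have e1 : (u.lTensor (ResidueField R)) ((p.lTensor (ResidueField R)) z) = 0 := by
      rw [← LinearMap.comp_apply, ← LinearMap.lTensor_comp, ← h1, LinearMap.lTensor_comp,
        LinearMap.comp_apply, hz, map_zero]
    have e2 : (p.lTensor (ResidueField R)) z = 0 := by
      apply h
      rw [e1, map_zero]
    have e3 : ((LinearMap.id - s ∘ₗ p).lTensor (ResidueField R)) z = 0 := by
      rw [← h2, LinearMap.lTensor_comp, LinearMap.comp_apply, hz, map_zero]
    rw [LinearMap.lTensor_sub, LinearMap.sub_apply, LinearMap.lTensor_id, LinearMap.id_apply,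
      LinearMap.lTensor_comp, LinearMap.comp_apply, e2, map_zero, sub_zero] at e3
    exact e3
  have hinj := rTensor_injective_of_finsupp û hû Q
  rw [injective_iff_map_eq_zero]
  intro m hm
  have hps : (p.rTensor Q) ((s.rTensor Q) m) = m := by
    rw [← LinearMap.comp_apply, ← LinearMap.rTensor_comp, hs, LinearMap.rTensor_id,
      LinearMap.id_apply]
  have : (s.rTensor Q) m = 0 := by
    apply hinj
    rw [map_zero]
    show ((LinearMap.inl R N (M →₀ R) ∘ₗ u ∘ₗ p +
      LinearMap.inr R N (M →₀ R) ∘ₗ (LinearMap.id - s ∘ₗ p)).rTensor Q) ((s.rTensor Q) m) = 0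
    have e0 : (LinearMap.id - s ∘ₗ p) ∘ₗ s = 0 := by
      rw [LinearMap.sub_comp, LinearMap.id_comp, LinearMap.comp_assoc, hs, LinearMap.comp_id]
      exact sub_self s
    have e : ((LinearMap.id - s ∘ₗ p).rTensor Q) ((s.rTensor Q) m) = 0 := by
      rw [← LinearMap.comp_apply, ← LinearMap.rTensor_comp, e0, LinearMap.rTensor_zero,
        LinearMap.zero_apply]
    rw [LinearMap.rTensor_add, LinearMap.add_apply, LinearMap.rTensor_comp,
      LinearMap.rTensor_comp, LinearMap.comp_apply, LinearMap.comp_apply, hps, hm, map_zero,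
      zero_add, LinearMap.rTensor_comp, LinearMap.comp_apply, e, map_zero]
  rw [← hps, this, map_zero]

end Core

end Groth.Agent.H76.UnivInj
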