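/-
helper76: transcendence degree of a residue field extension from Noether normalization data.
-/
import Mathlib

set_option autoImplicit false
universe u

namespace Groth.Agent.H76.AssGen

open MvPolynomial

section T

variable {A B K L : Type*} [CommRing A] [CommRing B] [Algebra A B] [Field K] [Field L]
  [Algebra K L] (φ : A →+* K) (ψ : B →+* L)

/-- Clearing denominators in a polynomial with coefficients in a field of fractions. -/
theorem exists_map_eq_C_mul (hφ : ∀ z : K, ∃ a s : A, φ s ≠ 0 ∧ z * φ s = φ a) {d : ℕ}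
    (P : MvPolynomial (Fin d) K) :
    ∃ (s : A) (h : MvPolynomial (Fin d) A), φ s ≠ 0 ∧ MvPolynomial.map φ h = C (φ s) * P := by
  induction P using MvPolynomial.induction_on with
  | C k =>
    obtain ⟨a, s, hs, hk⟩ := hφ k
    refine ⟨s, C a, hs, ?_⟩
    rw [map_C, ← C_mul, ← hk, mul_comm]
  | add p q hp hq =>
    obtain ⟨s₁, h₁, hs₁, e₁⟩ := hp
    obtain ⟨s₂, h₂, hs₂, e₂⟩ := hq
    refine ⟨s₁ * s₂, C s₂ * h₁ + C s₁ * h₂, ?_, ?_⟩
    · rw [map_mul]; exact mul_ne_zero hs₁ hs₂
    · rw [map_add, map_mul, map_mul, e₁, e₂, map_C, map_C, map_mul, C_mul]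
      ring
  | mul_X p i hp =>
    obtain ⟨s, h, hs, e⟩ := hp
    refine ⟨s, h * X i, hs, ?_⟩
    rw [map_mul, e, map_X, mul_assoc]

variable (hcomp : (algebraMap K L).comp φ = ψ.comp (algebraMap A B))

include hcomp in
theorem aeval_map_eq {d : ℕ} (b : Fin d → B) (h : MvPolynomial (Fin d) A) :
    aeval (fun i => ψ (b i)) (MvPolynomial.map φ h) = ψ (aeval b h) := by
  have : ((aeval (fun i => ψ (b i)) : MvPolynomial (Fin d) K →ₐ[K] L).toRingHom.comp
      (MvPolynomial.map φ)) = ψ.comp (aeval b : MvPolynomial (Fin d) A →ₐ[A] B).toRingHom := by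
    apply MvPolynomial.ringHom_ext
    · intro r
      show aeval (fun i => ψ (b i)) (MvPolynomial.map φ (C r)) = ψ (aeval b (C r))
      rw [map_C, aeval_C, aeval_C]
      exact congr($hcomp r)
    · intro i
      show aeval (fun i => ψ (b i)) (MvPolynomial.map φ (X i)) = ψ (aeval b (X i))
      rw [map_X, aeval_X, aeval_X]
  exact congr($this h)

include hcomp in
/-- **Transcendence degree from Noether normalization data.** -/
theorem trdeg_eq_of_nn (hφ : ∀ z : K, ∃ a s : A, φ s ≠ 0 ∧ z * φ s = φ a)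
    (hψ : ∀ z : L, ∃ b s : B, ψ s ≠ 0 ∧ z * ψ s = ψ b) {d : ℕ} (b : Fin d → B) (a₁ : A)
    (ha₁ : φ a₁ ≠ 0) (T : Finset B) (hT : Algebra.adjoin A (T : Set B) = ⊤)
    (hind : ∀ h : MvPolynomial (Fin d) A, ψ (aeval b h) = 0 → ∀ m, φ (h.coeff m) = 0)
    (hint : ∀ t ∈ T, (ψ.comp (aeval b : MvPolynomial (Fin d) A →ₐ[A] B).toRingHom).IsIntegralElem
      (ψ (a₁ • t))) :
    Algebra.trdeg K L = d := by
  classical
  set x : Fin d → L := fun i => ψ (b i) with hx
  -- algebraic independence
  have hAI : AlgebraicIndependent K x := by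
    rw [algebraicIndependent_iff]
    intro P hP
    obtain ⟨s, h, hs, e⟩ := exists_map_eq_C_mul φ hφ P
    have h1 : ψ (aeval b h) = 0 := by
      rw [← aeval_map_eq φ ψ hcomp b h, e, map_mul, hP, mul_zero]
    have h2 : MvPolynomial.map φ h = 0 := by
      ext m
      rw [coeff_map, hind h h1 m, coeff_zero]
    rw [h2] at e
    rcases mul_eq_zero.mp e.symm with h3 | h3
    · exact absurd (C_injective _ _ (h3.trans C_0.symm)) hs
    · exact h3
  -- algebraicity
  set E : Subalgebra K L := Algebra.adjoin K (Set.range x) with hE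
  let xE : Fin d → E := fun i => ⟨x i, Algebra.subset_adjoin ⟨i, rfl⟩⟩
  let θ : MvPolynomial (Fin d) A →+* E :=
    (aeval xE : MvPolynomial (Fin d) K →ₐ[K] E).toRingHom.comp (MvPolynomial.map φ)
  have hθ : (algebraMap E L).comp θ =
      ψ.comp (aeval b : MvPolynomial (Fin d) A →ₐ[A] B).toRingHom := by
    apply MvPolynomial.ringHom_ext
    · intro r
      show algebraMap E L (aeval xE (MvPolynomial.map φ (C r))) = ψ (aeval b (C r))
      rw [map_C, aeval_C, aeval_C, ← IsScalarTower.algebraMap_apply K E L]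
      exact congr($hcomp r)
    · intro i
      show algebraMap E L (aeval xE (MvPolynomial.map φ (X i))) = ψ (aeval b (X i))
      rw [map_X, aeval_X, aeval_X]
      rfl
  have hA_E : ∀ a : A, IsIntegral E (ψ (algebraMap A B a)) := by
    intro a
    have : ψ (algebraMap A B a) = algebraMap E L (algebraMap K E (φ a)) := by
      rw [← IsScalarTower.algebraMap_apply K E L]
      exact congr($hcomp a).symm
    rw [this]
    exact isIntegral_algebraMap
  have hT_E : ∀ t ∈ T, IsIntegral E (ψ t) := by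
    intro t ht
    have h1 : ((algebraMap E L).comp θ).IsIntegralElem (ψ (a₁ • t)) := by
      rw [hθ]; exact hint t ht
    have h2 : IsIntegral E (ψ (a₁ • t)) := RingHom.IsIntegralElem.of_comp h1
    have h3 : ψ (a₁ • t) = ψ t * ψ (algebraMap A B a₁) := by
      rw [Algebra.smul_def, map_mul, mul_comm]
    rw [h3] at h2
    have h4 : ψ (algebraMap A B a₁) = algebraMap K L (φ a₁) := congr($hcomp a₁).symm
    refine IsIntegral.of_mul_unit (r := algebraMap K E (φ a₁)⁻¹) (y := ψ (algebraMap A B a₁)) ?_ h2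
    rw [← IsScalarTower.algebraMap_apply K E L, h4, ← map_mul, inv_mul_cancel₀ ha₁, map_one]
  have hB_E : ∀ b' : B, IsIntegral E (ψ b') := by
    intro b'
    have hb' : b' ∈ Algebra.adjoin A (T : Set B) := by rw [hT]; trivial
    induction hb' using Algebra.adjoin_induction with
    | mem t ht => exact hT_E t ht
    | algebraMap r => exact hA_E r
    | add y z _ _ hy hz => rw [map_add]; exact hy.add hz
    | mul y z _ _ hy hz => rw [map_mul]; exact hy.mul hz
  have hAlg : Algebra.IsAlgebraic E L := by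
    refine ⟨fun y => ?_⟩
    obtain ⟨b', s, hs, e⟩ := hψ y
    have hy : y = ψ b' * (ψ s)⁻¹ := by
      rw [← e, mul_assoc, mul_inv_cancel₀ hs, mul_one]
    rw [hy]
    exact (hB_E b').isAlgebraic.mul (hB_E s).isAlgebraic.inv
  have hTB : IsTranscendenceBasis K x := hAI.isTranscendenceBasis_iff_isAlgebraic.mpr hAlg
  have := hTB.lift_cardinalMk_eq_trdeg
  rw [Cardinal.mk_fin, Cardinal.lift_natCast] at this
  rw [← Cardinal.lift_inj.{_, 0}, ← this, Cardinal.lift_natCast]

end T

end Groth.Agent.H76.AssGen
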