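import Mathlib
import Groth.Agent.Lib.Helper91.GenericFreeness

/-!
# Element-wise consequences of generic freeness over a domain (helper76)
-/

set_option autoImplicit false
universe u

namespace Groth.Agent.H76.RelAss

section Dom

variable {D : Type*} [CommRing D] [IsDomain D]

/-- `C` is free over `D` after inverting `a`, element-wise. -/
def AFree (a : D) (C : Type*) [AddCommGroup C] [Module D C] : Prop :=
  ∃ (ι : Type) (e : ι → C), LinearIndependent D e ∧
    ∀ y : C, ∃ k : ℕ, a ^ k • y ∈ Submodule.span D (Set.range e)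

variable {C : Type*} [AddCommGroup C] [Module D C]

theorem AFree.mul_right {a : D} (h : AFree a C) (a' : D) : AFree (a * a') C := by
  obtain ⟨ι, e, hli, hsp⟩ := h
  refine ⟨ι, e, hli, fun y => ?_⟩
  obtain ⟨k, hk⟩ := hsp y
  refine ⟨k, ?_⟩
  rw [mul_pow, mul_comm, mul_smul]
  exact Submodule.smul_mem _ _ hk

theorem AFree.mul_left {a : D} (h : AFree a C) (a' : D) : AFree (a' * a) C := by
  rw [mul_comm]; exact h.mul_right a'

/-- generic freeness, element-wise -/
theorem exists_aFree (S : Type*) [CommRing S] [Algebra D S] [Algebra.FiniteType D S]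
    (M : Type*) [AddCommGroup M] [Module S M] [Module D M] [IsScalarTower D S M]
    [Module.Finite S M] : ∃ a : D, a ≠ 0 ∧ AFree a M := by
  obtain ⟨a, ha, -, ⟨ι, e, hli, hsp⟩, -⟩ :=
    Groth.Agent.Lib.Helper91.generic_freeness_data (R := D) (S := S) (M := M)
  exact ⟨a, ha, ι, e, hli, hsp⟩

/-- torsion elements are killed by a power of `a` -/
theorem AFree.torsion {a : D} (h : AFree a C) {s : D} (hs : s ≠ 0) {y : C} (hy : s • y = 0) :
    ∃ k : ℕ, a ^ k • y = 0 := by
  obtain ⟨ι, e, hli, hsp⟩ := h
  obtain ⟨k, hk⟩ := hsp y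
  refine ⟨k, ?_⟩
  obtain ⟨c, hc⟩ := (Finsupp.mem_span_range_iff_exists_finsupp).mp hk
  have h1 : (c.sum fun i a => (s * a) • e i) = 0 := by
    have : (c.sum fun i a => (s * a) • e i) = s • (c.sum fun i a => a • e i) := by
      rw [Finsupp.smul_sum]
      simp only [mul_smul]
    rw [this, hc, smul_comm, hy, smul_zero]
  have h2 : (Finsupp.linearCombination D e) (s • c) = 0 := by
    rw [map_smul, Finsupp.linearCombination_apply, hc, smul_comm, hy, smul_zero]
  have h3 : s • c = 0 := by
    have := hli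
    rw [linearIndependent_iff] at this
    exact this _ h2
  have h4 : c = 0 := by
    rcases smul_eq_zero.mp h3 with h | h
    · exact absurd h hs
    · exact h
  rw [← hc, h4, Finsupp.sum_zero_index]

/-- purity: `ker π ∩ p M' = p ker π` up to powers of `a`, for a surjection `π` onto `C`. -/
theorem AFree.purity {a : D} (h : AFree a C) {M' : Type*} [AddCommGroup M'] [Module D M']
    (π : M' →ₗ[D] C) (hπ : Function.Surjective π) (p : Ideal D) {y : M'}
    (hy : y ∈ p • (⊤ : Submodule D M')) (hy0 : π y = 0) :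
    ∃ k : ℕ, a ^ k • y ∈ p • LinearMap.ker π := by
  classical
  obtain ⟨ι, e, hli, hsp⟩ := h
  choose ê hê using fun i => hπ (e i)
  -- the general statement, additive in `y`
  have key : ∀ z ∈ p • (⊤ : Submodule D M'), ∃ (k : ℕ) (c : ι →₀ D), (∀ i, c i ∈ p) ∧
      a ^ k • z - Finsupp.linearCombination D ê c ∈ p • LinearMap.ker π := by
    intro z hz
    refine Submodule.smul_induction_on hz ?_ ?_
    · intro r hr n _
      obtain ⟨k, hk⟩ := hsp (π n)
      obtain ⟨c, hc⟩ := (Finsupp.mem_span_range_iff_exists_finsupp).mp hk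
      refine ⟨k, r • c, fun i => ?_, ?_⟩
      · rw [Finsupp.smul_apply, smul_eq_mul]
        exact Ideal.mul_mem_right _ _ hr
      · have h1 : a ^ k • n - Finsupp.linearCombination D ê c ∈ LinearMap.ker π := by
          rw [LinearMap.mem_ker, map_sub, map_smul, Finsupp.linearCombination_apply, map_finsuppSum]
          simp only [map_smul, hê]
          rw [hc, sub_self]
        have h2 : a ^ k • r • n - Finsupp.linearCombination D ê (r • c) =
            r • (a ^ k • n - Finsupp.linearCombination D ê c) := by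
          rw [map_smul, smul_sub, smul_comm]
        rw [h2]
        exact Submodule.smul_mem_smul hr h1
    · rintro x y ⟨k, c, hc, h1⟩ ⟨k', c', hc', h1'⟩
      refine ⟨k + k', a ^ k' • c + a ^ k • c', fun i => ?_, ?_⟩
      · rw [Finsupp.add_apply, Finsupp.smul_apply, Finsupp.smul_apply]
        exact Ideal.add_mem _ (Ideal.mul_mem_left _ _ (hc i)) (Ideal.mul_mem_left _ _ (hc' i))
      · have h2 : a ^ (k + k') • (x + y) - Finsupp.linearCombination D ê (a ^ k' • c + a ^ k • c') =
            a ^ k' • (a ^ k • x - Finsupp.linearCombination D ê c) +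
              a ^ k • (a ^ k' • y - Finsupp.linearCombination D ê c') := by
          rw [map_add, map_smul, map_smul, smul_sub, smul_sub, smul_add, pow_add, mul_smul,
            mul_smul, smul_comm (a ^ k) (a ^ k') x, smul_comm (a ^ k) (a ^ k') y]
          abel
        rw [h2]
        exact Submodule.add_mem _ (Submodule.smul_mem _ _ h1) (Submodule.smul_mem _ _ h1')
  obtain ⟨k, c, hc, h1⟩ := key y hy
  refine ⟨k, ?_⟩
  -- apply `π`: the combination vanishes, so `c = 0`
  have h2 : π (a ^ k • y - Finsupp.linearCombination D ê c) = 0 := by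
    have hle : p • LinearMap.ker π ≤ LinearMap.ker π := Submodule.smul_le_right
    exact LinearMap.mem_ker.mp (hle h1)
  rw [map_sub, map_smul, hy0, smul_zero, zero_sub, neg_eq_zero, Finsupp.linearCombination_apply,
    map_finsuppSum] at h2
  simp only [map_smul, hê] at h2
  have h3 : c = 0 := by
    have := hli
    rw [linearIndependent_iff] at this
    exact this c (by rw [Finsupp.linearCombination_apply]; exact h2)
  rw [h3, map_zero, sub_zero] at h1
  exact h1

end Dom

section GenInj

variable {D : Type*} [CommRing D] [IsDomain D] {S : Type*} [CommRing S] [Algebra D S]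
  [Algebra.FiniteType D S] {M : Type*} [AddCommGroup M] [Module S M] [Module D M]
  [IsScalarTower D S M] [Module.Finite S M]

/-- If `g` has torsion kernel on `M`, then generically `g` is injective on the fibres of `M`. -/
theorem generic_injective_dom (g : S) (hg : ∀ m : M, g • m = 0 → ∃ s : D, s ≠ 0 ∧ s • m = 0) :
    ∃ a : D, a ≠ 0 ∧ ∀ (p : Ideal D) (m : M), g • m ∈ p • (⊤ : Submodule D M) →
      ∃ k : ℕ, a ^ k • m ∈ p • (⊤ : Submodule D M) := by
  set N : Submodule S M := LinearMap.range (LinearMap.lsmul S M g) with hN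
  obtain ⟨a1, ha1, hM⟩ := exists_aFree (D := D) S M
  obtain ⟨a2, ha2, hC⟩ := exists_aFree (D := D) S (M ⧸ N)
  have hMa := hM.mul_right a2
  have hCa := hC.mul_left a1
  refine ⟨a1 * a2, mul_ne_zero ha1 ha2, fun p m hm => ?_⟩
  set a := a1 * a2 with ha
  set π : M →ₗ[D] (M ⧸ N) := (N.mkQ).restrictScalars D with hπ
  have hπs : Function.Surjective π := N.mkQ_surjective
  have hker : ∀ n : M, n ∈ LinearMap.ker π ↔ ∃ y0 : M, g • y0 = n := by
    intro n
    rw [LinearMap.mem_ker, hπ, LinearMap.restrictScalars_apply, Submodule.mkQ_apply,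
      Submodule.Quotient.mk_eq_zero, hN, LinearMap.mem_range]
    rfl
  have h0 : π (g • m) = 0 := LinearMap.mem_ker.mp ((hker _).mpr ⟨m, rfl⟩)
  obtain ⟨k, hk⟩ := hCa.purity π hπs p hm h0
  -- elements of `p • ker π` are `g • y'` with `y' ∈ p M`
  have hform : ∀ z ∈ p • LinearMap.ker π, ∃ y' ∈ p • (⊤ : Submodule D M), g • y' = z := by
    intro z hz
    refine Submodule.smul_induction_on hz ?_ ?_
    · intro r hr n hn
      obtain ⟨y0, rfl⟩ := (hker n).mp hn
      exact ⟨r • y0, Submodule.smul_mem_smul hr Submodule.mem_top, (smul_comm _ _ _)⟩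
    · rintro x y ⟨x', hx', rfl⟩ ⟨y', hy', rfl⟩
      exact ⟨x' + y', Submodule.add_mem _ hx' hy', smul_add _ _ _⟩
  obtain ⟨y', hy', hgy⟩ := hform _ hk
  have h1 : g • (a ^ k • m - y') = 0 := by
    rw [smul_sub, hgy, smul_comm, sub_self]
  obtain ⟨s, hs, hs0⟩ := hg _ h1
  obtain ⟨k', hk'⟩ := hMa.torsion hs hs0
  refine ⟨k' + k, ?_⟩
  rw [smul_sub, sub_eq_zero] at hk'
  rw [pow_add, mul_smul, hk']
  exact Submodule.smul_mem _ _ hy'

end GenInj

end Groth.Agent.H76.RelAss
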