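/-
helper76: two general lemmas: (1) generic purity of an injective map into a finite module over a
finite type algebra over a domain, element-wise; (2) a finite torsion-free module over a domain
embeds into a finite free module.
-/
import Mathlib
import Groth.Agent.H76.RelAssDom

set_option autoImplicit false
universe u

namespace Groth.Agent.H76.AssGen

open Groth.Agent.H76.RelAss

section Purity

variable {A : Type*} [CommRing A] [IsDomain A] (S' : Type*) [CommRing S'] [Algebra A S']
  [Algebra.FiniteType A S']
  {N E : Type*} [AddCommGroup N] [Module A N] [Module S' N] [IsScalarTower A S' N]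
  [AddCommGroup E] [Module S' E] [Module A E] [IsScalarTower A S' E] [Module.Finite S' E]

/-- **Generic purity**: an injective linear map into a finite module over a finite type algebra over
a domain is generically pure. -/
theorem purity_of_injective (θ : N →ₗ[S'] E) (hθ : Function.Injective θ) :
    ∃ a : A, a ≠ 0 ∧ ∀ (p : Ideal A) (n : N), θ n ∈ p • (⊤ : Submodule A E) →
      ∃ k : ℕ, a ^ k • n ∈ p • (⊤ : Submodule A N) := by
  obtain ⟨a, ha, hfree⟩ := exists_aFree (D := A) S' (E ⧸ LinearMap.range θ)
  refine ⟨a, ha, fun p n hn => ?_⟩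
  set π : E →ₗ[A] (E ⧸ LinearMap.range θ) := ((LinearMap.range θ).mkQ).restrictScalars A with hπ
  have hπs : Function.Surjective π := (LinearMap.range θ).mkQ_surjective
  have hker : ∀ x : E, x ∈ LinearMap.ker π ↔ ∃ y : N, θ y = x := by
    intro x
    rw [LinearMap.mem_ker, hπ, LinearMap.restrictScalars_apply, Submodule.mkQ_apply,
      Submodule.Quotient.mk_eq_zero, LinearMap.mem_range]
  have h0 : π (θ n) = 0 := LinearMap.mem_ker.mp ((hker _).mpr ⟨n, rfl⟩)
  obtain ⟨k, hk⟩ := hfree.purity π hπs p hn h0
  have hform : ∀ z ∈ p • LinearMap.ker π, ∃ n' ∈ p • (⊤ : Submodule A N), θ n' = z := by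
    intro z hz
    refine Submodule.smul_induction_on hz ?_ ?_
    · intro r hr x hx
      obtain ⟨y, rfl⟩ := (hker x).mp hx
      refine ⟨r • y, Submodule.smul_mem_smul hr Submodule.mem_top, ?_⟩
      rw [← algebraMap_smul S' r y, map_smul, algebraMap_smul]
    · rintro x y ⟨n1, hn1, rfl⟩ ⟨n2, hn2, rfl⟩
      exact ⟨n1 + n2, Submodule.add_mem _ hn1 hn2, map_add _ _ _⟩
  obtain ⟨n', hn', e⟩ := hform _ hk
  refine ⟨k, ?_⟩
  have : θ (a ^ k • n) = θ n' := by
    rw [e, ← algebraMap_smul S' (a ^ k) n, map_smul, algebraMap_smul]
  rw [hθ this]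
  exact hn'

end Purity

section Embed

variable {D : Type*} [CommRing D] [IsDomain D] {E : Type*} [AddCommGroup E] [Module D E]
  [Module.Finite D E]

/-- A finite torsion-free module over a domain embeds into a finite free module. -/
theorem exists_injective_to_free (htf : ∀ (h : D) (x : E), h ≠ 0 → h • x = 0 → x = 0) :
    ∃ (r : ℕ) (θ : E →ₗ[D] (Fin r → D)), Function.Injective θ := by
  classical
  let L := FractionRing D
  let EL := LocalizedModule (nonZeroDivisors D) E
  haveI : Module.Finite L EL := inferInstanceAs
    (Module.Finite (Localization (nonZeroDivisors D)) (LocalizedModule (nonZeroDivisors D) E))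
  let r := Module.finrank L EL
  let bas : Module.Basis (Fin r) L EL := Module.finBasis L EL
  let coord : EL ≃ₗ[L] (Fin r → L) := bas.equivFun
  let ι : E →ₗ[D] EL := LocalizedModule.mkLinearMap (nonZeroDivisors D) E
  have hι : Function.Injective ι := by
    rw [injective_iff_map_eq_zero]
    intro x hx
    obtain ⟨c, hc⟩ := (IsLocalizedModule.eq_zero_iff (nonZeroDivisors D) ι).mp hx
    exact htf c x (nonZeroDivisors.ne_zero c.2) hc
  let γ : E →ₗ[D] (Fin r → L) := (coord.toLinearMap.restrictScalars D).comp ι
  have hγ : Function.Injective γ := coord.injective.comp hι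
  obtain ⟨G, hG⟩ := (Module.Finite.fg_top : (⊤ : Submodule D E).FG)
  obtain ⟨δ, hδ⟩ := IsLocalization.exist_integer_multiples_of_finset (nonZeroDivisors D)
    (G.biUnion fun g => Finset.univ.image (fun i => γ g i))
  let j : (Fin r → D) →ₗ[D] (Fin r → L) := LinearMap.compLeft (Algebra.linearMap D L) (Fin r)
  have hj : Function.Injective j := by
    intro f g hfg
    funext i
    have := congrFun hfg i
    exact IsFractionRing.injective D L this
  let γ' : E →ₗ[D] (Fin r → L) := (δ : D) • γ
  have hδ0 : (δ : D) ≠ 0 := nonZeroDivisors.ne_zero δ.2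
  have hγ' : Function.Injective γ' := by
    rw [injective_iff_map_eq_zero]
    intro x hx
    have h1 : (δ : D) • γ x = 0 := hx
    have h2 : γ x = 0 := by
      funext i
      have h3 := congrFun h1 i
      rw [Pi.smul_apply, Algebra.smul_def, Pi.zero_apply] at h3
      rcases mul_eq_zero.mp h3 with h | h
      · exact absurd ((map_eq_zero_iff _ (IsFractionRing.injective D L)).mp h) hδ0
      · exact h
    exact (injective_iff_map_eq_zero γ).mp hγ x h2
  have hrange : ∀ x : E, γ' x ∈ LinearMap.range j := by
    intro x
    have hx : x ∈ Submodule.span D (G : Set E) := by rw [hG]; exact Submodule.mem_top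
    induction hx using Submodule.span_induction with
    | mem g hg =>
      have hint : ∀ i, ∃ c : D, algebraMap D L c = (δ : D) • γ g i := by
        intro i
        have := hδ (γ g i) (Finset.mem_biUnion.mpr ⟨g, hg, Finset.mem_image.mpr ⟨i, Finset.mem_univ _, rfl⟩⟩)
        exact this
      choose c hc using hint
      refine ⟨c, ?_⟩
      funext i
      exact hc i
    | zero => rw [map_zero]; exact Submodule.zero_mem _
    | add x y _ _ hx hy => rw [map_add]; exact Submodule.add_mem _ hx hy
    | smul a x _ hx => rw [map_smul]; exact Submodule.smul_mem _ _ hx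
  let γ'' : E →ₗ[D] LinearMap.range j := LinearMap.codRestrict (LinearMap.range j) γ' hrange
  have hγ'' : Function.Injective γ'' := by
    intro x y hxy
    apply hγ'
    exact congrArg Subtype.val hxy
  refine ⟨r, (LinearEquiv.ofInjective j hj).symm.toLinearMap.comp γ'', ?_⟩
  exact (LinearEquiv.ofInjective j hj).symm.injective.comp hγ''

end Embed

end Groth.Agent.H76.AssGen
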