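/-
helper76: the key generic statement: a module which is torsion-free over a polynomial ring `D = A[X]`
and generically finite over it has generically torsion-free fibres.
-/
import Mathlib
import Groth.Agent.H76.AssKeyA
import Groth.Agent.Lib.Helper93.DepthFlat

set_option autoImplicit false
universe u

namespace Groth.Agent.H76.AssGen

open Groth.Agent.H76.RelAss

section Coord

variable {A : Type*} [CommRing A] {d r : ℕ}

theorem coord_mem_of_mem_smul_top (p : Ideal A) {y : Fin r → MvPolynomial (Fin d) A}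
    (hy : y ∈ p • (⊤ : Submodule A (Fin r → MvPolynomial (Fin d) A))) (i : Fin r) :
    y i ∈ p.map (MvPolynomial.C : A →+* MvPolynomial (Fin d) A) := by
  refine Submodule.smul_induction_on hy ?_ ?_
  · intro a ha f _
    rw [Pi.smul_apply, MvPolynomial.smul_eq_C_mul]
    exact Ideal.mul_mem_right _ _ (Ideal.mem_map_of_mem _ ha)
  · intro x y hx hy
    rw [Pi.add_apply]
    exact Ideal.add_mem _ hx hy

theorem mem_smul_top_of_coord_mem (p : Ideal A) {y : Fin r → MvPolynomial (Fin d) A}
    (hy : ∀ i, y i ∈ p.map (MvPolynomial.C : A →+* MvPolynomial (Fin d) A)) :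
    y ∈ p • (⊤ : Submodule A (Fin r → MvPolynomial (Fin d) A)) := by
  classical
  have h1 : ∀ g ∈ p.map (MvPolynomial.C : A →+* MvPolynomial (Fin d) A),
      g ∈ p • (⊤ : Submodule A (MvPolynomial (Fin d) A)) := by
    intro g hg
    refine Submodule.span_induction ?_ ?_ ?_ ?_ hg
    · rintro _ ⟨a, ha, rfl⟩
      have : (MvPolynomial.C a : MvPolynomial (Fin d) A) = a • (1 : MvPolynomial (Fin d) A) := by
        rw [MvPolynomial.smul_eq_C_mul, mul_one]
      rw [this]
      exact Submodule.smul_mem_smul ha Submodule.mem_top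
    · exact Submodule.zero_mem _
    · intro x y _ _ hx hy; exact Submodule.add_mem _ hx hy
    · intro c x _ hx
      refine Submodule.smul_induction_on hx ?_ ?_
      · intro a ha f _
        rw [smul_eq_mul, mul_smul_comm]
        exact Submodule.smul_mem_smul ha Submodule.mem_top
      · intro x y hx hy
        rw [smul_add]; exact Submodule.add_mem _ hx hy
  have h2 : y = ∑ i, (LinearMap.single A (fun _ : Fin r => MvPolynomial (Fin d) A) i) (y i) := by
    funext j
    rw [Finset.sum_apply]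
    simp [Pi.single_apply]
  rw [h2]
  refine Submodule.sum_mem _ fun i _ => ?_
  have h3 := h1 (y i) (hy i)
  refine Submodule.smul_induction_on h3 ?_ ?_
  · intro a ha f _
    rw [map_smul]
    exact Submodule.smul_mem_smul ha Submodule.mem_top
  · intro x y hx hy
    rw [map_add]; exact Submodule.add_mem _ hx hy

theorem map_C_isPrime (p : Ideal A) [p.IsPrime] :
    (p.map (MvPolynomial.C : A →+* MvPolynomial (Fin d) A)).IsPrime := by
  have h := MvPolynomial.ker_map (σ := Fin d) (Ideal.Quotient.mk p)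
  rw [Ideal.mk_ker] at h
  rw [← h]
  exact RingHom.ker_isPrime _

theorem C_notMem_map_C (p : Ideal A) {c : A} (hc : c ∉ p) :
    (MvPolynomial.C c : MvPolynomial (Fin d) A) ∉
      p.map (MvPolynomial.C : A →+* MvPolynomial (Fin d) A) := by
  intro h
  rw [MvPolynomial.mem_map_C_iff] at h
  have := h 0
  rw [MvPolynomial.coeff_zero_C] at this
  exact hc this

end Coord

section Main

variable {A : Type u} [CommRing A] [IsDomain A] {d : ℕ}
  {R : Type u} [CommRing R] [Algebra A R] [Algebra (MvPolynomial (Fin d) A) R]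
  [IsScalarTower A (MvPolynomial (Fin d) A) R]
  {N : Type u} [AddCommGroup N] [Module R N] [Module A N] [IsScalarTower A R N]
  [Module.Finite R N] [Module (MvPolynomial (Fin d) A) N]
  [IsScalarTower (MvPolynomial (Fin d) A) R N] [IsScalarTower A (MvPolynomial (Fin d) A) N]

/-- **Key generic statement.**  Let `N` be a finite module over the `A`-algebra `R`, let
`D = A[X₁, …, X_d] → R` be such that `R` is generated over `A` by finitely many elements `t` with
`a₁ t` integral over `D`, and suppose `N` is torsion-free over `D`.  Then for all primes `p` of `A`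
avoiding some `a ≠ 0`, and all `n ∈ N` not dying in the fibre over `p`, every `h ∈ D` a power of
which kills `n` in the fibre over `p` lies in `p D`. -/
theorem generic_contraction (a₁ : A) (ha₁ : a₁ ≠ 0) (T : Finset R)
    (hT : Algebra.adjoin A (T : Set R) = ⊤)
    (hint : ∀ t ∈ T, IsIntegral (MvPolynomial (Fin d) A) (a₁ • t))
    (htf : ∀ (h : MvPolynomial (Fin d) A) (n : N), h ≠ 0 → h • n = 0 → n = 0) :
    ∃ a : A, a ≠ 0 ∧ ∀ p : Ideal A, p.IsPrime → a ∉ p → ∀ n : N,
      (¬ ∃ s : A, s ∉ p ∧ s • n ∈ p • (⊤ : Submodule A N)) →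
      ∀ h : MvPolynomial (Fin d) A,
        (∃ (j : ℕ) (s : A), s ∉ p ∧ s • h ^ j • n ∈ p • (⊤ : Submodule A N)) →
        h ∈ p.map (MvPolynomial.C : A →+* MvPolynomial (Fin d) A) := by
  classical
  -- the finite `D`-subalgebra `R₁`
  set R₁ : Subalgebra (MvPolynomial (Fin d) A) R :=
    Algebra.adjoin (MvPolynomial (Fin d) A) ((fun t => a₁ • t) '' (T : Set R)) with hR₁
  have hR₁fg : R₁.toSubmodule.FG := by
    refine fg_adjoin_of_finite (Set.Finite.image _ T.finite_toSet) ?_
    rintro _ ⟨t, ht, rfl⟩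
    exact hint t ht
  haveI hR₁fin : Module.Finite (MvPolynomial (Fin d) A) R₁ := Module.Finite.iff_fg.mpr hR₁fg
  -- scalars from `A` act on `R` through `D`
  have hAD : ∀ (c : A) (x : R), c • x = (MvPolynomial.C c : MvPolynomial (Fin d) A) • x := by
    intro c x
    rw [← MvPolynomial.algebraMap_eq, algebraMap_smul]
  have hADN : ∀ (c : A) (x : N), c • x = (MvPolynomial.C c : MvPolynomial (Fin d) A) • x := by
    intro c x
    rw [← MvPolynomial.algebraMap_eq, algebraMap_smul]
  have hR₁A : ∀ (c : A) (x : R), x ∈ R₁ → c • x ∈ R₁ := by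
    intro c x hx
    rw [hAD]
    exact Subalgebra.smul_mem _ hx _
  -- every element of `R` has a multiple by a power of `a₁` in `R₁`
  have hE2' : ∀ c : R, ∃ e : ℕ, a₁ ^ e • c ∈ R₁ := by
    intro c
    have hc : c ∈ Algebra.adjoin A (T : Set R) := by rw [hT]; exact Algebra.mem_top
    induction hc using Algebra.adjoin_induction with
    | mem t ht =>
      refine ⟨1, ?_⟩
      rw [pow_one]
      exact Algebra.subset_adjoin ⟨t, ht, rfl⟩
    | algebraMap r =>
      refine ⟨0, ?_⟩
      rw [pow_zero, one_smul, IsScalarTower.algebraMap_apply A (MvPolynomial (Fin d) A) R]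
      exact Subalgebra.algebraMap_mem _ _
    | add x y _ _ hx hy =>
      obtain ⟨e1, h1⟩ := hx
      obtain ⟨e2, h2⟩ := hy
      refine ⟨e1 + e2, ?_⟩
      rw [smul_add]
      refine Subalgebra.add_mem _ ?_ ?_
      · rw [pow_add, mul_comm, mul_smul]; exact hR₁A _ _ h1
      · rw [pow_add, mul_smul]; exact hR₁A _ _ h2
    | mul x y _ _ hx hy =>
      obtain ⟨e1, h1⟩ := hx
      obtain ⟨e2, h2⟩ := hy
      refine ⟨e1 + e2, ?_⟩
      have : a₁ ^ (e1 + e2) • (x * y) = (a₁ ^ e1 • x) * (a₁ ^ e2 • y) := by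
        rw [smul_mul_smul_comm, ← pow_add]
      rw [this]
      exact Subalgebra.mul_mem _ h1 h2
  -- generators of `N`
  obtain ⟨G, hG⟩ := (Module.Finite.fg_top : (⊤ : Submodule R N).FG)
  -- the `D`-linear map `Φ`
  let Φ : (G → R₁) →ₗ[MvPolynomial (Fin d) A] N :=
    { toFun := fun c => ∑ g : G, ((c g : R) • (g : N))
      map_add' := by
        intro c c'
        rw [← Finset.sum_add_distrib]
        refine Finset.sum_congr rfl fun g _ => ?_
        rw [Pi.add_apply, Subalgebra.coe_add, add_smul]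
      map_smul' := by
        intro h c
        rw [RingHom.id_apply, Finset.smul_sum]
        refine Finset.sum_congr rfl fun g _ => ?_
        rw [Pi.smul_apply, Subalgebra.coe_smul, smul_assoc] }
  set E : Submodule (MvPolynomial (Fin d) A) N := LinearMap.range Φ with hE
  haveI hEfin : Module.Finite (MvPolynomial (Fin d) A) E := Module.Finite.range Φ
  -- (E2)
  have hE2 : ∀ n : N, ∃ e : ℕ, a₁ ^ e • n ∈ E := by
    intro n
    have hn : n ∈ Submodule.span R (G : Set N) := by rw [hG]; exact Submodule.mem_top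
    obtain ⟨c, hc⟩ := Submodule.mem_span_finset'.mp hn
    choose ee hee using fun g : G => hE2' (c g)
    refine ⟨∑ g : G, ee g, ?_⟩
    have hmem : ∀ g : G, a₁ ^ (∑ g : G, ee g) • c g ∈ R₁ := by
      intro g
      have hle : ee g ≤ ∑ g : G, ee g :=
        Finset.single_le_sum (f := ee) (fun _ _ => Nat.zero_le _) (Finset.mem_univ g)
      obtain ⟨k, hk⟩ := Nat.exists_eq_add_of_le hle
      rw [hk, pow_add, mul_comm, mul_smul]
      exact hR₁A _ _ (hee g)
    refine ⟨fun g => ⟨a₁ ^ (∑ g : G, ee g) • c g, hmem g⟩, ?_⟩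
    show ∑ g : G, ((a₁ ^ (∑ g : G, ee g) • c g : R) • (g : N)) = _
    rw [← hc, Finset.smul_sum]
    refine Finset.sum_congr rfl fun g _ => ?_
    rw [smul_assoc]
  -- torsion-freeness of `E`
  have hEtf : ∀ (h : MvPolynomial (Fin d) A) (x : E), h ≠ 0 → h • x = 0 → x = 0 := by
    intro h x hh hx
    apply Subtype.ext
    apply htf h x.1 hh
    have := congrArg Subtype.val hx
    simpa using this
  obtain ⟨r, θ₀, hθ₀⟩ := exists_injective_to_free (D := MvPolynomial (Fin d) A) (E := E) hEtf
  obtain ⟨a₂, ha₂, hpur⟩ := purity_of_injective (A := A) (MvPolynomial (Fin d) A) θ₀ hθ₀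
  refine ⟨a₁ * a₂, mul_ne_zero ha₁ ha₂, fun p hp hap n hn h ⟨j, s, hs, hsj⟩ => ?_⟩
  haveI := hp
  have ha₁p : a₁ ∉ p := fun hh => hap (Ideal.mul_mem_right _ _ hh)
  have ha₂p : a₂ ∉ p := fun hh => hap (Ideal.mul_mem_left _ _ hh)
  by_contra hh
  obtain ⟨e, he⟩ := hE2 n
  -- (E3)
  have hE3 : ∀ z ∈ p • (⊤ : Submodule A N), ∃ (e' : ℕ) (z' : E),
      z' ∈ p • (⊤ : Submodule A E) ∧ (z' : N) = a₁ ^ e' • z := by
    intro z hz
    refine Submodule.smul_induction_on hz ?_ ?_
    · intro c hc y _
      obtain ⟨ey, hey⟩ := hE2 y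
      refine ⟨ey, c • ⟨a₁ ^ ey • y, hey⟩, Submodule.smul_mem_smul hc Submodule.mem_top, ?_⟩
      rw [Submodule.coe_smul_of_tower, smul_comm]
    · rintro x y ⟨e1, x', hx', ex⟩ ⟨e2, y', hy', ey⟩
      refine ⟨e1 + e2, a₁ ^ e2 • x' + a₁ ^ e1 • y', ?_, ?_⟩
      · exact Submodule.add_mem _ (Submodule.smul_mem _ _ hx') (Submodule.smul_mem _ _ hy')
      · rw [Submodule.coe_add, Submodule.coe_smul_of_tower, Submodule.coe_smul_of_tower, ex, ey,
          smul_add, smul_smul, smul_smul, pow_add, mul_comm (a₁ ^ e2)]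
  set mE : E := ⟨a₁ ^ e • n, he⟩ with hmE
  have hx : a₁ ^ e • (s • h ^ j • n) ∈ p • (⊤ : Submodule A N) := Submodule.smul_mem _ _ hsj
  obtain ⟨e', z', hz', ez'⟩ := hE3 _ hx
  -- `z' = (C (a₁^e' s) h^j) • mE`
  have hz'eq : z' = ((MvPolynomial.C (a₁ ^ e' * s) : MvPolynomial (Fin d) A) * h ^ j) • mE := by
    apply Subtype.ext
    rw [ez', Submodule.coe_smul, hmE]
    show a₁ ^ e' • a₁ ^ e • s • h ^ j • n = (MvPolynomial.C (a₁ ^ e' * s) * h ^ j) • a₁ ^ e • n
    rw [mul_smul, ← hADN, mul_smul, smul_comm (a₁ ^ e) s, smul_comm (a₁ ^ e) (h ^ j)]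
  have hθz : θ₀ z' ∈ p • (⊤ : Submodule A (Fin r → MvPolynomial (Fin d) A)) := by
    refine Submodule.smul_induction_on hz' ?_ ?_
    · intro c hc y _
      rw [← algebraMap_smul (MvPolynomial (Fin d) A) c y, map_smul, algebraMap_smul]
      exact Submodule.smul_mem_smul hc Submodule.mem_top
    · intro x y hx hy
      rw [map_add]; exact Submodule.add_mem _ hx hy
  have hprime := map_C_isPrime (d := d) p
  have hcoord : ∀ i, θ₀ mE i ∈ p.map (MvPolynomial.C : A →+* MvPolynomial (Fin d) A) := by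
    intro i
    have h1 := coord_mem_of_mem_smul_top p hθz i
    rw [hz'eq, map_smul, Pi.smul_apply, smul_eq_mul] at h1
    rcases hprime.mem_or_mem h1 with h2 | h2
    · rcases hprime.mem_or_mem h2 with h3 | h3
      · exfalso
        refine C_notMem_map_C p ?_ h3
        intro h4
        rcases hp.mem_or_mem h4 with h5 | h5
        · exact ha₁p (hp.mem_of_pow_mem _ h5)
        · exact hs h5
      · exact absurd (hprime.mem_of_pow_mem _ h3) hh
    · exact h2
  have hθm : θ₀ mE ∈ p • (⊤ : Submodule A (Fin r → MvPolynomial (Fin d) A)) :=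
    mem_smul_top_of_coord_mem p hcoord
  obtain ⟨k, hk⟩ := hpur p mE hθm
  apply hn
  refine ⟨a₂ ^ k * a₁ ^ e, ?_, ?_⟩
  · intro h4
    rcases hp.mem_or_mem h4 with h5 | h5
    · exact ha₂p (hp.mem_of_pow_mem _ h5)
    · exact ha₁p (hp.mem_of_pow_mem _ h5)
  · -- push `hk` to `N`
    have : ∀ w ∈ p • (⊤ : Submodule A E), (w : N) ∈ p • (⊤ : Submodule A N) := by
      intro w hw
      refine Submodule.smul_induction_on hw ?_ ?_
      · intro c hc y _
        rw [Submodule.coe_smul_of_tower]
        exact Submodule.smul_mem_smul hc Submodule.mem_top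
      · intro x y hx hy
        rw [Submodule.coe_add]; exact Submodule.add_mem _ hx hy
    have h5 := this _ hk
    rw [Submodule.coe_smul_of_tower, hmE] at h5
    rw [mul_smul]
    exact h5

end Main

end Groth.Agent.H76.AssGen
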