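/-
helper76: generic Noether normalization data for a prime of a finite type algebra over a domain.
-/
import Mathlib
import Groth.Agent.Lib.Helper13.GenSplit

set_option autoImplicit false
universe u
open TensorProduct

namespace Groth.Agent.H76.AssGen

variable {A B : Type u} [CommRing A] [IsDomain A] [CommRing B] [Algebra A B]

/-- Generic Noether normalization data for the prime `q₀` of `B` (lying over `0`): elements
`b₁, …, b_d` of `B` algebraically independent modulo `q₀`, and a nonzero `a₁ ∈ A` such that `a₁ t`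
is integral over `A[b]` modulo `q₀` for `t` in a finite generating set of `B`. -/
def HasNN (A : Type u) [CommRing A] {B : Type u} [CommRing B] [Algebra A B] (q₀ : Ideal B) : Prop :=
  ∃ (d : ℕ) (b : Fin d → B) (a₁ : A) (T : Finset B), a₁ ≠ 0 ∧
    (∀ h : MvPolynomial (Fin d) A, MvPolynomial.aeval b h ∈ q₀ → h = 0) ∧
    Algebra.adjoin A (T : Set B) = ⊤ ∧
    ∀ t ∈ T, ((Ideal.Quotient.mk q₀).comp
      (MvPolynomial.aeval b : MvPolynomial (Fin d) A →ₐ[A] B).toRingHom).IsIntegralElem
        (Ideal.Quotient.mk q₀ (a₁ • t))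

variable [Algebra.FiniteType A B]

theorem hasNN (q₀ : Ideal B) [q₀.IsPrime] (hq₀ : q₀.comap (algebraMap A B) = ⊥) :
    HasNN A q₀ := by
  classical
  haveI : Algebra.FiniteType A (B ⧸ q₀) :=
    Algebra.FiniteType.of_surjective (Ideal.Quotient.mkₐ A q₀) (Ideal.Quotient.mkₐ_surjective A _)
  have hinjAS : Function.Injective (algebraMap A (B ⧸ q₀)) := by
    rw [injective_iff_map_eq_zero]
    intro x hx
    have : x ∈ q₀.comap (algebraMap A B) := by
      rw [Ideal.mem_comap, ← Ideal.Quotient.eq_zero_iff_mem]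
      exact hx
    rw [hq₀] at this
    exact this
  have hnt : Nontrivial (FractionRing A ⊗[A] (B ⧸ q₀)) := by
    refine nontrivial_of_ne ((1 : FractionRing A) ⊗ₜ[A] (1 : B ⧸ q₀)) 0 ?_
    intro h0
    obtain ⟨c, hc⟩ := (IsLocalizedModule.eq_zero_iff (nonZeroDivisors A)
      (TensorProduct.mk A (FractionRing A) (B ⧸ q₀) 1)).mp h0
    have h1 : algebraMap A (B ⧸ q₀) (c : A) = 0 := by
      rw [Algebra.algebraMap_eq_smul_one]
      exact hc
    exact nonZeroDivisors.ne_zero c.2 (hinjAS (by rw [h1, map_zero]))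
  obtain ⟨s, β, g, hginj, hgfin, hgX⟩ :=
    Groth.Agent.Lib.Helper13.GenSplit.exists_noether_generic (R := A) (S := B ⧸ q₀) hnt
  choose b hb using fun i => Ideal.Quotient.mk_surjective (I := q₀) (β i)
  obtain ⟨T, hT⟩ := (Algebra.FiniteType.out : (⊤ : Subalgebra A B).FG)
  have hint := fun t : B => Groth.Agent.Lib.Helper13.GenSplit.exists_isIntegralElem_smul β g hgfin
    hgX (Ideal.Quotient.mk q₀ t)
  choose at_ hat hatint using hint
  set φ : MvPolynomial (Fin s) A →ₐ[A] (B ⧸ q₀) := MvPolynomial.aeval β with hφ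
  have hcomp : (Ideal.Quotient.mk q₀).comp
      (MvPolynomial.aeval b : MvPolynomial (Fin s) A →ₐ[A] B).toRingHom = φ.toRingHom := by
    apply MvPolynomial.ringHom_ext
    · intro r
      show Ideal.Quotient.mk q₀ (MvPolynomial.aeval b (MvPolynomial.C r)) = φ (MvPolynomial.C r)
      rw [← MvPolynomial.algebraMap_eq, AlgHom.commutes, AlgHom.commutes]
      rfl
    · intro i
      show Ideal.Quotient.mk q₀ (MvPolynomial.aeval b (MvPolynomial.X i)) = φ (MvPolynomial.X i)
      rw [MvPolynomial.aeval_X, hφ, MvPolynomial.aeval_X, hb]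
  let ιS : (B ⧸ q₀) →ₐ[A] FractionRing A ⊗[A] (B ⧸ q₀) := Algebra.TensorProduct.includeRight
  have hcompat : g.toRingHom.comp (MvPolynomial.map (algebraMap A (FractionRing A))) =
      ιS.toRingHom.comp φ.toRingHom := by
    apply MvPolynomial.ringHom_ext
    · intro r
      show g (MvPolynomial.map (algebraMap A (FractionRing A)) (MvPolynomial.C r)) =
        ιS (φ (MvPolynomial.C r))
      rw [MvPolynomial.map_C, ← MvPolynomial.algebraMap_eq, AlgHom.commutes,
        ← MvPolynomial.algebraMap_eq, AlgHom.commutes, AlgHom.commutes,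
        ← IsScalarTower.algebraMap_apply]
    · intro i
      show g (MvPolynomial.map (algebraMap A (FractionRing A)) (MvPolynomial.X i)) =
        ιS (φ (MvPolynomial.X i))
      rw [MvPolynomial.map_X, hgX, hφ, MvPolynomial.aeval_X]
      rfl
  have hιS : Function.Injective ιS := by
    rw [injective_iff_map_eq_zero]
    intro x hx
    have hx' : TensorProduct.mk A (FractionRing A) (B ⧸ q₀) 1 x = 0 := hx
    obtain ⟨c, hc⟩ := (IsLocalizedModule.eq_zero_iff (nonZeroDivisors A)
      (TensorProduct.mk A (FractionRing A) (B ⧸ q₀) 1)).mp hx'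
    have h1 : algebraMap A (B ⧸ q₀) (c : A) * x = 0 := by
      rw [← Algebra.smul_def]; exact hc
    rcases mul_eq_zero.mp h1 with h | h
    · exact absurd (hinjAS (by rw [h, map_zero])) (nonZeroDivisors.ne_zero c.2)
    · exact h
  refine ⟨s, b, ∏ t ∈ T, at_ t, T, Finset.prod_ne_zero_iff.mpr (fun t _ => hat t), ?_, hT, ?_⟩
  · intro h hh
    have h1 : φ h = 0 := by
      have : (Ideal.Quotient.mk q₀).comp
          (MvPolynomial.aeval b : MvPolynomial (Fin s) A →ₐ[A] B).toRingHom h = 0 :=
        Ideal.Quotient.eq_zero_iff_mem.mpr hh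
      rw [hcomp] at this
      exact this
    have h2 : g (MvPolynomial.map (algebraMap A (FractionRing A)) h) = 0 := by
      have := congrArg (fun ψ : MvPolynomial (Fin s) A →+* _ => ψ h) hcompat
      simp only [RingHom.comp_apply] at this
      rw [show (g.toRingHom (MvPolynomial.map (algebraMap A (FractionRing A)) h)) =
        g (MvPolynomial.map (algebraMap A (FractionRing A)) h) from rfl] at this
      rw [this]
      show ιS (φ h) = 0
      rw [h1, map_zero]
    have h3 : MvPolynomial.map (algebraMap A (FractionRing A)) h = 0 :=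
      hginj (by rw [h2, map_zero])
    exact MvPolynomial.map_injective _ (IsFractionRing.injective A (FractionRing A))
      (by rw [h3, map_zero])
  · intro t ht
    rw [hcomp]
    have h1 : (∏ t' ∈ T, at_ t') • (Ideal.Quotient.mk q₀ t) =
        φ.toRingHom (MvPolynomial.C (∏ t' ∈ T.erase t, at_ t')) *
          ((at_ t) • (Ideal.Quotient.mk q₀ t)) := by
      rw [← Finset.mul_prod_erase T at_ ht]
      show _ = φ (MvPolynomial.C _) * _
      rw [← MvPolynomial.algebraMap_eq, AlgHom.commutes, ← Algebra.smul_def, smul_smul, mul_comm]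
    have h2 : Ideal.Quotient.mk q₀ ((∏ t' ∈ T, at_ t') • t) =
        (∏ t' ∈ T, at_ t') • (Ideal.Quotient.mk q₀ t) := by
      rw [Algebra.smul_def, map_mul, Algebra.smul_def]
      rfl
    rw [h2, h1]
    exact RingHom.IsIntegralElem.mul _ (φ.toRingHom.isIntegralElem_map) (hatint t)

end Groth.Agent.H76.AssGen
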