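import Mathlib
import Groth.Agent.Lib.Helper62.FibReg9
import Groth.Agent.Lib.Helper93.DepthFlat

/-!
# Associated primes of fibre modules, element-wise (helper76)

For a ring map `φ : A → B`, a `B`-module `M` and a prime `p` of `A`, the fibre module is
`M ⊗_A κ(p)`.  We express "`m ⊗ 1 = 0` in the fibre" and "`q` is an associated prime of the fibre
module (as a `B`-module)" element-wise, without tensor products (`FibZero`, `IsFibAss`), and relate them
to the tensor model.
-/

set_option autoImplicit false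
universe u

open TensorProduct IsLocalRing

namespace Groth.Agent.H76.RelAss

section Defs

variable {A B : Type*} [CommRing A] [CommRing B] (φ : A →+* B) {M : Type*} [AddCommGroup M]
  [Module B M]

/-- `m` dies in the fibre of `M` over the prime `p` of `A`: `s m ∈ p M` for some `s ∉ p`. -/
def FibZero (p : Ideal A) (m : M) : Prop :=
  ∃ s : A, s ∉ p ∧ φ s • m ∈ (p.map φ) • (⊤ : Submodule B M)

/-- `q` is an associated prime (radical sense) of the fibre of `M` over `φ⁻¹ q`, as a `B`-module. -/
def IsFibAss (q : Ideal B) (M : Type*) [AddCommGroup M] [Module B M] : Prop :=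
  ∃ m : M, ∀ b : B, b ∈ q ↔ ∃ k : ℕ, FibZero φ (q.comap φ) (b ^ k • m)

variable {φ}

theorem FibZero.smul {p : Ideal A} {m : M} (h : FibZero φ p m) (b : B) : FibZero φ p (b • m) := by
  obtain ⟨s, hs, h1⟩ := h
  refine ⟨s, hs, ?_⟩
  rw [smul_comm]
  exact Submodule.smul_mem _ b h1

theorem FibZero.add {p : Ideal A} [p.IsPrime] {m m' : M} (h : FibZero φ p m) (h' : FibZero φ p m') :
    FibZero φ p (m + m') := by
  obtain ⟨s, hs, h1⟩ := h
  obtain ⟨s', hs', h1'⟩ := h'
  refine ⟨s * s', fun hh => (Ideal.IsPrime.mem_or_mem inferInstance hh).elim hs hs', ?_⟩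
  rw [map_mul, smul_add]
  refine Submodule.add_mem _ ?_ ?_
  · rw [mul_comm, mul_smul]; exact Submodule.smul_mem _ _ h1
  · rw [mul_smul]; exact Submodule.smul_mem _ _ h1'

theorem fibZero_of_mem {p : Ideal A} [p.IsPrime] {m : M}
    (h : m ∈ (p.map φ) • (⊤ : Submodule B M)) : FibZero φ p m :=
  ⟨1, fun h1 => (Ideal.IsPrime.ne_top inferInstance) (p.eq_top_of_isUnit_mem h1 isUnit_one),
    by rwa [map_one, one_smul]⟩

theorem FibZero.mono {p p' : Ideal A} (hpp : p ≤ p') {m : M}
    (h : ∃ s : A, s ∉ p' ∧ φ s • m ∈ (p.map φ) • (⊤ : Submodule B M)) : FibZero φ p' m := by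
  obtain ⟨s, hs, h1⟩ := h
  exact ⟨s, hs, Submodule.smul_mono_left (Ideal.map_mono hpp) h1⟩

/-- cancel a scalar `s ∉ p`. -/
theorem FibZero.of_smul {p : Ideal A} [p.IsPrime] {m : M} {s : A} (hs : s ∉ p)
    (h : FibZero φ p (φ s • m)) : FibZero φ p m := by
  obtain ⟨s', hs', h1⟩ := h
  refine ⟨s' * s, fun hh => (Ideal.IsPrime.mem_or_mem inferInstance hh).elim hs' hs, ?_⟩
  rwa [map_mul, mul_smul]

end Defs

section Tensor

variable {A B : Type*} [CommRing A] [CommRing B] [Algebra A B] {M : Type*} [AddCommGroup M]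
  [Module B M] [Module A M] [IsScalarTower A B M] (p : Ideal A) [p.IsPrime]

omit [Module B M] [IsScalarTower A B M] in
/-- scalars outside `p` act injectively on the fibre -/
theorem smul_tensor_injective {s : A} (hs : s ∉ p) (l : M ⊗[A] p.ResidueField)
    (h : s • l = 0) : l = 0 := by
  have hu : algebraMap A p.ResidueField s ≠ 0 := fun h0 =>
    hs ((Ideal.algebraMap_residueField_eq_zero).mp h0)
  set c : p.ResidueField := (algebraMap A p.ResidueField s)⁻¹ with hc
  -- the `κ`-linear structure on the right factor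
  let T : M ⊗[A] p.ResidueField →ₗ[A] M ⊗[A] p.ResidueField :=
    LinearMap.lTensor M (LinearMap.mulLeft A c)
  have hT : ∀ x : M ⊗[A] p.ResidueField, T (s • x) = x := by
    intro x
    induction x with
    | zero => simp
    | tmul m k =>
      rw [TensorProduct.smul_tmul', TensorProduct.smul_tmul, LinearMap.lTensor_tmul,
        LinearMap.mulLeft_apply, Algebra.smul_def, ← mul_assoc, hc, inv_mul_cancel₀ hu, one_mul]
    | add x y hx hy => rw [smul_add, map_add, hx, hy]
  rw [← hT l, h, map_zero]

theorem fibZero_iff (m : M) :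
    FibZero (algebraMap A B) p m ↔ m ⊗ₜ[A] (1 : p.ResidueField) = 0 := by
  constructor
  · rintro ⟨s, hs, h⟩
    rw [Groth.Agent.Lib.Helper93.DepthFlat.mem_map_smul_top_iff (S := B), algebraMap_smul] at h
    apply smul_tensor_injective p hs
    rw [TensorProduct.smul_tmul']
    -- elements of `p M` die
    have key : ∀ z ∈ p • (⊤ : Submodule A M), z ⊗ₜ[A] (1 : p.ResidueField) = 0 := by
      intro z hz
      refine Submodule.smul_induction_on hz ?_ ?_
      · intro a ha n _
        rw [TensorProduct.smul_tmul, Algebra.smul_def, mul_one,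
          (Ideal.algebraMap_residueField_eq_zero).mpr ha, TensorProduct.tmul_zero]
      · intro x y hx hy
        rw [TensorProduct.add_tmul, hx, hy, add_zero]
    exact key _ h
  · intro h
    obtain ⟨s, hs, h1⟩ :=
      Groth.Agent.Lib.Helper62.FibReg.exists_smul_mem_of_tmul_one_eq_zero p M m h
    refine ⟨s, hs, ?_⟩
    rw [Groth.Agent.Lib.Helper93.DepthFlat.mem_map_smul_top_iff (S := B), algebraMap_smul]
    exact h1

end Tensor

section Ass

variable {A B : Type*} [CommRing A] [CommRing B] [Algebra A B] {M : Type*} [AddCommGroup M]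
  [Module B M] [Module A M] [IsScalarTower A B M] (q : Ideal B) [q.IsPrime]

theorem smul_tmul_one (b : B) (m : M) :
    b • (m ⊗ₜ[A] (1 : (q.comap (algebraMap A B)).ResidueField)) = (b • m) ⊗ₜ[A] 1 :=
  TensorProduct.smul_tmul' b m 1

theorem isFibAss_iff :
    IsFibAss (algebraMap A B) q M ↔
      IsAssociatedPrime q (M ⊗[A] (q.comap (algebraMap A B)).ResidueField) := by
  set p := q.comap (algebraMap A B) with hp
  have hrad : ∀ (l : M ⊗[A] p.ResidueField) (b : B),
      b ∈ (Submodule.colon (⊥ : Submodule B (M ⊗[A] p.ResidueField)) {l}).radical ↔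
        ∃ k : ℕ, b ^ k • l = 0 := by
    intro l b
    simp only [Ideal.mem_radical_iff, Submodule.mem_colon_singleton, Submodule.mem_bot]
  constructor
  · rintro ⟨m, hm⟩
    refine ⟨inferInstance, m ⊗ₜ[A] 1, ?_⟩
    ext b
    rw [hrad, hm b]
    refine exists_congr fun k => ?_
    rw [fibZero_iff p, smul_tmul_one]
  · rintro ⟨_, l, hl⟩
    obtain ⟨s, hs, m, hm⟩ := Groth.Agent.Lib.Helper62.FibReg.exists_smul_eq_tmul_one p M l
    refine ⟨m, fun b => ?_⟩
    have hb : b ∈ q ↔ ∃ k : ℕ, b ^ k • l = 0 := by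
      rw [← hrad]; exact ⟨fun h => hl ▸ h, fun h => hl ▸ h⟩
    rw [hb]
    refine exists_congr fun k => ?_
    rw [fibZero_iff p, ← smul_tmul_one, ← hm, smul_comm]
    constructor
    · intro h; rw [h, smul_zero]
    · intro h; exact smul_tensor_injective p hs _ h

end Ass

end Groth.Agent.H76.RelAss
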