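/-
helper76: generic structure of the associated primes of the fibres of a finite module over a finite
type algebra over a Noetherian domain (EGA IV 9.8.2/9.8.3, chart form): every associated prime of
a generic fibre is a minimal prime over `q₀ + p B` for a generic associated prime `q₀`.
-/
import Mathlib
import Groth.Agent.H76.AssKeyB
import Groth.Agent.H76.AssNN
import Groth.Agent.H76.RelAssAlg

set_option autoImplicit false
universe u

namespace Groth.Agent.H76.AssGen

open Groth.Agent.H76.RelAss

section FibZero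

variable {A B : Type*} [CommRing A] [CommRing B] [Algebra A B]
  {M : Type*} [AddCommGroup M] [Module B M] [Module A M] [IsScalarTower A B M]

theorem fibZero_iff' (p : Ideal A) (m : M) :
    FibZero (algebraMap A B) p m ↔ ∃ s : A, s ∉ p ∧ s • m ∈ p • (⊤ : Submodule A M) := by
  unfold FibZero
  refine exists_congr fun s => and_congr_right fun _ => ?_
  rw [Groth.Agent.Lib.Helper93.DepthFlat.mem_map_smul_top_iff (S := B), algebraMap_smul]

theorem pi_mem_smul_top {ι : Type*} [Fintype ι] [DecidableEq ι] {Mi : ι → Type*}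
    [∀ i, AddCommGroup (Mi i)] [∀ i, Module A (Mi i)] (p : Ideal A) (y : ∀ i, Mi i)
    (hy : ∀ i, y i ∈ p • (⊤ : Submodule A (Mi i))) :
    y ∈ p • (⊤ : Submodule A (∀ i, Mi i)) := by
  have h2 : y = ∑ i, (LinearMap.single A Mi i) (y i) := by
    funext j
    rw [Finset.sum_apply]
    simp [Pi.single_apply]
  rw [h2]
  refine Submodule.sum_mem _ fun i _ => ?_
  refine Submodule.smul_induction_on (hy i) ?_ ?_
  · intro a ha f _
    rw [map_smul]
    exact Submodule.smul_mem_smul ha Submodule.mem_top
  · intro x y hx hy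
    rw [map_add]; exact Submodule.add_mem _ hx hy

end FibZero

section Inter

variable {A B : Type*} [CommRing A] [IsDomain A] [CommRing B] [Algebra A B]
  [Algebra.FiniteType A B]
  {M : Type*} [AddCommGroup M] [Module B M] [Module A M] [IsScalarTower A B M] [Module.Finite B M]

/-- If finitely many submodules have zero intersection, then generically an element dying in the
fibres of all the quotients dies in the fibre. -/
theorem fibZero_of_forall_quotient (t : Finset (Submodule B M)) (ht : t.inf id = ⊥) :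
    ∃ a : A, a ≠ 0 ∧ ∀ p : Ideal A, p.IsPrime → a ∉ p → ∀ m : M,
      (∀ J ∈ t, FibZero (algebraMap A B) p (Submodule.Quotient.mk (p := J) m)) →
        FibZero (algebraMap A B) p m := by
  classical
  let θ : M →ₗ[B] ((J : t) → M ⧸ J.1) := LinearMap.pi (fun J => J.1.mkQ)
  have hθ : Function.Injective θ := by
    rw [injective_iff_map_eq_zero]
    intro m hm
    have h1 : ∀ J ∈ t, m ∈ J := by
      intro J hJ
      have := congrFun hm ⟨J, hJ⟩
      exact (Submodule.Quotient.mk_eq_zero J).mp this
    have h2 : m ∈ t.inf id := by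
      rw [Submodule.mem_finsetInf]
      exact h1
    rw [ht] at h2
    exact h2
  obtain ⟨a, ha, hpur⟩ := purity_of_injective (A := A) B θ hθ
  refine ⟨a, ha, fun p hp hap m hm => ?_⟩
  haveI := hp
  have hm' : ∀ J : t, ∃ s : A, s ∉ p ∧
      s • (Submodule.Quotient.mk (p := J.1) m) ∈ p • (⊤ : Submodule A (M ⧸ J.1)) :=
    fun J => (fibZero_iff' p _).mp (hm J.1 J.2)
  choose ss hss hss' using hm'
  set s : A := ∏ J : t, ss J with hs
  have hsp : s ∉ p := by
    intro h
    obtain ⟨J, -, hJ⟩ := (Ideal.IsPrime.prod_mem_iff (hp := hp)).mp h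
    exact hss J hJ
  have h1 : θ (s • m) ∈ p • (⊤ : Submodule A ((J : t) → M ⧸ J.1)) := by
    apply pi_mem_smul_top
    intro J
    show Submodule.Quotient.mk (p := J.1) (s • m) ∈ _
    rw [Submodule.Quotient.mk_smul, hs, ← Finset.mul_prod_erase Finset.univ ss (Finset.mem_univ J),
      mul_comm, mul_smul]
    exact Submodule.smul_mem _ _ (hss' J)
  obtain ⟨k, hk⟩ := hpur p (s • m) h1
  rw [fibZero_iff']
  refine ⟨a ^ k * s, ?_, ?_⟩
  · intro h
    rcases hp.mem_or_mem h with h | h
    · exact hap (hp.mem_of_pow_mem _ h)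
    · exact hsp h
  · rw [mul_smul]; exact hk

end Inter

section Comp

variable {A B : Type u} [CommRing A] [IsDomain A] [IsNoetherianRing A] [CommRing B] [Algebra A B]
  [Algebra.FiniteType A B]
  {M : Type u} [AddCommGroup M] [Module B M] [Module A M] [IsScalarTower A B M] [Module.Finite B M]

/-- Integrality modulo a prime passes to integrality modulo a power. -/
theorem isIntegralElem_pow_of_isIntegralElem {D : Type*} [CommRing D] (ψ : D →+* B) (P : Ideal B)
    (k : ℕ) (y : B)
    (h : ((Ideal.Quotient.mk P).comp ψ).IsIntegralElem (Ideal.Quotient.mk P y)) :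
    ((Ideal.Quotient.mk (P ^ k)).comp ψ).IsIntegralElem (Ideal.Quotient.mk (P ^ k) y) := by
  obtain ⟨F, hF, hF0⟩ := h
  refine ⟨F ^ k, hF.pow k, ?_⟩
  rw [← Polynomial.hom_eval₂] at hF0 ⊢
  rw [Ideal.Quotient.eq_zero_iff_mem] at hF0 ⊢
  rw [Polynomial.eval₂_pow]
  exact Ideal.pow_mem_pow hF0 k

/-- All elements of `B` become integral modulo `q₀` after multiplication by a power of `a₁`. -/
theorem exists_pow_smul_isIntegralElem {d : ℕ} (b : Fin d → B) (q₀ : Ideal B) (a₁ : A)
    (T : Finset B) (hT : Algebra.adjoin A (T : Set B) = ⊤)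
    (hint : ∀ t ∈ T, ((Ideal.Quotient.mk q₀).comp
      (MvPolynomial.aeval b : MvPolynomial (Fin d) A →ₐ[A] B).toRingHom).IsIntegralElem
        (Ideal.Quotient.mk q₀ (a₁ • t))) (x : B) :
    ∃ e : ℕ, ((Ideal.Quotient.mk q₀).comp
      (MvPolynomial.aeval b : MvPolynomial (Fin d) A →ₐ[A] B).toRingHom).IsIntegralElem
        (Ideal.Quotient.mk q₀ (a₁ ^ e • x)) := by
  set f := (Ideal.Quotient.mk q₀).comp
    (MvPolynomial.aeval b : MvPolynomial (Fin d) A →ₐ[A] B).toRingHom with hf
  have hA : ∀ (c : A) (y : B), Ideal.Quotient.mk q₀ (c • y) =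
      f (MvPolynomial.C c) * Ideal.Quotient.mk q₀ y := by
    intro c y
    rw [Algebra.smul_def, map_mul, hf]
    congr 1
    show _ = Ideal.Quotient.mk q₀ (MvPolynomial.aeval b (MvPolynomial.C c))
    rw [← MvPolynomial.algebraMap_eq, AlgHom.commutes]
  have hx : x ∈ Algebra.adjoin A (T : Set B) := by rw [hT]; exact Algebra.mem_top
  induction hx using Algebra.adjoin_induction with
  | mem t ht => exact ⟨1, by rw [pow_one]; exact hint t ht⟩
  | algebraMap r =>
    refine ⟨0, ?_⟩
    rw [pow_zero, one_smul]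
    have : Ideal.Quotient.mk q₀ (algebraMap A B r) = f (MvPolynomial.C r) := by
      rw [hf]
      show _ = Ideal.Quotient.mk q₀ (MvPolynomial.aeval b (MvPolynomial.C r))
      rw [← MvPolynomial.algebraMap_eq, AlgHom.commutes]
    rw [this]
    exact f.isIntegralElem_map
  | add x y _ _ hx hy =>
    obtain ⟨e1, h1⟩ := hx
    obtain ⟨e2, h2⟩ := hy
    refine ⟨e1 + e2, ?_⟩
    rw [smul_add, map_add]
    refine RingHom.IsIntegralElem.add f ?_ ?_
    · rw [pow_add, mul_comm, mul_smul, hA]
      exact RingHom.IsIntegralElem.mul f f.isIntegralElem_map h1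
    · rw [pow_add, mul_smul, hA]
      exact RingHom.IsIntegralElem.mul f f.isIntegralElem_map h2
  | mul x y _ _ hx hy =>
    obtain ⟨e1, h1⟩ := hx
    obtain ⟨e2, h2⟩ := hy
    refine ⟨e1 + e2, ?_⟩
    have : a₁ ^ (e1 + e2) • (x * y) = (a₁ ^ e1 • x) * (a₁ ^ e2 • y) := by
      rw [smul_mul_smul_comm, ← pow_add]
    rw [this, map_mul]
    exact RingHom.IsIntegralElem.mul f h1 h2

end Comp

end Groth.Agent.H76.AssGen
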