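/-
helper76: the key statement for one primary component.
-/
import Mathlib
import Groth.Agent.H76.AssKeyC

set_option autoImplicit false
universe u

namespace Groth.Agent.H76.AssGen

open Groth.Agent.H76.RelAss

section Comp

variable {A B : Type u} [CommRing A] [IsDomain A] [IsNoetherianRing A] [CommRing B] [Algebra A B]
  [Algebra.FiniteType A B]
  {M : Type u} [AddCommGroup M] [Module B M] [Module A M] [IsScalarTower A B M] [Module.Finite B M]

/-- **Key statement for one primary component** `J ⊆ M` with prime `P = √(J : M)`: generically, if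
`q` is an associated prime of the fibre of `M / J` over `p`, then `P ∩ A = 0`, `P ⊆ q`, and `q` is
minimal among the primes over `p` containing `P`. -/
theorem primary_component_key (J : Submodule B M) (hJ : J.IsPrimary) :
    ∃ a : A, a ≠ 0 ∧ ∀ p : Ideal A, p.IsPrime → a ∉ p → ∀ q : Ideal B, q.IsPrime →
      q.comap (algebraMap A B) = p → ∀ m : M,
      (∀ b : B, b ∈ q ↔ ∃ k : ℕ, FibZero (algebraMap A B) p
        (b ^ k • (Submodule.Quotient.mk (p := J) m))) →
      (J.colon Set.univ).radical.comap (algebraMap A B) = ⊥ ∧ (J.colon Set.univ).radical ≤ q ∧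
        ∀ q' : Ideal B, q'.IsPrime → (J.colon Set.univ).radical ≤ q' → q' ≤ q →
          q'.comap (algebraMap A B) = p → q' = q := by
  classical
  haveI : IsNoetherianRing B := Algebra.FiniteType.isNoetherianRing A B
  set P := (J.colon Set.univ).radical with hP
  haveI hPprime : P.IsPrime := hJ.isPrime_radical_colon
  obtain ⟨k, hk⟩ := Ideal.exists_radical_pow_le_of_fg (J.colon Set.univ)
    (IsNoetherian.noetherian _)
  have hkill : ∀ c ∈ P ^ k, ∀ m : M, c • m ∈ J := fun c hc m =>
    Submodule.mem_colon.mp (hk hc) m (Set.mem_univ _)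
  -- `P ≤ q`
  have hPq : ∀ (p : Ideal A) [p.IsPrime] (q : Ideal B) (m : M),
      (∀ b : B, b ∈ q ↔ ∃ k : ℕ, FibZero (algebraMap A B) p
        (b ^ k • (Submodule.Quotient.mk (p := J) m))) → P ≤ q := by
    intro p _ q m hm b hb
    rw [hm]
    obtain ⟨j, hj⟩ := hb
    refine ⟨j, ?_⟩
    have : b ^ j • (Submodule.Quotient.mk (p := J) m) = 0 := by
      rw [← Submodule.Quotient.mk_smul, Submodule.Quotient.mk_eq_zero]
      exact Submodule.mem_colon.mp hj m (Set.mem_univ _)
    rw [this]
    exact fibZero_of_mem (Submodule.zero_mem _)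
  by_cases hcomap : P.comap (algebraMap A B) = ⊥
  · obtain ⟨d, b, a₁, T, ha₁, hinj, hT, hint⟩ := hasNN (A := A) P hcomap
    set ψ : MvPolynomial (Fin d) A →ₐ[A] B := MvPolynomial.aeval b with hψ
    -- the module structure over `R = B ⧸ P ^ k`
    have htors : Module.IsTorsionBySet B (M ⧸ J) (↑(P ^ k) : Set B) := by
      intro x c
      obtain ⟨m, rfl⟩ := Submodule.Quotient.mk_surjective J x
      rw [← Submodule.Quotient.mk_smul, Submodule.Quotient.mk_eq_zero]
      exact hkill c.1 c.2 m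
    letI modR : Module (B ⧸ P ^ k) (M ⧸ J) := htors.module
    haveI st1 : IsScalarTower B (B ⧸ P ^ k) (M ⧸ J) := htors.isScalarTower
    haveI st2 : IsScalarTower A (B ⧸ P ^ k) (M ⧸ J) := htors.isScalarTower
    haveI fin1 : Module.Finite (B ⧸ P ^ k) (M ⧸ J) := Module.Finite.of_restrictScalars_finite B _ _
    letI algDR : Algebra (MvPolynomial (Fin d) A) (B ⧸ P ^ k) :=
      ((Ideal.Quotient.mk (P ^ k)).comp ψ.toRingHom).toAlgebra
    haveI st3 : IsScalarTower A (MvPolynomial (Fin d) A) (B ⧸ P ^ k) :=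
      IsScalarTower.of_algebraMap_eq (fun x => by
        show algebraMap A (B ⧸ P ^ k) x = Ideal.Quotient.mk (P ^ k) (ψ (algebraMap A _ x))
        rw [AlgHom.commutes]; rfl)
    letI modD : Module (MvPolynomial (Fin d) A) (M ⧸ J) :=
      Module.compHom (M ⧸ J) (algebraMap (MvPolynomial (Fin d) A) (B ⧸ P ^ k))
    haveI st4 : IsScalarTower (MvPolynomial (Fin d) A) (B ⧸ P ^ k) (M ⧸ J) :=
      IsScalarTower.of_compHom _ _ _
    have hDact : ∀ (h : MvPolynomial (Fin d) A) (n : M ⧸ J), h • n = ψ h • n := fun h n => rfl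
    haveI st5 : IsScalarTower A (MvPolynomial (Fin d) A) (M ⧸ J) := ⟨fun a h n => by
      rw [hDact, hDact, map_smul, smul_assoc]⟩
    have hT' : Algebra.adjoin A ((T.image (Ideal.Quotient.mk (P ^ k)) : Finset (B ⧸ P ^ k)) :
        Set (B ⧸ P ^ k)) = ⊤ := by
      rw [Finset.coe_image]
      have h1 := Algebra.adjoin_image A (Ideal.Quotient.mkₐ A (P ^ k)) (T : Set B)
      rw [show (Ideal.Quotient.mk (P ^ k) : B → B ⧸ P ^ k) = (Ideal.Quotient.mkₐ A (P ^ k)) from rfl,
        h1, hT, Algebra.map_top]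
      exact (AlgHom.range_eq_top _).mpr (Ideal.Quotient.mkₐ_surjective A _)
    have hint' : ∀ t' ∈ T.image (Ideal.Quotient.mk (P ^ k)),
        IsIntegral (MvPolynomial (Fin d) A) (a₁ • t') := by
      intro t' ht'
      obtain ⟨t, ht, rfl⟩ := Finset.mem_image.mp ht'
      have h1 := isIntegralElem_pow_of_isIntegralElem ψ.toRingHom P k (a₁ • t) (hint t ht)
      have e : a₁ • (Ideal.Quotient.mk (P ^ k) t) = Ideal.Quotient.mk (P ^ k) (a₁ • t) := by
        rw [Algebra.smul_def, Algebra.smul_def, map_mul]; rfl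
      rw [e]
      exact h1
    have htf : ∀ (h : MvPolynomial (Fin d) A) (n : M ⧸ J), h ≠ 0 → h • n = 0 → n = 0 := by
      intro h n hh hn
      obtain ⟨m, rfl⟩ := Submodule.Quotient.mk_surjective J n
      have h1 : ψ h • (Submodule.Quotient.mk m : M ⧸ J) = 0 := hn
      rw [← Submodule.Quotient.mk_smul, Submodule.Quotient.mk_eq_zero] at h1
      rcases hJ.mem_or_mem h1 with h2 | h2
      · exact (Submodule.Quotient.mk_eq_zero J).mpr h2
      · exact absurd (hinj h h2) hh
    obtain ⟨a₂, ha₂, hcon⟩ := generic_contraction (A := A) (d := d) (R := B ⧸ P ^ k) (N := M ⧸ J)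
      a₁ ha₁ (T.image (Ideal.Quotient.mk (P ^ k))) hT' hint' htf
    refine ⟨a₁ * a₂, mul_ne_zero ha₁ ha₂, fun p hp hap q hq hqp m hm =>
      ⟨hcomap, hPq p q m hm, ?_⟩⟩
    haveI := hp
    have ha₁p : a₁ ∉ p := fun hh => hap (Ideal.mul_mem_right _ _ hh)
    have ha₂p : a₂ ∉ p := fun hh => hap (Ideal.mul_mem_left _ _ hh)
    have hnz : ¬ ∃ s : A, s ∉ p ∧
        s • (Submodule.Quotient.mk (p := J) m) ∈ p • (⊤ : Submodule A (M ⧸ J)) := by
      intro hex
      have h1 : (1 : B) ∈ q := by
        rw [hm]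
        refine ⟨0, ?_⟩
        rw [pow_zero, one_smul]
        exact (fibZero_iff' p _).mpr hex
      exact hq.ne_top ((Ideal.eq_top_iff_one _).mpr h1)
    have hcontr : ∀ h : MvPolynomial (Fin d) A, ψ h ∈ q →
        h ∈ p.map (MvPolynomial.C : A →+* MvPolynomial (Fin d) A) := by
      intro h hh
      obtain ⟨j, hj⟩ := (hm _).mp hh
      obtain ⟨s, hs, hsj⟩ := (fibZero_iff' p _).mp hj
      refine hcon p hp ha₂p _ hnz h ⟨j, s, hs, ?_⟩
      rw [hDact, map_pow]
      exact hsj
    intro q' hq' hPq' hq'q hq'p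
    by_contra hne
    have hlt : q' < q := lt_of_le_of_ne hq'q hne
    obtain ⟨x, hxq, hxq'⟩ := SetLike.exists_of_lt hlt
    obtain ⟨e, F, hFm, hF0⟩ := exists_pow_smul_isIntegralElem b P a₁ T hT hint x
    have hyq : a₁ ^ e • x ∈ q := by
      rw [Algebra.smul_def]; exact Ideal.mul_mem_left _ _ hxq
    have hyq' : a₁ ^ e • x ∉ q' := by
      rw [Algebra.smul_def]
      intro h
      rcases hq'.mem_or_mem h with h | h
      · rw [map_pow] at h
        have h2 := hq'.mem_of_pow_mem _ h
        have h3 : a₁ ∈ q'.comap (algebraMap A B) := h2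
        rw [hq'p] at h3
        exact ha₁p h3
      · exact hxq' h
    have hF1 : Polynomial.eval₂ ψ.toRingHom (a₁ ^ e • x) F ∈ q' := by
      apply hPq'
      rw [← Ideal.Quotient.eq_zero_iff_mem, Polynomial.hom_eval₂]
      exact hF0
    have hcomp := Ideal.comap_lt_comap_of_root_mem_sdiff (f := ψ.toRingHom) hq'q
      (show a₁ ^ e • x ∈ (q : Set B) \ q' from ⟨hyq, hyq'⟩) (Polynomial.map_monic_ne_zero hFm) hF1
    have hle : q.comap ψ.toRingHom ≤ q'.comap ψ.toRingHom := by
      intro g hg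
      have h1 := hcontr g hg
      have h2 : p.map (MvPolynomial.C : A →+* MvPolynomial (Fin d) A) ≤ q'.comap ψ.toRingHom := by
        rw [Ideal.map_le_iff_le_comap]
        intro r hr
        show ψ (MvPolynomial.C r) ∈ q'
        rw [← MvPolynomial.algebraMap_eq, AlgHom.commutes]
        have : r ∈ q'.comap (algebraMap A B) := by rw [hq'p]; exact hr
        exact this
      exact h2 h1
    exact absurd hcomp (not_lt_of_ge hle)
  · obtain ⟨c, hc, hc0⟩ := Submodule.exists_mem_ne_zero_of_ne_bot hcomap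
    refine ⟨c, hc0, fun p hp hcp q hq hqp m hm => ?_⟩
    exfalso
    have h1 : (1 : B) ∈ q := by
      rw [hm]
      refine ⟨0, ?_⟩
      rw [pow_zero, one_smul]
      refine ⟨c ^ k, fun h => hcp (hp.mem_of_pow_mem _ h), ?_⟩
      have : algebraMap A B (c ^ k) • (Submodule.Quotient.mk (p := J) m) = 0 := by
        rw [← Submodule.Quotient.mk_smul, Submodule.Quotient.mk_eq_zero, map_pow]
        exact hkill _ (Ideal.pow_mem_pow (Ideal.mem_comap.mp hc) k) m
      rw [this]
      exact Submodule.zero_mem _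
    exact hq.ne_top ((Ideal.eq_top_iff_one _).mpr h1)

end Comp

end Groth.Agent.H76.AssGen
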