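import Mathlib
import Groth.Agent.H76.RelAssAlg

/-!
# Associated primes of fibre modules and localization (helper76)

`B'` is the localization of `B` at the prime `q`, `N` the localization of the `B`-module `M` at `q`.
The module `N / p N` (with `p = q ∩ A`) is the localization at `q` of the fibre module `M ⊗_A κ(p)`
(helper62's `fibreEquiv`).  We compare the condition "the maximal ideal of `B'` is an associated
prime of `N / p N`" with `IsFibAss`.
-/

set_option autoImplicit false
universe u

open TensorProduct IsLocalRing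

namespace Groth.Agent.H76.RelAss

open Groth.Agent.Lib.Helper62.FibReg

section Loc

variable {A B : Type*} [CommRing A] [CommRing B] [Algebra A B] {M : Type*} [AddCommGroup M]
  [Module B M] [Module A M] [IsScalarTower A B M] (q : Ideal B) [q.IsPrime]
  {B' : Type*} [CommRing B'] [Algebra B B'] [IsLocalization.AtPrime B' q]
  {N : Type*} [AddCommGroup N] [Module B' N] [Module B N] [IsScalarTower B B' N]
  (ℓ : M →ₗ[B] N) [IsLocalizedModule q.primeCompl ℓ]
  (J : Ideal B')
  (hJ : J = ((q.comap (algebraMap A B)).map (algebraMap A B)).map (algebraMap B B'))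

include hJ in
theorem restrictScalars_smul_top :
    ((q.comap (algebraMap A B)).map (algebraMap A B)) • (⊤ : Submodule B N) =
      (J • (⊤ : Submodule B' N)).restrictScalars B := by
  rw [hJ, Groth.Agent.Lib.Helper93.DepthFlat.map_smul_top_restrictScalars (S := B') N]

/-- the identification `N / (pB) N ≃ N / J N` (change of the ring acting). -/
noncomputable def quotEquiv :
    (N ⧸ ((q.comap (algebraMap A B)).map (algebraMap A B)) • (⊤ : Submodule B N)) ≃ₗ[B]
      (N ⧸ J • (⊤ : Submodule B' N)) :=
  (Submodule.quotEquivOfEq _ _ (restrictScalars_smul_top q J hJ)).trans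
    (Submodule.Quotient.restrictScalarsEquiv B (J • (⊤ : Submodule B' N)))

theorem quotEquiv_mk (n : N) :
    quotEquiv (A := A) q J hJ (Submodule.Quotient.mk n) = Submodule.Quotient.mk n := rfl

/-- the localization map from the fibre module to `N / J N`. -/
noncomputable def lam : M ⊗[A] (q.comap (algebraMap A B)).ResidueField →ₗ[B]
    (N ⧸ J • (⊤ : Submodule B' N)) :=
  ((fibreEquiv A M q ℓ).symm.trans (quotEquiv (A := A) q J hJ)).toLinearMap ∘ₗ
    LocalizedModule.mkLinearMap q.primeCompl (M ⊗[A] (q.comap (algebraMap A B)).ResidueField)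

instance isLocalizedModule_lam : IsLocalizedModule q.primeCompl (lam q ℓ J hJ) := by
  unfold lam
  infer_instance

theorem lam_tmul_one (m : M) :
    lam q ℓ J hJ (m ⊗ₜ[A] 1) = Submodule.Quotient.mk (ℓ m) := by
  unfold lam
  rw [LinearMap.comp_apply, LinearEquiv.coe_coe, LinearEquiv.trans_apply]
  have h1 : (fibreEquiv A M q ℓ).symm
      (LocalizedModule.mkLinearMap q.primeCompl _ (m ⊗ₜ[A] 1)) = Submodule.Quotient.mk (ℓ m) := by
    rw [LinearEquiv.symm_apply_eq]
    change _ = ψ A M q ℓ (Submodule.Quotient.mk (ℓ m))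
    rw [ψ_mk, ψ₀_apply]
  rw [h1, quotEquiv_mk]

variable [IsLocalRing B']

include ℓ hJ in
/-- (i) an associated prime of the fibre module gives a point of the relative assassin. -/
theorem isAssociatedPrime_maximalIdeal_of_isFibAss (h : IsFibAss (algebraMap A B) q M) :
    IsAssociatedPrime (maximalIdeal B') (N ⧸ J • (⊤ : Submodule B' N)) := by
  rw [isFibAss_iff] at h
  refine Module.associatedPrimes.mem_associatedPrimes_of_comap_mem_associatedPrimes_of_isLocalizedModule
    q.primeCompl (lam q ℓ J hJ) (maximalIdeal B') ?_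
  have : (maximalIdeal B').comap (algebraMap B B') = q :=
    IsLocalization.AtPrime.under_maximalIdeal B' q
  rw [this]
  exact h

include ℓ hJ in
/-- (ii) an element acting injectively on the fibre module avoids the primes of the relative
assassin. -/
theorem notMem_of_isAssociatedPrime_maximalIdeal
    (h : IsAssociatedPrime (maximalIdeal B') (N ⧸ J • (⊤ : Submodule B' N))) (g : B)
    (hg : ∀ m : M, FibZero (algebraMap A B) (q.comap (algebraMap A B)) (g • m) →
      FibZero (algebraMap A B) (q.comap (algebraMap A B)) m) : g ∉ q := by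
  intro hgq
  set p := q.comap (algebraMap A B) with hp
  -- `g` is injective on the fibre module
  have hinj : ∀ l : M ⊗[A] p.ResidueField, g • l = 0 → l = 0 := by
    intro l hl
    obtain ⟨s, hs, m, hm⟩ := exists_smul_eq_tmul_one p M l
    have h1 : (g • m) ⊗ₜ[A] (1 : p.ResidueField) = 0 := by
      rw [← smul_tmul_one, ← hm, smul_comm, hl, smul_zero]
    have h2 := (fibZero_iff p m).mp (hg m ((fibZero_iff p (g • m)).mpr h1))
    apply smul_tensor_injective p hs
    rw [hm, h2]
  -- hence on `N / J N`
  have hinjT : ∀ t : N ⧸ J • (⊤ : Submodule B' N), g • t = 0 → t = 0 := by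
    intro t ht
    obtain ⟨l, w, hw, hl⟩ := exists_smul_eq_map q.primeCompl (lam q ℓ J hJ) t
    have h1 : lam q ℓ J hJ (g • l) = 0 := by
      rw [map_smul, ← hl, smul_comm, ht, smul_zero]
    obtain ⟨w', hw', h2⟩ := exists_smul_eq_zero_of_map_eq_zero q.primeCompl (lam q ℓ J hJ) h1
    rw [smul_comm] at h2
    have h3 := hinj _ h2
    have h4 : w' • w • t = 0 := by
      rw [hl, ← map_smul, h3, map_zero]
    exact unit_smul_eq_zero q.primeCompl (lam q ℓ J hJ) hw
      (unit_smul_eq_zero q.primeCompl (lam q ℓ J hJ) hw' h4)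
  have hinjpow : ∀ (k : ℕ) (t : N ⧸ J • (⊤ : Submodule B' N)), g ^ k • t = 0 → t = 0 := by
    intro k
    induction k with
    | zero => intro t ht; simpa using ht
    | succ k ih =>
      intro t ht
      rw [pow_succ, mul_smul] at ht
      exact hinjT t (ih _ ht)
  obtain ⟨hprime, t, ht⟩ := h
  have hmem : algebraMap B B' g ∈ maximalIdeal B' := by
    rw [← IsLocalization.AtPrime.under_maximalIdeal B' q] at hgq
    exact hgq
  rw [ht, Ideal.mem_radical_iff] at hmem
  obtain ⟨k, hk⟩ := hmem
  rw [Submodule.mem_colon_singleton, Submodule.mem_bot, ← map_pow, algebraMap_smul] at hk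
  have ht0 := hinjpow k t hk
  apply hprime.ne_top
  rw [ht, ht0]
  rw [Ideal.eq_top_iff_one]
  apply Ideal.le_radical
  rw [Submodule.mem_colon_singleton]
  simp

end Loc

end Groth.Agent.H76.RelAss
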