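import Mathlib
import Groth.Agent.H76.RelAssLoc

/-!
# Finite generation of primes in the fibre, and the converse bridge (helper76)
-/

set_option autoImplicit false
universe u

open TensorProduct IsLocalRing

namespace Groth.Agent.H76.RelAss

open Groth.Agent.Lib.Helper62.FibReg

section FG

variable {A B : Type*} [CommRing A] [CommRing B] [Algebra A B] [Algebra.FiniteType A B]
  (p : Ideal A) [p.IsPrime]

instance isNoetherianRing_fibre : IsNoetherianRing (B ⊗[A] p.ResidueField) := by
  haveI : IsNoetherianRing (p.ResidueField ⊗[A] B) :=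
    Algebra.FiniteType.isNoetherianRing p.ResidueField _
  exact isNoetherianRing_of_ringEquiv _
    (Algebra.TensorProduct.comm A p.ResidueField B).toRingEquiv

/-- Every ideal of `B` is, in the fibre over `p`, generated by finitely many of its elements. -/
theorem exists_finset_fibre_generators (q : Ideal B) :
    ∃ T : Finset B, (T : Set B) ⊆ q ∧ ∀ b ∈ q, ∃ s : A, s ∉ p ∧
      algebraMap A B s * b ∈ Ideal.span (T : Set B) ⊔ p.map (algebraMap A B) := by
  classical
  set R := B ⊗[A] p.ResidueField with hR
  have hfg : (q.map (algebraMap B R)).FG := (isNoetherianRing_iff_ideal_fg R).mp inferInstance _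
  obtain ⟨T', hT', hspan⟩ := (Submodule.fg_span_iff_fg_span_finset_subset
    (R := R) (algebraMap B R '' (q : Set B))).mp hfg
  obtain ⟨T, hT, rfl⟩ := Finset.subset_set_image_iff.mp hT'
  refine ⟨T, hT, fun b hb => ?_⟩
  have hone : (1 : A) ∉ p := fun h1 =>
    (Ideal.IsPrime.ne_top inferInstance) (p.eq_top_of_isUnit_mem h1 isUnit_one)
  have hsm : ∀ (a : A) (c : B), algebraMap B R (a • c) = a • algebraMap B R c := fun a c => by
    rw [Algebra.smul_def, map_mul, ← IsScalarTower.algebraMap_apply, ← Algebra.smul_def]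
  -- clearing denominators in the span
  have key : ∀ r ∈ Submodule.span R ((T.image (algebraMap B R) : Finset R) : Set R),
      ∃ s : A, s ∉ p ∧ ∃ c ∈ Ideal.span (T : Set B), s • r = algebraMap B R c := by
    intro r hr
    induction hr using Submodule.span_induction with
    | mem x hx =>
      rw [Finset.coe_image] at hx
      obtain ⟨t, ht, rfl⟩ := hx
      exact ⟨1, hone, t, Ideal.subset_span ht, one_smul _ _⟩
    | zero => exact ⟨1, hone, 0, Ideal.zero_mem _, by simp⟩
    | add x y _ _ hx hy =>
      obtain ⟨s, hs, c, hc, e⟩ := hx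
      obtain ⟨s', hs', c', hc', e'⟩ := hy
      refine ⟨s * s', fun hh => (Ideal.IsPrime.mem_or_mem inferInstance hh).elim hs hs',
        s' • c + s • c', Ideal.add_mem _ (Submodule.smul_of_tower_mem _ _ hc)
          (Submodule.smul_of_tower_mem _ _ hc'), ?_⟩
      rw [smul_add, mul_comm s s', mul_smul, e, mul_comm s' s, mul_smul, e', map_add, hsm, hsm]
    | smul r' x _ hx =>
      obtain ⟨s, hs, c, hc, e⟩ := hx
      obtain ⟨s', hs', b', e'⟩ := Ideal.ResidueField.exists_smul_eq_tmul_one p r'
      refine ⟨s * s', fun hh => (Ideal.IsPrime.mem_or_mem inferInstance hh).elim hs hs',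
        b' * c, Ideal.mul_mem_left _ _ hc, ?_⟩
      have : (s * s') • (r' • x) = (s' • r') • (s • x) := by
        simp only [Algebra.smul_def, map_mul, Algebra.algebraMap_self, RingHom.id_apply]
        ring
      rw [this, e, e', map_mul, smul_eq_mul]
      rfl
  have hb' : algebraMap B R b ∈ Submodule.span R ((T.image (algebraMap B R) : Finset R) : Set R) := by
    rw [← hspan]
    exact Submodule.subset_span ⟨b, hb, rfl⟩
  obtain ⟨s, hs, c, hc, e⟩ := key _ hb'
  have h0 : (algebraMap A B s * b - c) ⊗ₜ[A] (1 : p.ResidueField) = 0 := by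
    have h1 : algebraMap B R (algebraMap A B s * b - c) = 0 := by
      rw [map_sub, map_mul, ← e, Algebra.smul_def, ← IsScalarTower.algebraMap_apply]
      exact sub_self _
    exact h1
  obtain ⟨s', hs', h2⟩ := (fibZero_iff (B := B) (M := B) p _).mpr h0
  refine ⟨s' * s, fun hh => (Ideal.IsPrime.mem_or_mem inferInstance hh).elim hs' hs, ?_⟩
  simp only [smul_eq_mul, Ideal.mul_top] at h2
  have h3 : algebraMap A B (s' * s) * b =
      algebraMap A B s' * (algebraMap A B s * b - c) + algebraMap A B s' * c := by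
    rw [map_mul]; ring
  rw [h3]
  exact Ideal.add_mem _ (Ideal.mem_sup_right h2) (Ideal.mem_sup_left (Ideal.mul_mem_left _ _ hc))

end FG

section Conv

variable {A B : Type*} [CommRing A] [CommRing B] [Algebra A B] [Algebra.FiniteType A B]
  {M : Type*} [AddCommGroup M]
  [Module B M] [Module A M] [IsScalarTower A B M] (q : Ideal B) [q.IsPrime]
  {B' : Type*} [CommRing B'] [Algebra B B'] [IsLocalization.AtPrime B' q] [IsLocalRing B']
  {N : Type*} [AddCommGroup N] [Module B' N] [Module B N] [IsScalarTower B B' N]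
  (ℓ : M →ₗ[B] N) [IsLocalizedModule q.primeCompl ℓ]
  (J : Ideal B')
  (hJ : J = ((q.comap (algebraMap A B)).map (algebraMap A B)).map (algebraMap B B'))

/-- The ideal of elements killing `m` in the fibre over `p`. -/
def fibAnn (p : Ideal A) [p.IsPrime] (m : M) : Ideal B where
  carrier := {b | FibZero (algebraMap A B) p (b • m)}
  add_mem' := by
    intro a b ha hb
    change FibZero _ _ _
    rw [add_smul]
    exact FibZero.add ha hb
  zero_mem' := by
    change FibZero _ _ _
    rw [zero_smul]
    exact fibZero_of_mem (Submodule.zero_mem _)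
  smul_mem' := by
    intro c b hb
    change FibZero _ _ _
    rw [smul_eq_mul, mul_smul]
    exact FibZero.smul hb c

theorem mem_fibAnn {p : Ideal A} [p.IsPrime] {m : M} {b : B} :
    b ∈ fibAnn p m ↔ FibZero (algebraMap A B) p (b • m) := Iff.rfl

include ℓ hJ in
/-- (iii) a point of the relative assassin gives an associated prime of the fibre module. -/
theorem isFibAss_of_isAssociatedPrime_maximalIdeal
    (h : IsAssociatedPrime (maximalIdeal B') (N ⧸ J • (⊤ : Submodule B' N))) :
    IsFibAss (algebraMap A B) q M := by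
  classical
  set p := q.comap (algebraMap A B) with hp
  obtain ⟨hprime, t, ht⟩ := h
  obtain ⟨l, w, hw, hl⟩ := exists_smul_eq_map q.primeCompl (lam q ℓ J hJ) t
  obtain ⟨s, hs, m, hm⟩ := exists_smul_eq_tmul_one p M l
  set u : B := algebraMap A B s with hu
  have huq : u ∈ q.primeCompl := hs
  have hm' : u • l = m ⊗ₜ[A] 1 := by rw [hu, algebraMap_smul]; exact hm
  set Λ := lam q ℓ J hJ with hΛ
  have hΛm : ∀ c : B, Λ (c • (m ⊗ₜ[A] 1)) = (c * u * w) • t := by
    intro c
    rw [← hm', map_smul, map_smul, ← hl, smul_smul, smul_smul]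
  -- (★) characterization of `q`
  have hstar : ∀ b : B, b ∈ q ↔ ∃ k : ℕ, ∃ w' ∈ q.primeCompl,
      FibZero (algebraMap A B) p (w' • b ^ k • m) := by
    intro b
    have h1 : b ∈ q ↔ ∃ k : ℕ, b ^ k • t = 0 := by
      rw [← IsLocalization.AtPrime.under_maximalIdeal B' q, Ideal.mem_comap, ht,
        Ideal.mem_radical_iff]
      refine exists_congr fun k => ?_
      rw [Submodule.mem_colon_singleton, Submodule.mem_bot, ← map_pow, algebraMap_smul]
    rw [h1]
    constructor
    · rintro ⟨k, hk⟩
      have h2 : Λ (b ^ k • (m ⊗ₜ[A] 1)) = 0 := by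
        rw [hΛm, mul_assoc, mul_comm, mul_smul, hk, smul_zero]
      obtain ⟨w', hw', h3⟩ := exists_smul_eq_zero_of_map_eq_zero q.primeCompl Λ h2
      refine ⟨k, w', hw', ?_⟩
      rw [fibZero_iff p, ← smul_tmul_one, ← smul_tmul_one]
      exact h3
    · rintro ⟨k, w', hw', h3⟩
      rw [fibZero_iff p, ← smul_tmul_one, ← smul_tmul_one, smul_smul] at h3
      refine ⟨k, ?_⟩
      have h4 : (w' * u * w) • (b ^ k • t) = 0 := by
        have := hΛm (w' * b ^ k)
        rw [h3, map_zero] at this
        rw [smul_smul]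
        rw [this]
        congr 1
        ring
      exact unit_smul_eq_zero q.primeCompl Λ
        (q.primeCompl.mul_mem (q.primeCompl.mul_mem hw' huq) hw) h4
  -- finitely many generators of `q` in the fibre
  obtain ⟨T, hT, hgen⟩ := exists_finset_fibre_generators p q
  have hch : ∀ b ∈ T, ∃ k : ℕ, ∃ w' ∈ q.primeCompl,
      FibZero (algebraMap A B) p (w' • b ^ k • m) := fun b hb => (hstar b).mp (hT hb)
  choose! kk ww hww hkw using hch
  set W : B := ∏ b ∈ T, ww b with hW
  have hWq : W ∈ q.primeCompl := Submonoid.prod_mem _ (fun b hb => hww b hb)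
  refine ⟨W • m, fun b => ?_⟩
  have hTrad : ∀ b ∈ T, b ∈ (fibAnn p (W • m)).radical := by
    intro b hb
    refine ⟨kk b, ?_⟩
    rw [mem_fibAnn]
    obtain ⟨c, hc⟩ := Finset.dvd_prod_of_mem ww hb
    have h5 := (hkw b hb).smul c
    have h6 : b ^ kk b • W • m = c • ww b • b ^ kk b • m := by
      rw [hW, hc]
      simp only [smul_smul]
      congr 1
      ring
    rw [h6]
    exact h5
  have hpB : p.map (algebraMap A B) ≤ (fibAnn p (W • m)).radical := by
    refine le_trans ?_ Ideal.le_radical
    intro c hc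
    rw [mem_fibAnn]
    exact fibZero_of_mem (Submodule.smul_mem_smul hc Submodule.mem_top)
  constructor
  · intro hb
    obtain ⟨s', hs', h6⟩ := hgen b hb
    have h7 : algebraMap A B s' * b ∈ (fibAnn p (W • m)).radical := by
      refine (sup_le ?_ hpB) h6
      rw [Ideal.span_le]
      exact fun c hc => hTrad c hc
    obtain ⟨K, hK⟩ := h7
    rw [mem_fibAnn, mul_pow, mul_smul, ← map_pow] at hK
    refine ⟨K, ?_⟩
    exact FibZero.of_smul (fun hh => hs' (Ideal.IsPrime.mem_of_pow_mem inferInstance K hh)) hK
  · rintro ⟨K, hK⟩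
    rw [smul_comm] at hK
    exact (hstar b).mpr ⟨K, W, hWq, hK⟩

end Conv

end Groth.Agent.H76.RelAss
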