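/-
helper76: generic structure of the associated primes of the fibres (chart form): assembly over a
primary decomposition.
-/
import Mathlib
import Groth.Agent.H76.AssKeyD
import Groth.Agent.H76.RelAssFG

set_option autoImplicit false
universe u

namespace Groth.Agent.H76.AssGen

open Groth.Agent.H76.RelAss

section Aux

variable {A B : Type*} [CommRing A] [CommRing B] [Algebra A B]
  {M : Type*} [AddCommGroup M] [Module B M]

theorem FibZero.map {M' : Type*} [AddCommGroup M'] [Module B M'] (f : M →ₗ[B] M') {p : Ideal A}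
    {m : M} (h : FibZero (algebraMap A B) p m) : FibZero (algebraMap A B) p (f m) := by
  obtain ⟨s, hs, h1⟩ := h
  refine ⟨s, hs, ?_⟩
  rw [← map_smul]
  have : ∀ z ∈ (p.map (algebraMap A B)) • (⊤ : Submodule B M),
      f z ∈ (p.map (algebraMap A B)) • (⊤ : Submodule B M') := by
    intro z hz
    refine Submodule.smul_induction_on hz ?_ ?_
    · intro r hr n _
      rw [map_smul]
      exact Submodule.smul_mem_smul hr Submodule.mem_top
    · intro x y hx hy
      rw [map_add]; exact Submodule.add_mem _ hx hy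
  exact this _ h1

theorem mem_radical_fibAnn {p : Ideal A} [p.IsPrime] {m : M} {b : B} :
    b ∈ (fibAnn p m).radical ↔ ∃ k : ℕ, FibZero (algebraMap A B) p (b ^ k • m) := by
  rw [Ideal.mem_radical_iff]
  rfl

/-- A prime lying over `0` which is the radical of the annihilator of an element is an associated
prime of the generic fibre. -/
theorem isFibAss_of_radical_colon [IsDomain A] (q₀ : Ideal B) [q₀.IsPrime]
    (hq₀ : q₀.comap (algebraMap A B) = ⊥) (x : M)
    (hx : q₀ = ((⊥ : Submodule B M).colon {x}).radical) :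
    IsFibAss (algebraMap A B) q₀ M := by
  refine ⟨x, fun b => ?_⟩
  rw [hq₀]
  constructor
  · intro hb
    rw [hx] at hb
    obtain ⟨k, hk⟩ := hb
    refine ⟨k, 1, ?_, ?_⟩
    · exact fun h => one_ne_zero ((Submodule.mem_bot A).mp h)
    · rw [map_one, one_smul]
      have : b ^ k • x = 0 := by
        have := Submodule.mem_colon_singleton.mp hk
        exact (Submodule.mem_bot B).mp this
      rw [this]
      exact Submodule.zero_mem _
  · rintro ⟨k, s, hs, h1⟩
    have hs0 : s ≠ 0 := fun h => hs (by rw [h]; exact Submodule.zero_mem _)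
    rw [Ideal.map_bot, Submodule.bot_smul, Submodule.mem_bot] at h1
    have h2 : algebraMap A B s * b ^ k ∈ q₀ := by
      rw [hx]
      refine Ideal.le_radical ?_
      rw [Submodule.mem_colon_singleton, mul_smul]
      exact (Submodule.mem_bot B).mpr h1
    rcases Ideal.IsPrime.mem_or_mem inferInstance h2 with h3 | h3
    · exfalso
      have : s ∈ q₀.comap (algebraMap A B) := h3
      rw [hq₀] at this
      exact hs0 ((Submodule.mem_bot A).mp this)
    · exact Ideal.IsPrime.mem_of_pow_mem inferInstance _ h3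

end Aux

section Main

variable {A B : Type u} [CommRing A] [IsDomain A] [IsNoetherianRing A] [CommRing B] [Algebra A B]
  [Algebra.FiniteType A B]
  {M : Type u} [AddCommGroup M] [Module B M] [Module A M] [IsScalarTower A B M] [Module.Finite B M]

/-- **Generic structure of the associated primes of the fibres.**  For all primes `p` of `A`
avoiding some `a ≠ 0`, every associated prime `q` of the fibre of `M` over `p` contains an
associated prime `q₀` of the generic fibre and is minimal among the primes over `p`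
containing `q₀`. -/
theorem generic_fibAss_structure :
    ∃ a : A, a ≠ 0 ∧ ∀ p : Ideal A, p.IsPrime → a ∉ p → ∀ q : Ideal B, q.IsPrime →
      q.comap (algebraMap A B) = p → IsFibAss (algebraMap A B) q M →
      ∃ q₀ : Ideal B, q₀ ∈ associatedPrimes B M ∧ q₀.IsPrime ∧ q₀.comap (algebraMap A B) = ⊥ ∧
        IsFibAss (algebraMap A B) q₀ M ∧ q₀ ≤ q ∧
        ∀ q' : Ideal B, q'.IsPrime → q₀ ≤ q' → q' ≤ q → q'.comap (algebraMap A B) = p →
          q' = q := by
  classical
  haveI : IsNoetherianRing B := Algebra.FiniteType.isNoetherianRing A B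
  haveI : IsNoetherian B M := isNoetherian_of_isNoetherianRing_of_finite B M
  obtain ⟨t, ht⟩ := Submodule.IsLasker.exists_isMinimalPrimaryDecomposition (Submodule.isLasker B M)
    (⊥ : Submodule B M)
  obtain ⟨a₀, ha₀, hinter⟩ := fibZero_of_forall_quotient (A := A) t ht.inf_eq
  choose aa haa hkey using fun J : t => primary_component_key (A := A) J.1 (ht.primary J.2)
  refine ⟨a₀ * ∏ J : t, aa J, mul_ne_zero ha₀ (Finset.prod_ne_zero_iff.mpr fun J _ => haa J),
    fun p hp hap q hq hqp hass => ?_⟩
  haveI := hp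
  haveI := hq
  have ha₀p : a₀ ∉ p := fun hh => hap (Ideal.mul_mem_right _ _ hh)
  have haap : ∀ J : t, aa J ∉ p := by
    intro J hh
    apply hap
    apply Ideal.mul_mem_left
    rw [← Finset.mul_prod_erase Finset.univ aa (Finset.mem_univ J)]
    exact Ideal.mul_mem_right _ _ hh
  obtain ⟨m, hm⟩ := hass
  rw [hqp] at hm
  -- the radical ideals attached to the components
  set f : Submodule B M → Ideal B :=
    fun J => (fibAnn p (Submodule.Quotient.mk (p := J) m)).radical with hf
  have hle : t.inf f ≤ q := by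
    intro b hb
    rw [Submodule.mem_finsetInf] at hb
    have hb' : ∀ J : t, ∃ k : ℕ, FibZero (algebraMap A B) p
        (b ^ k • (Submodule.Quotient.mk (p := J.1) m)) := fun J => mem_radical_fibAnn.mp (hb J.1 J.2)
    choose kk hkk using hb'
    rw [hm]
    refine ⟨∑ J : t, kk J, ?_⟩
    apply hinter p hp ha₀p
    intro J hJ
    have hle : kk ⟨J, hJ⟩ ≤ ∑ J : t, kk J :=
      Finset.single_le_sum (f := kk) (fun _ _ => Nat.zero_le _) (Finset.mem_univ _)
    obtain ⟨e, he⟩ := Nat.exists_eq_add_of_le hle
    rw [Submodule.Quotient.mk_smul, he, pow_add, mul_comm, mul_smul]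
    exact FibZero.smul (hkk ⟨J, hJ⟩) _
  obtain ⟨J, hJ, hJq⟩ := (Ideal.IsPrime.inf_le' hq).mp hle
  have hqJ : ∀ b : B, b ∈ q ↔ ∃ k : ℕ, FibZero (algebraMap A B) p
      (b ^ k • (Submodule.Quotient.mk (p := J) m)) := by
    intro b
    constructor
    · intro hb
      obtain ⟨k, hk⟩ := (hm b).mp hb
      refine ⟨k, ?_⟩
      have := FibZero.map (J.mkQ) hk
      rwa [map_smul] at this
    · intro hb
      exact hJq (mem_radical_fibAnn.mpr hb)
  obtain ⟨h0, hPq, hmin⟩ := hkey ⟨J, hJ⟩ p hp (haap ⟨J, hJ⟩) q hq hqp m hqJ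
  obtain ⟨hPprime, x, hx⟩ := ht.mem_associatedPrimes hJ
  haveI := hPprime
  exact ⟨(J.colon Set.univ).radical, ⟨hPprime, x, hx⟩, hPprime, h0, isFibAss_of_radical_colon _ h0 x hx, hPq, hmin⟩

end Main

end Groth.Agent.H76.AssGen
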