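import Mathlib
import Groth.Agent.H76.RelAssFG

/-!
# The Noetherian model of the fibre module (helper76)

`Rp = B ⊗_A κ(p)` is a Noetherian ring (for `B` of finite type over `A`) and `Lp = Rp ⊗_B M` is the
fibre module of `M` over `p`, a finite `Rp`-module.
-/

set_option autoImplicit false
universe u

open TensorProduct IsLocalRing

namespace Groth.Agent.H76.RelAss

open Groth.Agent.Lib.Helper62.FibReg

section Model

variable {A : Type*} (B : Type*) [CommRing A] [CommRing B] [Algebra A B]
  (p : Ideal A) [p.IsPrime] (M : Type*) [AddCommGroup M] [Module B M] [Module A M]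
  [IsScalarTower A B M]

/-- the fibre ring -/
abbrev Rp : Type _ := B ⊗[A] p.ResidueField

/-- the fibre module, as a module over the fibre ring -/
abbrev Lp : Type _ := (Rp B p) ⊗[B] M

/-- comparison with `M ⊗ κ(p)` -/
noncomputable def eLp : Lp B p M ≃ₗ[B] M ⊗[A] p.ResidueField :=
  (TensorProduct.comm B (Rp B p) M).trans
    (TensorProduct.AlgebraTensorModule.cancelBaseChange A B B M p.ResidueField)

variable {M}

theorem eLp_one_tmul (m : M) : eLp B p M ((1 : Rp B p) ⊗ₜ[B] m) = m ⊗ₜ[A] 1 := by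
  unfold eLp
  rw [LinearEquiv.trans_apply, TensorProduct.comm_tmul, Algebra.TensorProduct.one_def,
    TensorProduct.AlgebraTensorModule.cancelBaseChange_tmul, one_smul]

theorem one_tmul_eq_zero_iff (m : M) :
    (1 : Rp B p) ⊗ₜ[B] m = 0 ↔ FibZero (algebraMap A B) p m := by
  rw [fibZero_iff p, ← eLp_one_tmul B p m, LinearEquiv.map_eq_zero_iff]

variable (M) in
theorem exists_smul_eq_one_tmul (l : Lp B p M) :
    ∃ s : A, s ∉ p ∧ ∃ m : M, algebraMap A B s • l = (1 : Rp B p) ⊗ₜ[B] m := by
  obtain ⟨s, hs, m, hm⟩ := exists_smul_eq_tmul_one p M (eLp B p M l)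
  refine ⟨s, hs, m, ?_⟩
  apply (eLp B p M).injective
  rw [map_smul, algebraMap_smul, hm, eLp_one_tmul]

theorem smul_injective_Lp {s : A} (hs : s ∉ p) (l : Lp B p M)
    (h : algebraMap A B s • l = 0) : l = 0 := by
  apply (eLp B p M).injective
  rw [map_zero]
  apply smul_tensor_injective p hs
  rw [← algebraMap_smul B, ← map_smul, h, map_zero]

theorem smul_one_tmul (b : B) (m : M) :
    b • ((1 : Rp B p) ⊗ₜ[B] m) = (1 : Rp B p) ⊗ₜ[B] (b • m) :=
  (TensorProduct.tmul_smul b (1 : Rp B p) m).symm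

end Model

section Clear

variable {A : Type*} {B : Type*} [CommRing A] [CommRing B] [Algebra A B]
  (p : Ideal A) [p.IsPrime]

theorem algebraMap_smul_Rp (a : A) (c : B) :
    algebraMap B (Rp B p) (a • c) = a • algebraMap B (Rp B p) c := by
  rw [Algebra.smul_def, map_mul, ← IsScalarTower.algebraMap_apply, ← Algebra.smul_def]

/-- clearing denominators in an extended ideal of the fibre ring -/
theorem exists_smul_eq_algebraMap_of_mem_map (I : Ideal B) (r : Rp B p)
    (hr : r ∈ I.map (algebraMap B (Rp B p))) :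
    ∃ s : A, s ∉ p ∧ ∃ c ∈ I, s • r = algebraMap B (Rp B p) c := by
  have hone : (1 : A) ∉ p := fun h1 =>
    (Ideal.IsPrime.ne_top inferInstance) (p.eq_top_of_isUnit_mem h1 isUnit_one)
  refine Submodule.span_induction ?_ ?_ ?_ ?_ hr
  · rintro _ ⟨t, ht, rfl⟩
    exact ⟨1, hone, t, ht, one_smul _ _⟩
  · exact ⟨1, hone, 0, Ideal.zero_mem _, by simp⟩
  · rintro x y _ _ ⟨s, hs, c, hc, e⟩ ⟨s', hs', c', hc', e'⟩
    refine ⟨s * s', fun hh => (Ideal.IsPrime.mem_or_mem inferInstance hh).elim hs hs',
      s' • c + s • c', Ideal.add_mem _ (Submodule.smul_of_tower_mem _ _ hc)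
        (Submodule.smul_of_tower_mem _ _ hc'), ?_⟩
    rw [smul_add, mul_comm s s', mul_smul, e, mul_comm s' s, mul_smul, e', map_add,
      algebraMap_smul_Rp, algebraMap_smul_Rp]
  · rintro r' x _ ⟨s, hs, c, hc, e⟩
    obtain ⟨s', hs', b', e'⟩ := Ideal.ResidueField.exists_smul_eq_tmul_one p r'
    refine ⟨s * s', fun hh => (Ideal.IsPrime.mem_or_mem inferInstance hh).elim hs hs',
      b' * c, Ideal.mul_mem_left _ _ hc, ?_⟩
    have : (s * s') • (r' • x) = (s' • r') • (s • x) := by
      simp only [Algebra.smul_def, map_mul, Algebra.algebraMap_self, RingHom.id_apply]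
      ring
    rw [this, e, e', map_mul, smul_eq_mul]
    rfl

theorem algebraMap_Rp_eq_zero {a : A} (ha : a ∈ p) : algebraMap A (Rp B p) a = 0 := by
  rw [Algebra.algebraMap_eq_smul_one, Algebra.TensorProduct.one_def, ← TensorProduct.tmul_smul,
    Algebra.smul_def, mul_one, (Ideal.algebraMap_residueField_eq_zero).mpr ha,
    TensorProduct.tmul_zero]

theorem isUnit_algebraMap_Rp {a : A} (ha : a ∉ p) : IsUnit (algebraMap A (Rp B p) a) := by
  have hu : algebraMap A p.ResidueField a ≠ 0 := fun h0 =>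
    ha ((Ideal.algebraMap_residueField_eq_zero).mp h0)
  have h1 : algebraMap A (Rp B p) a = (1 : B) ⊗ₜ[A] (algebraMap A p.ResidueField a) := by
    rw [Algebra.algebraMap_eq_smul_one, Algebra.TensorProduct.one_def, ← TensorProduct.tmul_smul,
      Algebra.smul_def, mul_one]
  rw [h1]
  refine IsUnit.of_mul_eq_one ((1 : B) ⊗ₜ[A] (algebraMap A p.ResidueField a)⁻¹) ?_
  rw [Algebra.TensorProduct.tmul_mul_tmul, mul_one, mul_inv_cancel₀ hu,
    Algebra.TensorProduct.one_def]

end Clear

section FibPrime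

variable {A : Type*} {B : Type*} [CommRing A] [CommRing B] [Algebra A B] [Algebra.FiniteType A B]
  (p : Ideal A) [p.IsPrime] {M : Type*} [AddCommGroup M] [Module B M] [Module A M]
  [IsScalarTower A B M]

theorem comap_comap_eq (P : Ideal (Rp B p)) [P.IsPrime] :
    (P.comap (algebraMap B (Rp B p))).comap (algebraMap A B) = p := by
  ext a
  rw [Ideal.mem_comap, Ideal.mem_comap, ← IsScalarTower.algebraMap_apply]
  constructor
  · intro h
    by_contra ha
    exact (Ideal.IsPrime.ne_top inferInstance) (P.eq_top_of_isUnit_mem h (isUnit_algebraMap_Rp p ha))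
  · intro ha
    rw [algebraMap_Rp_eq_zero p ha]
    exact P.zero_mem

/-- An associated prime of the fibre module over the fibre ring restricts to an associated prime
over `B`, element-wise. -/
theorem exists_forall_mem_iff_of_isAssociatedPrime (P : Ideal (Rp B p))
    (hP : IsAssociatedPrime P (Lp B p M)) :
    ∃ m : M, ∀ b : B, algebraMap B (Rp B p) b ∈ P ↔ FibZero (algebraMap A B) p (b • m) := by
  obtain ⟨_, l, hl⟩ := (isAssociatedPrime_iff (R := Rp B p)).mp hP
  obtain ⟨s, hs, m, hm⟩ := exists_smul_eq_one_tmul B p M l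
  refine ⟨m, fun b => ?_⟩
  rw [hl, Submodule.mem_colon_singleton, Submodule.mem_bot, algebraMap_smul,
    ← one_tmul_eq_zero_iff B p, ← smul_one_tmul, ← hm, smul_comm]
  constructor
  · intro h; rw [h, smul_zero]
  · intro h; exact smul_injective_Lp B p hs _ h

theorem isFibAss_comap_of_isAssociatedPrime (P : Ideal (Rp B p))
    (hP : IsAssociatedPrime P (Lp B p M)) :
    IsFibAss (algebraMap A B) (P.comap (algebraMap B (Rp B p))) M := by
  haveI : P.IsPrime := hP.isPrime
  obtain ⟨m, hm⟩ := exists_forall_mem_iff_of_isAssociatedPrime p P hP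
  refine ⟨m, fun b => ?_⟩
  rw [comap_comap_eq p P]
  constructor
  · intro hb
    exact ⟨1, by rw [pow_one]; exact (hm b).mp hb⟩
  · rintro ⟨k, hk⟩
    have h1 : b ^ k ∈ P.comap (algebraMap B (Rp B p)) := (hm (b ^ k)).mpr hk
    exact Ideal.IsPrime.mem_of_pow_mem inferInstance k h1

end FibPrime

section Avoid

variable {A : Type*} {B : Type*} [CommRing A] [CommRing B] [Algebra A B] [Algebra.FiniteType A B]
  (p₀ : Ideal A) [p₀.IsPrime] {M : Type*} [AddCommGroup M] [Module B M] [Module A M]
  [IsScalarTower A B M] [Module.Finite B M]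

/-- **Prime avoidance in the fibre.**  If no associated prime of the fibre of `M` over `p₀` contains
the ideal `I`, then some element of `I` is injective on that fibre. -/
theorem exists_mem_injective_fibre (I : Ideal B)
    (H : ∀ q : Ideal B, q.IsPrime → q.comap (algebraMap A B) = p₀ →
      IsFibAss (algebraMap A B) q M → ¬ I ≤ q) :
    ∃ g ∈ I, ∀ m : M, FibZero (algebraMap A B) p₀ (g • m) → FibZero (algebraMap A B) p₀ m := by
  classical
  by_contra hcon
  push_neg at hcon
  set R := Rp B p₀ with hR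
  set L := Lp B p₀ M with hL
  have hfin : (associatedPrimes R L).Finite := associatedPrimes.finite R L
  -- every element of `I R` is a zero divisor on `L`
  have hsub : ((I.map (algebraMap B R) : Ideal R) : Set R) ⊆
      ⋃ P ∈ ((hfin.toFinset : Finset (Ideal R)) : Set (Ideal R)), (id P : Ideal R) := by
    intro r hr
    obtain ⟨s, hs, c, hc, e⟩ := exists_smul_eq_algebraMap_of_mem_map p₀ I r hr
    obtain ⟨m, hm1, hm2⟩ := hcon c hc
    have hz : r ∈ {r : R | ∃ x : L, x ≠ 0 ∧ r • x = 0} := by
      refine ⟨algebraMap A B s • ((1 : R) ⊗ₜ[B] m), ?_, ?_⟩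
      · intro h0
        exact hm2 ((one_tmul_eq_zero_iff B p₀ m).mp (smul_injective_Lp B p₀ hs _ h0))
      · rw [← algebraMap_smul R (algebraMap A B s), ← IsScalarTower.algebraMap_apply, smul_smul,
          mul_comm, ← Algebra.smul_def, e, algebraMap_smul, smul_one_tmul,
          (one_tmul_eq_zero_iff B p₀ _).mpr hm1]
    rw [← biUnion_associatedPrimes_eq_zero_divisors R L] at hz
    simpa using hz
  obtain ⟨P, hP, hle⟩ := (Ideal.subset_union_prime (R := R) (s := hfin.toFinset) (f := id) ⊥ ⊥
    (fun P hP _ _ => ((hfin.mem_toFinset).mp hP).isPrime)).mp hsub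
  have hPass : IsAssociatedPrime P L := (hfin.mem_toFinset).mp hP
  haveI : P.IsPrime := hPass.isPrime
  refine H (P.comap (algebraMap B R)) inferInstance (comap_comap_eq p₀ P)
    (isFibAss_comap_of_isAssociatedPrime p₀ P hPass) ?_
  exact Ideal.map_le_iff_le_comap.mp hle

end Avoid

end Groth.Agent.H76.RelAss
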