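import Mathlib
import Groth.Agent.H76.RelAssDom
import Groth.Agent.H76.RelAssAlg

/-!
# Reduction modulo a prime of the base, and generic injectivity on fibres (helper76)
-/

set_option autoImplicit false
universe u

namespace Groth.Agent.H76.RelAss

section Quot

variable {A : Type*} (B : Type*) [CommRing A] [CommRing B] [Algebra A B] (p₀ : Ideal A)
  (M : Type*) [AddCommGroup M] [Module B M]

/-- `B / p₀ B` -/
abbrev Sb : Type _ := B ⧸ p₀.map (algebraMap A B)

/-- `M / p₀ M` -/
abbrev Mb : Type _ := M ⧸ (p₀.map (algebraMap A B)) • (⊤ : Submodule B M)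

/-- the `A / p₀`-module structure on `M / p₀ M`. -/
noncomputable def moduleMb : Module (A ⧸ p₀) (Mb B p₀ M) :=
  Module.compHom _ (algebraMap (A ⧸ p₀) (Sb B p₀))

attribute [local instance] moduleMb

instance : IsScalarTower (A ⧸ p₀) (Sb B p₀) (Mb B p₀ M) := IsScalarTower.of_compHom _ _ _

variable {B M}

theorem mkA_smul_mk (a : A) (m : M) :
    (Ideal.Quotient.mk p₀ a) • (Submodule.Quotient.mk m : Mb B p₀ M) =
      Submodule.Quotient.mk (algebraMap A B a • m) := by
  change (algebraMap (A ⧸ p₀) (Sb B p₀) (Ideal.Quotient.mk p₀ a)) •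
    (Submodule.Quotient.mk m : Mb B p₀ M) = _
  rw [Ideal.Quotient.algebraMap_quotient_map_quotient]
  rfl

theorem mkB_smul_mk (b : B) (m : M) :
    (Ideal.Quotient.mk (p₀.map (algebraMap A B)) b) • (Submodule.Quotient.mk m : Mb B p₀ M) =
      Submodule.Quotient.mk (b • m) := rfl

/-- `x̄ ∈ p̄ M̄ ↔ x ∈ p M` for `p ⊇ p₀`. -/
theorem mk_mem_map_smul_top_iff {p : Ideal A} (hp : p₀ ≤ p) (x : M) :
    (Submodule.Quotient.mk x : Mb B p₀ M) ∈
        (p.map (Ideal.Quotient.mk p₀)) • (⊤ : Submodule (A ⧸ p₀) (Mb B p₀ M)) ↔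
      x ∈ (p.map (algebraMap A B)) • (⊤ : Submodule B M) := by
  constructor
  · intro h
    have key : ∀ z ∈ (p.map (Ideal.Quotient.mk p₀)) • (⊤ : Submodule (A ⧸ p₀) (Mb B p₀ M)),
        ∀ x : M, (Submodule.Quotient.mk x : Mb B p₀ M) = z →
          x ∈ (p.map (algebraMap A B)) • (⊤ : Submodule B M) := by
      intro z hz
      refine Submodule.smul_induction_on hz ?_ ?_
      · intro d hd n _ x hx
        obtain ⟨r, hr, rfl⟩ := (Ideal.mem_map_iff_of_surjective _ Ideal.Quotient.mk_surjective).mp hd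
        obtain ⟨y, rfl⟩ := Submodule.Quotient.mk_surjective _ n
        rw [mkA_smul_mk, Submodule.Quotient.eq] at hx
        have h1 : algebraMap A B r • y ∈ (p.map (algebraMap A B)) • (⊤ : Submodule B M) :=
          Submodule.smul_mem_smul (Ideal.mem_map_of_mem _ hr) Submodule.mem_top
        have h2 : x - algebraMap A B r • y ∈ (p.map (algebraMap A B)) • (⊤ : Submodule B M) :=
          Submodule.smul_mono_left (Ideal.map_mono hp) hx
        have := Submodule.add_mem _ h2 h1
        rwa [sub_add_cancel] at this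
      · intro z₁ z₂ h₁ h₂ x hx
        obtain ⟨x₁, rfl⟩ := Submodule.Quotient.mk_surjective _ z₁
        have hx2 : (Submodule.Quotient.mk (x - x₁) : Mb B p₀ M) = z₂ := by
          rw [Submodule.Quotient.mk_sub, hx, add_sub_cancel_left]
        have := Submodule.add_mem _ (h₁ x₁ rfl) (h₂ (x - x₁) hx2)
        rwa [add_sub_cancel] at this
    exact key _ h x rfl
  · intro h
    refine Submodule.smul_induction_on h ?_ ?_
    · intro b hb n _
      -- `b ∈ p B`
      have key : ∀ b ∈ p.map (algebraMap A B), ∀ n : M,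
          (Submodule.Quotient.mk (b • n) : Mb B p₀ M) ∈
            (p.map (Ideal.Quotient.mk p₀)) • (⊤ : Submodule (A ⧸ p₀) (Mb B p₀ M)) := by
        intro b hb
        refine Submodule.span_induction ?_ ?_ ?_ ?_ hb
        · rintro _ ⟨r, hr, rfl⟩ n
          rw [← mkA_smul_mk]
          exact Submodule.smul_mem_smul (Ideal.mem_map_of_mem _ hr) Submodule.mem_top
        · intro n; rw [zero_smul]; exact Submodule.zero_mem _
        · intro x y _ _ hx hy n
          rw [add_smul, Submodule.Quotient.mk_add]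
          exact Submodule.add_mem _ (hx n) (hy n)
        · intro c x _ hx n
          rw [smul_eq_mul, mul_comm, mul_smul]
          exact hx (c • n)
      exact key b hb n
    · intro x y hx hy
      rw [Submodule.Quotient.mk_add]
      exact Submodule.add_mem _ hx hy

end Quot

section GenInj

variable {A B : Type*} [CommRing A] [CommRing B] [Algebra A B] [Algebra.FiniteType A B]
  (p₀ : Ideal A) [p₀.IsPrime]
  {M : Type*} [AddCommGroup M] [Module B M] [Module.Finite B M]

attribute [local instance] moduleMb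

instance finiteType_Sb : Algebra.FiniteType (A ⧸ p₀) (Sb B p₀) := by
  haveI : Algebra.FiniteType A (Sb B p₀) :=
    Algebra.FiniteType.of_surjective (Ideal.Quotient.mkₐ A (p₀.map (algebraMap A B)))
      (Ideal.Quotient.mkₐ_surjective A _)
  exact Algebra.FiniteType.of_restrictScalars_finiteType A (A ⧸ p₀) (Sb B p₀)

instance finite_Mb : Module.Finite (Sb B p₀) (Mb B p₀ M) := by
  haveI : Module.Finite B (Mb B p₀ M) := inferInstance
  exact Module.Finite.of_restrictScalars_finite B (Sb B p₀) (Mb B p₀ M)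

/-- **Generic injectivity on fibres.**  If `g ∈ B` is injective on the fibre of `M` over `p₀`, then
there is `a ∉ p₀` such that `g` is injective on the fibre of `M` over every prime `p ⊇ p₀` with
`a ∉ p`. -/
theorem generic_injective (g : B)
    (hg : ∀ m : M, FibZero (algebraMap A B) p₀ (g • m) → FibZero (algebraMap A B) p₀ m) :
    ∃ a : A, a ∉ p₀ ∧ ∀ p : Ideal A, p.IsPrime → p₀ ≤ p → a ∉ p →
      ∀ m : M, FibZero (algebraMap A B) p (g • m) → FibZero (algebraMap A B) p m := by
  have hbot : ∀ x : M, (Submodule.Quotient.mk x : Mb B p₀ M) = 0 ↔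
      x ∈ (p₀.map (algebraMap A B)) • (⊤ : Submodule B M) := fun x =>
    Submodule.Quotient.mk_eq_zero _
  -- torsion kernel of `ḡ`
  have hker : ∀ m : Mb B p₀ M, (Ideal.Quotient.mk (p₀.map (algebraMap A B)) g) • m = 0 →
      ∃ s : A ⧸ p₀, s ≠ 0 ∧ s • m = 0 := by
    intro m hm
    obtain ⟨x, rfl⟩ := Submodule.Quotient.mk_surjective _ m
    rw [mkB_smul_mk, hbot] at hm
    obtain ⟨s, hs, h1⟩ := hg x (fibZero_of_mem hm)
    refine ⟨Ideal.Quotient.mk p₀ s, ?_, ?_⟩
    · rwa [Ne, Ideal.Quotient.eq_zero_iff_mem]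
    · rw [mkA_smul_mk, hbot]; exact h1
  obtain ⟨ab, hab, key⟩ := generic_injective_dom (D := A ⧸ p₀) (S := Sb B p₀) (M := Mb B p₀ M)
    (Ideal.Quotient.mk (p₀.map (algebraMap A B)) g) hker
  obtain ⟨a, rfl⟩ := Ideal.Quotient.mk_surjective ab
  refine ⟨a, fun h => hab (Ideal.Quotient.eq_zero_iff_mem.mpr h), ?_⟩
  intro p hp hle ha m hm
  obtain ⟨s, hs, h1⟩ := hm
  have h2 : (Ideal.Quotient.mk (p₀.map (algebraMap A B)) g) •
      (Submodule.Quotient.mk (algebraMap A B s • m) : Mb B p₀ M) ∈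
        (p.map (Ideal.Quotient.mk p₀)) • (⊤ : Submodule (A ⧸ p₀) (Mb B p₀ M)) := by
    rw [mkB_smul_mk, mk_mem_map_smul_top_iff p₀ hle, smul_comm]
    exact h1
  obtain ⟨k, hk⟩ := key _ _ h2
  rw [← map_pow, mkA_smul_mk, mk_mem_map_smul_top_iff p₀ hle, ← mul_smul, ← map_mul] at hk
  exact ⟨a ^ k * s, fun hh => (hp.mem_or_mem hh).elim (fun h => ha (hp.mem_of_pow_mem k h)) hs, hk⟩

end GenInj

end Groth.Agent.H76.RelAss
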