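import Mathlib
import Groth.Agent.H76.RelAssQuot
import Groth.Agent.H76.RelAssFibre

/-!
# Generic behaviour of an associated prime of the generic fibre (helper76)
-/

set_option autoImplicit false
universe u

open TensorProduct IsLocalRing

namespace Groth.Agent.H76.RelAss

section Dom

variable {D : Type*} [CommRing D] [IsDomain D]

/-- coefficients of elements of `p C` in an almost-basis lie in `p` -/
theorem mem_smul_top_repr {C : Type*} [AddCommGroup C] [Module D C] {ι : Type} (e : ι → C) (a : D)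
    (hsp : ∀ y : C, ∃ k : ℕ, a ^ k • y ∈ Submodule.span D (Set.range e)) (p : Ideal D) :
    ∀ z ∈ p • (⊤ : Submodule D C), ∃ (k : ℕ) (c : ι →₀ D), (∀ i, c i ∈ p) ∧
      a ^ k • z = Finsupp.linearCombination D e c := by
  classical
  intro z hz
  refine Submodule.smul_induction_on hz ?_ ?_
  · intro r hr n _
    obtain ⟨k, hk⟩ := hsp n
    obtain ⟨c, hc⟩ := (Finsupp.mem_span_range_iff_exists_finsupp).mp hk
    refine ⟨k, r • c, fun i => ?_, ?_⟩
    · rw [Finsupp.smul_apply, smul_eq_mul]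
      exact Ideal.mul_mem_right _ _ hr
    · rw [map_smul, Finsupp.linearCombination_apply, hc, smul_comm]
  · rintro x y ⟨k, c, hc, h1⟩ ⟨k', c', hc', h1'⟩
    refine ⟨k + k', a ^ k' • c + a ^ k • c', fun i => ?_, ?_⟩
    · rw [Finsupp.add_apply, Finsupp.smul_apply, Finsupp.smul_apply]
      exact Ideal.add_mem _ (Ideal.mul_mem_left _ _ (hc i)) (Ideal.mul_mem_left _ _ (hc' i))
    · rw [map_add, map_smul, map_smul, ← h1, ← h1', smul_add, pow_add, mul_smul, mul_smul,
        smul_comm (a ^ k) (a ^ k') x]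

/-- generic "lying over": for a `D`-algebra `E` with injective structure map which is free after
inverting `a`, primes avoiding some `a' ≠ 0` are contracted from `E`. -/
theorem AFree.exists_comap_map_le {E : Type*} [CommRing E] [Algebra D E] {a : D} (ha : a ≠ 0)
    (hinj : Function.Injective (algebraMap D E)) (h : AFree a E) :
    ∃ a' : D, a' ≠ 0 ∧ ∀ p : Ideal D, p.IsPrime → a' ∉ p →
      ∀ α : D, algebraMap D E α ∈ p.map (algebraMap D E) → α ∈ p := by
  classical
  obtain ⟨ι, e, hli, hsp⟩ := h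
  obtain ⟨j, hj⟩ := hsp 1
  obtain ⟨γ, hγ⟩ := (Finsupp.mem_span_range_iff_exists_finsupp).mp hj
  have hγ0 : γ ≠ 0 := by
    rintro rfl
    rw [Finsupp.sum_zero_index] at hγ
    have h1 : algebraMap D E (a ^ j) = 0 := by
      rw [Algebra.algebraMap_eq_smul_one]; exact hγ.symm
    exact pow_ne_zero j ha (hinj (by rw [h1, map_zero]))
  obtain ⟨i₀, hi₀⟩ := Finsupp.ne_iff.mp hγ0
  rw [Finsupp.zero_apply] at hi₀
  refine ⟨a * γ i₀, mul_ne_zero ha hi₀, fun p hp hap α hα => ?_⟩
  have hz : α • (1 : E) ∈ p • (⊤ : Submodule D E) := by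
    rw [Ideal.smul_top_eq_map, Submodule.restrictScalars_mem, ← Algebra.algebraMap_eq_smul_one]
    exact hα
  obtain ⟨k, c, hc, hrep⟩ := mem_smul_top_repr e a hsp p _ hz
  -- compare coefficients of `a^(k+j) α • 1`
  have h1 : Finsupp.linearCombination D e (a ^ j • c) =
      Finsupp.linearCombination D e ((a ^ k * α) • γ) := by
    rw [map_smul, map_smul, ← hrep, Finsupp.linearCombination_apply, hγ]
    simp only [smul_smul]
    congr 1
    ring
  have h2 : a ^ j • c = (a ^ k * α) • γ := by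
    have := hli
    rw [linearIndependent_iff_injective_finsuppLinearCombination] at this
    exact this h1
  have h3 := DFunLike.congr_fun h2 i₀
  rw [Finsupp.smul_apply, Finsupp.smul_apply, smul_eq_mul, smul_eq_mul] at h3
  have h4 : a ^ k * α * γ i₀ ∈ p := by
    rw [← h3]; exact Ideal.mul_mem_left _ _ (hc i₀)
  have ha' : a ∉ p := fun h => hap (Ideal.mul_mem_right _ _ h)
  have hg' : γ i₀ ∉ p := fun h => hap (Ideal.mul_mem_left _ _ h)
  rcases hp.mem_or_mem h4 with h5 | h5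
  · rcases hp.mem_or_mem h5 with h6 | h6
    · exact absurd (hp.mem_of_pow_mem k h6) ha'
    · exact h6
  · exact absurd h5 hg'

end Dom

section P4

variable {A B : Type*} [CommRing A] [CommRing B] [Algebra A B] [Algebra.FiniteType A B]
  (p₀ : Ideal A) [p₀.IsPrime] (q₀ : Ideal B) [q₀.IsPrime]

/-- (P4) generically, primes of the base lift to primes containing `q₀`. -/
theorem generic_lying_over (hq₀ : q₀.comap (algebraMap A B) = p₀) :
    ∃ a : A, a ∉ p₀ ∧ ∀ p : Ideal A, p.IsPrime → p₀ ≤ p → a ∉ p →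
      ∀ α : A, algebraMap A B α ∈ q₀ ⊔ p.map (algebraMap A B) → α ∈ p := by
  haveI : q₀.LiesOver p₀ := ⟨hq₀.symm⟩
  haveI : Algebra.FiniteType A (B ⧸ q₀) :=
    Algebra.FiniteType.of_surjective (Ideal.Quotient.mkₐ A q₀) (Ideal.Quotient.mkₐ_surjective A _)
  haveI : Algebra.FiniteType (A ⧸ p₀) (B ⧸ q₀) :=
    Algebra.FiniteType.of_restrictScalars_finiteType A (A ⧸ p₀) (B ⧸ q₀)
  obtain ⟨a0, ha0, hfree⟩ := exists_aFree (D := A ⧸ p₀) (B ⧸ q₀) (B ⧸ q₀)
  have hinj : Function.Injective (algebraMap (A ⧸ p₀) (B ⧸ q₀)) :=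
    FaithfulSMul.algebraMap_injective _ _
  obtain ⟨ab, hab, key⟩ := hfree.exists_comap_map_le ha0 hinj
  obtain ⟨a, rfl⟩ := Ideal.Quotient.mk_surjective ab
  refine ⟨a, fun h => hab (Ideal.Quotient.eq_zero_iff_mem.mpr h), fun p hp hle hap α hα => ?_⟩
  have hker : RingHom.ker (Ideal.Quotient.mk p₀) ≤ p := by rwa [Ideal.mk_ker]
  have hpb : (p.map (Ideal.Quotient.mk p₀)).IsPrime :=
    Ideal.map_isPrime_of_surjective Ideal.Quotient.mk_surjective hker
  have hapb : Ideal.Quotient.mk p₀ a ∉ p.map (Ideal.Quotient.mk p₀) := by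
    intro h
    rw [Ideal.mem_map_iff_of_surjective _ Ideal.Quotient.mk_surjective] at h
    obtain ⟨a', ha', e⟩ := h
    have : a - a' ∈ p₀ := by
      rw [← Ideal.Quotient.eq_zero_iff_mem, map_sub, e, sub_self]
    have := Ideal.add_mem _ (hle this) ha'
    rw [sub_add_cancel] at this
    exact hap this
  have hmem : algebraMap (A ⧸ p₀) (B ⧸ q₀) (Ideal.Quotient.mk p₀ α) ∈
      (p.map (Ideal.Quotient.mk p₀)).map (algebraMap (A ⧸ p₀) (B ⧸ q₀)) := by
    rw [Ideal.Quotient.algebraMap_mk_of_liesOver, Ideal.map_map]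
    have hcomp : (algebraMap (A ⧸ p₀) (B ⧸ q₀)).comp (Ideal.Quotient.mk p₀) =
        (Ideal.Quotient.mk q₀).comp (algebraMap A B) := by
      ext x; rfl
    rw [hcomp, ← Ideal.map_map]
    have h1 : Ideal.Quotient.mk q₀ (algebraMap A B α) ∈
        (q₀ ⊔ p.map (algebraMap A B)).map (Ideal.Quotient.mk q₀) := Ideal.mem_map_of_mem _ hα
    rw [Ideal.map_sup, Ideal.map_quotient_self, bot_sup_eq] at h1
    exact h1
  have h2 := key _ hpb hapb _ hmem
  rw [Ideal.mem_map_iff_of_surjective _ Ideal.Quotient.mk_surjective] at h2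
  obtain ⟨α', hα', e⟩ := h2
  have : α - α' ∈ p₀ := by
    rw [← Ideal.Quotient.eq_zero_iff_mem, map_sub, e, sub_self]
  have := Ideal.add_mem _ (hle this) hα'
  rwa [sub_add_cancel] at this

end P4

section P2

variable {A B : Type*} [CommRing A] [CommRing B] [Algebra A B] [Algebra.FiniteType A B]
  (p₀ : Ideal A) [p₀.IsPrime]

/-- (P2) generators of an ideal in the generic fibre generate it over a nonempty open. -/
theorem exists_uniform_generators (q₀ : Ideal B) (T : Finset B)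
    (hgen : ∀ b ∈ q₀, ∃ s : A, s ∉ p₀ ∧
      algebraMap A B s * b ∈ Ideal.span (T : Set B) ⊔ p₀.map (algebraMap A B)) :
    ∃ a : A, a ∉ p₀ ∧ ∀ b ∈ q₀, ∃ k : ℕ,
      algebraMap A B (a ^ k) * b ∈ Ideal.span (T : Set B) ⊔ p₀.map (algebraMap A B) := by
  set J : Ideal (Sb B p₀) := (Ideal.span (T : Set B)).map (Ideal.Quotient.mk _) with hJ
  obtain ⟨ab, hab, hfree⟩ := exists_aFree (D := A ⧸ p₀) (Sb B p₀) (Sb B p₀ ⧸ J)
  obtain ⟨a, rfl⟩ := Ideal.Quotient.mk_surjective ab
  refine ⟨a, fun h => hab (Ideal.Quotient.eq_zero_iff_mem.mpr h), fun b hb => ?_⟩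
  have hiff : ∀ x : B, Ideal.Quotient.mk J (Ideal.Quotient.mk (p₀.map (algebraMap A B)) x) = 0 ↔
      x ∈ Ideal.span (T : Set B) ⊔ p₀.map (algebraMap A B) := by
    intro x
    rw [Ideal.Quotient.eq_zero_iff_mem, hJ,
      Ideal.mem_map_iff_of_surjective _ Ideal.Quotient.mk_surjective]
    constructor
    · rintro ⟨y, hy, e⟩
      have : x - y ∈ p₀.map (algebraMap A B) := by
        rw [← Ideal.Quotient.eq_zero_iff_mem, map_sub, e, sub_self]
      have h2 := Ideal.add_mem _ (Ideal.mem_sup_right this) (Ideal.mem_sup_left hy)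
      rwa [sub_add_cancel] at h2
    · intro hx
      obtain ⟨y, hy, z, hz, rfl⟩ := Submodule.mem_sup.mp hx
      exact ⟨y, hy, by rw [map_add, Ideal.Quotient.eq_zero_iff_mem.mpr hz, add_zero]⟩
  have hsm : ∀ (r : A) (x : B), (Ideal.Quotient.mk p₀ r) •
      (Ideal.Quotient.mk J (Ideal.Quotient.mk (p₀.map (algebraMap A B)) x)) =
      Ideal.Quotient.mk J (Ideal.Quotient.mk (p₀.map (algebraMap A B)) (algebraMap A B r * x)) := by
    intro r x
    rw [Algebra.smul_def, map_mul, map_mul]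
    rfl
  obtain ⟨s, hs, h1⟩ := hgen b hb
  have h2 : (Ideal.Quotient.mk p₀ s) •
      (Ideal.Quotient.mk J (Ideal.Quotient.mk (p₀.map (algebraMap A B)) b)) = 0 := by
    rw [hsm, hiff]; exact h1
  obtain ⟨k, hk⟩ := hfree.torsion
    (fun h => hs (Ideal.Quotient.eq_zero_iff_mem.mp h)) h2
  refine ⟨k, ?_⟩
  rw [← map_pow, hsm, hiff] at hk
  exact hk

end P2

section P3

variable {A B : Type*} [CommRing A] [CommRing B] [Algebra A B] [Algebra.FiniteType A B]
  (p₀ : Ideal A) [p₀.IsPrime]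
  {M : Type*} [AddCommGroup M] [Module B M] [Module.Finite B M]

attribute [local instance] moduleMb

/-- (P3) generic purity of the cyclic submodule `B m ⊆ M / p₀ M`. -/
theorem generic_purity_cyclic (m : M) :
    ∃ a : A, a ∉ p₀ ∧ ∀ p : Ideal A, p₀ ≤ p → ∀ b : B,
      b • m ∈ (p.map (algebraMap A B)) • (⊤ : Submodule B M) →
      ∃ k : ℕ, ∃ c ∈ p.map (algebraMap A B),
        (algebraMap A B (a ^ k) * b - c) • m ∈ (p₀.map (algebraMap A B)) • (⊤ : Submodule B M) := by
  set mb : Mb B p₀ M := Submodule.Quotient.mk m with hmb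
  set N : Submodule (Sb B p₀) (Mb B p₀ M) := Submodule.span (Sb B p₀) {mb} with hN
  obtain ⟨ab, hab, hfree⟩ := exists_aFree (D := A ⧸ p₀) (Sb B p₀) (Mb B p₀ M ⧸ N)
  obtain ⟨a, rfl⟩ := Ideal.Quotient.mk_surjective ab
  refine ⟨a, fun h => hab (Ideal.Quotient.eq_zero_iff_mem.mpr h), fun p hle b hb => ?_⟩
  set π : Mb B p₀ M →ₗ[A ⧸ p₀] (Mb B p₀ M ⧸ N) := (N.mkQ).restrictScalars (A ⧸ p₀) with hπ
  have hπs : Function.Surjective π := N.mkQ_surjective
  have hker : ∀ n : Mb B p₀ M, n ∈ LinearMap.ker π ↔ ∃ c : B,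
      n = Submodule.Quotient.mk (c • m) := by
    intro n
    rw [LinearMap.mem_ker, hπ, LinearMap.restrictScalars_apply, Submodule.mkQ_apply,
      Submodule.Quotient.mk_eq_zero, hN, Submodule.mem_span_singleton]
    constructor
    · rintro ⟨c, rfl⟩
      obtain ⟨c, rfl⟩ := Ideal.Quotient.mk_surjective c
      exact ⟨c, rfl⟩
    · rintro ⟨c, rfl⟩
      exact ⟨Ideal.Quotient.mk _ c, rfl⟩
  have hx : (Submodule.Quotient.mk (b • m) : Mb B p₀ M) ∈
      (p.map (Ideal.Quotient.mk p₀)) • (⊤ : Submodule (A ⧸ p₀) (Mb B p₀ M)) :=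
    (mk_mem_map_smul_top_iff p₀ hle _).mpr hb
  have hx0 : π (Submodule.Quotient.mk (b • m)) = 0 :=
    LinearMap.mem_ker.mp ((hker _).mpr ⟨b, rfl⟩)
  obtain ⟨k, hk⟩ := hfree.purity π hπs _ hx hx0
  -- elements of `p̄ • ker π`
  have hform : ∀ z ∈ (p.map (Ideal.Quotient.mk p₀)) • LinearMap.ker π,
      ∃ c ∈ p.map (algebraMap A B), z = Submodule.Quotient.mk (c • m) := by
    intro z hz
    refine Submodule.smul_induction_on hz ?_ ?_
    · intro r hr n hn
      obtain ⟨r, hr', rfl⟩ := (Ideal.mem_map_iff_of_surjective _ Ideal.Quotient.mk_surjective).mp hr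
      obtain ⟨c, rfl⟩ := (hker n).mp hn
      refine ⟨algebraMap A B r * c, Ideal.mul_mem_right _ _ (Ideal.mem_map_of_mem _ hr'), ?_⟩
      rw [mkA_smul_mk, mul_smul]
    · rintro x y ⟨c, hc, rfl⟩ ⟨c', hc', rfl⟩
      exact ⟨c + c', Ideal.add_mem _ hc hc', by rw [add_smul, Submodule.Quotient.mk_add]⟩
  obtain ⟨c, hc, e⟩ := hform _ hk
  refine ⟨k, c, hc, ?_⟩
  rw [← map_pow, mkA_smul_mk] at e
  rw [sub_smul, mul_smul, ← Submodule.Quotient.mk_eq_zero, Submodule.Quotient.mk_sub, e, sub_self]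

end P3

section R3

variable {A B : Type*} [CommRing A] [CommRing B] [Algebra A B] [Algebra.FiniteType A B]
  (p₀ : Ideal A) [p₀.IsPrime]
  {M : Type*} [AddCommGroup M] [Module B M] [Module A M] [IsScalarTower A B M] [Module.Finite B M]

/-- **Generic persistence of an associated prime of the fibre.**  If `q₀` is an associated prime of
the fibre of `M` over `p₀ = q₀ ∩ A`, then for all primes `p ⊇ p₀` avoiding some `a ∉ p₀` there is a
prime `q ⊇ q₀` over `p` which is an associated prime of the fibre of `M` over `p`. -/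
theorem generic_exists_fibAss (q₀ : Ideal B) [q₀.IsPrime] (hq₀ : q₀.comap (algebraMap A B) = p₀)
    (hass : IsFibAss (algebraMap A B) q₀ M) :
    ∃ a : A, a ∉ p₀ ∧ ∀ p : Ideal A, p.IsPrime → p₀ ≤ p → a ∉ p →
      ∃ q : Ideal B, q.IsPrime ∧ q₀ ≤ q ∧ q.comap (algebraMap A B) = p ∧
        IsFibAss (algebraMap A B) q M := by
  classical
  obtain ⟨m, hm⟩ := hass
  rw [hq₀] at hm
  obtain ⟨T, hT, hgen⟩ := exists_finset_fibre_generators p₀ q₀
  have hTk : ∀ t ∈ T, ∃ k : ℕ, ∃ s : A, s ∉ p₀ ∧ algebraMap A B s • t ^ k • m ∈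
      (p₀.map (algebraMap A B)) • (⊤ : Submodule B M) := fun t ht => (hm t).mp (hT ht)
  choose! kk ss hss hkk using hTk
  set sT : A := ∏ t ∈ T, ss t with hsT
  have hsT0 : sT ∉ p₀ := by
    intro h
    obtain ⟨t, ht, h1⟩ := (Ideal.IsPrime.prod_mem_iff (hp := inferInstance)).mp h
    exact hss t ht h1
  obtain ⟨a2, ha2, key2⟩ := exists_uniform_generators p₀ q₀ T hgen
  obtain ⟨a1, ha1, key1⟩ := generic_purity_cyclic (B := B) p₀ m
  obtain ⟨a3, ha3, key3⟩ := generic_lying_over p₀ q₀ hq₀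
  have hprime : p₀.IsPrime := inferInstance
  refine ⟨a1 * a2 * a3 * sT, ?_, fun p hp hle hap => ?_⟩
  · intro h
    rcases hprime.mem_or_mem h with h | h
    · rcases hprime.mem_or_mem h with h | h
      · rcases hprime.mem_or_mem h with h | h
        · exact ha1 h
        · exact ha2 h
      · exact ha3 h
    · exact hsT0 h
  have ha1p : a1 ∉ p := fun h => hap (Ideal.mul_mem_right _ _ (Ideal.mul_mem_right _ _
    (Ideal.mul_mem_right _ _ h)))
  have ha2p : a2 ∉ p := fun h => hap (Ideal.mul_mem_right _ _ (Ideal.mul_mem_right _ _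
    (Ideal.mul_mem_left _ _ h)))
  have ha3p : a3 ∉ p := fun h => hap (Ideal.mul_mem_right _ _ (Ideal.mul_mem_left _ _ h))
  have hsTp : sT ∉ p := fun h => hap (Ideal.mul_mem_left _ _ h)
  have hssp : ∀ t ∈ T, ss t ∉ p := by
    intro t ht h
    apply hsTp
    rw [hsT]
    exact (Ideal.IsPrime.prod_mem_iff (hp := hp)).mpr ⟨t, ht, h⟩
  haveI := hp
  -- Claim 1: `m` does not die in the fibre over `p`
  have hm0 : ¬ FibZero (algebraMap A B) p m := by
    rintro ⟨s, hs, h1⟩
    obtain ⟨k, c, hc, h2⟩ := key1 p hle (algebraMap A B s) h1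
    have h3 : algebraMap A B (a1 ^ k) * algebraMap A B s - c ∈ q₀ := by
      rw [hm]
      exact ⟨1, by rw [pow_one]; exact fibZero_of_mem h2⟩
    have h4 : algebraMap A B (a1 ^ k * s) ∈ q₀ ⊔ p.map (algebraMap A B) := by
      have := Ideal.add_mem _ (Ideal.mem_sup_left h3) (Ideal.mem_sup_right hc)
      rwa [sub_add_cancel, ← map_mul] at this
    have h5 := key3 p hp hle ha3p _ h4
    rcases hp.mem_or_mem h5 with h6 | h6
    · exact ha1p (hp.mem_of_pow_mem k h6)
    · exact hs h6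
  have hl : (1 : Rp B p) ⊗ₜ[B] m ≠ 0 := fun h => hm0 ((one_tmul_eq_zero_iff B p m).mp h)
  obtain ⟨P, hP, hPle⟩ := exists_le_isAssociatedPrime_of_isNoetherianRing (Rp B p) _ hl
  haveI : P.IsPrime := hP.isPrime
  have hqp : (P.comap (algebraMap B (Rp B p))).comap (algebraMap A B) = p := comap_comap_eq p P
  refine ⟨P.comap (algebraMap B (Rp B p)), Ideal.comap_isPrime _ _, ?_, hqp,
    isFibAss_comap_of_isAssociatedPrime p P hP⟩
  -- Claim 2: `q₀ ≤ q`
  set q := P.comap (algebraMap B (Rp B p)) with hq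
  have hTq : Ideal.span (T : Set B) ≤ q := by
    rw [Ideal.span_le]
    intro t ht
    have h1 : FibZero (algebraMap A B) p (t ^ kk t • m) :=
      ⟨ss t, hssp t ht, Submodule.smul_mono_left (Ideal.map_mono hle) (hkk t ht)⟩
    have h2 : t ^ kk t ∈ q := by
      rw [hq, Ideal.mem_comap]
      apply hPle
      rw [Submodule.mem_colon_singleton, Submodule.mem_bot, algebraMap_smul, smul_one_tmul,
        one_tmul_eq_zero_iff]
      exact h1
    exact Ideal.IsPrime.mem_of_pow_mem inferInstance _ h2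
  have hpq : p₀.map (algebraMap A B) ≤ q := by
    rw [Ideal.map_le_iff_le_comap, hqp]; exact hle
  intro b hb
  obtain ⟨k, hk⟩ := key2 b hb
  have h1 : algebraMap A B (a2 ^ k) * b ∈ q := (sup_le hTq hpq) hk
  rcases (Ideal.IsPrime.mem_or_mem inferInstance h1) with h2 | h2
  · exfalso
    have : a2 ^ k ∈ p := by rw [← hqp]; exact h2
    exact ha2p (hp.mem_of_pow_mem k this)
  · exact h2

end R3

end Groth.Agent.H76.RelAss
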