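import Mathlib
import Groth.Agent.H76.RelAssGen

/-!
# Minimal primes of the fibres of the closure of an associated point (helper76)
-/

set_option autoImplicit false
universe u

open TensorProduct IsLocalRing

namespace Groth.Agent.H76.RelAss

section PrimeOver

variable {A B : Type*} [CommRing A] [CommRing B] [Algebra A B]
  (p : Ideal A) [p.IsPrime] (q : Ideal B) [q.IsPrime]

/-- the map `B ⊗ κ(p) → κ(q)` for `q` over `p`. -/
noncomputable def toResidue (hq : q.comap (algebraMap A B) = p) : Rp B p →ₐ[A] q.ResidueField :=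
  Algebra.TensorProduct.lift (IsScalarTower.toAlgHom A B q.ResidueField)
    (Ideal.ResidueField.mapₐ p q (Algebra.ofId A B) hq.symm) (fun _ _ => Commute.all _ _)

/-- the prime of the fibre ring over `p` corresponding to `q`. -/
noncomputable def primeOver (hq : q.comap (algebraMap A B) = p) : Ideal (Rp B p) :=
  RingHom.ker (toResidue p q hq).toRingHom

instance (hq : q.comap (algebraMap A B) = p) : (primeOver p q hq).IsPrime :=
  RingHom.ker_isPrime _

theorem comap_primeOver (hq : q.comap (algebraMap A B) = p) :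
    (primeOver p q hq).comap (algebraMap B (Rp B p)) = q := by
  ext b
  rw [Ideal.mem_comap, primeOver, RingHom.mem_ker]
  have : (toResidue p q hq).toRingHom (algebraMap B (Rp B p) b) = algebraMap B q.ResidueField b := by
    change toResidue p q hq (b ⊗ₜ[A] 1) = _
    rw [toResidue, Algebra.TensorProduct.lift_tmul, map_one, mul_one]
    rfl
  rw [this, Ideal.algebraMap_residueField_eq_zero]

omit [q.IsPrime] in
/-- ideals of the fibre ring are determined by their contractions -/
theorem eq_of_le_of_comap_le {P' P : Ideal (Rp B p)} (hle : P' ≤ P)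
    (hc : P.comap (algebraMap B (Rp B p)) ≤ P'.comap (algebraMap B (Rp B p))) : P' = P := by
  refine le_antisymm hle fun r hr => ?_
  obtain ⟨s, hs, b, e⟩ := Ideal.ResidueField.exists_smul_eq_tmul_one p r
  have h1 : algebraMap B (Rp B p) b ∈ P := by
    change b ⊗ₜ[A] (1 : p.ResidueField) ∈ P
    rw [← e]
    exact Submodule.smul_of_tower_mem _ _ hr
  have h2 : algebraMap B (Rp B p) b ∈ P' := hc h1
  have h3 : s • r ∈ P' := by rw [e]; exact h2
  obtain ⟨u, hu⟩ := isUnit_algebraMap_Rp (B := B) p hs
  have h4 : r = (↑u⁻¹ : Rp B p) * (s • r) := by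
    rw [Algebra.smul_def, ← hu, ← mul_assoc, Units.inv_mul, one_mul]
  rw [h4]
  exact Ideal.mul_mem_left _ _ h3

end PrimeOver

section R3min

variable {A B : Type*} [CommRing A] [CommRing B] [Algebra A B] [Algebra.FiniteType A B]
  (p₀ : Ideal A) [p₀.IsPrime]
  {M : Type*} [AddCommGroup M] [Module B M] [Module A M] [IsScalarTower A B M] [Module.Finite B M]

/-- **Generic points of the fibres of the closure of an associated point are associated.**  If `q₀`
is an associated prime of the fibre of `M` over `p₀ = q₀ ∩ A`, then for all primes `p ⊇ p₀` avoiding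
some `a ∉ p₀`, every prime `q` over `p` which is minimal over `q₀ + p B` is an associated prime of the
fibre of `M` over `p`. -/
theorem generic_fibAss_of_minimal (q₀ : Ideal B) [q₀.IsPrime]
    (hq₀ : q₀.comap (algebraMap A B) = p₀) (hass : IsFibAss (algebraMap A B) q₀ M) :
    ∃ a : A, a ∉ p₀ ∧ ∀ p : Ideal A, p.IsPrime → p₀ ≤ p → a ∉ p →
      ∀ q : Ideal B, q.IsPrime → q.comap (algebraMap A B) = p →
        q ∈ (q₀ ⊔ p.map (algebraMap A B)).minimalPrimes → IsFibAss (algebraMap A B) q M := by
  classical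
  obtain ⟨m, hm⟩ := hass
  rw [hq₀] at hm
  obtain ⟨T, hT, hgen⟩ := exists_finset_fibre_generators p₀ q₀
  have hTk : ∀ t ∈ T, ∃ k : ℕ, ∃ s : A, s ∉ p₀ ∧ algebraMap A B s • t ^ k • m ∈
      (p₀.map (algebraMap A B)) • (⊤ : Submodule B M) := fun t ht => (hm t).mp (hT ht)
  choose! kk ss hss hkk using hTk
  set sT : A := ∏ t ∈ T, ss t with hsT
  have hsT0 : sT ∉ p₀ := by
    intro h
    obtain ⟨t, ht, h1⟩ := (Ideal.IsPrime.prod_mem_iff (hp := inferInstance)).mp h
    exact hss t ht h1
  obtain ⟨a2, ha2, key2⟩ := exists_uniform_generators p₀ q₀ T hgen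
  obtain ⟨a1, ha1, key1⟩ := generic_purity_cyclic (B := B) p₀ m
  have hprime : p₀.IsPrime := inferInstance
  refine ⟨a1 * a2 * sT, ?_, fun p hp hle hap q hq hqp hmin => ?_⟩
  · intro h
    rcases hprime.mem_or_mem h with h | h
    · rcases hprime.mem_or_mem h with h | h
      · exact ha1 h
      · exact ha2 h
    · exact hsT0 h
  have ha1p : a1 ∉ p := fun h => hap (Ideal.mul_mem_right _ _ (Ideal.mul_mem_right _ _ h))
  have ha2p : a2 ∉ p := fun h => hap (Ideal.mul_mem_right _ _ (Ideal.mul_mem_left _ _ h))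
  have hsTp : sT ∉ p := fun h => hap (Ideal.mul_mem_left _ _ h)
  have hssp : ∀ t ∈ T, ss t ∉ p := by
    intro t ht h
    apply hsTp
    rw [hsT]
    exact (Ideal.IsPrime.prod_mem_iff (hp := hp)).mpr ⟨t, ht, h⟩
  haveI := hp
  haveI := hq
  set l : Lp B p M := (1 : Rp B p) ⊗ₜ[B] m with hl
  set 𝔟 : Ideal (Rp B p) := (⊥ : Submodule (Rp B p) (Lp B p M)).colon {l} with h𝔟
  have hmem𝔟 : ∀ b : B, algebraMap B (Rp B p) b ∈ 𝔟 ↔ FibZero (algebraMap A B) p (b • m) := by
    intro b
    rw [h𝔟, Submodule.mem_colon_singleton, Submodule.mem_bot, algebraMap_smul, hl, smul_one_tmul,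
      one_tmul_eq_zero_iff]
  -- (a) the contraction of `𝔟` lies in `q`
  have hqle : q₀ ⊔ p.map (algebraMap A B) ≤ q := hmin.1.2
  have hnotq : ∀ s : A, s ∉ p → algebraMap A B s ∉ q := fun s hs h => hs (by rw [← hqp]; exact h)
  have ha : ∀ b : B, algebraMap B (Rp B p) b ∈ 𝔟 → b ∈ q := by
    intro b hb
    obtain ⟨s, hs, h1⟩ := (hmem𝔟 b).mp hb
    rw [← mul_smul] at h1
    obtain ⟨k, c, hc, h2⟩ := key1 p hle (algebraMap A B s * b) h1
    have h3 : algebraMap A B (a1 ^ k) * (algebraMap A B s * b) - c ∈ q₀ := by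
      rw [hm]
      exact ⟨1, by rw [pow_one]; exact fibZero_of_mem h2⟩
    have h4 : algebraMap A B (a1 ^ k) * (algebraMap A B s * b) ∈ q := by
      have := Ideal.add_mem _ (hqle (Ideal.mem_sup_left h3)) (hqle (Ideal.mem_sup_right hc))
      rwa [sub_add_cancel] at this
    rcases hq.mem_or_mem h4 with h5 | h5
    · exact absurd h5 (hnotq _ (fun h => ha1p (hp.mem_of_pow_mem k h)))
    · rcases hq.mem_or_mem h5 with h6 | h6
      · exact absurd h6 (hnotq _ hs)
      · exact h6
  -- the prime of the fibre ring over `q`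
  set P := primeOver p q hqp with hP
  have hPq : P.comap (algebraMap B (Rp B p)) = q := comap_primeOver p q hqp
  -- (b) `𝔟 ≤ P`
  have hb : 𝔟 ≤ P := by
    intro r hr
    obtain ⟨s, hs, b, e⟩ := Ideal.ResidueField.exists_smul_eq_tmul_one p r
    have h1 : algebraMap B (Rp B p) b ∈ 𝔟 := by
      change b ⊗ₜ[A] (1 : p.ResidueField) ∈ 𝔟
      rw [← e]
      exact Submodule.smul_of_tower_mem _ _ hr
    have h2 : algebraMap B (Rp B p) b ∈ P := by
      rw [← Ideal.mem_comap, hPq]; exact ha b h1
    have h3 : s • r ∈ P := by rw [e]; exact h2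
    rw [Algebra.smul_def] at h3
    rcases (Ideal.IsPrime.mem_or_mem inferInstance h3) with h4 | h4
    · exact absurd (P.eq_top_of_isUnit_mem h4 (isUnit_algebraMap_Rp p hs))
        (Ideal.IsPrime.ne_top inferInstance)
    · exact h4
  -- (c) `P` is minimal over `𝔟`
  have hc : P ∈ 𝔟.minimalPrimes := by
    refine ⟨⟨inferInstance, hb⟩, ?_⟩
    rintro P' ⟨hP'prime, h𝔟P'⟩ hP'P
    haveI := hP'prime
    set q' := P'.comap (algebraMap B (Rp B p)) with hq'
    have hq'p : q'.comap (algebraMap A B) = p := comap_comap_eq p P'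
    have hq'q : q' ≤ q := by rw [← hPq]; exact Ideal.comap_mono hP'P
    have hTq : Ideal.span (T : Set B) ≤ q' := by
      rw [Ideal.span_le]
      intro t ht
      have h1 : FibZero (algebraMap A B) p (t ^ kk t • m) :=
        ⟨ss t, hssp t ht, Submodule.smul_mono_left (Ideal.map_mono hle) (hkk t ht)⟩
      have h2 : t ^ kk t ∈ q' := by
        rw [hq', Ideal.mem_comap]
        exact h𝔟P' ((hmem𝔟 _).mpr h1)
      exact Ideal.IsPrime.mem_of_pow_mem inferInstance _ h2
    have hp₀q : p₀.map (algebraMap A B) ≤ q' := by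
      rw [Ideal.map_le_iff_le_comap, hq'p]; exact hle
    have hpq' : p.map (algebraMap A B) ≤ q' := by
      rw [Ideal.map_le_iff_le_comap, hq'p]
    have hq₀q' : q₀ ≤ q' := by
      intro b hb
      obtain ⟨k, hk⟩ := key2 b hb
      have h1 : algebraMap A B (a2 ^ k) * b ∈ q' := (sup_le hTq hp₀q) hk
      rcases (Ideal.IsPrime.mem_or_mem inferInstance h1) with h2 | h2
      · exfalso
        have : a2 ^ k ∈ p := by rw [← hq'p]; exact h2
        exact ha2p (hp.mem_of_pow_mem k this)
      · exact h2
    have hqq' : q ≤ q' := hmin.2 ⟨inferInstance, sup_le hq₀q' hpq'⟩ hq'q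
    have := eq_of_le_of_comap_le p hP'P (by rw [hPq]; exact hqq')
    rw [this]
  -- (d) `P` is an associated prime of the fibre module
  have hd : IsAssociatedPrime P (Lp B p M) := by
    set N : Submodule (Rp B p) (Lp B p M) := Submodule.span (Rp B p) {l} with hN
    have hann : Module.annihilator (Rp B p) N = 𝔟 := by
      change N.annihilator = 𝔟
      rw [← Submodule.bot_colon, hN, Submodule.colon_span]
    haveI : Module.Finite (Rp B p) N := Module.Finite.span_singleton _ _
    have h1 : P ∈ associatedPrimes (Rp B p) N :=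
      Module.associatedPrimes.minimalPrimes_annihilator_subset_associatedPrimes (Rp B p) N
        (by rw [hann]; exact hc)
    exact associatedPrimes.subset_of_injective (f := N.subtype) N.injective_subtype h1
  have := isFibAss_comap_of_isAssociatedPrime p P hd
  rwa [hPq] at this

end R3min

end Groth.Agent.H76.RelAss
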