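/-
helper76: separation of generic associated primes in the fibres, and generic absence of embedded
associated primes (chart form of EGA IV 9.8.3/9.8.4).
-/
import Mathlib
import Groth.Agent.H76.AssKeyE
import Groth.Agent.H76.RelAssQuot
import Groth.Agent.H76.RelAssMin

set_option autoImplicit false
universe u

namespace Groth.Agent.H76.AssGen

open Groth.Agent.H76.RelAss

section Sep

variable {A B : Type u} [CommRing A] [IsDomain A] [CommRing B] [Algebra A B]
  [Algebra.FiniteType A B]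

theorem notMem_of_isFibAss_of_injective {M : Type*} [AddCommGroup M] [Module B M]
    (q : Ideal B) [q.IsPrime] (hass : IsFibAss (algebraMap A B) q M) (g : B)
    (hg : ∀ m : M, FibZero (algebraMap A B) (q.comap (algebraMap A B)) (g • m) →
      FibZero (algebraMap A B) (q.comap (algebraMap A B)) m) : g ∉ q := by
  intro hgq
  obtain ⟨m, hm⟩ := hass
  obtain ⟨k, hk⟩ := (hm g).mp hgq
  have h1 : ∀ k : ℕ, FibZero (algebraMap A B) (q.comap (algebraMap A B)) (g ^ k • m) →
      FibZero (algebraMap A B) (q.comap (algebraMap A B)) m := by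
    intro k
    induction k with
    | zero => intro h; rwa [pow_zero, one_smul] at h
    | succ n ih =>
      intro h
      rw [pow_succ', mul_smul] at h
      exact ih (hg _ h)
  have h2 : (1 : B) ∈ q := by
    rw [hm]
    exact ⟨0, by rw [pow_zero, one_smul]; exact h1 k hk⟩
  exact (Ideal.IsPrime.ne_top inferInstance) ((Ideal.eq_top_iff_one _).mpr h2)

/-- **Separation.**  Let `q₀` be a prime of `B` over `0` and `q₁` a prime not contained in `q₀`.
Then for all primes `p` avoiding some `a ≠ 0`, no prime over `p` which is minimal among the primes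
over `p` containing `q₀` contains `q₁`. -/
theorem sep (q₀ q₁ : Ideal B) :
    ∃ a : A, a ≠ 0 ∧ (q₀.IsPrime → q₀.comap (algebraMap A B) = ⊥ → ¬ q₁ ≤ q₀ →
      ∀ p : Ideal A, p.IsPrime → a ∉ p → ∀ q : Ideal B, q.IsPrime →
        q.comap (algebraMap A B) = p → q₀ ≤ q →
        (∀ q' : Ideal B, q'.IsPrime → q₀ ≤ q' → q' ≤ q → q'.comap (algebraMap A B) = p → q' = q) →
        ¬ q₁ ≤ q) := by
  classical
  by_cases hcond : q₀.IsPrime ∧ q₀.comap (algebraMap A B) = ⊥ ∧ ¬ q₁ ≤ q₀
  swap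
  · refine ⟨1, one_ne_zero, fun h1 h2 h3 => absurd ⟨h1, h2, h3⟩ hcond⟩
  obtain ⟨hq₀, hq₀c, hnle⟩ := hcond
  haveI := hq₀
  haveI hbot : (⊥ : Ideal A).IsPrime := Ideal.isPrime_bot
  obtain ⟨g, hg1, hg0⟩ := SetLike.not_le_iff_exists.mp hnle
  -- `q₀` is associated to the generic fibre of `B ⧸ q₀`
  have hass : IsFibAss (algebraMap A B) q₀ (B ⧸ q₀) := by
    refine isFibAss_of_radical_colon q₀ hq₀c (1 : B ⧸ q₀) ?_
    have : (⊥ : Submodule B (B ⧸ q₀)).colon {(1 : B ⧸ q₀)} = q₀ := by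
      ext b
      rw [Submodule.mem_colon_singleton, Submodule.mem_bot]
      rw [show b • (1 : B ⧸ q₀) = Ideal.Quotient.mk q₀ b by
        rw [Algebra.smul_def, mul_one]; rfl]
      exact Ideal.Quotient.eq_zero_iff_mem
    rw [this, Ideal.IsPrime.radical hq₀]
  -- `g` is injective on the generic fibre of `B ⧸ q₀`
  have hginj : ∀ m : B ⧸ q₀, FibZero (algebraMap A B) (⊥ : Ideal A) (g • m) →
      FibZero (algebraMap A B) (⊥ : Ideal A) m := by
    intro m hm
    obtain ⟨y, rfl⟩ := Ideal.Quotient.mk_surjective m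
    obtain ⟨s, hs, h1⟩ := hm
    have hs0 : s ≠ 0 := fun h => hs (by rw [h]; exact Submodule.zero_mem _)
    rw [Ideal.map_bot, Submodule.bot_smul, Submodule.mem_bot] at h1
    have h2 : algebraMap A B s * (g * y) ∈ q₀ := by
      rw [← Ideal.Quotient.eq_zero_iff_mem, ← h1, Algebra.smul_def, Algebra.smul_def]
      simp only [map_mul]
      rfl
    have h3 : y ∈ q₀ := by
      rcases hq₀.mem_or_mem h2 with h | h
      · exfalso
        have : s ∈ q₀.comap (algebraMap A B) := h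
        rw [hq₀c] at this
        exact hs0 ((Submodule.mem_bot A).mp this)
      · rcases hq₀.mem_or_mem h with h' | h'
        · exact absurd h' hg0
        · exact h'
    have : (Ideal.Quotient.mk q₀ y : B ⧸ q₀) = 0 := Ideal.Quotient.eq_zero_iff_mem.mpr h3
    rw [this]
    exact fibZero_of_mem (Submodule.zero_mem _)
  obtain ⟨a₁, ha₁, key1⟩ := generic_injective (A := A) (B := B) (M := B ⧸ q₀) (⊥ : Ideal A) g hginj
  obtain ⟨a₂, ha₂, key2⟩ := generic_fibAss_of_minimal (A := A) (B := B) (M := B ⧸ q₀)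
    (⊥ : Ideal A) q₀ hq₀c hass
  have ha₁0 : a₁ ≠ 0 := fun h => ha₁ (by rw [h]; exact Submodule.zero_mem _)
  have ha₂0 : a₂ ≠ 0 := fun h => ha₂ (by rw [h]; exact Submodule.zero_mem _)
  refine ⟨a₁ * a₂, mul_ne_zero ha₁0 ha₂0, fun _ _ _ p hp hap q hq hqp hq₀q hmin hq₁q => ?_⟩
  haveI := hq
  have ha₁p : a₁ ∉ p := fun hh => hap (Ideal.mul_mem_right _ _ hh)
  have ha₂p : a₂ ∉ p := fun hh => hap (Ideal.mul_mem_left _ _ hh)
  have hpq : p.map (algebraMap A B) ≤ q := by
    rw [Ideal.map_le_iff_le_comap, hqp]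
  have hqmin : q ∈ (q₀ ⊔ p.map (algebraMap A B)).minimalPrimes := by
    refine ⟨⟨hq, sup_le hq₀q hpq⟩, ?_⟩
    rintro q' ⟨hq', hle'⟩ hq'q
    have h1 : q₀ ≤ q' := le_trans le_sup_left hle'
    have h2 : q'.comap (algebraMap A B) = p := by
      apply le_antisymm
      · rw [← hqp]; exact Ideal.comap_mono hq'q
      · rw [← Ideal.map_le_iff_le_comap]; exact le_trans le_sup_right hle'
    rw [hmin q' hq' h1 hq'q h2]
  have hassq : IsFibAss (algebraMap A B) q (B ⧸ q₀) := key2 p hp bot_le ha₂p q hq hqp hqmin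
  have hgq : g ∉ q := by
    apply notMem_of_isFibAss_of_injective q hassq g
    rw [hqp]
    exact key1 p hp bot_le ha₁p
  exact hgq (hq₁q hg1)

end Sep

section NoEmb

variable {A B : Type u} [CommRing A] [IsDomain A] [IsNoetherianRing A] [CommRing B] [Algebra A B]
  [Algebra.FiniteType A B]
  {M : Type u} [AddCommGroup M] [Module B M] [Module A M] [IsScalarTower A B M] [Module.Finite B M]

/-- **Generic absence of embedded associated primes in the fibres.**  If the associated primes of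
the generic fibre of `M` are pairwise incomparable, then so are the associated primes of the fibre
over `p`, for all primes `p` of `A` avoiding some `a ≠ 0`. -/
theorem generic_noEmbedded
    (hgen : ∀ q₀ q₁ : Ideal B, q₀.IsPrime → q₁.IsPrime → q₀.comap (algebraMap A B) = ⊥ →
      q₁.comap (algebraMap A B) = ⊥ → IsFibAss (algebraMap A B) q₀ M →
      IsFibAss (algebraMap A B) q₁ M → q₁ ≤ q₀ → q₁ = q₀) :
    ∃ a : A, a ≠ 0 ∧ ∀ p : Ideal A, p.IsPrime → a ∉ p → ∀ q q' : Ideal B, q.IsPrime → q'.IsPrime →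
      q.comap (algebraMap A B) = p → q'.comap (algebraMap A B) = p →
      IsFibAss (algebraMap A B) q M → IsFibAss (algebraMap A B) q' M → q' ≤ q → q' = q := by
  classical
  haveI : IsNoetherianRing B := Algebra.FiniteType.isNoetherianRing A B
  obtain ⟨a₀, ha₀, hstr⟩ := generic_fibAss_structure (A := A) (B := B) (M := M)
  choose aa haa hsep using fun q₀ q₁ : Ideal B => sep (A := A) q₀ q₁
  set G : Finset (Ideal B) := (associatedPrimes.finite B M).toFinset with hG
  refine ⟨a₀ * ∏ x ∈ G ×ˢ G, aa x.1 x.2, mul_ne_zero ha₀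
    (Finset.prod_ne_zero_iff.mpr fun x _ => haa x.1 x.2),
    fun p hp hap q q' hq hq' hqp hq'p hass hass' hle => ?_⟩
  have ha₀p : a₀ ∉ p := fun hh => hap (Ideal.mul_mem_right _ _ hh)
  have haap : ∀ q₀ ∈ G, ∀ q₁ ∈ G, aa q₀ q₁ ∉ p := by
    intro q₀ h0 q₁ h1 hh
    apply hap
    apply Ideal.mul_mem_left
    have hmem : (q₀, q₁) ∈ G ×ˢ G := Finset.mem_product.mpr ⟨h0, h1⟩
    rw [← Finset.mul_prod_erase _ (fun x : Ideal B × Ideal B => aa x.1 x.2) hmem]
    exact Ideal.mul_mem_right _ _ hh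
  obtain ⟨q₀, hq₀G, hq₀, hq₀c, hq₀ass, hq₀q, hmin⟩ := hstr p hp ha₀p q hq hqp hass
  obtain ⟨q₁, hq₁G, hq₁, hq₁c, hq₁ass, hq₁q', -⟩ := hstr p hp ha₀p q' hq' hq'p hass'
  have hq₀G' : q₀ ∈ G := (Set.Finite.mem_toFinset _).mpr hq₀G
  have hq₁G' : q₁ ∈ G := (Set.Finite.mem_toFinset _).mpr hq₁G
  have h10 : q₁ ≤ q₀ := by
    by_contra hn
    exact hsep q₀ q₁ hq₀ hq₀c hn p hp (haap q₀ hq₀G' q₁ hq₁G') q hq hqp hq₀q hmin
      (le_trans hq₁q' hle)
  have heq : q₁ = q₀ := hgen q₀ q₁ hq₀ hq₁ hq₀c hq₁c hq₀ass hq₁ass h10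
  exact hmin q' hq' (heq ▸ hq₁q') hle hq'p

end NoEmb

end Groth.Agent.H76.AssGen
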