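/-
helper76: the generic package (structure, purity, separation) for the associated primes of the
fibres, with uniform denominators (chart form of EGA IV 9.8.3).
-/
import Mathlib
import Groth.Agent.H76.AssKeyF

set_option autoImplicit false
universe u

namespace Groth.Agent.H76.AssGen

open Groth.Agent.H76.RelAss

section GA

variable {A B : Type*} [CommRing A] [IsDomain A] [CommRing B] [IsNoetherianRing B] [Algebra A B]
  {M : Type*} [AddCommGroup M] [Module B M]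

/-- An associated prime of the generic fibre (lying over `0`) is an associated prime of `M`. -/
theorem mem_associatedPrimes_of_isFibAss (q₀ : Ideal B) [q₀.IsPrime]
    (hq₀ : q₀.comap (algebraMap A B) = ⊥) (hass : IsFibAss (algebraMap A B) q₀ M) :
    q₀ ∈ associatedPrimes B M := by
  classical
  obtain ⟨m, hm⟩ := hass
  rw [hq₀] at hm
  have hfz : ∀ y : M, FibZero (algebraMap A B) (⊥ : Ideal A) y ↔
      ∃ s : A, s ≠ 0 ∧ algebraMap A B s • y = 0 := by
    intro y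
    unfold FibZero
    refine exists_congr fun s => ?_
    rw [Ideal.map_bot, Submodule.bot_smul, Submodule.mem_bot, Submodule.mem_bot]
  obtain ⟨T, hT⟩ := (IsNoetherian.noetherian q₀ : q₀.FG)
  have hTk : ∀ t ∈ T, ∃ k : ℕ, ∃ s : A, s ≠ 0 ∧ algebraMap A B s • t ^ k • m = 0 := by
    intro t ht
    have : t ∈ q₀ := by rw [← hT]; exact Submodule.subset_span ht
    obtain ⟨k, hk⟩ := (hm t).mp this
    exact ⟨k, (hfz _).mp hk⟩
  choose! kk ss hss hkk using hTk
  set s₀ : A := ∏ t ∈ T, ss t with hs₀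
  have hs₀0 : s₀ ≠ 0 := Finset.prod_ne_zero_iff.mpr hss
  refine ⟨inferInstance, algebraMap A B s₀ • m, ?_⟩
  apply le_antisymm
  · rw [← hT, Ideal.span_le]
    intro t ht
    refine ⟨kk t, ?_⟩
    rw [Submodule.mem_colon_singleton, Submodule.mem_bot]
    have h1 : t ^ kk t • (algebraMap A B s₀ • m) =
        algebraMap A B (∏ x ∈ T.erase t, ss x) • (algebraMap A B (ss t) • t ^ kk t • m) := by
      rw [hs₀, ← Finset.mul_prod_erase T ss ht, map_mul, smul_smul, smul_smul, smul_smul]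
      congr 1; ring
    rw [h1, hkk t ht, smul_zero]
  · intro b hb
    obtain ⟨k, hk⟩ := hb
    rw [Submodule.mem_colon_singleton, Submodule.mem_bot] at hk
    rw [hm]
    refine ⟨k, (hfz _).mpr ⟨s₀, hs₀0, ?_⟩⟩
    rw [smul_comm]; exact hk

end GA

section Package

variable {A B : Type u} [CommRing A] [IsDomain A] [IsNoetherianRing A] [CommRing B] [Algebra A B]
  [Algebra.FiniteType A B]
  {M : Type u} [AddCommGroup M] [Module B M] [Module A M] [IsScalarTower A B M] [Module.Finite B M]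

/-- `q` is minimal among the primes over `p` containing `q₀`. -/
def MinOver (q₀ : Ideal B) (p : Ideal A) (q : Ideal B) : Prop :=
  ∀ q' : Ideal B, q'.IsPrime → q₀ ≤ q' → q' ≤ q → q'.comap (algebraMap A B) = p → q' = q

theorem mem_minimalPrimes_of_minOver {q₀ : Ideal B} {p : Ideal A} {q : Ideal B} (hq : q.IsPrime)
    (hqp : q.comap (algebraMap A B) = p) (hq₀q : q₀ ≤ q) (hmin : MinOver q₀ p q) :
    q ∈ (q₀ ⊔ p.map (algebraMap A B)).minimalPrimes := by
  have hpq : p.map (algebraMap A B) ≤ q := by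
    rw [Ideal.map_le_iff_le_comap, hqp]
  refine ⟨⟨hq, sup_le hq₀q hpq⟩, ?_⟩
  rintro q' ⟨hq', hle'⟩ hq'q
  have h1 : q₀ ≤ q' := le_trans le_sup_left hle'
  have h2 : q'.comap (algebraMap A B) = p := by
    apply le_antisymm
    · rw [← hqp]; exact Ideal.comap_mono hq'q
    · rw [← Ideal.map_le_iff_le_comap]; exact le_trans le_sup_right hle'
  rw [hmin q' hq' h1 hq'q h2]

/-- Purity with a denominator attached to each prime (trivial unless the prime is generic
associated). -/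
theorem purity_aux (q₀ : Ideal B) :
    ∃ a : A, a ≠ 0 ∧ (q₀.IsPrime → q₀.comap (algebraMap A B) = ⊥ →
      IsFibAss (algebraMap A B) q₀ M → ∀ p : Ideal A, p.IsPrime → a ∉ p → ∀ q : Ideal B,
        q.IsPrime → q.comap (algebraMap A B) = p → q₀ ≤ q → MinOver q₀ p q →
        IsFibAss (algebraMap A B) q M) := by
  classical
  by_cases hcond : q₀.IsPrime ∧ q₀.comap (algebraMap A B) = ⊥ ∧ IsFibAss (algebraMap A B) q₀ M
  swap
  · exact ⟨1, one_ne_zero, fun h1 h2 h3 => absurd ⟨h1, h2, h3⟩ hcond⟩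
  obtain ⟨hq₀, hq₀c, hass⟩ := hcond
  haveI := hq₀
  haveI hbot : (⊥ : Ideal A).IsPrime := Ideal.isPrime_bot
  obtain ⟨a, ha, key⟩ := generic_fibAss_of_minimal (A := A) (B := B) (M := M)
    (⊥ : Ideal A) q₀ hq₀c hass
  have ha0 : a ≠ 0 := fun h => ha (by rw [h]; exact Submodule.zero_mem _)
  refine ⟨a, ha0, fun _ _ _ p hp hap q hq hqp hq₀q hmin => ?_⟩
  exact key p hp bot_le hap q hq hqp (mem_minimalPrimes_of_minOver hq hqp hq₀q hmin)

/-- **The generic package.** -/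
theorem generic_package :
    ∃ a : A, a ≠ 0 ∧ ∀ p : Ideal A, p.IsPrime → a ∉ p →
      (∀ q : Ideal B, q.IsPrime → q.comap (algebraMap A B) = p → IsFibAss (algebraMap A B) q M →
        ∃ q₀ : Ideal B, q₀.IsPrime ∧ q₀.comap (algebraMap A B) = ⊥ ∧
          IsFibAss (algebraMap A B) q₀ M ∧ q₀ ≤ q ∧ MinOver q₀ p q) ∧
      (∀ q₀ : Ideal B, q₀.IsPrime → q₀.comap (algebraMap A B) = ⊥ →
        IsFibAss (algebraMap A B) q₀ M → ∀ q : Ideal B, q.IsPrime →
        q.comap (algebraMap A B) = p → q₀ ≤ q → MinOver q₀ p q → IsFibAss (algebraMap A B) q M) ∧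
      (∀ q₀ q₁ : Ideal B, q₀.IsPrime → q₁.IsPrime → q₀.comap (algebraMap A B) = ⊥ →
        q₁.comap (algebraMap A B) = ⊥ → IsFibAss (algebraMap A B) q₀ M →
        IsFibAss (algebraMap A B) q₁ M → ¬ q₁ ≤ q₀ → ∀ q : Ideal B, q.IsPrime →
        q.comap (algebraMap A B) = p → q₀ ≤ q → MinOver q₀ p q → ¬ q₁ ≤ q) := by
  classical
  haveI : IsNoetherianRing B := Algebra.FiniteType.isNoetherianRing A B
  obtain ⟨a₀, ha₀, hstr⟩ := generic_fibAss_structure (A := A) (B := B) (M := M)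
  choose aa haa hsep using fun q₀ q₁ : Ideal B => sep (A := A) q₀ q₁
  choose bb hbb hpur using fun q₀ : Ideal B => purity_aux (A := A) (M := M) q₀
  set G : Finset (Ideal B) := (associatedPrimes.finite B M).toFinset with hG
  have hGmem : ∀ q₀ : Ideal B, q₀.IsPrime → q₀.comap (algebraMap A B) = ⊥ →
      IsFibAss (algebraMap A B) q₀ M → q₀ ∈ G := by
    intro q₀ hq₀ hc hass
    haveI := hq₀
    exact (Set.Finite.mem_toFinset _).mpr (mem_associatedPrimes_of_isFibAss q₀ hc hass)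
  refine ⟨a₀ * (∏ x ∈ G ×ˢ G, aa x.1 x.2) * ∏ x ∈ G, bb x,
    mul_ne_zero (mul_ne_zero ha₀ (Finset.prod_ne_zero_iff.mpr fun x _ => haa x.1 x.2))
      (Finset.prod_ne_zero_iff.mpr fun x _ => hbb x), fun p hp hap => ?_⟩
  have ha₀p : a₀ ∉ p := fun hh => hap (Ideal.mul_mem_right _ _ (Ideal.mul_mem_right _ _ hh))
  have haap : ∀ q₀ ∈ G, ∀ q₁ ∈ G, aa q₀ q₁ ∉ p := by
    intro q₀ h0 q₁ h1 hh
    apply hap
    apply Ideal.mul_mem_right
    apply Ideal.mul_mem_left
    have hmem : (q₀, q₁) ∈ G ×ˢ G := Finset.mem_product.mpr ⟨h0, h1⟩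
    rw [← Finset.mul_prod_erase _ (fun x : Ideal B × Ideal B => aa x.1 x.2) hmem]
    exact Ideal.mul_mem_right _ _ hh
  have hbbp : ∀ q₀ ∈ G, bb q₀ ∉ p := by
    intro q₀ h0 hh
    apply hap
    apply Ideal.mul_mem_left
    rw [← Finset.mul_prod_erase _ bb h0]
    exact Ideal.mul_mem_right _ _ hh
  refine ⟨fun q hq hqp hass => ?_, fun q₀ hq₀ hc hass q hq hqp hle hmin => ?_,
    fun q₀ q₁ hq₀ hq₁ hc₀ hc₁ hass₀ hass₁ hn q hq hqp hle hmin => ?_⟩
  · obtain ⟨q₀, -, hq₀, hq₀c, hq₀ass, hq₀q, hmin⟩ := hstr p hp ha₀p q hq hqp hass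
    exact ⟨q₀, hq₀, hq₀c, hq₀ass, hq₀q, hmin⟩
  · exact hpur q₀ hq₀ hc hass p hp (hbbp q₀ (hGmem q₀ hq₀ hc hass)) q hq hqp hle hmin
  · exact hsep q₀ q₁ hq₀ hc₀ hn p hp
      (haap q₀ (hGmem q₀ hq₀ hc₀ hass₀) q₁ (hGmem q₁ hq₁ hc₁ hass₁)) q hq hqp hle hmin

end Package

end Groth.Agent.H76.AssGen
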