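/-
helper76: generic constancy of the transcendence degrees of the residue fields at the maximal
points of the fibres of the closure of a point of the generic fibre (algebraic form).
-/
import Mathlib
import Groth.Agent.H76.AssKeyG
import Groth.Agent.H76.AssDimA
import Groth.Agent.H76.RelAssGen

set_option autoImplicit false
universe u

namespace Groth.Agent.H76.AssGen

open Groth.Agent.H76.RelAss

section Contraction

variable {A B : Type u} [CommRing A] [IsDomain A] [IsNoetherianRing A] [CommRing B] [Algebra A B]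
  [Algebra.FiniteType A B]
  {M : Type u} [AddCommGroup M] [Module B M] [Module A M] [IsScalarTower A B M] [Module.Finite B M]

/-- The contraction statement extracted from the proof of `primary_component_key`. -/
theorem contraction_of_nn (J : Submodule B M) (hJ : J.IsPrimary) {d : ℕ} (b : Fin d → B) (a₁ : A)
    (T : Finset B) (ha₁ : a₁ ≠ 0)
    (hinj : ∀ h : MvPolynomial (Fin d) A,
      MvPolynomial.aeval b h ∈ (J.colon Set.univ).radical → h = 0)
    (hT : Algebra.adjoin A (T : Set B) = ⊤)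
    (hint : ∀ t ∈ T, ((Ideal.Quotient.mk (J.colon Set.univ).radical).comp
      (MvPolynomial.aeval b : MvPolynomial (Fin d) A →ₐ[A] B).toRingHom).IsIntegralElem
        (Ideal.Quotient.mk (J.colon Set.univ).radical (a₁ • t))) :
    ∃ a₂ : A, a₂ ≠ 0 ∧ ∀ p : Ideal A, p.IsPrime → a₂ ∉ p → ∀ q : Ideal B, q.IsPrime → ∀ m : M,
      (∀ b' : B, b' ∈ q ↔ ∃ k : ℕ, FibZero (algebraMap A B) p
        (b' ^ k • (Submodule.Quotient.mk (p := J) m))) →
      ∀ h : MvPolynomial (Fin d) A, MvPolynomial.aeval b h ∈ q →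
        h ∈ p.map (MvPolynomial.C : A →+* MvPolynomial (Fin d) A) := by
  classical
  haveI : IsNoetherianRing B := Algebra.FiniteType.isNoetherianRing A B
  set P := (J.colon Set.univ).radical with hP
  haveI hPprime : P.IsPrime := hJ.isPrime_radical_colon
  obtain ⟨k, hk⟩ := Ideal.exists_radical_pow_le_of_fg (J.colon Set.univ)
    (IsNoetherian.noetherian _)
  have hkill : ∀ c ∈ P ^ k, ∀ m : M, c • m ∈ J := fun c hc m =>
    Submodule.mem_colon.mp (hk hc) m (Set.mem_univ _)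
  set ψ : MvPolynomial (Fin d) A →ₐ[A] B := MvPolynomial.aeval b with hψ
  have htors : Module.IsTorsionBySet B (M ⧸ J) (↑(P ^ k) : Set B) := by
    intro x c
    obtain ⟨m, rfl⟩ := Submodule.Quotient.mk_surjective J x
    rw [← Submodule.Quotient.mk_smul, Submodule.Quotient.mk_eq_zero]
    exact hkill c.1 c.2 m
  letI modR : Module (B ⧸ P ^ k) (M ⧸ J) := htors.module
  haveI st1 : IsScalarTower B (B ⧸ P ^ k) (M ⧸ J) := htors.isScalarTower
  haveI st2 : IsScalarTower A (B ⧸ P ^ k) (M ⧸ J) := htors.isScalarTower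
  haveI fin1 : Module.Finite (B ⧸ P ^ k) (M ⧸ J) := Module.Finite.of_restrictScalars_finite B _ _
  letI algDR : Algebra (MvPolynomial (Fin d) A) (B ⧸ P ^ k) :=
    ((Ideal.Quotient.mk (P ^ k)).comp ψ.toRingHom).toAlgebra
  haveI st3 : IsScalarTower A (MvPolynomial (Fin d) A) (B ⧸ P ^ k) :=
    IsScalarTower.of_algebraMap_eq (fun x => by
      show algebraMap A (B ⧸ P ^ k) x = Ideal.Quotient.mk (P ^ k) (ψ (algebraMap A _ x))
      rw [AlgHom.commutes]; rfl)
  letI modD : Module (MvPolynomial (Fin d) A) (M ⧸ J) :=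
    Module.compHom (M ⧸ J) (algebraMap (MvPolynomial (Fin d) A) (B ⧸ P ^ k))
  haveI st4 : IsScalarTower (MvPolynomial (Fin d) A) (B ⧸ P ^ k) (M ⧸ J) :=
    IsScalarTower.of_compHom _ _ _
  have hDact : ∀ (h : MvPolynomial (Fin d) A) (n : M ⧸ J), h • n = ψ h • n := fun h n => rfl
  haveI st5 : IsScalarTower A (MvPolynomial (Fin d) A) (M ⧸ J) := ⟨fun a h n => by
    rw [hDact, hDact, map_smul, smul_assoc]⟩
  have hT' : Algebra.adjoin A ((T.image (Ideal.Quotient.mk (P ^ k)) : Finset (B ⧸ P ^ k)) :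
      Set (B ⧸ P ^ k)) = ⊤ := by
    rw [Finset.coe_image]
    have h1 := Algebra.adjoin_image A (Ideal.Quotient.mkₐ A (P ^ k)) (T : Set B)
    rw [show (Ideal.Quotient.mk (P ^ k) : B → B ⧸ P ^ k) = (Ideal.Quotient.mkₐ A (P ^ k)) from rfl,
      h1, hT, Algebra.map_top]
    exact (AlgHom.range_eq_top _).mpr (Ideal.Quotient.mkₐ_surjective A _)
  have hint' : ∀ t' ∈ T.image (Ideal.Quotient.mk (P ^ k)),
      IsIntegral (MvPolynomial (Fin d) A) (a₁ • t') := by
    intro t' ht'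
    obtain ⟨t, ht, rfl⟩ := Finset.mem_image.mp ht'
    have h1 := isIntegralElem_pow_of_isIntegralElem ψ.toRingHom P k (a₁ • t) (hint t ht)
    have e : a₁ • (Ideal.Quotient.mk (P ^ k) t) = Ideal.Quotient.mk (P ^ k) (a₁ • t) := by
      rw [Algebra.smul_def, Algebra.smul_def, map_mul]; rfl
    rw [e]
    exact h1
  have htf : ∀ (h : MvPolynomial (Fin d) A) (n : M ⧸ J), h ≠ 0 → h • n = 0 → n = 0 := by
    intro h n hh hn
    obtain ⟨m, rfl⟩ := Submodule.Quotient.mk_surjective J n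
    have h1 : ψ h • (Submodule.Quotient.mk m : M ⧸ J) = 0 := hn
    rw [← Submodule.Quotient.mk_smul, Submodule.Quotient.mk_eq_zero] at h1
    rcases hJ.mem_or_mem h1 with h2 | h2
    · exact (Submodule.Quotient.mk_eq_zero J).mpr h2
    · exact absurd (hinj h h2) hh
  obtain ⟨a₂, ha₂, hcon⟩ := generic_contraction (A := A) (d := d) (R := B ⧸ P ^ k) (N := M ⧸ J)
    a₁ ha₁ (T.image (Ideal.Quotient.mk (P ^ k))) hT' hint' htf
  refine ⟨a₂, ha₂, fun p hp ha₂p q hq m hm h hh => ?_⟩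
  haveI := hp
  have hnz : ¬ ∃ s : A, s ∉ p ∧
      s • (Submodule.Quotient.mk (p := J) m) ∈ p • (⊤ : Submodule A (M ⧸ J)) := by
    intro hex
    have h1 : (1 : B) ∈ q := by
      rw [hm]
      refine ⟨0, ?_⟩
      rw [pow_zero, one_smul]
      exact (fibZero_iff' p _).mpr hex
    exact hq.ne_top ((Ideal.eq_top_iff_one _).mpr h1)
  obtain ⟨j, hj⟩ := (hm _).mp hh
  obtain ⟨s, hs, hsj⟩ := (fibZero_iff' p _).mp hj
  refine hcon p hp ha₂p _ hnz h ⟨j, s, hs, ?_⟩
  rw [hDact, map_pow]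
  exact hsj

end Contraction

section DimPkg

variable {A B : Type u} [CommRing A] [IsDomain A] [IsNoetherianRing A] [CommRing B] [Algebra A B]
  [Algebra.FiniteType A B]

/-- For all residue data at `(p, q)`, the transcendence degree is `d`. -/
def TrdegEq (p : Ideal A) (q : Ideal B) (d : ℕ) : Prop :=
  ∀ (K L : Type u) [Field K] [Field L] [Algebra K L] (φ : A →+* K) (ψ : B →+* L),
    (algebraMap K L).comp φ = ψ.comp (algebraMap A B) → RingHom.ker φ = p → RingHom.ker ψ = q →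
    (∀ z : K, ∃ a s : A, φ s ≠ 0 ∧ z * φ s = φ a) →
    (∀ z : L, ∃ b s : B, ψ s ≠ 0 ∧ z * ψ s = ψ b) → Algebra.trdeg K L = d

theorem isFibAss_quotient_self (q₀ : Ideal B) [q₀.IsPrime]
    (hq₀ : q₀.comap (algebraMap A B) = ⊥) : IsFibAss (algebraMap A B) q₀ (B ⧸ q₀) := by
  have hsm : ∀ c : B, c • (1 : B ⧸ q₀) = Ideal.Quotient.mk q₀ c := by
    intro c
    rw [Algebra.smul_def, mul_one]; rfl
  refine ⟨1, fun b => ?_⟩
  rw [hq₀]
  constructor
  · intro hb
    refine ⟨1, 1, one_ne_zero.elim ∘ (Submodule.mem_bot A).mp, ?_⟩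
    have : b ^ 1 • (1 : B ⧸ q₀) = 0 := by
      rw [pow_one, hsm]
      exact Ideal.Quotient.eq_zero_iff_mem.mpr hb
    rw [this, smul_zero]
    exact Submodule.zero_mem _
  · rintro ⟨k, s, hs, hmem⟩
    rw [Ideal.map_bot, Submodule.bot_smul, Submodule.mem_bot, smul_smul, hsm] at hmem
    have h1 : (algebraMap A B s * b ^ k) ∈ q₀ := Ideal.Quotient.eq_zero_iff_mem.mp hmem
    rcases Ideal.IsPrime.mem_or_mem inferInstance h1 with h2 | h2
    · exfalso
      have : s ∈ q₀.comap (algebraMap A B) := h2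
      rw [hq₀] at this
      exact hs this
    · exact Ideal.IsPrime.mem_of_pow_mem inferInstance _ h2

/-- Generic constancy of the transcendence degree along the maximal points of the fibres of the
closure of a point of the generic fibre. -/
theorem generic_dim_prime (q₀ : Ideal B) :
    ∃ a : A, a ≠ 0 ∧ ∃ d : ℕ, (q₀.IsPrime → q₀.comap (algebraMap A B) = ⊥ →
      ∀ p : Ideal A, p.IsPrime → a ∉ p → ∀ q : Ideal B, q.IsPrime →
      q.comap (algebraMap A B) = p → q₀ ≤ q → MinOver q₀ p q → TrdegEq p q d) := by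
  classical
  by_cases hcond : q₀.IsPrime ∧ q₀.comap (algebraMap A B) = ⊥
  swap
  · exact ⟨1, one_ne_zero, 0, fun h1 h2 => absurd ⟨h1, h2⟩ hcond⟩
  obtain ⟨hq₀, hq₀c⟩ := hcond
  haveI := hq₀
  obtain ⟨d, b, a₁, T, ha₁, hinj, hT, hint⟩ := hasNN (A := A) q₀ hq₀c
  have hcol0 : (q₀ : Submodule B B).colon Set.univ = q₀ := by
    ext r
    rw [Submodule.mem_colon]
    constructor
    · intro h
      have := h 1 (Set.mem_univ _)
      rwa [smul_eq_mul, mul_one] at this
    · intro h x _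
      rw [smul_eq_mul]
      exact Ideal.mul_mem_right _ _ h
  have hcol : ((q₀ : Submodule B B).colon Set.univ).radical = q₀ := by
    rw [hcol0]; exact hq₀.radical
  have hprim : (q₀ : Submodule B B).IsPrimary := hq₀.isPrimary
  obtain ⟨a₂, ha₂, hcon⟩ := contraction_of_nn (A := A) (M := B) (q₀ : Submodule B B) hprim b a₁ T
    ha₁ (by rw [hcol]; exact hinj) hT (by rw [hcol]; exact hint)
  obtain ⟨a₃, ha₃, hpk⟩ := generic_package (A := A) (B := B) (M := B ⧸ q₀)
  refine ⟨a₁ * a₂ * a₃, mul_ne_zero (mul_ne_zero ha₁ ha₂) ha₃, d,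
    fun _ _ p hp hap q hq hqp hle hmin => ?_⟩
  have ha₁p : a₁ ∉ p := fun hh => hap (Ideal.mul_mem_right _ _ (Ideal.mul_mem_right _ _ hh))
  have ha₂p : a₂ ∉ p := fun hh => hap (Ideal.mul_mem_right _ _ (Ideal.mul_mem_left _ _ hh))
  have ha₃p : a₃ ∉ p := fun hh => hap (Ideal.mul_mem_left _ _ hh)
  obtain ⟨-, k2, -⟩ := hpk p hp ha₃p
  have hass := k2 q₀ hq₀ hq₀c (isFibAss_quotient_self q₀ hq₀c) q hq hqp hle hmin
  obtain ⟨m', hm'⟩ := hass
  rw [hqp] at hm'
  obtain ⟨m, rfl⟩ := Ideal.Quotient.mk_surjective m'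
  have hcontr := hcon p hp ha₂p q hq m hm'
  intro K L _ _ _ φ ψ hcomp hkφ hkψ hφ hψ
  refine trdeg_eq_of_nn φ ψ hcomp hφ hψ b a₁ ?_ T hT ?_ ?_
  · intro h
    apply ha₁p
    rw [← hkφ]
    exact h
  · intro h hh mm
    have h1 : MvPolynomial.aeval b h ∈ q := by rw [← hkψ]; exact hh
    have h2 := (MvPolynomial.mem_map_C_iff.mp (hcontr h h1)) mm
    rw [← hkφ] at h2
    exact h2
  · intro t ht
    obtain ⟨F, hF, hF0⟩ := hint t ht
    refine ⟨F, hF, ?_⟩
    have hker : ∀ x ∈ q₀, ψ x = 0 := fun x hx => by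
      have : x ∈ q := hle hx
      rw [← hkψ] at this
      exact this
    have e1 : (Ideal.Quotient.lift q₀ ψ hker).comp ((Ideal.Quotient.mk q₀).comp
        (MvPolynomial.aeval b : MvPolynomial (Fin d) A →ₐ[A] B).toRingHom) =
        ψ.comp (MvPolynomial.aeval b : MvPolynomial (Fin d) A →ₐ[A] B).toRingHom := by
      refine RingHom.ext fun x => ?_
      show Ideal.Quotient.lift q₀ ψ hker (Ideal.Quotient.mk q₀ (MvPolynomial.aeval b x)) =
        ψ (MvPolynomial.aeval b x)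
      exact Ideal.Quotient.lift_mk _ _ _
    have := congrArg (Ideal.Quotient.lift q₀ ψ hker) hF0
    rw [Polynomial.hom_eval₂, map_zero, e1, Ideal.Quotient.lift_mk] at this
    exact this

end DimPkg

section DimPkgM

variable {A B : Type u} [CommRing A] [IsDomain A] [IsNoetherianRing A] [CommRing B] [Algebra A B]
  [Algebra.FiniteType A B]
  {M : Type u} [AddCommGroup M] [Module B M] [Module A M] [IsScalarTower A B M] [Module.Finite B M]

theorem nonempty_aux (q₀ : Ideal B) :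
    ∃ a : A, a ≠ 0 ∧ (q₀.IsPrime → q₀.comap (algebraMap A B) = ⊥ →
      IsFibAss (algebraMap A B) q₀ M → ∀ p : Ideal A, p.IsPrime → a ∉ p →
      ∃ q : Ideal B, q.IsPrime ∧ q.comap (algebraMap A B) = p ∧ q₀ ≤ q) := by
  classical
  by_cases hcond : q₀.IsPrime ∧ q₀.comap (algebraMap A B) = ⊥ ∧ IsFibAss (algebraMap A B) q₀ M
  swap
  · exact ⟨1, one_ne_zero, fun h1 h2 h3 => absurd ⟨h1, h2, h3⟩ hcond⟩
  obtain ⟨hq₀, hq₀c, hass⟩ := hcond
  haveI := hq₀
  haveI hbot : (⊥ : Ideal A).IsPrime := Ideal.isPrime_bot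
  obtain ⟨a, ha, key⟩ := generic_exists_fibAss (A := A) (B := B) (M := M) (⊥ : Ideal A) q₀ hq₀c hass
  have ha0 : a ≠ 0 := fun h => ha (by rw [h]; exact Submodule.zero_mem _)
  refine ⟨a, ha0, fun _ _ _ p hp hap => ?_⟩
  obtain ⟨q, hq, hle, hqp, -⟩ := key p hp bot_le hap
  exact ⟨q, hq, hqp, hle⟩

/-- **The generic dimension package.** -/
theorem generic_dim_package :
    ∃ a : A, a ≠ 0 ∧ ∀ q₀ : Ideal B, q₀.IsPrime → q₀.comap (algebraMap A B) = ⊥ →
      IsFibAss (algebraMap A B) q₀ M → ∃ d : ℕ, ∀ p : Ideal A, p.IsPrime → a ∉ p →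
        (∀ q : Ideal B, q.IsPrime → q.comap (algebraMap A B) = p → q₀ ≤ q → MinOver q₀ p q →
          TrdegEq p q d) ∧
        (∃ q : Ideal B, q.IsPrime ∧ q.comap (algebraMap A B) = p ∧ q₀ ≤ q) := by
  classical
  haveI : IsNoetherianRing B := Algebra.FiniteType.isNoetherianRing A B
  choose aa haa dd hdd using fun q₀ : Ideal B => generic_dim_prime (A := A) q₀
  choose cc hcc hne using fun q₀ : Ideal B => nonempty_aux (A := A) (M := M) q₀
  set G : Finset (Ideal B) := (associatedPrimes.finite B M).toFinset with hG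
  have hGmem : ∀ q₀ : Ideal B, q₀.IsPrime → q₀.comap (algebraMap A B) = ⊥ →
      IsFibAss (algebraMap A B) q₀ M → q₀ ∈ G := by
    intro q₀ hq₀ hc hass
    haveI := hq₀
    exact (Set.Finite.mem_toFinset _).mpr (mem_associatedPrimes_of_isFibAss q₀ hc hass)
  refine ⟨(∏ x ∈ G, aa x) * ∏ x ∈ G, cc x,
    mul_ne_zero (Finset.prod_ne_zero_iff.mpr fun x _ => haa x)
      (Finset.prod_ne_zero_iff.mpr fun x _ => hcc x), fun q₀ hq₀ hc hass => ⟨dd q₀, fun p hp hap => ?_⟩⟩
  have hmem := hGmem q₀ hq₀ hc hass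
  have haap : aa q₀ ∉ p := by
    intro hh
    apply hap
    apply Ideal.mul_mem_right
    rw [← Finset.mul_prod_erase _ aa hmem]
    exact Ideal.mul_mem_right _ _ hh
  have hccp : cc q₀ ∉ p := by
    intro hh
    apply hap
    apply Ideal.mul_mem_left
    rw [← Finset.mul_prod_erase _ cc hmem]
    exact Ideal.mul_mem_right _ _ hh
  exact ⟨fun q hq hqp hle hmin => hdd q₀ hq₀ hc p hp haap q hq hqp hle hmin,
    hne q₀ hq₀ hc hass p hp hccp⟩

end DimPkgM

end Groth.Agent.H76.AssGen
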