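import Mathlib
import Groth.Prelude
import Groth.Agent.H76.RelAssFG
import Groth.Agent.Lib.Helper45.QCohStalk
import Groth.Agent.Lib.Helper55.ChartResidue

/-!
# The relative assassin in affine charts (helper76)

For `f : X ⟶ S`, affine opens `W ⊆ X`, `V ⊆ S` with `W ⊆ f⁻¹ V`, a quasi-coherent `F` and `x ∈ W`
with prime `q` of `Γ(X, W)`: `x ∈ MoreMor.relAss f F` iff `q` is an associated prime of the fibre
module `Γ(F, W) ⊗ κ(p)`, expressed element-wise (`IsFibAss`).
-/

set_option autoImplicit false
universe u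
open AlgebraicGeometry CategoryTheory TensorProduct IsLocalRing TopologicalSpace

namespace Groth.Agent.H76.RelAss
open Groth.Agent.Lib.Helper45

variable {X S : Scheme.{u}} (f : X ⟶ S) {V : S.Opens} {W : X.Opens} (e : W ≤ f ⁻¹ᵁ V)

theorem germ_stalkMap_appLE (x : X) (hx : x ∈ W) :
    S.presheaf.germ V (f x) (e hx) ≫ f.stalkMap x = f.appLE V W e ≫ X.presheaf.germ W x hx := by
  rw [f.germ_stalkMap V x (e hx), Scheme.Hom.appLE, Category.assoc]
  congr 1
  exact (X.presheaf.germ_res (homOfLE e) x hx).symm

variable (hV : IsAffineOpen V) (hW : IsAffineOpen W)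

include hV in
theorem maximalIdeal_stalk_eq_map (y : V) :
    maximalIdeal (S.presheaf.stalk (y : S)) =
      Ideal.map (S.presheaf.germ V (y : S) y.2).hom (hV.primeIdealOf y).asIdeal := by
  haveI hloc := hV.isLocalization_stalk y
  exact (IsLocalization.AtPrime.map_eq_maximalIdeal (hV.primeIdealOf y).asIdeal
    (S.presheaf.stalk (y : S))).symm

include hV in
/-- The ideal `𝔪_{f x} O_{X,x}` in terms of the chart. -/
theorem map_stalkMap_maximalIdeal (x : W) :
    Ideal.map (f.stalkMap (x : X)).hom (maximalIdeal (S.presheaf.stalk (f (x : X)))) =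
      (((hW.primeIdealOf x).asIdeal.comap (f.appLE V W e).hom).map (f.appLE V W e).hom).map
        (algebraMap Γ(X, W) (X.presheaf.stalk (x : X))) := by
  have hp := Groth.Agent.Lib.Helper55.primeIdealOf_comap f e (x : X) x.2 hW hV
  have hmax : maximalIdeal (S.presheaf.stalk (f (x : X))) =
      Ideal.map (S.presheaf.germ V (f (x : X)) (e x.2)).hom
        (hV.primeIdealOf ⟨f (x : X), e x.2⟩).asIdeal :=
    maximalIdeal_stalk_eq_map hV ⟨f (x : X), e x.2⟩
  have halg : algebraMap Γ(X, W) (X.presheaf.stalk (x : X)) =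
      (X.presheaf.germ W (x : X) x.2).hom := rfl
  rw [hmax, halg, ← hp, Ideal.map_map, Ideal.map_map]
  congr 1
  have h := germ_stalkMap_appLE f e (x : X) x.2
  ext a
  exact congr($h a)

variable (F : X.Modules) [F.IsQuasicoherent]

attribute [local instance] stalkModuleSections

include hV in
/-- (B1) an associated prime of the chart fibre module is a point of the relative assassin. -/
theorem mem_relAss_of_isFibAss (x : W)
    (h : IsFibAss (f.appLE V W e).hom (hW.primeIdealOf x).asIdeal Γ(F, W)) :
    (x : X) ∈ MoreMor.relAss f F := by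
  letI : Algebra Γ(S, V) Γ(X, W) := (f.appLE V W e).hom.toAlgebra
  letI : Module Γ(S, V) Γ(F, W) := Module.compHom _ (f.appLE V W e).hom
  haveI : IsScalarTower Γ(S, V) Γ(X, W) Γ(F, W) := IsScalarTower.of_compHom _ _ _
  haveI := hW.isLocalization_stalk x
  haveI := isLocalizedModule_germₗ hW F x
  exact isAssociatedPrime_maximalIdeal_of_isFibAss (A := Γ(S, V)) (hW.primeIdealOf x).asIdeal
    (germₗ F x) _ (map_stalkMap_maximalIdeal f e hV hW x) h

include hV in
/-- (B3) an element of the chart ring which is injective on the fibre module avoids the relative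
assassin. -/
theorem notMem_of_mem_relAss (x : W) (h : (x : X) ∈ MoreMor.relAss f F) (g : Γ(X, W))
    (hg : ∀ m : Γ(F, W),
      FibZero (f.appLE V W e).hom ((hW.primeIdealOf x).asIdeal.comap (f.appLE V W e).hom) (g • m) →
      FibZero (f.appLE V W e).hom ((hW.primeIdealOf x).asIdeal.comap (f.appLE V W e).hom) m) :
    g ∉ (hW.primeIdealOf x).asIdeal := by
  letI : Algebra Γ(S, V) Γ(X, W) := (f.appLE V W e).hom.toAlgebra
  letI : Module Γ(S, V) Γ(F, W) := Module.compHom _ (f.appLE V W e).hom
  haveI : IsScalarTower Γ(S, V) Γ(X, W) Γ(F, W) := IsScalarTower.of_compHom _ _ _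
  haveI := hW.isLocalization_stalk x
  haveI := isLocalizedModule_germₗ hW F x
  exact notMem_of_isAssociatedPrime_maximalIdeal (A := Γ(S, V)) (hW.primeIdealOf x).asIdeal
    (germₗ F x) _ (map_stalkMap_maximalIdeal f e hV hW x) h g hg

include hV in
/-- (B2) a point of the relative assassin is an associated prime of the chart fibre module. -/
theorem isFibAss_of_mem_relAss (hft : (f.appLE V W e).hom.FiniteType) (x : W)
    (h : (x : X) ∈ MoreMor.relAss f F) :
    IsFibAss (f.appLE V W e).hom (hW.primeIdealOf x).asIdeal Γ(F, W) := by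
  letI : Algebra Γ(S, V) Γ(X, W) := (f.appLE V W e).hom.toAlgebra
  letI : Module Γ(S, V) Γ(F, W) := Module.compHom _ (f.appLE V W e).hom
  haveI : IsScalarTower Γ(S, V) Γ(X, W) Γ(F, W) := IsScalarTower.of_compHom _ _ _
  haveI : Algebra.FiniteType Γ(S, V) Γ(X, W) := hft
  haveI := hW.isLocalization_stalk x
  haveI := isLocalizedModule_germₗ hW F x
  exact isFibAss_of_isAssociatedPrime_maximalIdeal (A := Γ(S, V)) (hW.primeIdealOf x).asIdeal
    (germₗ F x) _ (map_stalkMap_maximalIdeal f e hV hW x) h

end Groth.Agent.H76.RelAss
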