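/-
helper76: generic absence of embedded associated points in the fibres (EGA IV 9.8.4), scheme form,
in terms of the relative assassin.
-/
import Mathlib
import Groth.Prelude
import Groth.Agent.H76.AssKeyF
import Groth.Agent.H76.RelAssBridge
import Groth.Agent.Lib.Helper45.FiniteType
import Groth.Agent.Lib.Helper55.ChartResidue

set_option autoImplicit false
universe u
open AlgebraicGeometry CategoryTheory TopologicalSpace

namespace Groth.Agent.H76.AssGen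

open Groth.Agent.H76.RelAss Groth.Agent.Lib.Helper45

/-- No point of the relative assassin over `s` is a proper specialization of another one. -/
def RelNoEmb {X S : Scheme.{u}} (f : X ⟶ S) (F : X.Modules) (s : S) : Prop :=
  ∀ x ∈ MoreMor.relAss f F, ∀ y ∈ MoreMor.relAss f F, f x = s → f y = s → y ⤳ x → x = y

section Chart

variable {X S : Scheme.{u}} [IsIntegral S] [IsLocallyNoetherian S] (f : X ⟶ S)
  [LocallyOfFiniteType f]
  {V : S.Opens} {W : X.Opens} (e : W ≤ f ⁻¹ᵁ V) (hV : IsAffineOpen V) (hW : IsAffineOpen W)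
  (F : X.Modules) [F.IsQuasicoherent]

include hV in
theorem primeIdealOf_genericPoint (hηV : genericPoint S ∈ V) :
    haveI : Nonempty V := ⟨⟨genericPoint S, hηV⟩⟩
    (hV.primeIdealOf ⟨genericPoint S, hηV⟩).asIdeal = ⊥ := by
  haveI : Nonempty V := ⟨⟨genericPoint S, hηV⟩⟩
  obtain ⟨y, hyV, hy⟩ := Groth.Agent.Lib.Helper55.exists_primeIdealOf_eq hV
    ⟨⊥, Ideal.isPrime_bot⟩
  have h1 : genericPoint S ⤳ y := genericPoint_specializes _
  have h2 := (Groth.Agent.Lib.Helper55.primeIdealOf_le_iff_specializes hV (genericPoint S) y hηV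
    hyV).mpr h1
  rw [hy] at h2
  exact le_bot_iff.mp h2

include e hV hW in
/-- Chart form of the generic absence of embedded points. -/
theorem chart_generic_noEmb (hF : Coh.IsCoh F) (hηV : genericPoint S ∈ V)
    (hgen : RelNoEmb f F (genericPoint S)) :
    ∃ a : Γ(S, V), (genericPoint S) ∈ S.basicOpen a ∧ ∀ x y : W, (x : X) ∈ MoreMor.relAss f F →
      (y : X) ∈ MoreMor.relAss f F → f (x : X) = f (y : X) → f (x : X) ∈ S.basicOpen a →
      (y : X) ⤳ (x : X) → x = y := by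
  classical
  haveI : Nonempty V := ⟨⟨genericPoint S, hηV⟩⟩
  letI : Algebra Γ(S, V) Γ(X, W) := (f.appLE V W e).hom.toAlgebra
  letI : Module Γ(S, V) Γ(F, W) := Module.compHom _ (f.appLE V W e).hom
  haveI : IsScalarTower Γ(S, V) Γ(X, W) Γ(F, W) := IsScalarTower.of_compHom _ _ _
  have hft : (f.appLE V W e).hom.FiniteType :=
    HasRingHomProperty.appLE (P := @LocallyOfFiniteType) f inferInstance ⟨V, hV⟩ ⟨_, hW⟩ e
  haveI : Algebra.FiniteType Γ(S, V) Γ(X, W) := hft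
  haveI : IsNoetherianRing Γ(S, V) := IsLocallyNoetherian.component_noetherian ⟨V, hV⟩
  haveI : Module.Finite Γ(X, W) Γ(F, W) := finite_sections_of_isCoh hW F hF
  have hcomap : ∀ z : W, (hW.primeIdealOf z).asIdeal.comap (algebraMap Γ(S, V) Γ(X, W)) =
      (hV.primeIdealOf ⟨f (z : X), e z.2⟩).asIdeal := fun z =>
    (Groth.Agent.Lib.Helper55.primeIdealOf_comap f e (z : X) z.2 hW hV).symm
  have hη0 := primeIdealOf_genericPoint hV hηV
  -- the generic hypothesis in the chart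
  have hgen' : ∀ q₀ q₁ : Ideal Γ(X, W), q₀.IsPrime → q₁.IsPrime →
      q₀.comap (algebraMap Γ(S, V) Γ(X, W)) = ⊥ → q₁.comap (algebraMap Γ(S, V) Γ(X, W)) = ⊥ →
      IsFibAss (algebraMap Γ(S, V) Γ(X, W)) q₀ Γ(F, W) →
      IsFibAss (algebraMap Γ(S, V) Γ(X, W)) q₁ Γ(F, W) → q₁ ≤ q₀ → q₁ = q₀ := by
    intro q₀ q₁ hq₀ hq₁ hc₀ hc₁ hass₀ hass₁ hle
    obtain ⟨x₀, hx₀W, hx₀⟩ := Groth.Agent.Lib.Helper55.exists_primeIdealOf_eq hW ⟨q₀, hq₀⟩
    obtain ⟨x₁, hx₁W, hx₁⟩ := Groth.Agent.Lib.Helper55.exists_primeIdealOf_eq hW ⟨q₁, hq₁⟩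
    have hzq₀ : (hW.primeIdealOf ⟨x₀, hx₀W⟩).asIdeal = q₀ := by rw [hx₀]
    have hzq₁ : (hW.primeIdealOf ⟨x₁, hx₁W⟩).asIdeal = q₁ := by rw [hx₁]
    have hr₀ : x₀ ∈ MoreMor.relAss f F :=
      mem_relAss_of_isFibAss f e hV hW F ⟨x₀, hx₀W⟩ (by rw [hzq₀]; exact hass₀)
    have hr₁ : x₁ ∈ MoreMor.relAss f F :=
      mem_relAss_of_isFibAss f e hV hW F ⟨x₁, hx₁W⟩ (by rw [hzq₁]; exact hass₁)
    have hf₀ : f x₀ = genericPoint S := by
      apply Groth.Agent.Lib.Helper55.primeIdealOf_injective hV (f x₀) (genericPoint S) (e hx₀W) hηV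
      apply PrimeSpectrum.ext
      rw [hη0, ← hcomap ⟨x₀, hx₀W⟩, hzq₀, hc₀]
    have hf₁ : f x₁ = genericPoint S := by
      apply Groth.Agent.Lib.Helper55.primeIdealOf_injective hV (f x₁) (genericPoint S) (e hx₁W) hηV
      apply PrimeSpectrum.ext
      rw [hη0, ← hcomap ⟨x₁, hx₁W⟩, hzq₁, hc₁]
    have hsp : x₁ ⤳ x₀ := by
      rw [← Groth.Agent.Lib.Helper55.primeIdealOf_le_iff_specializes hW x₁ x₀ hx₁W hx₀W, hzq₀, hzq₁]
      exact hle
    have := hgen x₀ hr₀ x₁ hr₁ hf₀ hf₁ hsp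
    rw [← hzq₀, ← hzq₁]
    congr 3
    exact this.symm
  obtain ⟨a, ha, key⟩ := generic_noEmbedded (A := Γ(S, V)) (B := Γ(X, W)) (M := Γ(F, W)) hgen'
  refine ⟨a, ?_, fun x y hx hy hfxy hfx hsp => ?_⟩
  · rw [mem_basicOpen_iff_not_mem_primeIdealOf hV ⟨genericPoint S, hηV⟩ a, hη0]
    exact fun h => ha ((Submodule.mem_bot _).mp h)
  · have hap : a ∉ (hV.primeIdealOf ⟨f (x : X), e x.2⟩).asIdeal :=
      (mem_basicOpen_iff_not_mem_primeIdealOf hV ⟨f (x : X), e x.2⟩ a).mp hfx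
    have hassx : IsFibAss (algebraMap Γ(S, V) Γ(X, W)) (hW.primeIdealOf x).asIdeal Γ(F, W) :=
      isFibAss_of_mem_relAss f e hV hW F hft x hx
    have hassy : IsFibAss (algebraMap Γ(S, V) Γ(X, W)) (hW.primeIdealOf y).asIdeal Γ(F, W) :=
      isFibAss_of_mem_relAss f e hV hW F hft y hy
    have hle : (hW.primeIdealOf y).asIdeal ≤ (hW.primeIdealOf x).asIdeal :=
      (Groth.Agent.Lib.Helper55.primeIdealOf_le_iff_specializes hW (y : X) (x : X) y.2 x.2).mpr hsp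
    have hcy : (hW.primeIdealOf y).asIdeal.comap (algebraMap Γ(S, V) Γ(X, W)) =
        (hV.primeIdealOf ⟨f (x : X), e x.2⟩).asIdeal := by
      rw [hcomap y]
      congr 3
      exact hfxy.symm
    have := key _ (hV.primeIdealOf ⟨f (x : X), e x.2⟩).2 hap (hW.primeIdealOf x).asIdeal
      (hW.primeIdealOf y).asIdeal (hW.primeIdealOf x).2 (hW.primeIdealOf y).2 (hcomap x) hcy
      hassx hassy hle
    apply Subtype.ext
    exact (Groth.Agent.Lib.Helper55.primeIdealOf_injective hW (y : X) (x : X) y.2 x.2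
      (PrimeSpectrum.ext this)).symm

end Chart

section Global

variable {X S : Scheme.{u}} [IsIntegral S] [IsNoetherian S] (f : X ⟶ S) [LocallyOfFiniteType f]
  [QuasiCompact f] (F : X.Modules) [F.IsQuasicoherent]

/-- **EGA IV 9.8.4, in terms of the relative assassin.** -/
theorem generic_relNoEmb (hF : Coh.IsCoh F) (hgen : RelNoEmb f F (genericPoint S)) :
    ∃ U : S.Opens, genericPoint S ∈ U ∧ ∀ s ∈ U, RelNoEmb f F s := by
  classical
  set η := genericPoint S with hη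
  obtain ⟨_, ⟨V₀, hV₀, rfl⟩, hηV₀, -⟩ :=
    S.isBasis_affineOpens.exists_subset_of_mem_open (Set.mem_univ η) isOpen_univ
  have hV₀' : IsAffineOpen V₀ := hV₀
  have hcomp : IsCompact (f ⁻¹ᵁ V₀ : Set X) := f.isCompact_preimage hV₀'.isCompact
  have hcov : ∀ x : X, x ∈ f ⁻¹ᵁ V₀ → ∃ W : X.Opens, IsAffineOpen W ∧ x ∈ W ∧ W ≤ f ⁻¹ᵁ V₀ := by
    intro x hx
    obtain ⟨_, ⟨W, hW, rfl⟩, hxW, hWle⟩ :=
      X.isBasis_affineOpens.exists_subset_of_mem_open hx (f ⁻¹ᵁ V₀).2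
    exact ⟨W, hW, hxW, hWle⟩
  choose! Wc hWaff hxW hWle using hcov
  obtain ⟨t, htcov⟩ := hcomp.elim_nhds_subcover' (fun x hx => (Wc x : Set X))
    (fun x hx => (Wc x).2.mem_nhds (hxW x hx))
  have hchart : ∀ x : (f ⁻¹ᵁ V₀ : Set X), ∃ a : Γ(S, V₀), η ∈ S.basicOpen a ∧
      ∀ z y : (Wc x.1 : X.Opens), (z : X) ∈ MoreMor.relAss f F →
      (y : X) ∈ MoreMor.relAss f F → f (z : X) = f (y : X) → f (z : X) ∈ S.basicOpen a →
      (y : X) ⤳ (z : X) → z = y := fun x =>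
    chart_generic_noEmb f (hWle x.1 x.2) hV₀' (hWaff x.1 x.2) F hF hηV₀ hgen
  choose ac hac hkey using hchart
  set a : Γ(S, V₀) := ∏ x ∈ t, ac x with ha
  have hmem : ∀ (s : S) (hs : s ∈ V₀), s ∈ S.basicOpen a ↔ ∀ x ∈ t, s ∈ S.basicOpen (ac x) := by
    intro s hs
    rw [mem_basicOpen_iff_not_mem_primeIdealOf hV₀' ⟨s, hs⟩ a, ha,
      (hV₀'.primeIdealOf ⟨s, hs⟩).2.prod_mem_iff]
    push_neg
    refine forall₂_congr fun x _ => ?_
    rw [mem_basicOpen_iff_not_mem_primeIdealOf hV₀' ⟨s, hs⟩ (ac x)]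
  refine ⟨S.basicOpen a, (hmem η hηV₀).mpr fun x _ => hac x, fun s hs z hz y hy hfz hfy hsp => ?_⟩
  have hsV₀ : s ∈ V₀ := S.basicOpen_le a hs
  have hzV₀ : z ∈ (f ⁻¹ᵁ V₀ : Set X) := by
    show f z ∈ V₀
    rw [hfz]; exact hsV₀
  obtain ⟨x, hxt, hzx⟩ := Set.mem_iUnion₂.mp (htcov hzV₀)
  have hzW : z ∈ Wc x.1 := hzx
  have hyW : y ∈ Wc x.1 := hsp.mem_open (Wc x.1).2 hzW
  have h1 : f z ∈ S.basicOpen (ac x) := by
    rw [hfz]
    exact (hmem s hsV₀).mp hs x hxt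
  have := hkey x ⟨z, hzW⟩ ⟨y, hyW⟩ hz hy (by rw [hfz, hfy]) h1 hsp
  exact congrArg Subtype.val this

end Global

end Groth.Agent.H76.AssGen
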