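/-
helper76: the generic package (EGA IV 9.8.3) for the relative assassin, scheme form.
-/
import Mathlib
import Groth.Prelude
import Groth.Agent.H76.AssKeyG
import Groth.Agent.H76.AssGenSch

set_option autoImplicit false
universe u
open AlgebraicGeometry CategoryTheory TopologicalSpace

namespace Groth.Agent.H76.AssGen

open Groth.Agent.H76.RelAss Groth.Agent.Lib.Helper45

/-- `z` is a maximal point of the trace of the closure of `x` on the fibre of `f` through `z`. -/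
def MinPt {X S : Scheme.{u}} (f : X ⟶ S) (x z : X) : Prop :=
  x ⤳ z ∧ ∀ z' : X, x ⤳ z' → z' ⤳ z → f z' = f z → z' = z

/-- The three generic properties at the point `z`. -/
def RelPkg {X S : Scheme.{u}} [IrreducibleSpace S] (f : X ⟶ S) (F : X.Modules) (z : X) : Prop :=
  (z ∈ MoreMor.relAss f F → ∃ x ∈ MoreMor.relAss f F, f x = genericPoint S ∧ MinPt f x z) ∧
  (∀ x ∈ MoreMor.relAss f F, f x = genericPoint S → MinPt f x z → z ∈ MoreMor.relAss f F) ∧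
  (∀ x ∈ MoreMor.relAss f F, ∀ x' ∈ MoreMor.relAss f F, f x = genericPoint S →
    f x' = genericPoint S → ¬ x' ⤳ x → MinPt f x z → ¬ x' ⤳ z)

section ChartTop

variable {X S : Scheme.{u}} (f : X ⟶ S)
  {V : S.Opens} {W : X.Opens} (e : W ≤ f ⁻¹ᵁ V) (hV : IsAffineOpen V) (hW : IsAffineOpen W)

include e hV hW in
theorem minOver_of_minPt (x z : W) (h : MinPt f (x : X) (z : X)) :
    letI : Algebra Γ(S, V) Γ(X, W) := (f.appLE V W e).hom.toAlgebra
    MinOver (hW.primeIdealOf x).asIdeal (hV.primeIdealOf ⟨f (z : X), e z.2⟩).asIdeal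
      (hW.primeIdealOf z).asIdeal := by
  letI : Algebra Γ(S, V) Γ(X, W) := (f.appLE V W e).hom.toAlgebra
  intro q' hq' h1 h2 h3
  obtain ⟨z', hz'W, hz'⟩ := Groth.Agent.Lib.Helper55.exists_primeIdealOf_eq hW ⟨q', hq'⟩
  have hzq : (hW.primeIdealOf ⟨z', hz'W⟩).asIdeal = q' := by rw [hz']
  have hs1 : (x : X) ⤳ z' := by
    rw [← Groth.Agent.Lib.Helper55.primeIdealOf_le_iff_specializes hW (x : X) z' x.2 hz'W, hzq]
    exact h1
  have hs2 : z' ⤳ (z : X) := by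
    rw [← Groth.Agent.Lib.Helper55.primeIdealOf_le_iff_specializes hW z' (z : X) hz'W z.2, hzq]
    exact h2
  have hf : f z' = f (z : X) := by
    apply Groth.Agent.Lib.Helper55.primeIdealOf_injective hV (f z') (f (z : X)) (e hz'W) (e z.2)
    apply PrimeSpectrum.ext
    rw [Groth.Agent.Lib.Helper55.primeIdealOf_comap f e z' hz'W hW hV, hzq]
    exact h3
  have := h.2 z' hs1 hs2 hf
  subst this
  rw [← hzq]

include e hV hW in
theorem minPt_of_minOver (x z : W)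
    (hle : (hW.primeIdealOf x).asIdeal ≤ (hW.primeIdealOf z).asIdeal)
    (h : letI : Algebra Γ(S, V) Γ(X, W) := (f.appLE V W e).hom.toAlgebra
      MinOver (hW.primeIdealOf x).asIdeal (hV.primeIdealOf ⟨f (z : X), e z.2⟩).asIdeal
      (hW.primeIdealOf z).asIdeal) : MinPt f (x : X) (z : X) := by
  letI : Algebra Γ(S, V) Γ(X, W) := (f.appLE V W e).hom.toAlgebra
  refine ⟨(Groth.Agent.Lib.Helper55.primeIdealOf_le_iff_specializes hW (x : X) (z : X) x.2
    z.2).mp hle, fun z' hs1 hs2 hf => ?_⟩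
  have hz'W : z' ∈ W := hs2.mem_open W.2 z.2
  have h1 := (Groth.Agent.Lib.Helper55.primeIdealOf_le_iff_specializes hW (x : X) z' x.2
    hz'W).mpr hs1
  have h2 := (Groth.Agent.Lib.Helper55.primeIdealOf_le_iff_specializes hW z' (z : X) hz'W
    z.2).mpr hs2
  have h3 : (hW.primeIdealOf ⟨z', hz'W⟩).asIdeal.comap (algebraMap Γ(S, V) Γ(X, W)) =
      (hV.primeIdealOf ⟨f (z : X), e z.2⟩).asIdeal := by
    have := (Groth.Agent.Lib.Helper55.primeIdealOf_comap f e z' hz'W hW hV).symm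
    refine this.trans ?_
    congr 3
  have := h _ (hW.primeIdealOf ⟨z', hz'W⟩).2 h1 h2 h3
  exact Groth.Agent.Lib.Helper55.primeIdealOf_injective hW z' (z : X) hz'W z.2
    (PrimeSpectrum.ext this)

include e hV hW in
/-- Existence of maximal points of the fibre of a closure below a given point. -/
theorem chart_exists_minPt (x z : W) (hxz : (x : X) ⤳ (z : X)) :
    ∃ z₁ : X, MinPt f (x : X) z₁ ∧ z₁ ⤳ (z : X) ∧ f z₁ = f (z : X) := by
  letI : Algebra Γ(S, V) Γ(X, W) := (f.appLE V W e).hom.toAlgebra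
  set q₀ := (hW.primeIdealOf x).asIdeal with hq₀
  set q := (hW.primeIdealOf z).asIdeal with hq
  set p := (hV.primeIdealOf ⟨f (z : X), e z.2⟩).asIdeal with hp
  have hqp : q.comap (algebraMap Γ(S, V) Γ(X, W)) = p :=
    (Groth.Agent.Lib.Helper55.primeIdealOf_comap f e (z : X) z.2 hW hV).symm
  have hle : q₀ ≤ q :=
    (Groth.Agent.Lib.Helper55.primeIdealOf_le_iff_specializes hW (x : X) (z : X) x.2 z.2).mpr hxz
  have hI : q₀ ⊔ p.map (algebraMap Γ(S, V) Γ(X, W)) ≤ q := by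
    refine sup_le hle ?_
    rw [Ideal.map_le_iff_le_comap, hqp]
  haveI : q.IsPrime := (hW.primeIdealOf z).2
  obtain ⟨q', hq'min, hq'q⟩ := Ideal.exists_minimalPrimes_le hI
  have hq'prime : q'.IsPrime := hq'min.1.1
  have hq'c : q'.comap (algebraMap Γ(S, V) Γ(X, W)) = p := by
    apply le_antisymm
    · rw [← hqp]; exact Ideal.comap_mono hq'q
    · rw [← Ideal.map_le_iff_le_comap]; exact le_trans le_sup_right hq'min.1.2
  have hq₀q' : q₀ ≤ q' := le_trans le_sup_left hq'min.1.2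
  obtain ⟨z₁, hz₁W, hz₁⟩ := Groth.Agent.Lib.Helper55.exists_primeIdealOf_eq hW ⟨q', hq'prime⟩
  have hzq : (hW.primeIdealOf ⟨z₁, hz₁W⟩).asIdeal = q' := by rw [hz₁]
  have hf : f z₁ = f (z : X) := by
    apply Groth.Agent.Lib.Helper55.primeIdealOf_injective hV (f z₁) (f (z : X)) (e hz₁W) (e z.2)
    apply PrimeSpectrum.ext
    rw [Groth.Agent.Lib.Helper55.primeIdealOf_comap f e z₁ hz₁W hW hV, hzq]
    exact hq'c
  refine ⟨z₁, ?_, ?_, hf⟩
  · apply minPt_of_minOver f e hV hW x ⟨z₁, hz₁W⟩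
    · rw [hzq]; exact hq₀q'
    · intro q'' hq'' h1 h2 h3
      rw [hzq] at h2 ⊢
      have h3' : q''.comap (algebraMap Γ(S, V) Γ(X, W)) = p := by
        rw [h3, hp]
        congr 3
      have hle'' : q₀ ⊔ p.map (algebraMap Γ(S, V) Γ(X, W)) ≤ q'' := by
        refine sup_le h1 ?_
        rw [Ideal.map_le_iff_le_comap, h3']
      exact le_antisymm h2 (hq'min.2 ⟨hq'', hle''⟩ h2)
  · rw [← Groth.Agent.Lib.Helper55.primeIdealOf_le_iff_specializes hW z₁ (z : X) hz₁W z.2, hzq]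
    exact hq'q

end ChartTop

/-- Existence of maximal points of the fibre of a closure below a given point. -/
theorem exists_minPt {X S : Scheme.{u}} (f : X ⟶ S) (x z : X) (hxz : x ⤳ z) :
    ∃ z₁ : X, MinPt f x z₁ ∧ z₁ ⤳ z ∧ f z₁ = f z := by
  obtain ⟨_, ⟨V, hV, rfl⟩, hzV, -⟩ :=
    S.isBasis_affineOpens.exists_subset_of_mem_open (Set.mem_univ (f z)) isOpen_univ
  have hz : z ∈ f ⁻¹ᵁ V := hzV
  obtain ⟨_, ⟨W, hW, rfl⟩, hzW, hWle⟩ :=
    X.isBasis_affineOpens.exists_subset_of_mem_open hz (f ⁻¹ᵁ V).2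
  have hxW : x ∈ W := hxz.mem_open W.2 hzW
  exact chart_exists_minPt f hWle hV hW ⟨x, hxW⟩ ⟨z, hzW⟩ hxz

section Chart

variable {X S : Scheme.{u}} [IsIntegral S] [IsLocallyNoetherian S] (f : X ⟶ S)
  [LocallyOfFiniteType f]
  {V : S.Opens} {W : X.Opens} (e : W ≤ f ⁻¹ᵁ V) (hV : IsAffineOpen V) (hW : IsAffineOpen W)
  (F : X.Modules) [F.IsQuasicoherent]

include e hV hW in
/-- Chart form of the generic package. -/
theorem chart_generic_pkg (hF : Coh.IsCoh F) (hηV : genericPoint S ∈ V) :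
    ∃ a : Γ(S, V), (genericPoint S) ∈ S.basicOpen a ∧ ∀ z : W, f (z : X) ∈ S.basicOpen a →
      RelPkg f F (z : X) := by
  classical
  haveI : Nonempty V := ⟨⟨genericPoint S, hηV⟩⟩
  letI : Algebra Γ(S, V) Γ(X, W) := (f.appLE V W e).hom.toAlgebra
  letI : Module Γ(S, V) Γ(F, W) := Module.compHom _ (f.appLE V W e).hom
  haveI : IsScalarTower Γ(S, V) Γ(X, W) Γ(F, W) := IsScalarTower.of_compHom _ _ _
  have hft : (f.appLE V W e).hom.FiniteType :=
    HasRingHomProperty.appLE (P := @LocallyOfFiniteType) f inferInstance ⟨V, hV⟩ ⟨_, hW⟩ e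
  haveI : Algebra.FiniteType Γ(S, V) Γ(X, W) := hft
  haveI : IsNoetherianRing Γ(S, V) := IsLocallyNoetherian.component_noetherian ⟨V, hV⟩
  haveI : Module.Finite Γ(X, W) Γ(F, W) := finite_sections_of_isCoh hW F hF
  have hcomap : ∀ z : W, (hW.primeIdealOf z).asIdeal.comap (algebraMap Γ(S, V) Γ(X, W)) =
      (hV.primeIdealOf ⟨f (z : X), e z.2⟩).asIdeal := fun z =>
    (Groth.Agent.Lib.Helper55.primeIdealOf_comap f e (z : X) z.2 hW hV).symm
  have hη0 := primeIdealOf_genericPoint hV hηV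
  -- points over the generic point
  have hgenc : ∀ x : W, f (x : X) = genericPoint S →
      (hW.primeIdealOf x).asIdeal.comap (algebraMap Γ(S, V) Γ(X, W)) = ⊥ := by
    intro x hx
    rw [hcomap x, ← hη0]
    congr 3
  have hgenf : ∀ x : W, (hW.primeIdealOf x).asIdeal.comap (algebraMap Γ(S, V) Γ(X, W)) = ⊥ →
      f (x : X) = genericPoint S := by
    intro x hx
    apply Groth.Agent.Lib.Helper55.primeIdealOf_injective hV (f (x : X)) (genericPoint S)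
      (e x.2) hηV
    apply PrimeSpectrum.ext
    rw [hη0, ← hcomap x, hx]
  obtain ⟨a, ha, key⟩ := generic_package (A := Γ(S, V)) (B := Γ(X, W)) (M := Γ(F, W))
  refine ⟨a, ?_, fun z hfz => ?_⟩
  · rw [mem_basicOpen_iff_not_mem_primeIdealOf hV ⟨genericPoint S, hηV⟩ a, hη0]
    exact fun h => ha ((Submodule.mem_bot _).mp h)
  have hap : a ∉ (hV.primeIdealOf ⟨f (z : X), e z.2⟩).asIdeal :=
    (mem_basicOpen_iff_not_mem_primeIdealOf hV ⟨f (z : X), e z.2⟩ a).mp hfz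
  obtain ⟨k1, k2, k3⟩ := key _ (hV.primeIdealOf ⟨f (z : X), e z.2⟩).2 hap
  refine ⟨fun hz => ?_, fun x hx hfx hmin => ?_, fun x hx x' hx' hfx hfx' hn hmin hsp => ?_⟩
  · have hassz : IsFibAss (algebraMap Γ(S, V) Γ(X, W)) (hW.primeIdealOf z).asIdeal Γ(F, W) :=
      isFibAss_of_mem_relAss f e hV hW F hft z hz
    obtain ⟨q₀, hq₀, hq₀c, hq₀ass, hq₀q, hmin⟩ := k1 _ (hW.primeIdealOf z).2 (hcomap z) hassz
    obtain ⟨x₀, hx₀W, hx₀⟩ := Groth.Agent.Lib.Helper55.exists_primeIdealOf_eq hW ⟨q₀, hq₀⟩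
    have hzq₀ : (hW.primeIdealOf ⟨x₀, hx₀W⟩).asIdeal = q₀ := by rw [hx₀]
    refine ⟨x₀, ?_, ?_, ?_⟩
    · exact mem_relAss_of_isFibAss f e hV hW F ⟨x₀, hx₀W⟩ (by rw [hzq₀]; exact hq₀ass)
    · exact hgenf ⟨x₀, hx₀W⟩ (by rw [hzq₀]; exact hq₀c)
    · apply minPt_of_minOver f e hV hW ⟨x₀, hx₀W⟩ z
      · rw [hzq₀]; exact hq₀q
      · rw [hzq₀]; exact hmin
  · have hxW : x ∈ W := hmin.1.mem_open W.2 z.2
    have hassx : IsFibAss (algebraMap Γ(S, V) Γ(X, W)) (hW.primeIdealOf ⟨x, hxW⟩).asIdeal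
        Γ(F, W) := isFibAss_of_mem_relAss f e hV hW F hft ⟨x, hxW⟩ hx
    have hle := (Groth.Agent.Lib.Helper55.primeIdealOf_le_iff_specializes hW x (z : X) hxW
      z.2).mpr hmin.1
    have := k2 _ (hW.primeIdealOf ⟨x, hxW⟩).2 (hgenc ⟨x, hxW⟩ hfx) hassx _ (hW.primeIdealOf z).2
      (hcomap z) hle (minOver_of_minPt f e hV hW ⟨x, hxW⟩ z hmin)
    exact mem_relAss_of_isFibAss f e hV hW F z this
  · have hxW : x ∈ W := hmin.1.mem_open W.2 z.2
    have hx'W : x' ∈ W := hsp.mem_open W.2 z.2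
    have hassx : IsFibAss (algebraMap Γ(S, V) Γ(X, W)) (hW.primeIdealOf ⟨x, hxW⟩).asIdeal
        Γ(F, W) := isFibAss_of_mem_relAss f e hV hW F hft ⟨x, hxW⟩ hx
    have hassx' : IsFibAss (algebraMap Γ(S, V) Γ(X, W)) (hW.primeIdealOf ⟨x', hx'W⟩).asIdeal
        Γ(F, W) := isFibAss_of_mem_relAss f e hV hW F hft ⟨x', hx'W⟩ hx'
    have hle := (Groth.Agent.Lib.Helper55.primeIdealOf_le_iff_specializes hW x (z : X) hxW
      z.2).mpr hmin.1
    have hn' : ¬ (hW.primeIdealOf ⟨x', hx'W⟩).asIdeal ≤ (hW.primeIdealOf ⟨x, hxW⟩).asIdeal :=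
      fun h => hn ((Groth.Agent.Lib.Helper55.primeIdealOf_le_iff_specializes hW x' x hx'W
        hxW).mp h)
    have := k3 _ _ (hW.primeIdealOf ⟨x, hxW⟩).2 (hW.primeIdealOf ⟨x', hx'W⟩).2
      (hgenc ⟨x, hxW⟩ hfx) (hgenc ⟨x', hx'W⟩ hfx') hassx hassx' hn' _ (hW.primeIdealOf z).2
      (hcomap z) hle (minOver_of_minPt f e hV hW ⟨x, hxW⟩ z hmin)
    exact this ((Groth.Agent.Lib.Helper55.primeIdealOf_le_iff_specializes hW x' (z : X) hx'W
      z.2).mpr hsp)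

end Chart

section Global

variable {X S : Scheme.{u}} [IsIntegral S] [IsNoetherian S] (f : X ⟶ S) [LocallyOfFiniteType f]
  [QuasiCompact f] (F : X.Modules) [F.IsQuasicoherent]

/-- **EGA IV 9.8.3, in terms of the relative assassin.** -/
theorem generic_relPkg (hF : Coh.IsCoh F) :
    ∃ U : S.Opens, genericPoint S ∈ U ∧ ∀ z : X, f z ∈ U → RelPkg f F z := by
  classical
  set η := genericPoint S with hη
  obtain ⟨_, ⟨V₀, hV₀, rfl⟩, hηV₀, -⟩ :=
    S.isBasis_affineOpens.exists_subset_of_mem_open (Set.mem_univ η) isOpen_univ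
  have hV₀' : IsAffineOpen V₀ := hV₀
  have hcomp : IsCompact (f ⁻¹ᵁ V₀ : Set X) := f.isCompact_preimage hV₀'.isCompact
  have hcov : ∀ x : X, x ∈ f ⁻¹ᵁ V₀ → ∃ W : X.Opens, IsAffineOpen W ∧ x ∈ W ∧ W ≤ f ⁻¹ᵁ V₀ := by
    intro x hx
    obtain ⟨_, ⟨W, hW, rfl⟩, hxW, hWle⟩ :=
      X.isBasis_affineOpens.exists_subset_of_mem_open hx (f ⁻¹ᵁ V₀).2
    exact ⟨W, hW, hxW, hWle⟩
  choose! Wc hWaff hxW hWle using hcov
  obtain ⟨t, htcov⟩ := hcomp.elim_nhds_subcover' (fun x hx => (Wc x : Set X))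
    (fun x hx => (Wc x).2.mem_nhds (hxW x hx))
  have hchart : ∀ x : (f ⁻¹ᵁ V₀ : Set X), ∃ a : Γ(S, V₀), η ∈ S.basicOpen a ∧
      ∀ z : (Wc x.1 : X.Opens), f (z : X) ∈ S.basicOpen a → RelPkg f F (z : X) := fun x =>
    chart_generic_pkg f (hWle x.1 x.2) hV₀' (hWaff x.1 x.2) F hF hηV₀
  choose ac hac hkey using hchart
  set a : Γ(S, V₀) := ∏ x ∈ t, ac x with ha
  have hmem : ∀ (s : S) (hs : s ∈ V₀), s ∈ S.basicOpen a ↔ ∀ x ∈ t, s ∈ S.basicOpen (ac x) := by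
    intro s hs
    rw [mem_basicOpen_iff_not_mem_primeIdealOf hV₀' ⟨s, hs⟩ a, ha,
      (hV₀'.primeIdealOf ⟨s, hs⟩).2.prod_mem_iff]
    push_neg
    refine forall₂_congr fun x _ => ?_
    rw [mem_basicOpen_iff_not_mem_primeIdealOf hV₀' ⟨s, hs⟩ (ac x)]
  refine ⟨S.basicOpen a, (hmem η hηV₀).mpr fun x _ => hac x, fun z hs => ?_⟩
  have hsV₀ : f z ∈ V₀ := S.basicOpen_le a hs
  have hzV₀ : z ∈ (f ⁻¹ᵁ V₀ : Set X) := hsV₀
  obtain ⟨x, hxt, hzx⟩ := Set.mem_iUnion₂.mp (htcov hzV₀)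
  have hzW : z ∈ Wc x.1 := hzx
  exact hkey x ⟨z, hzW⟩ ((hmem (f z) hsV₀).mp hs x hxt)

end Global

end Groth.Agent.H76.AssGen
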