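/-
helper76: generic constancy of the dimensions of the associated prime cycles of the fibres
(scheme form, in terms of transcendence degrees of residue fields).
-/
import Mathlib
import Groth.Prelude
import Groth.Agent.H76.AssDimB
import Groth.Agent.H76.AssGenPkg

set_option autoImplicit false
universe u
open AlgebraicGeometry CategoryTheory TopologicalSpace

namespace Groth.Agent.H76.AssGen

open Groth.Agent.H76.RelAss Groth.Agent.Lib.Helper45 Groth.Agent.Lib.Helper55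

/-- The transcendence degree of `κ(x)` over `κ(f x)`. -/
noncomputable def relTrdeg {X S : Scheme.{u}} (f : X ⟶ S) (x : X) : Cardinal.{u} :=
  @Algebra.trdeg (S.residueField (f x)) (X.residueField x) _ _ (f.residueFieldMap x).hom.toAlgebra

section Chart

variable {X S : Scheme.{u}} [IsIntegral S] [IsLocallyNoetherian S] (f : X ⟶ S)
  [LocallyOfFiniteType f]
  {V : S.Opens} {W : X.Opens} (e : W ≤ f ⁻¹ᵁ V) (hV : IsAffineOpen V) (hW : IsAffineOpen W)
  (F : X.Modules) [F.IsQuasicoherent]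

include e hV hW in
theorem relTrdeg_eq_of_trdegEq (z : W) (d : ℕ)
    (h : letI : Algebra Γ(S, V) Γ(X, W) := (f.appLE V W e).hom.toAlgebra
      TrdegEq (hV.primeIdealOf ⟨f (z : X), e z.2⟩).asIdeal (hW.primeIdealOf z).asIdeal d) :
    relTrdeg f (z : X) = d := by
  letI : Algebra Γ(S, V) Γ(X, W) := (f.appLE V W e).hom.toAlgebra
  letI : Algebra (S.residueField (f (z : X))) (X.residueField (z : X)) :=
    (f.residueFieldMap (z : X)).hom.toAlgebra
  exact h (S.residueField (f (z : X))) (X.residueField (z : X))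
    (evalResidue S V (f (z : X)) (e z.2)) (evalResidue X W (z : X) z.2)
    (evalResidue_comp_appLE f e (z : X) z.2)
    (ker_evalResidue S V hV (f (z : X)) (e z.2)) (ker_evalResidue X W hW (z : X) z.2)
    (evalResidue_fraction S V hV (f (z : X)) (e z.2)) (evalResidue_fraction X W hW (z : X) z.2)

include e hV hW in
/-- Chart form of the generic dimension statement. -/
theorem chart_generic_dim (hF : Coh.IsCoh F) (hηV : genericPoint S ∈ V) :
    ∃ a : Γ(S, V), (genericPoint S) ∈ S.basicOpen a ∧ ∀ x : W,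
      (x : X) ∈ MoreMor.relAss f F → f (x : X) = genericPoint S →
      (∀ z : W, f (z : X) ∈ S.basicOpen a → MinPt f (x : X) (z : X) →
        relTrdeg f (z : X) = relTrdeg f (x : X)) ∧
      (∀ s ∈ S.basicOpen a, ∃ z : W, f (z : X) = s ∧ (x : X) ⤳ (z : X)) := by
  classical
  haveI : Nonempty V := ⟨⟨genericPoint S, hηV⟩⟩
  letI : Algebra Γ(S, V) Γ(X, W) := (f.appLE V W e).hom.toAlgebra
  letI : Module Γ(S, V) Γ(F, W) := Module.compHom _ (f.appLE V W e).hom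
  haveI : IsScalarTower Γ(S, V) Γ(X, W) Γ(F, W) := IsScalarTower.of_compHom _ _ _
  have hft : (f.appLE V W e).hom.FiniteType :=
    HasRingHomProperty.appLE (P := @LocallyOfFiniteType) f inferInstance ⟨V, hV⟩ ⟨_, hW⟩ e
  haveI : Algebra.FiniteType Γ(S, V) Γ(X, W) := hft
  haveI : IsNoetherianRing Γ(S, V) := IsLocallyNoetherian.component_noetherian ⟨V, hV⟩
  haveI : Module.Finite Γ(X, W) Γ(F, W) := finite_sections_of_isCoh hW F hF
  have hcomap : ∀ z : W, (hW.primeIdealOf z).asIdeal.comap (algebraMap Γ(S, V) Γ(X, W)) =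
      (hV.primeIdealOf ⟨f (z : X), e z.2⟩).asIdeal := fun z =>
    (primeIdealOf_comap f e (z : X) z.2 hW hV).symm
  have hη0 := primeIdealOf_genericPoint hV hηV
  have hgenc : ∀ x : W, f (x : X) = genericPoint S →
      (hV.primeIdealOf ⟨f (x : X), e x.2⟩).asIdeal = ⊥ := by
    intro x hx
    rw [← hη0]
    congr 3
  obtain ⟨a, ha, key⟩ := generic_dim_package (A := Γ(S, V)) (B := Γ(X, W)) (M := Γ(F, W))
  refine ⟨a, ?_, fun x hx hfx => ?_⟩
  · rw [mem_basicOpen_iff_not_mem_primeIdealOf hV ⟨genericPoint S, hηV⟩ a, hη0]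
    exact fun h => ha ((Submodule.mem_bot _).mp h)
  have hassx : IsFibAss (algebraMap Γ(S, V) Γ(X, W)) (hW.primeIdealOf x).asIdeal Γ(F, W) :=
    isFibAss_of_mem_relAss f e hV hW F hft x hx
  have hxc : (hW.primeIdealOf x).asIdeal.comap (algebraMap Γ(S, V) Γ(X, W)) = ⊥ := by
    rw [hcomap x, hgenc x hfx]
  obtain ⟨d, hd⟩ := key _ (hW.primeIdealOf x).2 hxc hassx
  -- the generic point itself
  have hxd : relTrdeg f (x : X) = d := by
    apply relTrdeg_eq_of_trdegEq f e hV hW x d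
    have hap : a ∉ (hV.primeIdealOf ⟨f (x : X), e x.2⟩).asIdeal := by
      rw [hgenc x hfx]
      exact fun h => ha ((Submodule.mem_bot _).mp h)
    refine (hd _ (hV.primeIdealOf ⟨f (x : X), e x.2⟩).2 hap).1 _ (hW.primeIdealOf x).2
      (hcomap x) le_rfl ?_
    intro q' _ h1 h2 _
    exact le_antisymm h2 h1
  refine ⟨fun z hfz hmin => ?_, fun s hs => ?_⟩
  · rw [hxd]
    apply relTrdeg_eq_of_trdegEq f e hV hW z d
    have hap : a ∉ (hV.primeIdealOf ⟨f (z : X), e z.2⟩).asIdeal :=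
      (mem_basicOpen_iff_not_mem_primeIdealOf hV ⟨f (z : X), e z.2⟩ a).mp hfz
    have hle := (primeIdealOf_le_iff_specializes hW (x : X) (z : X) x.2 z.2).mpr hmin.1
    exact (hd _ (hV.primeIdealOf ⟨f (z : X), e z.2⟩).2 hap).1 _ (hW.primeIdealOf z).2
      (hcomap z) hle (minOver_of_minPt f e hV hW x z hmin)
  · have hsV : s ∈ V := S.basicOpen_le a hs
    have hap : a ∉ (hV.primeIdealOf ⟨s, hsV⟩).asIdeal :=
      (mem_basicOpen_iff_not_mem_primeIdealOf hV ⟨s, hsV⟩ a).mp hs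
    obtain ⟨q, hq, hqp, hle⟩ := (hd _ (hV.primeIdealOf ⟨s, hsV⟩).2 hap).2
    obtain ⟨z, hzW, hz⟩ := Groth.Agent.Lib.Helper55.exists_primeIdealOf_eq hW ⟨q, hq⟩
    have hzq : (hW.primeIdealOf ⟨z, hzW⟩).asIdeal = q := by rw [hz]
    refine ⟨⟨z, hzW⟩, ?_, ?_⟩
    · apply primeIdealOf_injective hV (f z) s (e hzW) hsV
      apply PrimeSpectrum.ext
      rw [primeIdealOf_comap f e z hzW hW hV, hzq]
      exact hqp
    · rw [← primeIdealOf_le_iff_specializes hW (x : X) z x.2 hzW, hzq]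
      exact hle

end Chart

section Global

variable {X S : Scheme.{u}} [IsIntegral S] [IsNoetherian S] (f : X ⟶ S) [LocallyOfFiniteType f]
  [QuasiCompact f] (F : X.Modules) [F.IsQuasicoherent]

/-- **Generic constancy of the dimensions of the associated prime cycles of the fibres.** -/
theorem generic_dim (hF : Coh.IsCoh F) :
    ∃ U : S.Opens, genericPoint S ∈ U ∧ ∀ x ∈ MoreMor.relAss f F, f x = genericPoint S →
      (∀ z : X, f z ∈ U → MinPt f x z → relTrdeg f z = relTrdeg f x) ∧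
      (∀ s ∈ U, ∃ z : X, f z = s ∧ x ⤳ z) := by
  classical
  set η := genericPoint S with hη
  obtain ⟨_, ⟨V₀, hV₀, rfl⟩, hηV₀, -⟩ :=
    S.isBasis_affineOpens.exists_subset_of_mem_open (Set.mem_univ η) isOpen_univ
  have hV₀' : IsAffineOpen V₀ := hV₀
  have hcomp : IsCompact (f ⁻¹ᵁ V₀ : Set X) := f.isCompact_preimage hV₀'.isCompact
  have hcov : ∀ x : X, x ∈ f ⁻¹ᵁ V₀ → ∃ W : X.Opens, IsAffineOpen W ∧ x ∈ W ∧ W ≤ f ⁻¹ᵁ V₀ := by
    intro x hx
    obtain ⟨_, ⟨W, hW, rfl⟩, hxW, hWle⟩ :=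
      X.isBasis_affineOpens.exists_subset_of_mem_open hx (f ⁻¹ᵁ V₀).2
    exact ⟨W, hW, hxW, hWle⟩
  choose! Wc hWaff hxW hWle using hcov
  obtain ⟨t, htcov⟩ := hcomp.elim_nhds_subcover' (fun x hx => (Wc x : Set X))
    (fun x hx => (Wc x).2.mem_nhds (hxW x hx))
  have hchart := fun x : (f ⁻¹ᵁ V₀ : Set X) =>
    chart_generic_dim f (hWle x.1 x.2) hV₀' (hWaff x.1 x.2) F hF hηV₀
  choose ac hac hkey using hchart
  set a : Γ(S, V₀) := ∏ x ∈ t, ac x with ha
  have hmem : ∀ (s : S) (hs : s ∈ V₀), s ∈ S.basicOpen a ↔ ∀ x ∈ t, s ∈ S.basicOpen (ac x) := by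
    intro s hs
    rw [mem_basicOpen_iff_not_mem_primeIdealOf hV₀' ⟨s, hs⟩ a, ha,
      (hV₀'.primeIdealOf ⟨s, hs⟩).2.prod_mem_iff]
    push_neg
    refine forall₂_congr fun x _ => ?_
    rw [mem_basicOpen_iff_not_mem_primeIdealOf hV₀' ⟨s, hs⟩ (ac x)]
  refine ⟨S.basicOpen a, (hmem η hηV₀).mpr fun x _ => hac x, fun x hx hfx =>
    ⟨fun z hs hmin => ?_, fun s hs => ?_⟩⟩
  · have hsV₀ : f z ∈ V₀ := S.basicOpen_le a hs
    have hzV₀ : z ∈ (f ⁻¹ᵁ V₀ : Set X) := hsV₀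
    obtain ⟨x₂, hx₂t, hzx⟩ := Set.mem_iUnion₂.mp (htcov hzV₀)
    have hzW : z ∈ Wc x₂.1 := hzx
    have hxW' : x ∈ Wc x₂.1 := hmin.1.mem_open (Wc x₂.1).2 hzW
    exact (hkey x₂ ⟨x, hxW'⟩ hx hfx).1 ⟨z, hzW⟩ ((hmem (f z) hsV₀).mp hs x₂ hx₂t) hmin
  · have hsV₀ : s ∈ V₀ := S.basicOpen_le a hs
    have hxV₀ : x ∈ (f ⁻¹ᵁ V₀ : Set X) := by
      show f x ∈ V₀
      rw [hfx]; exact hηV₀
    obtain ⟨x₁, hx₁t, hxx⟩ := Set.mem_iUnion₂.mp (htcov hxV₀)
    have hxW' : x ∈ Wc x₁.1 := hxx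
    obtain ⟨z, hz1, hz2⟩ := (hkey x₁ ⟨x, hxW'⟩ hx hfx).2 s ((hmem s hsV₀).mp hs x₁ hx₁t)
    exact ⟨z, hz1, hz2⟩

end Global

end Groth.Agent.H76.AssGen
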