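/-
helper76: embedded associated points of the fibres and the relative assassin.
-/
import Mathlib
import Groth.Prelude
import Groth.Agent.H76.AssGenSch
import Groth.Agent.Lib.Helper97.RelAssBC2

set_option autoImplicit false
universe u
open AlgebraicGeometry CategoryTheory TopologicalSpace

namespace Groth.Agent.H76.AssGen

open Groth.Agent.Lib.Helper97.AssFibre

variable {X S : Scheme.{u}} (f : X ⟶ S) (F : X.Modules) [F.IsQuasicoherent]

/-- The restriction of `F` to the fibre over `s` has no embedded associated points if and only if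
the points of the relative assassin over `s` are pairwise incomparable. -/
theorem noEmbedded_fiber_iff (s : S) :
    AssSch.NoEmbedded ((Scheme.Modules.pullback (f.fiberι s)).obj F) ↔ RelNoEmb f F s := by
  have hemb := (f.fiberι s).isEmbedding
  constructor
  · intro h x hx y hy hfx hfy hsp
    obtain ⟨z, rfl⟩ := exists_fiberι_eq f s x hfx
    obtain ⟨w, rfl⟩ := exists_fiberι_eq f s y hfy
    have hz : z ∈ AssSch.Ass ((Scheme.Modules.pullback (f.fiberι s)).obj F) :=
      (isAssPoint_fiber_iff_mem_relAss f F s z).mpr hx
    have hw : w ∈ AssSch.Ass ((Scheme.Modules.pullback (f.fiberι s)).obj F) :=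
      (isAssPoint_fiber_iff_mem_relAss f F s w).mpr hy
    have hsp' : w ⤳ z := hemb.isInducing.specializes_iff.mp hsp
    rw [h z hz w hw hsp']
  · intro h z hz w hw hsp
    have hx : f.fiberι s z ∈ MoreMor.relAss f F :=
      (isAssPoint_fiber_iff_mem_relAss f F s z).mp hz
    have hy : f.fiberι s w ∈ MoreMor.relAss f F :=
      (isAssPoint_fiber_iff_mem_relAss f F s w).mp hw
    have hsp' : f.fiberι s w ⤳ f.fiberι s z := hemb.isInducing.specializes_iff.mpr hsp
    exact hemb.injective (h _ hx _ hy (apply_fiberι' f s z) (apply_fiberι' f s w) hsp')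

end Groth.Agent.H76.AssGen
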