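/-
helper76: maximal points of traces of closures on fibres, in terms of `MinPt`.
-/
import Mathlib
import Groth.Prelude
import Groth.Agent.H76.AssGenPkg
import Groth.Agent.H76.AssGenNoEmb

set_option autoImplicit false
universe u
open AlgebraicGeometry CategoryTheory TopologicalSpace

namespace Groth.Agent.H76.AssGen

open Groth.Agent.Lib.Helper97.AssFibre

variable {X S : Scheme.{u}} (f : X ⟶ S)

/-- The maximal points of the trace on the fibre over `s` of the closure of `x₀`. -/
theorem mem_maxPts_iff (s : S) (x₀ : X) (z : ↥(f.fiber s)) :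
    (z ∈ {z : ↥(f.fiber s) | z ∈ ((f.fiberι s).base ⁻¹' closure {x₀}) ∧
      ∀ z' ∈ ((f.fiberι s).base ⁻¹' closure {x₀}), z' ⤳ z → z' = z}) ↔
      MinPt f x₀ (f.fiberι s z) := by
  have hemb := (f.fiberι s).isEmbedding
  have hcl : ∀ w : ↥(f.fiber s), w ∈ ((f.fiberι s).base ⁻¹' closure {x₀}) ↔
      x₀ ⤳ f.fiberι s w := fun w => by
    rw [specializes_iff_mem_closure]; rfl
  rw [Set.mem_setOf_eq, hcl]
  constructor
  · rintro ⟨h1, h2⟩
    refine ⟨h1, fun z'' hs1 hs2 hf => ?_⟩
    have hf' : f z'' = s := by rw [hf, apply_fiberι' f s z]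
    obtain ⟨z', rfl⟩ := exists_fiberι_eq f s z'' hf'
    have := h2 z' ((hcl z').mpr hs1) (hemb.isInducing.specializes_iff.mp hs2)
    rw [this]
  · rintro ⟨h1, h2⟩
    refine ⟨h1, fun z' hz' hsp => ?_⟩
    have := h2 (f.fiberι s z') ((hcl z').mp hz') (hemb.isInducing.specializes_iff.mpr hsp)
      (by rw [apply_fiberι' f s z', apply_fiberι' f s z])
    exact hemb.injective this

end Groth.Agent.H76.AssGen
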