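/-
helper76: generic constancy of the set of dimensions of the associated prime cycles of the fibres.
-/
import Mathlib
import Groth.Prelude
import Groth.Agent.H76.AssDimSch
import Groth.Agent.H76.AssGenFib
import Groth.Agent.Lib.Helper55.FiberTrdeg

set_option autoImplicit false
universe u
open AlgebraicGeometry CategoryTheory TopologicalSpace

namespace Groth.Agent.H76.AssGen

open Groth.Agent.Lib.Helper97.AssFibre

section

variable {X S : Scheme.{u}} (f : X ⟶ S) [LocallyOfFiniteType f]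

theorem dim_closure_fiber_eq_of_relTrdeg_eq {s s' : S} (z : ↥(f.fiber s)) (z' : ↥(f.fiber s'))
    (h : relTrdeg f (f.fiberι s z) = relTrdeg f (f.fiberι s' z')) :
    topologicalKrullDim ↥(closure ({z} : Set ↥(f.fiber s))) =
      topologicalKrullDim ↥(closure ({z'} : Set ↥(f.fiber s'))) := by
  obtain ⟨n, hn1, hn2⟩ :=
    Groth.Agent.Lib.Helper55.exists_dim_closure_fiber_eq_trdeg f s z _ rfl
  obtain ⟨n', hn1', hn2'⟩ :=
    Groth.Agent.Lib.Helper55.exists_dim_closure_fiber_eq_trdeg f s' z' _ rfl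
  have h1 : relTrdeg f (f.fiberι s z) = n := hn2
  have h2 : relTrdeg f (f.fiberι s' z') = n' := hn2'
  rw [h1, h2] at h
  have : n = n' := by exact_mod_cast h
  rw [hn1, hn1', this]

end

section Global

variable {X S : Scheme.{u}} [IsIntegral S] [IsNoetherian S] (f : X ⟶ S) [LocallyOfFiniteType f]
  [QuasiCompact f] (F : X.Modules) [F.IsQuasicoherent]

/-- Near the generic point, the set of dimensions of the associated prime cycles of the fibres is
constant. -/
theorem generic_dimAss_eq (hF : Coh.IsCoh F) :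
    ∃ U : S.Opens, genericPoint S ∈ U ∧ ∀ s ∈ U,
      (fun z : ↥(f.fiber s) => topologicalKrullDim ↥(closure ({z} : Set ↥(f.fiber s)))) ''
          AssSch.Ass ((Scheme.Modules.pullback (f.fiberι s)).obj F) =
        (fun z : ↥(f.fiber (genericPoint S)) =>
          topologicalKrullDim ↥(closure ({z} : Set ↥(f.fiber (genericPoint S))))) ''
          AssSch.Ass ((Scheme.Modules.pullback (f.fiberι (genericPoint S))).obj F) := by
  classical
  obtain ⟨U₁, hU₁, kpk⟩ := generic_relPkg f F hF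
  obtain ⟨U₂, hU₂, kdim⟩ := generic_dim f F hF
  refine ⟨U₁ ⊓ U₂, ⟨hU₁, hU₂⟩, fun s hs => ?_⟩
  have hass : ∀ (t : S) (z : ↥(f.fiber t)),
      z ∈ AssSch.Ass ((Scheme.Modules.pullback (f.fiberι t)).obj F) ↔
        f.fiberι t z ∈ MoreMor.relAss f F := fun t z => isAssPoint_fiber_iff_mem_relAss f F t z
  ext w
  constructor
  · rintro ⟨z, hz, rfl⟩
    have hfz : f (f.fiberι s z) = s := apply_fiberι' f s z
    obtain ⟨x₀, hx₀, hfx₀, hmin⟩ :=
      (kpk (f.fiberι s z) (by rw [hfz]; exact hs.1)).1 ((hass s z).mp hz)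
    obtain ⟨x, rfl⟩ := exists_fiberι_eq f _ x₀ hfx₀
    refine ⟨x, (hass _ x).mpr hx₀, ?_⟩
    have := (kdim _ hx₀ hfx₀).1 (f.fiberι s z) (by rw [hfz]; exact hs.2) hmin
    exact (dim_closure_fiber_eq_of_relTrdeg_eq f z x this).symm
  · rintro ⟨x, hx, rfl⟩
    have hx₀ := (hass _ x).mp hx
    have hfx₀ : f (f.fiberι _ x) = genericPoint S := apply_fiberι' f _ x
    obtain ⟨z₀, hfz₀, hxz₀⟩ := (kdim _ hx₀ hfx₀).2 s hs.2
    obtain ⟨z₁, hmin, -, hfz₁⟩ := exists_minPt f _ z₀ hxz₀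
    have hfz₁s : f z₁ = s := by rw [hfz₁, hfz₀]
    have hz₁ : z₁ ∈ MoreMor.relAss f F :=
      (kpk z₁ (by rw [hfz₁s]; exact hs.1)).2.1 _ hx₀ hfx₀ hmin
    have hdim := (kdim _ hx₀ hfx₀).1 z₁ (by rw [hfz₁s]; exact hs.2) hmin
    obtain ⟨z, rfl⟩ := exists_fiberι_eq f s z₁ hfz₁s
    exact ⟨z, (hass s z).mpr hz₁, dim_closure_fiber_eq_of_relTrdeg_eq f z x hdim⟩

end Global

end Groth.Agent.H76.AssGen
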