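/-
helper76: the dimensions of the irreducible components of the support of a coherent module in
terms of its maximal associated points.
-/
import Mathlib
import Groth.Prelude
import Groth.Agent.Lib.Helper55.DimAttained
import Groth.Agent.Lib.Helper1.SupportClosed
import Groth.Agent.Lib.Helper45.NowhereDense

set_option autoImplicit false
universe u
open AlgebraicGeometry CategoryTheory TopologicalSpace

namespace Groth.Agent.H76.AssGen

section Top

variable {α : Type*} [TopologicalSpace α] [QuasiSober α] [T0Space α]

theorem closure_singleton_mem_irreducibleComponents {c : α} (hc : ∀ y : α, y ⤳ c → y = c) :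
    closure ({c} : Set α) ∈ irreducibleComponents α := by
  refine ⟨isIrreducible_singleton.closure, fun T hT hle => ?_⟩
  obtain ⟨y, hy⟩ := QuasiSober.sober hT.closure isClosed_closure
  have hcT : c ∈ closure T := subset_closure (hle (subset_closure rfl))
  have hyc : y ⤳ c := by
    rw [specializes_iff_mem_closure, hy.def]
    exact hcT
  rw [hc y hyc] at hy
  rw [hy.def]
  exact subset_closure

/-- The dimensions of the irreducible components are the dimensions of the closures of the maximal
points. -/
theorem dims_irreducibleComponents_eq :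
    (fun Z : Set α => topologicalKrullDim ↥Z) '' irreducibleComponents α =
      (fun c : α => topologicalKrullDim ↥(closure ({c} : Set α))) '' {c | ∀ y : α, y ⤳ c → y = c} := by
  ext w
  constructor
  · rintro ⟨Z, hZ, rfl⟩
    obtain ⟨c, hc⟩ := QuasiSober.sober hZ.1 (isClosed_of_mem_irreducibleComponents Z hZ)
    refine ⟨c, fun y hy => ?_, by show topologicalKrullDim ↥(closure ({c} : Set α)) = _; rw [hc.def]⟩
    have h1 : closure ({c} : Set α) ⊆ closure {y} := by
      rw [← specializes_iff_closure_subset]; exact hy
    have h2 : closure ({y} : Set α) ⊆ Z := hZ.2 isIrreducible_singleton.closure (hc.def ▸ h1)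
    have h3 : c ⤳ y := by
      rw [specializes_iff_mem_closure, hc.def]
      exact h2 (subset_closure rfl)
    exact (hy.antisymm h3).eq
  · rintro ⟨c, hc, rfl⟩
    exact ⟨closure {c}, closure_singleton_mem_irreducibleComponents hc, rfl⟩

end Top

section Supp

variable {Y : Scheme.{u}} [IsLocallyNoetherian Y] (G : Y.Modules)

/-- The maximal associated points. -/
def MaxAss : Set Y := {z | z ∈ AssSch.Ass G ∧ ∀ y ∈ AssSch.Ass G, y ⤳ z → y = z}

theorem ass_subset_support : AssSch.Ass G ⊆ CohB1.support G := by
  intro z hz hsub
  have hz' : Curv2.IsAssPoint G z := hz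
  unfold Curv2.IsAssPoint at hz'
  obtain ⟨-, m, hm⟩ := hz'
  haveI : Subsingleton (G.presheaf.stalk z) := hsub
  have h0 : m = 0 := Subsingleton.elim _ _
  have : (1 : Y.presheaf.stalk z) ∈ IsLocalRing.maximalIdeal (Y.presheaf.stalk z) := by
    rw [hm, h0]
    apply Ideal.le_radical
    rw [Submodule.mem_colon_singleton, smul_zero]
    exact Submodule.zero_mem _
  exact (Ideal.ne_top_iff_one _).mp (IsLocalRing.maximalIdeal.isMaximal _).ne_top this

/-- The dimensions of the irreducible components of the support of a coherent module are the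
dimensions of the closures of its maximal associated points. -/
theorem dims_irreducibleComponents_support (hG : Coh.IsCoh G) :
    (fun Z : Set ↥(CohB1.support G) => topologicalKrullDim ↥Z) ''
        irreducibleComponents ↥(CohB1.support G) =
      (fun z : Y => topologicalKrullDim ↥(closure ({z} : Set Y))) '' MaxAss G := by
  have hC : IsClosed (CohB1.support G) :=
    Groth.Agent.Lib.Helper1.isClosed_support_of_isFiniteType G hG.2
  haveI : QuasiSober ↥(CohB1.support G) := hC.isClosedEmbedding_subtypeVal.quasiSober
  rw [dims_irreducibleComponents_eq (α := ↥(CohB1.support G))]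
  have hsp : ∀ a b : ↥(CohB1.support G), a ⤳ b ↔ (a : Y) ⤳ (b : Y) := fun a b =>
    (Topology.IsInducing.subtypeVal.specializes_iff).symm
  ext w
  constructor
  · rintro ⟨c, hc, rfl⟩
    obtain ⟨x, hx, hxmin, hxz⟩ :=
      Groth.Agent.Lib.Helper45.NowhereDense.exists_minimal_ass_specializes G hG c.2
    have hxC : x ∈ CohB1.support G := ass_subset_support G hx
    have h1 : (⟨x, hxC⟩ : ↥(CohB1.support G)) = c := hc ⟨x, hxC⟩ ((hsp _ _).mpr hxz)
    have h2 : x = (c : Y) := congrArg Subtype.val h1
    refine ⟨(c : Y), ⟨h2 ▸ hx, fun y hy hyc => ?_⟩, ?_⟩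
    · have := hxmin y hy (h2 ▸ hyc)
      rw [this, h2]
    · exact (Groth.Agent.Lib.Helper55.topologicalKrullDim_closure_subtype _ hC c).symm
  · rintro ⟨z, ⟨hz, hzmax⟩, rfl⟩
    refine ⟨⟨z, ass_subset_support G hz⟩, fun y hy => ?_, ?_⟩
    · obtain ⟨x, hx, -, hxy⟩ :=
        Groth.Agent.Lib.Helper45.NowhereDense.exists_minimal_ass_specializes G hG y.2
      have hyz : (y : Y) ⤳ z := (hsp _ _).mp hy
      have h1 : x = z := hzmax x hx (hxy.trans hyz)
      rw [h1] at hxy
      exact Subtype.ext (hyz.antisymm hxy).eq
    · exact Groth.Agent.Lib.Helper55.topologicalKrullDim_closure_subtype _ hC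
        ⟨z, ass_subset_support G hz⟩

end Supp

end Groth.Agent.H76.AssGen
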