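/-
helper76: generic constancy of the set of dimensions of the maximal associated prime cycles of the
fibres.
-/
import Mathlib
import Groth.Prelude
import Groth.Agent.H76.AssDimFib
import Groth.Agent.H76.AssDimSupp

set_option autoImplicit false
universe u
open AlgebraicGeometry CategoryTheory TopologicalSpace

namespace Groth.Agent.H76.AssGen

open Groth.Agent.Lib.Helper97.AssFibre

section Global

variable {X S : Scheme.{u}} [IsIntegral S] [IsNoetherian S] (f : X ⟶ S) [LocallyOfFiniteType f]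
  [QuasiCompact f] (F : X.Modules) [F.IsQuasicoherent]

/-- Near the generic point, the set of dimensions of the maximal associated prime cycles of the
fibres is constant. -/
theorem generic_dimMaxAss_eq (hF : Coh.IsCoh F) :
    ∃ U : S.Opens, genericPoint S ∈ U ∧ ∀ s ∈ U,
      (fun z : ↥(f.fiber s) => topologicalKrullDim ↥(closure ({z} : Set ↥(f.fiber s)))) ''
          MaxAss ((Scheme.Modules.pullback (f.fiberι s)).obj F) =
        (fun z : ↥(f.fiber (genericPoint S)) =>
          topologicalKrullDim ↥(closure ({z} : Set ↥(f.fiber (genericPoint S))))) ''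
          MaxAss ((Scheme.Modules.pullback (f.fiberι (genericPoint S))).obj F) := by
  classical
  obtain ⟨U₁, hU₁, kpk⟩ := generic_relPkg f F hF
  obtain ⟨U₂, hU₂, kdim⟩ := generic_dim f F hF
  refine ⟨U₁ ⊓ U₂, ⟨hU₁, hU₂⟩, fun s hs => ?_⟩
  have hass : ∀ (t : S) (z : ↥(f.fiber t)),
      z ∈ AssSch.Ass ((Scheme.Modules.pullback (f.fiberι t)).obj F) ↔
        f.fiberι t z ∈ MoreMor.relAss f F := fun t z => isAssPoint_fiber_iff_mem_relAss f F t z
  have hfη := fun x : ↥(f.fiber (genericPoint S)) => apply_fiberι' f (genericPoint S) x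
  have hfs := fun z : ↥(f.fiber s) => apply_fiberι' f s z
  have hembη := (f.fiberι (genericPoint S)).isEmbedding
  have hembs := (f.fiberι s).isEmbedding
  have hpk : ∀ z : ↥(f.fiber s), RelPkg f F (f.fiberι s z) := fun z =>
    kpk _ (by rw [hfs z]; exact hs.1)
  ext w
  constructor
  · rintro ⟨z, ⟨hz, hzmax⟩, rfl⟩
    obtain ⟨x₀, hx₀, hfx₀, hmin⟩ := (hpk z).1 ((hass s z).mp hz)
    obtain ⟨x, rfl⟩ := exists_fiberι_eq f _ x₀ hfx₀
    refine ⟨x, ⟨(hass _ x).mpr hx₀, fun y hy hyx => ?_⟩, ?_⟩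
    · by_contra hne
      have hsp : f.fiberι (genericPoint S) y ⤳ f.fiberι (genericPoint S) x :=
        hembη.isInducing.specializes_iff.mpr hyx
      have hne' : f.fiberι (genericPoint S) y ≠ f.fiberι (genericPoint S) x := fun h =>
        hne (hembη.injective h)
      have hnsp : ¬ f.fiberι (genericPoint S) x ⤳ f.fiberι (genericPoint S) y := fun h =>
        hne' (hsp.antisymm h).eq
      obtain ⟨z₁, hz₁min, hz₁z, hfz₁⟩ := exists_minPt f
        (f.fiberι (genericPoint S) y) (f.fiberι s z) (hsp.trans hmin.1)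
      have hfz₁' : f z₁ = s := by rw [hfz₁, hfs z]
      obtain ⟨y₁, rfl⟩ := exists_fiberι_eq f s z₁ hfz₁'
      have hy₁ass : y₁ ∈ AssSch.Ass ((Scheme.Modules.pullback (f.fiberι s)).obj F) :=
        (hass s y₁).mpr ((hpk y₁).2.1 _ ((hass _ y).mp hy) (hfη y) hz₁min)
      have hy₁z : y₁ ⤳ z := hembs.isInducing.specializes_iff.mp hz₁z
      have := hzmax y₁ hy₁ass hy₁z
      subst this
      exact (hpk y₁).2.2 _ ((hass _ y).mp hy) _ hx₀ (hfη y) (hfη x) hnsp hz₁min hmin.1
    · have := (kdim _ hx₀ hfx₀).1 (f.fiberι s z) (by rw [hfs z]; exact hs.2) hmin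
      exact (dim_closure_fiber_eq_of_relTrdeg_eq f z x this).symm
  · rintro ⟨x, ⟨hx, hxmax⟩, rfl⟩
    have hx₀ := (hass _ x).mp hx
    obtain ⟨z₀, hfz₀, hxz₀⟩ := (kdim _ hx₀ (hfη x)).2 s hs.2
    obtain ⟨z₁, hmin, -, hfz₁⟩ := exists_minPt f _ z₀ hxz₀
    have hfz₁s : f z₁ = s := by rw [hfz₁, hfz₀]
    obtain ⟨z, rfl⟩ := exists_fiberι_eq f s z₁ hfz₁s
    have hz₁ : f.fiberι s z ∈ MoreMor.relAss f F := (hpk z).2.1 _ hx₀ (hfη x) hmin
    have hdim := (kdim _ hx₀ (hfη x)).1 (f.fiberι s z) (by rw [hfs z]; exact hs.2) hmin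
    refine ⟨z, ⟨(hass s z).mpr hz₁, fun y hy hyz => ?_⟩,
      dim_closure_fiber_eq_of_relTrdeg_eq f z x hdim⟩
    obtain ⟨x₁, hx₁, hfx₁, hmin₁⟩ := (hpk y).1 ((hass s y).mp hy)
    obtain ⟨x', rfl⟩ := exists_fiberι_eq f _ x₁ hfx₁
    have hx'ass := (hass _ x').mpr hx₁
    have hyz' : f.fiberι s y ⤳ f.fiberι s z := hembs.isInducing.specializes_iff.mpr hyz
    have hx'x : x' = x := by
      by_contra hne
      have hnsp : ¬ f.fiberι (genericPoint S) x' ⤳ f.fiberι (genericPoint S) x := fun h =>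
        hne (hxmax x' hx'ass (hembη.isInducing.specializes_iff.mp h))
      exact (hpk z).2.2 _ hx₀ _ hx₁ (hfη x) (hfη x') hnsp hmin (hmin₁.1.trans hyz')
    subst hx'x
    have := hmin.2 _ hmin₁.1 hyz' (by rw [hfs y, hfs z])
    exact hembs.injective this

end Global

end Groth.Agent.H76.AssGen
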