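/-
helper76: absence of embedded associated points and flat base change with fibres without embedded
points; invariance under extension of the base field.
-/
import Mathlib
import Groth.Prelude
import Groth.Agent.Lib.Helper97.NoEmbFieldFibre
import Groth.Agent.Lib.Helper97.AssProd
import Groth.Agent.Lib.Helper97.AssProd2
import Groth.Agent.Lib.Helper97.RedModBC
import Groth.Agent.Lib.Helper97.RelAssBC
import Groth.Agent.Lib.Helper45.NowhereDense
import Groth.Agent.Lib.Helper23.ConsForallFiber

set_option autoImplicit false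
universe u
open AlgebraicGeometry CategoryTheory TopologicalSpace Limits

namespace Groth.Agent.H76.AssGen

open Groth.Agent.Lib.Helper97.AssFibre

section Flat

variable {Z Z' : Scheme.{u}} (π : Z' ⟶ Z) [IsLocallyNoetherian Z] [IsLocallyNoetherian Z'] [Flat π]
  (E : Z.Modules) [E.IsQuasicoherent]

theorem noEmbedded_pullback_of_flat
    (hfib : ∀ z : Z, AssSch.NoEmbedded (Coh.structureModule (π.fiber z)))
    (hE : AssSch.NoEmbedded E) : AssSch.NoEmbedded ((Scheme.Modules.pullback π).obj E) := by
  intro w hw w' hw' hsp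
  obtain ⟨h1, h2⟩ := (isAssPoint_pullback_iff_of_flat π E w).mp hw
  obtain ⟨h1', h2'⟩ := (isAssPoint_pullback_iff_of_flat π E w').mp hw'
  have hπ : π w = π w' := hE _ h1 _ h1' (hsp.map π.continuous)
  obtain ⟨z, hz⟩ : ∃ z : Z, π w = z := ⟨_, rfl⟩
  have hz' : π w' = z := by rw [← hπ, hz]
  obtain ⟨t, rfl⟩ := exists_fiberι_eq π z w hz
  obtain ⟨t', rfl⟩ := exists_fiberι_eq π z w' hz'
  have ha : t ∈ AssSch.Ass (Coh.structureModule (π.fiber _)) :=
    (isAssPoint_structureModule_fiber_iff π _ t).mpr h2
  have ha' : t' ∈ AssSch.Ass (Coh.structureModule (π.fiber _)) :=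
    (isAssPoint_structureModule_fiber_iff π _ t').mpr h2'
  have hsp' : t' ⤳ t := (π.fiberι _).isEmbedding.isInducing.specializes_iff.mp hsp
  rw [hfib _ t ha t' ha' hsp']

/-- Every point of `Z'` has a generization in its fibre which is an associated point of that
fibre. -/
theorem exists_fibAssRingAt_specializes (w : Z') :
    ∃ w₀ : Z', FibAssRingAt π w₀ ∧ w₀ ⤳ w ∧ π w₀ = π w := by
  obtain ⟨z, hz⟩ : ∃ z : Z, π w = z := ⟨_, rfl⟩
  obtain ⟨t, rfl⟩ := exists_fiberι_eq π z w hz
  obtain ⟨t₀, ht₀, -, hspec⟩ :=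
    Groth.Agent.Lib.Helper45.NowhereDense.exists_minimal_ass_specializes
      (Coh.structureModule (π.fiber _))
      (Groth.Agent.Lib.Helper45.RefHullStalk.isCoh_structureModule _)
      (mem_support_structureModule t)
  refine ⟨π.fiberι _ t₀, (isAssPoint_structureModule_fiber_iff π _ t₀).mp ht₀,
    (π.fiberι _).isEmbedding.isInducing.specializes_iff.mpr hspec, ?_⟩
  rw [apply_fiberι', apply_fiberι']

theorem noEmbedded_of_pullback_of_flat [Surjective π]
    (h : AssSch.NoEmbedded ((Scheme.Modules.pullback π).obj E)) : AssSch.NoEmbedded E := by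
  intro x hx x' hx' hsp
  obtain ⟨w₁, rfl⟩ := π.surjective x
  obtain ⟨w, hw, hww₁, hπw⟩ := exists_fibAssRingAt_specializes π w₁
  rw [← hπw] at hx hsp ⊢
  obtain ⟨w'', hw''w, hπw''⟩ := (Flat.generalizingMap π) hsp
  obtain ⟨w', hw', hw'w'', hπw'⟩ := exists_fibAssRingAt_specializes π w''
  have hx'' : Curv2.IsAssPoint E (π w') := by rw [hπw', hπw'']; exact hx'
  have a1 : w ∈ AssSch.Ass ((Scheme.Modules.pullback π).obj E) :=
    (isAssPoint_pullback_iff_of_flat π E w).mpr ⟨hx, hw⟩
  have a2 : w' ∈ AssSch.Ass ((Scheme.Modules.pullback π).obj E) :=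
    (isAssPoint_pullback_iff_of_flat π E w').mpr ⟨hx'', hw'⟩
  have := h w a1 w' a2 (hw'w''.trans hw''w)
  rw [← hπw'', ← hπw', this]

end Flat

end Groth.Agent.H76.AssGen

namespace Groth.Agent.H76.AssGen

open Groth.Agent.Lib.Helper97.AssFibre Groth.Agent.Lib.Helper23

theorem noEmbedded_congr {Z : Scheme.{u}} [IsLocallyNoetherian Z] {M N : Z.Modules}
    [M.IsQuasicoherent] [N.IsQuasicoherent] (e : M ≅ N) :
    AssSch.NoEmbedded M ↔ AssSch.NoEmbedded N := by
  constructor
  · intro h x hx y hy hsp
    exact h x ((isAssPoint_congr e x).mpr hx) y ((isAssPoint_congr e y).mpr hy) hsp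
  · intro h x hx y hy hsp
    exact h x ((isAssPoint_congr e x).mp hx) y ((isAssPoint_congr e y).mp hy) hsp

section Field

variable {Y Y' T T' : Scheme.{u}} (g : Y ⟶ T) (g' : Y' ⟶ T') (e : Y' ⟶ Y) (h : T' ⟶ T)
  [IsIntegral T] [Subsingleton T] [IsIntegral T'] [Subsingleton T'] [LocallyOfFiniteType g]

include g g' h in
/-- Absence of embedded associated points is invariant under extension of the base field. -/
theorem noEmbedded_iff_of_isPullback_field (hpb : IsPullback e g' g h) (F : Y.Modules)
    [F.IsQuasicoherent] :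
    AssSch.NoEmbedded F ↔ AssSch.NoEmbedded ((Scheme.Modules.pullback e).obj F) := by
  haveI : IsLocallyNoetherian T := isLocallyNoetherian_of_subsingleton T
  haveI : IsLocallyNoetherian T' := isLocallyNoetherian_of_subsingleton T'
  haveI : IsLocallyNoetherian Y := LocallyOfFiniteType.isLocallyNoetherian g
  haveI : LocallyOfFiniteType g' :=
    MorphismProperty.of_isPullback (P := @LocallyOfFiniteType) hpb inferInstance
  haveI : IsLocallyNoetherian Y' := LocallyOfFiniteType.isLocallyNoetherian g'
  haveI : Flat e := MorphismProperty.of_isPullback (P := @Flat) hpb.flip inferInstance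
  haveI : Surjective h := ⟨fun t => ⟨Classical.arbitrary _, Subsingleton.elim _ _⟩⟩
  haveI : Surjective e := MorphismProperty.of_isPullback (P := @Surjective) hpb.flip inferInstance
  haveI : IsAffine T := isAffine_of_subsingleton T
  haveI : IsAffine T' := isAffine_of_subsingleton T'
  have hk := isField_of_isIntegral_of_subsingleton T
  have hK := isField_of_isIntegral_of_subsingleton T'
  letI := hk.toField
  letI := hK.toField
  have hpb2 : IsPullback e (g' ≫ T'.isoSpec.hom) (g ≫ T.isoSpec.hom) (Spec.map h.appTop) := by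
    refine IsPullback.of_iso hpb (Iso.refl _) (Iso.refl _) T'.isoSpec T.isoSpec
      (by simp) (by simp) (by simp) ?_
    exact (Scheme.isoSpec_hom_naturality h).symm
  have hfib : ∀ z : Y, AssSch.NoEmbedded (Coh.structureModule (e.fiber z)) := fun z =>
    noEmbedded_structureModule_fiber_of_isPullback_field (k := Γ(T, ⊤)) (K := Γ(T', ⊤))
      h.appTop (g ≫ T.isoSpec.hom) (g' ≫ T'.isoSpec.hom) e hpb2 z
  exact ⟨noEmbedded_pullback_of_flat e F hfib, noEmbedded_of_pullback_of_flat e F⟩

end Field

end Groth.Agent.H76.AssGen
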