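/-
helper76: the dimensions of the associated prime cycles are invariant under extension of the base
field.
-/
import Mathlib
import Groth.Prelude
import Groth.Agent.H76.NoEmbField
import Groth.Agent.Lib.Helper55.ProductDim

set_option autoImplicit false
universe u
open AlgebraicGeometry CategoryTheory TopologicalSpace Limits

namespace Groth.Agent.H76.AssGen

open Groth.Agent.Lib.Helper97.AssFibre Groth.Agent.Lib.Helper23

theorem dim_closure_homeo {α β : Type*} [TopologicalSpace α] [TopologicalSpace β] (φ : α ≃ₜ β)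
    (a : α) :
    topologicalKrullDim ↥(closure ({φ a} : Set β)) = topologicalKrullDim ↥(closure ({a} : Set α)) := by
  have h : φ '' closure {a} = closure {φ a} := by
    rw [φ.image_closure, Set.image_singleton]
  rw [← h]
  exact (IsHomeomorph.topologicalKrullDim_eq _ (φ.image (closure {a})).isHomeomorph).symm

section Flat

variable {Z Z' : Scheme.{u}} (π : Z' ⟶ Z) [IsLocallyNoetherian Z] [IsLocallyNoetherian Z'] [Flat π]

/-- A point which is an associated point of its fibre is a maximal point of its fibre, when the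
fibres have no embedded points. -/
theorem eq_of_specializes_of_fibAssRingAt
    (hfib : ∀ z : Z, AssSch.NoEmbedded (Coh.structureModule (π.fiber z)))
    (w : Z') (hw : FibAssRingAt π w) (y : Z') (hy : y ⤳ w) (hπ : π y = π w) : y = w := by
  obtain ⟨z, hz⟩ : ∃ z : Z, π w = z := ⟨_, rfl⟩
  have hz' : π y = z := by rw [hπ, hz]
  obtain ⟨t, rfl⟩ := exists_fiberι_eq π z w hz
  obtain ⟨s, rfl⟩ := exists_fiberι_eq π z y hz'
  have ht : t ∈ AssSch.Ass (Coh.structureModule (π.fiber z)) :=
    (isAssPoint_structureModule_fiber_iff π z t).mpr hw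
  have hst : s ⤳ t := (π.fiberι z).isEmbedding.isInducing.specializes_iff.mp hy
  obtain ⟨t₀, ht₀, -, hspec⟩ :=
    Groth.Agent.Lib.Helper45.NowhereDense.exists_minimal_ass_specializes
      (Coh.structureModule (π.fiber z))
      (Groth.Agent.Lib.Helper45.RefHullStalk.isCoh_structureModule _)
      (mem_support_structureModule s)
  have h1 : t = t₀ := hfib z t ht t₀ ht₀ (hspec.trans hst)
  subst h1
  rw [(hspec.antisymm hst).eq]

end Flat

section Field

variable {Y Y' T T' : Scheme.{u}} (g : Y ⟶ T) (g' : Y' ⟶ T') (e : Y' ⟶ Y) (h : T' ⟶ T)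
  [IsIntegral T] [Subsingleton T] [IsIntegral T'] [Subsingleton T'] [LocallyOfFiniteType g]

include g g' h in
/-- The dimensions of the associated prime cycles are invariant under extension of the base
field. -/
theorem dimAss_eq_of_isPullback_field (hpb : IsPullback e g' g h) (F : Y.Modules)
    [F.IsQuasicoherent] :
    (fun z : Y' => topologicalKrullDim ↥(closure ({z} : Set Y'))) ''
        AssSch.Ass ((Scheme.Modules.pullback e).obj F) =
      (fun z : Y => topologicalKrullDim ↥(closure ({z} : Set Y))) '' AssSch.Ass F := by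
  haveI : IsLocallyNoetherian T := isLocallyNoetherian_of_subsingleton T
  haveI : IsLocallyNoetherian T' := isLocallyNoetherian_of_subsingleton T'
  haveI : IsLocallyNoetherian Y := LocallyOfFiniteType.isLocallyNoetherian g
  haveI : LocallyOfFiniteType g' :=
    MorphismProperty.of_isPullback (P := @LocallyOfFiniteType) hpb inferInstance
  haveI : IsLocallyNoetherian Y' := LocallyOfFiniteType.isLocallyNoetherian g'
  haveI : Flat e := MorphismProperty.of_isPullback (P := @Flat) hpb.flip inferInstance
  haveI : Surjective h := ⟨fun t => ⟨Classical.arbitrary _, Subsingleton.elim _ _⟩⟩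
  haveI : Surjective e := MorphismProperty.of_isPullback (P := @Surjective) hpb.flip inferInstance
  haveI : IsAffine T := isAffine_of_subsingleton T
  haveI : IsAffine T' := isAffine_of_subsingleton T'
  have hk := isField_of_isIntegral_of_subsingleton T
  have hK := isField_of_isIntegral_of_subsingleton T'
  letI := hk.toField
  letI := hK.toField
  letI : Algebra Γ(T, ⊤) Γ(T', ⊤) := h.appTop.hom.toAlgebra
  have hpb2 : IsPullback e (g' ≫ T'.isoSpec.hom) (g ≫ T.isoSpec.hom) (Spec.map h.appTop) := by
    refine IsPullback.of_iso hpb (Iso.refl _) (Iso.refl _) T'.isoSpec T.isoSpec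
      (by simp) (by simp) (by simp) ?_
    exact (Scheme.isoSpec_hom_naturality h).symm
  have hfib : ∀ z : Y, AssSch.NoEmbedded (Coh.structureModule (e.fiber z)) := fun z =>
    noEmbedded_structureModule_fiber_of_isPullback_field (k := Γ(T, ⊤)) (K := Γ(T', ⊤))
      h.appTop (g ≫ T.isoSpec.hom) (g' ≫ T'.isoSpec.hom) e hpb2 z
  -- the explicit base change
  let ρ : Y ⟶ Spec (CommRingCat.of Γ(T, ⊤)) := g ≫ T.isoSpec.hom
  haveI : LocallyOfFiniteType ρ := by
    show LocallyOfFiniteType (g ≫ T.isoSpec.hom)
    infer_instance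
  have hpb3 : IsPullback e (g' ≫ T'.isoSpec.hom) ρ
      (Spec.map (CommRingCat.ofHom (algebraMap Γ(T, ⊤) Γ(T', ⊤)))) := hpb2
  let i : Y' ≅ pullback ρ (Spec.map (CommRingCat.ofHom (algebraMap Γ(T, ⊤) Γ(T', ⊤)))) :=
    hpb3.isoPullback
  have hi : i.hom ≫ pullback.fst ρ _ = e := hpb3.isoPullback_hom_fst
  have hmaxdim : ∀ z' : Y', FibAssRingAt e z' →
      topologicalKrullDim ↥(closure ({z'} : Set Y')) =
        topologicalKrullDim ↥(closure ({e z'} : Set Y)) := by
    intro z' hz'
    have hfst : ∀ y' : Y', pullback.fst ρ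
        (Spec.map (CommRingCat.ofHom (algebraMap Γ(T, ⊤) Γ(T', ⊤)))) (i.hom y') = e y' := by
      intro y'
      rw [← Scheme.Hom.comp_apply, hi]
    have key := Groth.Agent.Lib.Helper55.topologicalKrullDim_closure_of_maximal_point_baseChange ρ
      Γ(T', ⊤) (e z') (i.hom z') (by rw [hfst]) (by
        intro ω' h1 h2
        obtain ⟨y', rfl⟩ : ∃ y', i.hom y' = ω' := ⟨i.inv ω', by
          rw [← Scheme.Hom.comp_apply, Iso.inv_hom_id]; rfl⟩
        rw [hfst] at h1
        have h3 : y' ⤳ z' := by
          have := h2.map i.inv.continuous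
          rwa [← Scheme.Hom.comp_apply, ← Scheme.Hom.comp_apply, Iso.hom_inv_id] at this
        have h4 : e y' = e z' := ((h3.map e.continuous).antisymm h1).eq
        rw [eq_of_specializes_of_fibAssRingAt e hfib z' hz' y' h3 h4])
    rw [← key]
    exact (dim_closure_homeo (Scheme.homeoOfIso i) z').symm
  ext w
  constructor
  · rintro ⟨z', hz', rfl⟩
    obtain ⟨h1, h2⟩ := (isAssPoint_pullback_iff_of_flat e F z').mp hz'
    exact ⟨e z', h1, (hmaxdim z' h2).symm⟩
  · rintro ⟨z, hz, rfl⟩
    obtain ⟨w₁, rfl⟩ := e.surjective z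
    obtain ⟨w₀, hw₀, -, hπ⟩ := exists_fibAssRingAt_specializes e w₁
    refine ⟨w₀, (isAssPoint_pullback_iff_of_flat e F w₀).mpr ⟨by rw [hπ]; exact hz, hw₀⟩, ?_⟩
    show topologicalKrullDim ↥(closure ({w₀} : Set Y')) = _
    rw [hmaxdim w₀ hw₀, hπ]

end Field

end Groth.Agent.H76.AssGen
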