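/-
helper76: the dimensions of the maximal associated prime cycles (irreducible components of the
support) are invariant under extension of the base field.
-/
import Mathlib
import Groth.Prelude
import Groth.Agent.H76.AssDimField
import Groth.Agent.H76.AssDimSupp

set_option autoImplicit false
universe u
open AlgebraicGeometry CategoryTheory TopologicalSpace Limits

namespace Groth.Agent.H76.AssGen

open Groth.Agent.Lib.Helper97.AssFibre Groth.Agent.Lib.Helper23

section Field

variable {Y Y' T T' : Scheme.{u}} (g : Y ⟶ T) (g' : Y' ⟶ T') (e : Y' ⟶ Y) (h : T' ⟶ T)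
  [IsIntegral T] [Subsingleton T] [IsIntegral T'] [Subsingleton T'] [LocallyOfFiniteType g]

include g g' h in
/-- The basic facts on the base change of an algebraic scheme along a field extension. -/
theorem field_core (hpb : IsPullback e g' g h) :
    ∃ (_ : IsLocallyNoetherian Y) (_ : IsLocallyNoetherian Y') (_ : Flat e) (_ : Surjective e),
      (∀ z : Y, AssSch.NoEmbedded (Coh.structureModule (e.fiber z))) ∧
      ∀ z' : Y', FibAssRingAt e z' →
        topologicalKrullDim ↥(closure ({z'} : Set Y')) =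
          topologicalKrullDim ↥(closure ({e z'} : Set Y)) := by
  haveI : IsLocallyNoetherian T := isLocallyNoetherian_of_subsingleton T
  haveI : IsLocallyNoetherian T' := isLocallyNoetherian_of_subsingleton T'
  haveI hY : IsLocallyNoetherian Y := LocallyOfFiniteType.isLocallyNoetherian g
  haveI : LocallyOfFiniteType g' :=
    MorphismProperty.of_isPullback (P := @LocallyOfFiniteType) hpb inferInstance
  haveI hY' : IsLocallyNoetherian Y' := LocallyOfFiniteType.isLocallyNoetherian g'
  haveI hfl : Flat e := MorphismProperty.of_isPullback (P := @Flat) hpb.flip inferInstance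
  haveI : Surjective h := ⟨fun t => ⟨Classical.arbitrary _, Subsingleton.elim _ _⟩⟩
  haveI hsurj : Surjective e :=
    MorphismProperty.of_isPullback (P := @Surjective) hpb.flip inferInstance
  haveI : IsAffine T := isAffine_of_subsingleton T
  haveI : IsAffine T' := isAffine_of_subsingleton T'
  have hk := isField_of_isIntegral_of_subsingleton T
  have hK := isField_of_isIntegral_of_subsingleton T'
  letI := hk.toField
  letI := hK.toField
  letI : Algebra Γ(T, ⊤) Γ(T', ⊤) := h.appTop.hom.toAlgebra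
  have hpb2 : IsPullback e (g' ≫ T'.isoSpec.hom) (g ≫ T.isoSpec.hom) (Spec.map h.appTop) := by
    refine IsPullback.of_iso hpb (Iso.refl _) (Iso.refl _) T'.isoSpec T.isoSpec
      (by simp) (by simp) (by simp) ?_
    exact (Scheme.isoSpec_hom_naturality h).symm
  have hfib : ∀ z : Y, AssSch.NoEmbedded (Coh.structureModule (e.fiber z)) := fun z =>
    noEmbedded_structureModule_fiber_of_isPullback_field (k := Γ(T, ⊤)) (K := Γ(T', ⊤))
      h.appTop (g ≫ T.isoSpec.hom) (g' ≫ T'.isoSpec.hom) e hpb2 z
  let ρ : Y ⟶ Spec (CommRingCat.of Γ(T, ⊤)) := g ≫ T.isoSpec.hom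
  haveI : LocallyOfFiniteType ρ := by
    show LocallyOfFiniteType (g ≫ T.isoSpec.hom)
    infer_instance
  have hpb3 : IsPullback e (g' ≫ T'.isoSpec.hom) ρ
      (Spec.map (CommRingCat.ofHom (algebraMap Γ(T, ⊤) Γ(T', ⊤)))) := hpb2
  let i : Y' ≅ pullback ρ (Spec.map (CommRingCat.ofHom (algebraMap Γ(T, ⊤) Γ(T', ⊤)))) :=
    hpb3.isoPullback
  have hi : i.hom ≫ pullback.fst ρ _ = e := hpb3.isoPullback_hom_fst
  refine ⟨hY, hY', hfl, hsurj, hfib, ?_⟩
  intro z' hz'
  have hfst : ∀ y' : Y', pullback.fst ρ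
      (Spec.map (CommRingCat.ofHom (algebraMap Γ(T, ⊤) Γ(T', ⊤)))) (i.hom y') = e y' := by
    intro y'
    rw [← Scheme.Hom.comp_apply, hi]
  have key := Groth.Agent.Lib.Helper55.topologicalKrullDim_closure_of_maximal_point_baseChange ρ
    Γ(T', ⊤) (e z') (i.hom z') (by rw [hfst]) (by
      intro ω' h1 h2
      obtain ⟨y', rfl⟩ : ∃ y', i.hom y' = ω' := ⟨i.inv ω', by
        rw [← Scheme.Hom.comp_apply, Iso.inv_hom_id]; rfl⟩
      rw [hfst] at h1
      have h3 : y' ⤳ z' := by
        have := h2.map i.inv.continuous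
        rwa [← Scheme.Hom.comp_apply, ← Scheme.Hom.comp_apply, Iso.hom_inv_id] at this
      have h4 : e y' = e z' := ((h3.map e.continuous).antisymm h1).eq
      rw [eq_of_specializes_of_fibAssRingAt e hfib z' hz' y' h3 h4])
  rw [← key]
  exact (dim_closure_homeo (Scheme.homeoOfIso i) z').symm

include g g' h in
/-- The dimensions of the maximal associated prime cycles are invariant under extension of the base
field. -/
theorem dimMaxAss_eq_of_isPullback_field (hpb : IsPullback e g' g h) (F : Y.Modules)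
    [F.IsQuasicoherent] :
    (fun z : Y' => topologicalKrullDim ↥(closure ({z} : Set Y'))) ''
        MaxAss ((Scheme.Modules.pullback e).obj F) =
      (fun z : Y => topologicalKrullDim ↥(closure ({z} : Set Y))) '' MaxAss F := by
  obtain ⟨hY, hY', hfl, hsurj, hfib, hmaxdim⟩ := field_core g g' e h hpb
  ext w
  constructor
  · rintro ⟨z', ⟨hz', hz'max⟩, rfl⟩
    obtain ⟨h1, h2⟩ := (isAssPoint_pullback_iff_of_flat e F z').mp hz'
    refine ⟨e z', ⟨h1, fun y hy hyz => ?_⟩, (hmaxdim z' h2).symm⟩
    obtain ⟨y'', hy''z', hey''⟩ := (Flat.generalizingMap e) hyz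
    obtain ⟨y', hy', hy'y'', hey'⟩ := exists_fibAssRingAt_specializes e y''
    have hy'ass : y' ∈ AssSch.Ass ((Scheme.Modules.pullback e).obj F) :=
      (isAssPoint_pullback_iff_of_flat e F y').mpr ⟨by rw [hey', hey'']; exact hy, hy'⟩
    have := hz'max y' hy'ass (hy'y''.trans hy''z')
    rw [← hey'', ← hey', this]
  · rintro ⟨z, ⟨hz, hzmax⟩, rfl⟩
    obtain ⟨w₁, rfl⟩ := e.surjective z
    obtain ⟨w₀, hw₀, -, hπ⟩ := exists_fibAssRingAt_specializes e w₁
    have hw₀ass : w₀ ∈ AssSch.Ass ((Scheme.Modules.pullback e).obj F) :=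
      (isAssPoint_pullback_iff_of_flat e F w₀).mpr ⟨by rw [hπ]; exact hz, hw₀⟩
    refine ⟨w₀, ⟨hw₀ass, fun y' hy' hy'w₀ => ?_⟩, ?_⟩
    · obtain ⟨h1, -⟩ := (isAssPoint_pullback_iff_of_flat e F y').mp hy'
      have h3 : e y' = e w₀ := by
        rw [hπ]
        exact hzmax (e y') h1 (hπ ▸ hy'w₀.map e.continuous)
      exact eq_of_specializes_of_fibAssRingAt e hfib w₀ hw₀ y' hy'w₀ h3
    · show topologicalKrullDim ↥(closure ({w₀} : Set Y')) = _
      rw [hmaxdim w₀ hw₀, hπ]

end Field

end Groth.Agent.H76.AssGen
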