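/-
helper76: generic constancy of the relative transcendence degree along the maximal points of the
fibres of the closure of a single point of the generic fibre.
-/
import Mathlib
import Groth.Prelude
import Groth.Agent.H76.AssDimSch

set_option autoImplicit false
universe u
open AlgebraicGeometry CategoryTheory TopologicalSpace

namespace Groth.Agent.H76.AssGen

open Groth.Agent.H76.RelAss Groth.Agent.Lib.Helper45 Groth.Agent.Lib.Helper55

section Chart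

variable {X S : Scheme.{u}} [IsIntegral S] [IsLocallyNoetherian S] (f : X ⟶ S)
  [LocallyOfFiniteType f]
  {V : S.Opens} {W : X.Opens} (e : W ≤ f ⁻¹ᵁ V) (hV : IsAffineOpen V) (hW : IsAffineOpen W)

include e hV hW in
/-- Chart form of the generic dimension statement for a single point. -/
theorem chart_generic_dim_pt (hηV : genericPoint S ∈ V) (x : W)
    (hfx : f (x : X) = genericPoint S) :
    ∃ a : Γ(S, V), (genericPoint S) ∈ S.basicOpen a ∧
      (∀ z : W, f (z : X) ∈ S.basicOpen a → MinPt f (x : X) (z : X) →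
        relTrdeg f (z : X) = relTrdeg f (x : X)) ∧
      (∀ s ∈ S.basicOpen a, ∃ z : W, f (z : X) = s ∧ (x : X) ⤳ (z : X)) := by
  classical
  haveI : Nonempty V := ⟨⟨genericPoint S, hηV⟩⟩
  letI : Algebra Γ(S, V) Γ(X, W) := (f.appLE V W e).hom.toAlgebra
  have hft : (f.appLE V W e).hom.FiniteType :=
    HasRingHomProperty.appLE (P := @LocallyOfFiniteType) f inferInstance ⟨V, hV⟩ ⟨_, hW⟩ e
  haveI : Algebra.FiniteType Γ(S, V) Γ(X, W) := hft
  haveI : IsNoetherianRing Γ(S, V) := IsLocallyNoetherian.component_noetherian ⟨V, hV⟩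
  have hcomap : ∀ z : W, (hW.primeIdealOf z).asIdeal.comap (algebraMap Γ(S, V) Γ(X, W)) =
      (hV.primeIdealOf ⟨f (z : X), e z.2⟩).asIdeal := fun z =>
    (primeIdealOf_comap f e (z : X) z.2 hW hV).symm
  have hη0 := primeIdealOf_genericPoint hV hηV
  have hgenc : (hV.primeIdealOf ⟨f (x : X), e x.2⟩).asIdeal = ⊥ := by
    rw [← hη0]
    congr 3
  set q₀ : Ideal Γ(X, W) := (hW.primeIdealOf x).asIdeal with hq₀
  haveI : q₀.IsPrime := (hW.primeIdealOf x).2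
  obtain ⟨a, ha, key⟩ := generic_dim_package (A := Γ(S, V)) (B := Γ(X, W)) (M := Γ(X, W) ⧸ q₀)
  refine ⟨a, ?_, ?_⟩
  · rw [mem_basicOpen_iff_not_mem_primeIdealOf hV ⟨genericPoint S, hηV⟩ a, hη0]
    exact fun h => ha ((Submodule.mem_bot _).mp h)
  have hxc : q₀.comap (algebraMap Γ(S, V) Γ(X, W)) = ⊥ := by
    rw [hq₀, hcomap x, hgenc]
  have hassx : IsFibAss (algebraMap Γ(S, V) Γ(X, W)) q₀ (Γ(X, W) ⧸ q₀) :=
    isFibAss_quotient_self q₀ hxc
  obtain ⟨d, hd⟩ := key q₀ inferInstance hxc hassx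
  -- the generic point itself
  have hxd : relTrdeg f (x : X) = d := by
    apply relTrdeg_eq_of_trdegEq f e hV hW x d
    have hap : a ∉ (hV.primeIdealOf ⟨f (x : X), e x.2⟩).asIdeal := by
      rw [hgenc]
      exact fun h => ha ((Submodule.mem_bot _).mp h)
    refine (hd _ (hV.primeIdealOf ⟨f (x : X), e x.2⟩).2 hap).1 _ (hW.primeIdealOf x).2
      (hcomap x) le_rfl ?_
    intro q' _ h1 h2 _
    exact le_antisymm h2 h1
  refine ⟨fun z hfz hmin => ?_, fun s hs => ?_⟩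
  · rw [hxd]
    apply relTrdeg_eq_of_trdegEq f e hV hW z d
    have hap : a ∉ (hV.primeIdealOf ⟨f (z : X), e z.2⟩).asIdeal :=
      (mem_basicOpen_iff_not_mem_primeIdealOf hV ⟨f (z : X), e z.2⟩ a).mp hfz
    have hle := (primeIdealOf_le_iff_specializes hW (x : X) (z : X) x.2 z.2).mpr hmin.1
    exact (hd _ (hV.primeIdealOf ⟨f (z : X), e z.2⟩).2 hap).1 _ (hW.primeIdealOf z).2
      (hcomap z) hle (minOver_of_minPt f e hV hW x z hmin)
  · have hsV : s ∈ V := S.basicOpen_le a hs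
    have hap : a ∉ (hV.primeIdealOf ⟨s, hsV⟩).asIdeal :=
      (mem_basicOpen_iff_not_mem_primeIdealOf hV ⟨s, hsV⟩ a).mp hs
    obtain ⟨q, hq, hqp, hle⟩ := (hd _ (hV.primeIdealOf ⟨s, hsV⟩).2 hap).2
    obtain ⟨z, hzW, hz⟩ := Groth.Agent.Lib.Helper55.exists_primeIdealOf_eq hW ⟨q, hq⟩
    have hzq : (hW.primeIdealOf ⟨z, hzW⟩).asIdeal = q := by rw [hz]
    refine ⟨⟨z, hzW⟩, ?_, ?_⟩
    · apply primeIdealOf_injective hV (f z) s (e hzW) hsV
      apply PrimeSpectrum.ext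
      rw [primeIdealOf_comap f e z hzW hW hV, hzq]
      exact hqp
    · rw [← primeIdealOf_le_iff_specializes hW (x : X) z x.2 hzW, hzq]
      exact hle

include e hV hW in
theorem chart_generic_dim_pt' (hηV : genericPoint S ∈ V) (x : X)
    (hfx : f x = genericPoint S) :
    ∃ a : Γ(S, V), (genericPoint S) ∈ S.basicOpen a ∧ (x ∈ W →
      (∀ z : W, f (z : X) ∈ S.basicOpen a → MinPt f x (z : X) →
        relTrdeg f (z : X) = relTrdeg f x) ∧
      (∀ s ∈ S.basicOpen a, ∃ z : W, f (z : X) = s ∧ x ⤳ (z : X))) := by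
  by_cases hxW : x ∈ W
  · obtain ⟨a, ha, h1, h2⟩ := chart_generic_dim_pt f e hV hW hηV ⟨x, hxW⟩ hfx
    exact ⟨a, ha, fun _ => ⟨h1, h2⟩⟩
  · refine ⟨1, ?_, fun h => absurd h hxW⟩
    rw [Scheme.basicOpen_of_isUnit _ isUnit_one]
    exact hηV

end Chart

section Global

variable {X S : Scheme.{u}} [IsIntegral S] [IsNoetherian S] (f : X ⟶ S) [LocallyOfFiniteType f]
  [QuasiCompact f]

/-- **Generic constancy of the relative dimension along the closure of a point of the generic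
fibre.** -/
theorem generic_dim_pt (x : X) (hfx : f x = genericPoint S) :
    ∃ U : S.Opens, genericPoint S ∈ U ∧
      (∀ z : X, f z ∈ U → MinPt f x z → relTrdeg f z = relTrdeg f x) ∧
      (∀ s ∈ U, ∃ z : X, f z = s ∧ x ⤳ z) := by
  classical
  set η := genericPoint S with hη
  obtain ⟨_, ⟨V₀, hV₀, rfl⟩, hηV₀, -⟩ :=
    S.isBasis_affineOpens.exists_subset_of_mem_open (Set.mem_univ η) isOpen_univ
  have hV₀' : IsAffineOpen V₀ := hV₀
  have hcomp : IsCompact (f ⁻¹ᵁ V₀ : Set X) := f.isCompact_preimage hV₀'.isCompact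
  have hcov : ∀ x : X, x ∈ f ⁻¹ᵁ V₀ → ∃ W : X.Opens, IsAffineOpen W ∧ x ∈ W ∧ W ≤ f ⁻¹ᵁ V₀ := by
    intro x hx
    obtain ⟨_, ⟨W, hW, rfl⟩, hxW, hWle⟩ :=
      X.isBasis_affineOpens.exists_subset_of_mem_open hx (f ⁻¹ᵁ V₀).2
    exact ⟨W, hW, hxW, hWle⟩
  choose! Wc hWaff hxW hWle using hcov
  obtain ⟨t, htcov⟩ := hcomp.elim_nhds_subcover' (fun x hx => (Wc x : Set X))
    (fun x hx => (Wc x).2.mem_nhds (hxW x hx))
  have hchart := fun y : (f ⁻¹ᵁ V₀ : Set X) =>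
    chart_generic_dim_pt' f (hWle y.1 y.2) hV₀' (hWaff y.1 y.2) hηV₀ x hfx
  choose ac hac hkey using hchart
  set a : Γ(S, V₀) := ∏ y ∈ t, ac y with ha
  have hmem : ∀ (s : S) (hs : s ∈ V₀), s ∈ S.basicOpen a ↔ ∀ y ∈ t, s ∈ S.basicOpen (ac y) := by
    intro s hs
    rw [mem_basicOpen_iff_not_mem_primeIdealOf hV₀' ⟨s, hs⟩ a, ha,
      (hV₀'.primeIdealOf ⟨s, hs⟩).2.prod_mem_iff]
    push Not
    refine forall₂_congr fun y _ => ?_
    rw [mem_basicOpen_iff_not_mem_primeIdealOf hV₀' ⟨s, hs⟩ (ac y)]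
  refine ⟨S.basicOpen a, (hmem η hηV₀).mpr fun y _ => hac y, fun z hs hmin => ?_, fun s hs => ?_⟩
  · have hsV₀ : f z ∈ V₀ := S.basicOpen_le a hs
    have hzV₀ : z ∈ (f ⁻¹ᵁ V₀ : Set X) := hsV₀
    obtain ⟨x₂, hx₂t, hzx⟩ := Set.mem_iUnion₂.mp (htcov hzV₀)
    have hzW : z ∈ Wc x₂.1 := hzx
    have hxW' : x ∈ Wc x₂.1 := hmin.1.mem_open (Wc x₂.1).2 hzW
    exact (hkey x₂ hxW').1 ⟨z, hzW⟩ ((hmem (f z) hsV₀).mp hs x₂ hx₂t) hmin
  · have hsV₀ : s ∈ V₀ := S.basicOpen_le a hs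
    have hxV₀ : x ∈ (f ⁻¹ᵁ V₀ : Set X) := by
      show f x ∈ V₀
      rw [hfx]; exact hηV₀
    obtain ⟨x₁, hx₁t, hxx⟩ := Set.mem_iUnion₂.mp (htcov hxV₀)
    have hxW' : x ∈ Wc x₁.1 := hxx
    obtain ⟨z, hz1, hz2⟩ := (hkey x₁ hxW').2 s ((hmem s hsV₀).mp hs x₁ hx₁t)
    exact ⟨z, hz1, hz2⟩

end Global

end Groth.Agent.H76.AssGen
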