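import Mathlib
import Groth.Prelude
import Groth.Agent.H76.RelAssBridge
import Groth.Agent.H76.RelAssQuot
import Groth.Agent.H76.RelAssFibre
import Groth.Agent.H76.RelAssGen

/-!
# Chart-level statements on the relative assassin (helper76)
-/

set_option autoImplicit false
universe u
open AlgebraicGeometry CategoryTheory TensorProduct IsLocalRing TopologicalSpace

namespace Groth.Agent.H76.RelAss
open Groth.Agent.Lib.Helper45

variable {X S : Scheme.{u}} (f : X ⟶ S) {V : S.Opens} {W : X.Opens} (e : W ≤ f ⁻¹ᵁ V)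
  (hV : IsAffineOpen V) (hW : IsAffineOpen W) (F : X.Modules) [F.IsQuasicoherent]

include hV in
/-- In a chart: if the points of the relative assassin over the prime `p₀` of the base lie in the
open `U`, then so do those over all primes `p ⊇ p₀` avoiding some `a ∉ p₀`. -/
theorem chart_generic_subset (hft : (f.appLE V W e).hom.FiniteType)
    [Module.Finite Γ(X, W) Γ(F, W)] (p₀ : Ideal Γ(S, V)) [p₀.IsPrime] (U : X.Opens)
    (h : ∀ z : W, (z : X) ∈ MoreMor.relAss f F →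
      (hW.primeIdealOf z).asIdeal.comap (f.appLE V W e).hom = p₀ → (z : X) ∈ U) :
    ∃ a : Γ(S, V), a ∉ p₀ ∧ ∀ z : W, (z : X) ∈ MoreMor.relAss f F →
      p₀ ≤ (hW.primeIdealOf z).asIdeal.comap (f.appLE V W e).hom →
      a ∉ (hW.primeIdealOf z).asIdeal.comap (f.appLE V W e).hom → (z : X) ∈ U := by
  letI : Algebra Γ(S, V) Γ(X, W) := (f.appLE V W e).hom.toAlgebra
  letI : Module Γ(S, V) Γ(F, W) := Module.compHom _ (f.appLE V W e).hom
  haveI : IsScalarTower Γ(S, V) Γ(X, W) Γ(F, W) := IsScalarTower.of_compHom _ _ _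
  haveI : Algebra.FiniteType Γ(S, V) Γ(X, W) := hft
  -- the ideal of the complement of `U`
  set I : Ideal Γ(X, W) := ⨅ (z : W) (_ : (z : X) ∉ U), (hW.primeIdealOf z).asIdeal with hI
  have hImem : ∀ g ∈ I, ∀ z : W, g ∉ (hW.primeIdealOf z).asIdeal → (z : X) ∈ U := by
    intro g hg z hz
    by_contra hzU
    rw [hI, Ideal.mem_iInf] at hg
    have := hg z
    rw [Ideal.mem_iInf] at this
    exact hz (this hzU)
  -- no associated prime of the fibre over `p₀` contains `I`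
  have H : ∀ q : Ideal Γ(X, W), q.IsPrime → q.comap (algebraMap Γ(S, V) Γ(X, W)) = p₀ →
      IsFibAss (algebraMap Γ(S, V) Γ(X, W)) q Γ(F, W) → ¬ I ≤ q := by
    intro q hq hqp hass hle
    obtain ⟨z, hzW, hz⟩ := Groth.Agent.Lib.Helper55.exists_primeIdealOf_eq hW ⟨q, hq⟩
    have hzq : (hW.primeIdealOf ⟨z, hzW⟩).asIdeal = q := by rw [hz]
    have hzass : z ∈ MoreMor.relAss f F := by
      refine mem_relAss_of_isFibAss f e hV hW F ⟨z, hzW⟩ ?_
      rw [hzq]; exact hass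
    have hzU : z ∈ U := h ⟨z, hzW⟩ hzass (by rw [hzq]; exact hqp)
    obtain ⟨b, hb1, hb2⟩ := hW.exists_basicOpen_le (V := U) ⟨z, hzU⟩ hzW
    have hbI : b ∈ I := by
      rw [hI, Ideal.mem_iInf]
      intro z'
      rw [Ideal.mem_iInf]
      intro hz'
      by_contra hb
      exact hz' (hb1 ((mem_basicOpen_iff_not_mem_primeIdealOf hW z' b).mpr hb))
    have hbq : b ∉ q := by
      rw [← hzq]
      exact (mem_basicOpen_iff_not_mem_primeIdealOf hW ⟨z, hzW⟩ b).mp hb2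
    exact hbq (hle hbI)
  obtain ⟨g, hgI, hg⟩ := exists_mem_injective_fibre p₀ I H
  obtain ⟨a, ha, key⟩ := generic_injective p₀ g hg
  refine ⟨a, ha, fun z hz hle haz => ?_⟩
  apply hImem g hgI z
  refine notMem_of_mem_relAss f e hV hW F z hz g ?_
  exact key _ (Ideal.comap_isPrime _ _) hle haz

include hV hW in
/-- In a chart: a point `z₀` of the relative assassin persists generically: over every point `y` of
the closure of `f z₀` avoiding some `a`, there is a point of the relative assassin in the closure of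
`z₀`. -/
theorem chart_generic_exists (hft : (f.appLE V W e).hom.FiniteType)
    [Module.Finite Γ(X, W) Γ(F, W)] (z₀ : W) (hz₀ : (z₀ : X) ∈ MoreMor.relAss f F) :
    ∃ a : Γ(S, V), a ∉ (hV.primeIdealOf ⟨f (z₀ : X), e z₀.2⟩).asIdeal ∧
      ∀ y : V, f (z₀ : X) ⤳ (y : S) → a ∉ (hV.primeIdealOf y).asIdeal →
        ∃ z : W, (z : X) ∈ MoreMor.relAss f F ∧ f (z : X) = (y : S) ∧ (z₀ : X) ⤳ (z : X) := by
  letI : Algebra Γ(S, V) Γ(X, W) := (f.appLE V W e).hom.toAlgebra
  letI : Module Γ(S, V) Γ(F, W) := Module.compHom _ (f.appLE V W e).hom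
  haveI : IsScalarTower Γ(S, V) Γ(X, W) Γ(F, W) := IsScalarTower.of_compHom _ _ _
  haveI : Algebra.FiniteType Γ(S, V) Γ(X, W) := hft
  set q₀ := (hW.primeIdealOf z₀).asIdeal with hq₀
  set p₀ := (hV.primeIdealOf ⟨f (z₀ : X), e z₀.2⟩).asIdeal with hp₀
  haveI : q₀.IsPrime := (hW.primeIdealOf z₀).2
  haveI : p₀.IsPrime := (hV.primeIdealOf ⟨f (z₀ : X), e z₀.2⟩).2
  have hcomap : ∀ z : W, (hW.primeIdealOf z).asIdeal.comap (f.appLE V W e).hom =
      (hV.primeIdealOf ⟨f (z : X), e z.2⟩).asIdeal := fun z =>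
    (Groth.Agent.Lib.Helper55.primeIdealOf_comap f e (z : X) z.2 hW hV).symm
  have hq₀p₀ : q₀.comap (algebraMap Γ(S, V) Γ(X, W)) = p₀ := hcomap z₀
  have hass : IsFibAss (algebraMap Γ(S, V) Γ(X, W)) q₀ Γ(F, W) :=
    isFibAss_of_mem_relAss f e hV hW F hft z₀ hz₀
  obtain ⟨a, ha, key⟩ := generic_exists_fibAss p₀ q₀ hq₀p₀ hass
  refine ⟨a, ha, fun y hy hay => ?_⟩
  have hle : p₀ ≤ (hV.primeIdealOf y).asIdeal :=
    (Groth.Agent.Lib.Helper55.primeIdealOf_le_iff_specializes hV (f (z₀ : X)) (y : S) (e z₀.2)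
      y.2).mpr hy
  obtain ⟨q, hq, hq₀q, hqp, hqass⟩ := key _ (hV.primeIdealOf y).2 hle hay
  obtain ⟨z, hzW, hz⟩ := Groth.Agent.Lib.Helper55.exists_primeIdealOf_eq hW ⟨q, hq⟩
  have hzq : (hW.primeIdealOf ⟨z, hzW⟩).asIdeal = q := by rw [hz]
  refine ⟨⟨z, hzW⟩, ?_, ?_, ?_⟩
  · refine mem_relAss_of_isFibAss f e hV hW F ⟨z, hzW⟩ ?_
    rw [hzq]; exact hqass
  · have h1 : (hV.primeIdealOf ⟨f z, e hzW⟩).asIdeal = (hV.primeIdealOf y).asIdeal := by
      rw [← hcomap ⟨z, hzW⟩, hzq]; exact hqp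
    exact Groth.Agent.Lib.Helper55.primeIdealOf_injective hV (f z) (y : S) (e hzW) y.2
      (PrimeSpectrum.ext h1)
  · rw [← Groth.Agent.Lib.Helper55.primeIdealOf_le_iff_specializes hW (z₀ : X) z z₀.2 hzW, hzq]
    exact hq₀q

end Groth.Agent.H76.RelAss
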