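/-
helper76: generic persistence of embedded points of the fibres.
-/
import Mathlib
import Groth.Prelude
import Groth.Agent.H76.AssGenPkg
import Groth.Agent.H76.RelAssChart

set_option autoImplicit false
universe u
open AlgebraicGeometry CategoryTheory TopologicalSpace

namespace Groth.Agent.H76.AssGen

open Groth.Agent.H76.RelAss Groth.Agent.Lib.Helper45

variable {X S : Scheme.{u}} [IsIntegral S] [IsNoetherian S] (f : X ⟶ S) [LocallyOfFiniteType f]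
  [QuasiCompact f] (F : X.Modules) [F.IsQuasicoherent]

/-- If the generic fibre has an embedded associated point, so do all the fibres over a
neighbourhood of the generic point. -/
theorem generic_not_relNoEmb (hF : Coh.IsCoh F) (hgen : ¬ RelNoEmb f F (genericPoint S)) :
    ∃ U : S.Opens, genericPoint S ∈ U ∧ ∀ s ∈ U, ¬ RelNoEmb f F s := by
  classical
  unfold RelNoEmb at hgen
  push_neg at hgen
  obtain ⟨x, hx, y, hy, hfx, hfy, hyx, hne⟩ := hgen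
  obtain ⟨U₀, hU₀, key⟩ := generic_relPkg f F hF
  obtain ⟨_, ⟨V₀, hV₀, rfl⟩, hηV₀, -⟩ :=
    S.isBasis_affineOpens.exists_subset_of_mem_open (Set.mem_univ (genericPoint S)) isOpen_univ
  have hV₀' : IsAffineOpen V₀ := hV₀
  have hxV : x ∈ f ⁻¹ᵁ V₀ := by
    show f x ∈ V₀
    rw [hfx]; exact hηV₀
  obtain ⟨_, ⟨W, hW, rfl⟩, hxW, hWle⟩ :=
    X.isBasis_affineOpens.exists_subset_of_mem_open hxV (f ⁻¹ᵁ V₀).2
  have hW' : IsAffineOpen W := hW
  have hft : (f.appLE V₀ W hWle).hom.FiniteType :=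
    HasRingHomProperty.appLE (P := @LocallyOfFiniteType) f inferInstance ⟨V₀, hV₀'⟩ ⟨_, hW'⟩ hWle
  haveI : Module.Finite Γ(X, W) Γ(F, W) := finite_sections_of_isCoh hW' F hF
  obtain ⟨a, ha, kex⟩ := chart_generic_exists f hWle hV₀' hW' F hft ⟨x, hxW⟩ hx
  have hηa : genericPoint S ∈ S.basicOpen a := by
    rw [mem_basicOpen_iff_not_mem_primeIdealOf hV₀' ⟨genericPoint S, hηV₀⟩ a]
    have : (⟨f x, hWle hxW⟩ : V₀) = ⟨genericPoint S, hηV₀⟩ := Subtype.ext hfx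
    rw [← this]
    exact ha
  refine ⟨U₀ ⊓ S.basicOpen a, ⟨hU₀, hηa⟩, fun s hs hno => ?_⟩
  have hsV₀ : s ∈ V₀ := S.basicOpen_le a hs.2
  have has : a ∉ (hV₀'.primeIdealOf ⟨s, hsV₀⟩).asIdeal :=
    (mem_basicOpen_iff_not_mem_primeIdealOf hV₀' ⟨s, hsV₀⟩ a).mp hs.2
  have hsp : f x ⤳ s := by rw [hfx]; exact genericPoint_specializes s
  obtain ⟨z, -, hfz, hxz⟩ := kex ⟨s, hsV₀⟩ hsp has
  obtain ⟨z₁, hmin₁, hz₁z, hfz₁⟩ := exists_minPt f x (z : X) hxz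
  have hfz₁s : f z₁ = s := by rw [hfz₁]; exact hfz
  have hz₁ : z₁ ∈ MoreMor.relAss f F :=
    (key z₁ (by rw [hfz₁s]; exact hs.1)).2.1 x hx hfx hmin₁
  obtain ⟨z₂, hmin₂, hz₂z₁, hfz₂⟩ := exists_minPt f y z₁ (hyx.trans hmin₁.1)
  have hfz₂s : f z₂ = s := by rw [hfz₂]; exact hfz₁s
  have hpk₂ := key z₂ (by rw [hfz₂s]; exact hs.1)
  have hz₂ : z₂ ∈ MoreMor.relAss f F := hpk₂.2.1 y hy hfy hmin₂
  have hnxy : ¬ x ⤳ y := fun h => hne (h.antisymm hyx).eq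
  have h3 := hpk₂.2.2 y hy x hx hfy hfx hnxy hmin₂
  have := hno z₁ hz₁ z₂ hz₂ hfz₁s hfz₂s hz₂z₁
  rw [← this] at h3
  exact h3 hmin₁.1

end Groth.Agent.H76.AssGen
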