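/-
helper76: generic behaviour of the maximal points of the fibres, and separation for a pair of
points of the generic fibre.
-/
import Mathlib
import Groth.Prelude
import Groth.Agent.H76.AssKeyG
import Groth.Agent.H76.AssGenPkg

set_option autoImplicit false
universe u
open AlgebraicGeometry CategoryTheory TopologicalSpace

namespace Groth.Agent.H76.AssGen

open Groth.Agent.H76.RelAss Groth.Agent.Lib.Helper45

section Alg

variable {A B : Type u} [CommRing A] [IsDomain A] [IsNoetherianRing A] [CommRing B] [Algebra A B]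
  [Algebra.FiniteType A B]

/-- Generically, the primes over `p` minimal over a minimal prime `q₀` of `B` (over `0`) are
minimal among all the primes over `p`. -/
theorem generic_minimal_fibre :
    ∃ a : A, a ≠ 0 ∧ ∀ q₀ : Ideal B, q₀ ∈ minimalPrimes B → q₀.comap (algebraMap A B) = ⊥ →
      ∀ p : Ideal A, p.IsPrime → a ∉ p → ∀ q : Ideal B, q.IsPrime →
      q.comap (algebraMap A B) = p → q₀ ≤ q → MinOver q₀ p q →
      ∀ q' : Ideal B, q'.IsPrime → q' ≤ q → q'.comap (algebraMap A B) = p → q' = q := by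
  classical
  haveI : IsNoetherianRing B := Algebra.FiniteType.isNoetherianRing A B
  choose aa haa hsep using fun q₀ q₁ : Ideal B => sep (A := A) q₀ q₁
  set G : Finset (Ideal B) := (minimalPrimes.finite_of_isNoetherianRing B).toFinset with hG
  refine ⟨∏ x ∈ G ×ˢ G, aa x.1 x.2, Finset.prod_ne_zero_iff.mpr fun x _ => haa x.1 x.2,
    fun q₀ hq₀ hq₀c p hp hap q hq hqp hle hmin q' hq' hq'q hq'p => ?_⟩
  obtain ⟨Q₁, hQ₁, hQ₁q'⟩ := Ideal.exists_minimalPrimes_le (bot_le : (⊥ : Ideal B) ≤ q')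
  have hQ₁' : Q₁ ∈ minimalPrimes B := hQ₁
  by_cases heq : Q₁ = q₀
  · subst heq
    exact hmin q' hq' hQ₁q' hq'q hq'p
  · exfalso
    have hq₀prime : q₀.IsPrime := hq₀.1.1
    have hnle : ¬ Q₁ ≤ q₀ := by
      intro h
      exact heq (le_antisymm h (hq₀.2 ⟨hQ₁.1.1, bot_le⟩ h))
    have hmem : (q₀, Q₁) ∈ G ×ˢ G := Finset.mem_product.mpr
      ⟨(Set.Finite.mem_toFinset _).mpr hq₀, (Set.Finite.mem_toFinset _).mpr hQ₁'⟩
    have haap : aa q₀ Q₁ ∉ p := by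
      intro hh
      apply hap
      rw [← Finset.mul_prod_erase _ (fun x : Ideal B × Ideal B => aa x.1 x.2) hmem]
      exact Ideal.mul_mem_right _ _ hh
    exact hsep q₀ Q₁ hq₀prime hq₀c hnle p hp haap q hq hqp hle hmin (hQ₁q'.trans hq'q)

end Alg

section Chart

variable {X S : Scheme.{u}} [IsIntegral S] [IsLocallyNoetherian S] (f : X ⟶ S)
  [LocallyOfFiniteType f]
  {V : S.Opens} {W : X.Opens} (e : W ≤ f ⁻¹ᵁ V) (hV : IsAffineOpen V) (hW : IsAffineOpen W)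

include e hV hW in
theorem chart_generic_max (hηV : genericPoint S ∈ V) :
    ∃ a : Γ(S, V), (genericPoint S) ∈ S.basicOpen a ∧ ∀ x : W, (∀ w : X, w ⤳ (x : X) → w = x) →
      f (x : X) = genericPoint S → ∀ z : W, f (z : X) ∈ S.basicOpen a → MinPt f (x : X) (z : X) →
      ∀ y : X, y ⤳ (z : X) → f y = f (z : X) → y = z := by
  classical
  haveI : Nonempty V := ⟨⟨genericPoint S, hηV⟩⟩
  letI : Algebra Γ(S, V) Γ(X, W) := (f.appLE V W e).hom.toAlgebra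
  have hft : (f.appLE V W e).hom.FiniteType :=
    HasRingHomProperty.appLE (P := @LocallyOfFiniteType) f inferInstance ⟨V, hV⟩ ⟨_, hW⟩ e
  haveI : Algebra.FiniteType Γ(S, V) Γ(X, W) := hft
  haveI : IsNoetherianRing Γ(S, V) := IsLocallyNoetherian.component_noetherian ⟨V, hV⟩
  have hcomap : ∀ z : W, (hW.primeIdealOf z).asIdeal.comap (algebraMap Γ(S, V) Γ(X, W)) =
      (hV.primeIdealOf ⟨f (z : X), e z.2⟩).asIdeal := fun z =>
    (Groth.Agent.Lib.Helper55.primeIdealOf_comap f e (z : X) z.2 hW hV).symm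
  have hη0 := primeIdealOf_genericPoint hV hηV
  obtain ⟨a, ha, key⟩ := generic_minimal_fibre (A := Γ(S, V)) (B := Γ(X, W))
  refine ⟨a, ?_, fun x hxmax hfx z hfz hmin y hyz hfy => ?_⟩
  · rw [mem_basicOpen_iff_not_mem_primeIdealOf hV ⟨genericPoint S, hηV⟩ a, hη0]
    exact fun h => ha ((Submodule.mem_bot _).mp h)
  have hxmin : (hW.primeIdealOf x).asIdeal ∈ minimalPrimes Γ(X, W) := by
    refine ⟨⟨(hW.primeIdealOf x).2, bot_le⟩, ?_⟩
    rintro Q ⟨hQ, -⟩ hQle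
    obtain ⟨w, hwW, hw⟩ := Groth.Agent.Lib.Helper55.exists_primeIdealOf_eq hW ⟨Q, hQ⟩
    have hwQ : (hW.primeIdealOf ⟨w, hwW⟩).asIdeal = Q := by rw [hw]
    have hsp : w ⤳ (x : X) := by
      rw [← Groth.Agent.Lib.Helper55.primeIdealOf_le_iff_specializes hW w (x : X) hwW x.2, hwQ]
      exact hQle
    have := hxmax w hsp
    subst this
    rw [← hwQ]
  have hxc : (hW.primeIdealOf x).asIdeal.comap (algebraMap Γ(S, V) Γ(X, W)) = ⊥ := by
    rw [hcomap x, ← hη0]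
    congr 3
  have hap : a ∉ (hV.primeIdealOf ⟨f (z : X), e z.2⟩).asIdeal :=
    (mem_basicOpen_iff_not_mem_primeIdealOf hV ⟨f (z : X), e z.2⟩ a).mp hfz
  have hle := (Groth.Agent.Lib.Helper55.primeIdealOf_le_iff_specializes hW (x : X) (z : X) x.2
    z.2).mpr hmin.1
  have hyW : y ∈ W := hyz.mem_open W.2 z.2
  have hyle := (Groth.Agent.Lib.Helper55.primeIdealOf_le_iff_specializes hW y (z : X) hyW
    z.2).mpr hyz
  have hyc : (hW.primeIdealOf ⟨y, hyW⟩).asIdeal.comap (algebraMap Γ(S, V) Γ(X, W)) =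
      (hV.primeIdealOf ⟨f (z : X), e z.2⟩).asIdeal := by
    rw [hcomap ⟨y, hyW⟩]
    congr 3
  have := key _ hxmin hxc _ (hV.primeIdealOf ⟨f (z : X), e z.2⟩).2 hap _ (hW.primeIdealOf z).2
    (hcomap z) hle (minOver_of_minPt f e hV hW x z hmin) _ (hW.primeIdealOf ⟨y, hyW⟩).2 hyle hyc
  exact Groth.Agent.Lib.Helper55.primeIdealOf_injective hW y (z : X) hyW z.2
    (PrimeSpectrum.ext this)

include e hV hW in
theorem chart_generic_sep_pair (hηV : genericPoint S ∈ V) (x x' : X) :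
    ∃ a : Γ(S, V), (genericPoint S) ∈ S.basicOpen a ∧ (x ∈ W → x' ∈ W →
      f x = genericPoint S → ¬ x' ⤳ x → ∀ z : W, f (z : X) ∈ S.basicOpen a →
      MinPt f x (z : X) → ¬ x' ⤳ (z : X)) := by
  classical
  haveI : Nonempty V := ⟨⟨genericPoint S, hηV⟩⟩
  letI : Algebra Γ(S, V) Γ(X, W) := (f.appLE V W e).hom.toAlgebra
  have hft : (f.appLE V W e).hom.FiniteType :=
    HasRingHomProperty.appLE (P := @LocallyOfFiniteType) f inferInstance ⟨V, hV⟩ ⟨_, hW⟩ e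
  haveI : Algebra.FiniteType Γ(S, V) Γ(X, W) := hft
  haveI : IsNoetherianRing Γ(S, V) := IsLocallyNoetherian.component_noetherian ⟨V, hV⟩
  have hcomap : ∀ z : W, (hW.primeIdealOf z).asIdeal.comap (algebraMap Γ(S, V) Γ(X, W)) =
      (hV.primeIdealOf ⟨f (z : X), e z.2⟩).asIdeal := fun z =>
    (Groth.Agent.Lib.Helper55.primeIdealOf_comap f e (z : X) z.2 hW hV).symm
  have hη0 := primeIdealOf_genericPoint hV hηV
  have h1 : (1 : Γ(S, V)) ≠ 0 := by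
    haveI : Nontrivial Γ(S, V) := by
      refine ⟨⟨0, 1, fun h => ?_⟩⟩
      have : (1 : Γ(S, V)) ∈ (hV.primeIdealOf ⟨genericPoint S, hηV⟩).asIdeal := by
        rw [← h]; exact Submodule.zero_mem _
      exact (hV.primeIdealOf ⟨genericPoint S, hηV⟩).2.ne_top ((Ideal.eq_top_iff_one _).mpr this)
    exact one_ne_zero
  by_cases hmem : x ∈ W ∧ x' ∈ W
  swap
  · refine ⟨1, ?_, fun hx hx' => absurd ⟨hx, hx'⟩ hmem⟩
    rw [mem_basicOpen_iff_not_mem_primeIdealOf hV ⟨genericPoint S, hηV⟩ 1, hη0]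
    exact fun h => h1 ((Submodule.mem_bot _).mp h)
  obtain ⟨hxW, hx'W⟩ := hmem
  obtain ⟨a, ha, key⟩ := sep (A := Γ(S, V)) (hW.primeIdealOf ⟨x, hxW⟩).asIdeal
    (hW.primeIdealOf ⟨x', hx'W⟩).asIdeal
  refine ⟨a, ?_, fun _ _ hfx hn z hfz hmin hsp => ?_⟩
  · rw [mem_basicOpen_iff_not_mem_primeIdealOf hV ⟨genericPoint S, hηV⟩ a, hη0]
    exact fun h => ha ((Submodule.mem_bot _).mp h)
  have hxc : (hW.primeIdealOf ⟨x, hxW⟩).asIdeal.comap (algebraMap Γ(S, V) Γ(X, W)) = ⊥ := by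
    rw [hcomap ⟨x, hxW⟩, ← hη0]
    congr 3
  have hn' : ¬ (hW.primeIdealOf ⟨x', hx'W⟩).asIdeal ≤ (hW.primeIdealOf ⟨x, hxW⟩).asIdeal :=
    fun h => hn ((Groth.Agent.Lib.Helper55.primeIdealOf_le_iff_specializes hW x' x hx'W hxW).mp h)
  have hap : a ∉ (hV.primeIdealOf ⟨f (z : X), e z.2⟩).asIdeal :=
    (mem_basicOpen_iff_not_mem_primeIdealOf hV ⟨f (z : X), e z.2⟩ a).mp hfz
  have hle := (Groth.Agent.Lib.Helper55.primeIdealOf_le_iff_specializes hW x (z : X) hxW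
    z.2).mpr hmin.1
  exact key (hW.primeIdealOf ⟨x, hxW⟩).2 hxc hn' _ (hV.primeIdealOf ⟨f (z : X), e z.2⟩).2 hap _
    (hW.primeIdealOf z).2 (hcomap z) hle (minOver_of_minPt f e hV hW ⟨x, hxW⟩ z hmin)
    ((Groth.Agent.Lib.Helper55.primeIdealOf_le_iff_specializes hW x' (z : X) hx'W z.2).mpr hsp)

end Chart

section Global

variable {X S : Scheme.{u}} [IsIntegral S] [IsNoetherian S] (f : X ⟶ S) [LocallyOfFiniteType f]
  [QuasiCompact f]

/-- Near the generic point, the maximal points of the fibres of the closure of a maximal point `x`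
of `X` over the generic point are maximal points of the fibres of `X`. -/
theorem generic_max :
    ∃ U : S.Opens, genericPoint S ∈ U ∧ ∀ x : X, (∀ w : X, w ⤳ x → w = x) →
      f x = genericPoint S → ∀ z : X, f z ∈ U → MinPt f x z →
      ∀ y : X, y ⤳ z → f y = f z → y = z := by
  classical
  set η := genericPoint S with hη
  obtain ⟨_, ⟨V₀, hV₀, rfl⟩, hηV₀, -⟩ :=
    S.isBasis_affineOpens.exists_subset_of_mem_open (Set.mem_univ η) isOpen_univ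
  have hV₀' : IsAffineOpen V₀ := hV₀
  have hcomp : IsCompact (f ⁻¹ᵁ V₀ : Set X) := f.isCompact_preimage hV₀'.isCompact
  have hcov : ∀ x : X, x ∈ f ⁻¹ᵁ V₀ → ∃ W : X.Opens, IsAffineOpen W ∧ x ∈ W ∧ W ≤ f ⁻¹ᵁ V₀ := by
    intro x hx
    obtain ⟨_, ⟨W, hW, rfl⟩, hxW, hWle⟩ :=
      X.isBasis_affineOpens.exists_subset_of_mem_open hx (f ⁻¹ᵁ V₀).2
    exact ⟨W, hW, hxW, hWle⟩
  choose! Wc hWaff hxW hWle using hcov
  obtain ⟨t, htcov⟩ := hcomp.elim_nhds_subcover' (fun x hx => (Wc x : Set X))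
    (fun x hx => (Wc x).2.mem_nhds (hxW x hx))
  have hchart := fun x : (f ⁻¹ᵁ V₀ : Set X) =>
    chart_generic_max f (hWle x.1 x.2) hV₀' (hWaff x.1 x.2) hηV₀
  choose ac hac hkey using hchart
  set a : Γ(S, V₀) := ∏ x ∈ t, ac x with ha
  have hmem : ∀ (s : S) (hs : s ∈ V₀), s ∈ S.basicOpen a ↔ ∀ x ∈ t, s ∈ S.basicOpen (ac x) := by
    intro s hs
    rw [mem_basicOpen_iff_not_mem_primeIdealOf hV₀' ⟨s, hs⟩ a, ha,
      (hV₀'.primeIdealOf ⟨s, hs⟩).2.prod_mem_iff]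
    push_neg
    refine forall₂_congr fun x _ => ?_
    rw [mem_basicOpen_iff_not_mem_primeIdealOf hV₀' ⟨s, hs⟩ (ac x)]
  refine ⟨S.basicOpen a, (hmem η hηV₀).mpr fun x _ => hac x,
    fun x hxmax hfx z hs hmin y hyz hfy => ?_⟩
  have hsV₀ : f z ∈ V₀ := S.basicOpen_le a hs
  have hzV₀ : z ∈ (f ⁻¹ᵁ V₀ : Set X) := hsV₀
  obtain ⟨x₂, hx₂t, hzx⟩ := Set.mem_iUnion₂.mp (htcov hzV₀)
  have hzW : z ∈ Wc x₂.1 := hzx
  have hxW' : x ∈ Wc x₂.1 := hmin.1.mem_open (Wc x₂.1).2 hzW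
  exact hkey x₂ ⟨x, hxW'⟩ hxmax hfx ⟨z, hzW⟩ ((hmem (f z) hsV₀).mp hs x₂ hx₂t) hmin y hyz hfy

/-- Separation near the generic point for a pair of points of the generic fibre. -/
theorem generic_sep_pair (x x' : X) (hfx : f x = genericPoint S) (hn : ¬ x' ⤳ x) :
    ∃ U : S.Opens, genericPoint S ∈ U ∧ ∀ z : X, f z ∈ U → MinPt f x z → ¬ x' ⤳ z := by
  classical
  set η := genericPoint S with hη
  obtain ⟨_, ⟨V₀, hV₀, rfl⟩, hηV₀, -⟩ :=
    S.isBasis_affineOpens.exists_subset_of_mem_open (Set.mem_univ η) isOpen_univ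
  have hV₀' : IsAffineOpen V₀ := hV₀
  have hcomp : IsCompact (f ⁻¹ᵁ V₀ : Set X) := f.isCompact_preimage hV₀'.isCompact
  have hcov : ∀ x : X, x ∈ f ⁻¹ᵁ V₀ → ∃ W : X.Opens, IsAffineOpen W ∧ x ∈ W ∧ W ≤ f ⁻¹ᵁ V₀ := by
    intro x hx
    obtain ⟨_, ⟨W, hW, rfl⟩, hxW, hWle⟩ :=
      X.isBasis_affineOpens.exists_subset_of_mem_open hx (f ⁻¹ᵁ V₀).2
    exact ⟨W, hW, hxW, hWle⟩
  choose! Wc hWaff hxW hWle using hcov
  obtain ⟨t, htcov⟩ := hcomp.elim_nhds_subcover' (fun x hx => (Wc x : Set X))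
    (fun x hx => (Wc x).2.mem_nhds (hxW x hx))
  have hchart := fun y : (f ⁻¹ᵁ V₀ : Set X) =>
    chart_generic_sep_pair f (hWle y.1 y.2) hV₀' (hWaff y.1 y.2) hηV₀ x x'
  choose ac hac hkey using hchart
  set a : Γ(S, V₀) := ∏ x ∈ t, ac x with ha
  have hmem : ∀ (s : S) (hs : s ∈ V₀), s ∈ S.basicOpen a ↔ ∀ x ∈ t, s ∈ S.basicOpen (ac x) := by
    intro s hs
    rw [mem_basicOpen_iff_not_mem_primeIdealOf hV₀' ⟨s, hs⟩ a, ha,
      (hV₀'.primeIdealOf ⟨s, hs⟩).2.prod_mem_iff]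
    push_neg
    refine forall₂_congr fun x _ => ?_
    rw [mem_basicOpen_iff_not_mem_primeIdealOf hV₀' ⟨s, hs⟩ (ac x)]
  refine ⟨S.basicOpen a, (hmem η hηV₀).mpr fun x _ => hac x, fun z hs hmin hsp => ?_⟩
  have hsV₀ : f z ∈ V₀ := S.basicOpen_le a hs
  have hzV₀ : z ∈ (f ⁻¹ᵁ V₀ : Set X) := hsV₀
  obtain ⟨x₂, hx₂t, hzx⟩ := Set.mem_iUnion₂.mp (htcov hzV₀)
  have hzW : z ∈ Wc x₂.1 := hzx
  have hxW' : x ∈ Wc x₂.1 := hmin.1.mem_open (Wc x₂.1).2 hzW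
  have hx'W' : x' ∈ Wc x₂.1 := hsp.mem_open (Wc x₂.1).2 hzW
  exact hkey x₂ hxW' hx'W' hfx hn ⟨z, hzW⟩ ((hmem (f z) hsV₀).mp hs x₂ hx₂t) hmin hsp

end Global

end Groth.Agent.H76.AssGen
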