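/-
helper76: the dimensions of the irreducible components of a constructible subset of a Noetherian
sober space, in terms of its maximal points.
-/
import Mathlib
import Groth.Agent.Lib.Helper12.ConstrTop
import Groth.Agent.Lib.Helper55.DimAttained
import Groth.Agent.H76.AssDimSupp

set_option autoImplicit false
open Topology TopologicalSpace Set

namespace Groth.Agent.H76.CompDims

open Groth.Agent.Lib.Helper12.ConstrTop

section Top

variable {Y : Type*} [TopologicalSpace Y]

/-- The maximal points (for the specialization order) of a subset. -/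
def MaxPts (E : Set Y) : Set Y := {x | x ∈ E ∧ ∀ y ∈ E, y ⤳ x → y = x}

/-- A maximal point of the closure of a constructible subset of a Noetherian sober space belongs to
the subset. -/
theorem mem_of_maximal_closure [NoetherianSpace Y] [QuasiSober Y] {E : Set Y}
    (hE : IsConstructible E) {x : Y} (hx : x ∈ closure E)
    (hmax : ∀ y ∈ closure E, y ⤳ x → y = x) : x ∈ E := by
  classical
  obtain ⟨S, hSf, hSc, hSi, hSU⟩ :=
    NoetherianSpace.exists_finite_set_isClosed_irreducible (isClosed_closure : IsClosed (closure E))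
  set B : Set Y := ⋃ s ∈ {s ∈ S | x ∉ s}, s with hB
  have hBc : IsClosed B :=
    (hSf.subset (fun s hs => hs.1)).isClosed_biUnion fun s hs => hSc s hs.1
  have hxB : x ∉ B := by
    intro h
    obtain ⟨s, hs, hxs⟩ := Set.mem_iUnion₂.mp h
    exact hs.2 hxs
  have hcov : closure E ⊆ closure {x} ∪ B := by
    intro c hc
    rw [hSU] at hc
    obtain ⟨s, hs, hcs⟩ := hc
    by_cases hxs : x ∈ s
    · left
      obtain ⟨y, hy⟩ := QuasiSober.sober (hSi s hs) (hSc s hs)
      have hyx : y ⤳ x := by
        rw [specializes_iff_mem_closure, hy.def]; exact hxs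
      have hyE : y ∈ closure E := by
        rw [hSU]
        exact ⟨s, hs, by rw [← hy.def]; exact subset_closure rfl⟩
      have := hmax y hyE hyx
      rw [← this, hy.def]
      exact hcs
    · right
      exact Set.mem_iUnion₂.mpr ⟨s, ⟨hs, hxs⟩, hcs⟩
  have hd : closure ({x} : Set Y) ⊆ closure (E ∩ closure {x}) := by
    refine closure_minimal ?_ isClosed_closure
    rintro _ rfl
    rw [mem_closure_iff]
    intro o ho hxo
    have hx' := mem_closure_iff.mp hx (o ∩ Bᶜ) (ho.inter hBc.isOpen_compl) ⟨hxo, hxB⟩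
    obtain ⟨z, ⟨hzo, hzB⟩, hzE⟩ := hx'
    refine ⟨z, hzo, hzE, ?_⟩
    rcases hcov (subset_closure hzE) with h | h
    · exact h
    · exact absurd h hzB
  obtain ⟨U, hU, ⟨z, hzU, hzx⟩, hsub⟩ :=
    exists_open_of_dense_trace hE (isIrreducible_singleton (x := x)).closure hd
  have hxz : x ⤳ z := specializes_iff_mem_closure.mpr hzx
  exact hsub ⟨hxz.mem_open hU hzU, subset_closure rfl⟩

theorem maxPts_closure [NoetherianSpace Y] [QuasiSober Y] [T0Space Y] {E : Set Y}
    (hE : IsConstructible E) : MaxPts (closure E) = MaxPts E := by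
  ext x
  constructor
  · rintro ⟨hx, hmax⟩
    exact ⟨mem_of_maximal_closure hE hx hmax, fun y hy hyx => hmax y (subset_closure hy) hyx⟩
  · rintro ⟨hx, hmax⟩
    refine ⟨subset_closure hx, fun y hy hyx => ?_⟩
    obtain ⟨q, hq, hqy, hqmax⟩ :=
      Groth.Agent.Lib.Helper55.exists_maximal_point_specializes (closure E) isClosed_closure y hy
    have hqE : q ∈ E := mem_of_maximal_closure hE hq fun w hw hwq =>
      ((hqmax w hw hwq).antisymm hwq).eq.symm
    have hqx : q = x := hmax q hqE (hqy.trans hyx)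
    rw [hqx] at hqy
    exact (hyx.antisymm hqy).eq

/-- A constructible subset of a Noetherian sober space is sober. -/
theorem quasiSober_of_isConstructible [NoetherianSpace Y] [QuasiSober Y] {E : Set Y}
    (hE : IsConstructible E) : QuasiSober ↥E := by
  refine ⟨fun {D} hD hDc => ?_⟩
  set D₁ : Set Y := Subtype.val '' D with hD₁
  have hD₁i : IsIrreducible D₁ := hD.image _ continuous_subtype_val.continuousOn
  have hDeq : D = Subtype.val ⁻¹' closure D₁ := by
    rw [← IsInducing.subtypeVal.closure_eq_preimage_closure_image, hDc.closure_eq]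
  obtain ⟨x, hx⟩ := QuasiSober.sober hD₁i.closure isClosed_closure
  have hED : E ∩ closure D₁ = D₁ := by
    apply subset_antisymm
    · rintro e ⟨heE, hec⟩
      have : (⟨e, heE⟩ : ↥E) ∈ D := by rw [hDeq]; exact hec
      exact ⟨⟨e, heE⟩, this, rfl⟩
    · rintro _ ⟨d, hd, rfl⟩
      exact ⟨d.2, subset_closure ⟨d, hd, rfl⟩⟩
  have hd : closure D₁ ⊆ closure (E ∩ closure D₁) := by rw [hED]
  obtain ⟨U, hU, ⟨z, hzU, hzx⟩, hsub⟩ := exists_open_of_dense_trace hE hD₁i.closure hd
  have hxz : x ⤳ z := by
    rw [specializes_iff_mem_closure, hx.def]; exact hzx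
  have hxc : x ∈ closure D₁ := by rw [← hx.def]; exact subset_closure rfl
  have hxE : x ∈ E := hsub ⟨hxz.mem_open hU hzU, hxc⟩
  refine ⟨⟨x, hxE⟩, ?_⟩
  show closure ({(⟨x, hxE⟩ : ↥E)} : Set ↥E) = D
  rw [IsInducing.subtypeVal.closure_eq_preimage_closure_image, Set.image_singleton, hx.def, ← hDeq]

/-- The dimensions of the irreducible components of a constructible subset of a Noetherian sober
space. -/
theorem compDims_eq [NoetherianSpace Y] [QuasiSober Y] [T0Space Y] {E : Set Y}
    (hE : IsConstructible E) :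
    (fun C : Set ↥E => topologicalKrullDim ↥C) '' irreducibleComponents ↥E =
      (fun x : Y => topologicalKrullDim ↥(closure ({x} : Set Y) ∩ E)) '' MaxPts E := by
  haveI := quasiSober_of_isConstructible hE
  rw [Groth.Agent.H76.AssGen.dims_irreducibleComponents_eq (α := ↥E)]
  have hdim : ∀ c : ↥E, topologicalKrullDim ↥(closure ({c} : Set ↥E)) =
      topologicalKrullDim ↥(closure ({(c : Y)} : Set Y) ∩ E) := by
    intro c
    have := Groth.Agent.Lib.Helper55.topologicalKrullDim_closure_inter_range_eq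
      (Subtype.val : ↥E → Y) IsEmbedding.subtypeVal c
    rw [Subtype.range_coe] at this
    exact this.symm
  have hsp : ∀ a b : ↥E, a ⤳ b ↔ (a : Y) ⤳ (b : Y) := fun a b =>
    (IsInducing.subtypeVal.specializes_iff).symm
  ext w
  constructor
  · rintro ⟨c, hc, rfl⟩
    refine ⟨(c : Y), ⟨c.2, fun y hy hyc => ?_⟩, (hdim c).symm⟩
    exact congrArg Subtype.val (hc ⟨y, hy⟩ ((hsp _ _).mpr hyc))
  · rintro ⟨x, ⟨hx, hmax⟩, rfl⟩
    refine ⟨⟨x, hx⟩, fun y hy => ?_, hdim ⟨x, hx⟩⟩
    exact Subtype.ext (hmax y y.2 ((hsp _ _).mp hy))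

end Top

end Groth.Agent.H76.CompDims
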