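/-
helper76: the dimensions of the irreducible components of a constructible subset of an algebraic
scheme over a field, and their invariance under extension of the base field.
-/
import Mathlib
import Groth.Prelude
import Groth.Agent.H76.CompDimsTop
import Groth.Agent.H76.AssDimField2

set_option autoImplicit false
universe u
open AlgebraicGeometry CategoryTheory TopologicalSpace Limits Topology

namespace Groth.Agent.H76.CompDims

open Groth.Agent.Lib.Helper97.AssFibre Groth.Agent.Lib.Helper23 Groth.Agent.H76.AssGen

section OverField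

variable {Y T : Scheme.{u}} (g : Y ⟶ T) [IsIntegral T] [Subsingleton T] [LocallyOfFiniteType g]
  [QuasiCompact g]

include g in
theorem noetherianSpace_of_field : NoetherianSpace Y := by
  haveI : IsLocallyNoetherian T := isLocallyNoetherian_of_subsingleton T
  haveI : IsLocallyNoetherian Y := LocallyOfFiniteType.isLocallyNoetherian g
  haveI : CompactSpace T := Finite.compactSpace
  haveI : CompactSpace Y := QuasiCompact.compactSpace_of_compactSpace g
  haveI : IsNoetherian Y := {}
  infer_instance

include g in
theorem dim_closure_inter_eq {E : Set Y} (hE : IsConstructible E) {x : Y} (hx : x ∈ E) :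
    topologicalKrullDim ↥(closure ({x} : Set Y) ∩ E) =
      topologicalKrullDim ↥(closure ({x} : Set Y)) := by
  haveI := noetherianSpace_of_field g
  haveI : IsAffine T := isAffine_of_subsingleton T
  have hk := isField_of_isIntegral_of_subsingleton T
  letI := hk.toField
  let ρ : Y ⟶ Spec (CommRingCat.of Γ(T, ⊤)) := g ≫ T.isoSpec.hom
  haveI : LocallyOfFiniteType ρ := by
    show LocallyOfFiniteType (g ≫ T.isoSpec.hom)
    infer_instance
  refine le_antisymm (Groth.Agent.Lib.Helper55.topologicalKrullDim_inter_le _ _) ?_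
  have hd : closure ({x} : Set Y) ⊆ closure (E ∩ closure {x}) :=
    closure_mono (Set.singleton_subset_iff.mpr ⟨hx, subset_closure rfl⟩)
  obtain ⟨U, hU, ⟨z, hzU, hzx⟩, hsub⟩ :=
    Groth.Agent.Lib.Helper12.ConstrTop.exists_open_of_dense_trace hE
      (isIrreducible_singleton (x := x)).closure hd
  have hxz : x ⤳ z := specializes_iff_mem_closure.mpr hzx
  have hxU : x ∈ U := hxz.mem_open hU hzU
  rw [← Groth.Agent.Lib.Helper55.topologicalKrullDim_closure_inter_opens_eq ρ x ⟨U, hU⟩ hxU]
  apply Groth.Agent.Lib.Helper55.topologicalKrullDim_mono_set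
  rintro w ⟨hw1, hw2⟩
  exact ⟨hw1, hsub ⟨hw2, hw1⟩⟩

include g in
/-- The dimensions of the irreducible components of a constructible subset of an algebraic scheme
over a field are the dimensions of the closures of its maximal points. -/
theorem compDims_eq_field {E : Set Y} (hE : IsConstructible E) :
    (fun C : Set ↥E => topologicalKrullDim ↥C) '' irreducibleComponents ↥E =
      (fun x : Y => topologicalKrullDim ↥(closure ({x} : Set Y))) '' MaxPts E := by
  haveI := noetherianSpace_of_field g
  rw [compDims_eq hE]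
  ext w
  constructor
  · rintro ⟨x, hx, rfl⟩
    exact ⟨x, hx, (dim_closure_inter_eq g hE hx.1).symm⟩
  · rintro ⟨x, hx, rfl⟩
    exact ⟨x, hx, dim_closure_inter_eq g hE hx.1⟩

end OverField

section Field

variable {Y Y' T T' : Scheme.{u}} (g : Y ⟶ T) (g' : Y' ⟶ T') (e : Y' ⟶ Y) (h : T' ⟶ T)
  [IsIntegral T] [Subsingleton T] [IsIntegral T'] [Subsingleton T'] [LocallyOfFiniteType g]
  [QuasiCompact g]

include g g' h in
/-- The dimensions of the irreducible components of a constructible subset are invariant under
extension of the base field. -/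
theorem compDims_preimage_eq_of_isPullback_field (hpb : IsPullback e g' g h) {E : Set Y}
    (hE : IsConstructible E) :
    (fun C : Set ↥(e ⁻¹' E) => topologicalKrullDim ↥C) '' irreducibleComponents ↥(e ⁻¹' E) =
      (fun C : Set ↥E => topologicalKrullDim ↥C) '' irreducibleComponents ↥E := by
  obtain ⟨hY, hY', hfl, hsurj, hfib, hmaxdim⟩ := field_core g g' e h hpb
  haveI : LocallyOfFiniteType g' :=
    MorphismProperty.of_isPullback (P := @LocallyOfFiniteType) hpb inferInstance
  haveI : QuasiCompact g' :=
    MorphismProperty.of_isPullback (P := @QuasiCompact) hpb inferInstance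
  rw [compDims_eq_field g hE, compDims_eq_field g' (e.isConstructible_preimage hE)]
  ext w
  constructor
  · rintro ⟨x', ⟨hx', hmax'⟩, rfl⟩
    have hfa : FibAssRingAt e x' := by
      obtain ⟨w₀, hw₀, hw₀x', hπ⟩ := exists_fibAssRingAt_specializes e x'
      have hw₀E : w₀ ∈ e ⁻¹' E := by
        show e w₀ ∈ E
        rw [hπ]; exact hx'
      rw [← hmax' w₀ hw₀E hw₀x']
      exact hw₀
    refine ⟨e x', ⟨hx', fun y hy hyx => ?_⟩, (hmaxdim x' hfa).symm⟩
    obtain ⟨y', hy'x', hey'⟩ := (Flat.generalizingMap e) hyx
    have hy'E : y' ∈ e ⁻¹' E := by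
      show e y' ∈ E
      rw [hey']; exact hy
    rw [← hey', hmax' y' hy'E hy'x']
  · rintro ⟨x, ⟨hx, hmax⟩, rfl⟩
    obtain ⟨w₁, rfl⟩ := e.surjective x
    obtain ⟨w₀, hw₀, -, hπ⟩ := exists_fibAssRingAt_specializes e w₁
    refine ⟨w₀, ⟨by show e w₀ ∈ E; rw [hπ]; exact hx, fun y' hy' hy'w₀ => ?_⟩, ?_⟩
    · have h3 : e y' = e w₀ := by
        rw [hπ]
        exact hmax (e y') hy' (hπ ▸ hy'w₀.map e.continuous)
      exact eq_of_specializes_of_fibAssRingAt e hfib w₀ hw₀ y' hy'w₀ h3
    · show topologicalKrullDim ↥(closure ({w₀} : Set Y')) = _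
      rw [hmaxdim w₀ hw₀, hπ]

end Field

end Groth.Agent.H76.CompDims
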