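/-
helper76: generic constancy of the dimensions of the irreducible components of the fibres of a
constructible subset.
-/
import Mathlib
import Groth.Prelude
import Groth.Agent.H76.CompDimsField
import Groth.Agent.H76.AssDimPt
import Groth.Agent.H76.AssDimFib
import Groth.Agent.H76.AssMax
import Groth.Agent.Lib.Helper23.ConsClosedRange

set_option autoImplicit false
universe u
open AlgebraicGeometry CategoryTheory TopologicalSpace Topology

namespace Groth.Agent.H76.CompDims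

open Groth.Agent.Lib.Helper97.AssFibre Groth.Agent.H76.AssGen

/-- Finite intersections of open neighbourhoods. -/
theorem exists_opens_forall_of_finite {S : Type*} [TopologicalSpace S] {ι : Type*} {t : Set ι}
    (ht : t.Finite) (η : S) (P : ι → S → Prop)
    (h : ∀ i ∈ t, ∃ U : Opens S, η ∈ U ∧ ∀ s ∈ U, P i s) :
    ∃ U : Opens S, η ∈ U ∧ ∀ i ∈ t, ∀ s ∈ U, P i s := by
  choose! Ui hUi using h
  refine ⟨⟨⋂ i ∈ t, (Ui i : Set S), ht.isOpen_biInter fun i _ => (Ui i).2⟩, ?_, ?_⟩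
  · exact Set.mem_iInter₂.mpr fun i hi => (hUi i hi).1
  · intro i hi s hs
    exact (hUi i hi).2 s (Set.mem_iInter₂.mp hs i hi)

/-- The maximal points of the trace of `C` on the fibre at `s`, as points of the total space. -/
def FibMaxPts {X S : Scheme.{u}} (f : X ⟶ S) (C : Set X) (s : S) : Set X :=
  {x | x ∈ C ∧ f x = s ∧ ∀ y ∈ C, f y = s → y ⤳ x → y = x}

theorem mem_maxPts_preimage_fiberι_iff {X S : Scheme.{u}} (f : X ⟶ S) (Z : Set X) (s : S)
    (y : ↥(f.fiber s)) :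
    y ∈ MaxPts ((f.fiberι s) ⁻¹' Z) ↔ f.fiberι s y ∈ FibMaxPts f Z s := by
  constructor
  · rintro ⟨hy, hmax⟩
    refine ⟨hy, apply_fiberι' f s y, fun x hx hfx hxy => ?_⟩
    obtain ⟨y', rfl⟩ := exists_fiberι_eq f s x hfx
    have h1 : y' ⤳ y := (f.fiberι s).isEmbedding.isInducing.specializes_iff.mp hxy
    rw [hmax y' hx h1]
  · rintro ⟨hy, -, hmax⟩
    refine ⟨hy, fun y' hy' hy'y => ?_⟩
    have := hmax (f.fiberι s y') hy' (apply_fiberι' f s y') (hy'y.map (f.fiberι s).continuous)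
    exact (f.fiberι s).isEmbedding.injective this

section Global

variable {X S : Scheme.{u}} [IsIntegral S] [IsNoetherian S] (f : X ⟶ S) [LocallyOfFiniteType f]
  [QuasiCompact f]

include f in
theorem noetherianSpace_total : NoetherianSpace X := by
  haveI : IsLocallyNoetherian X := LocallyOfFiniteType.isLocallyNoetherian f
  haveI : CompactSpace X := QuasiCompact.compactSpace_of_compactSpace f
  haveI : IsNoetherian X := {}
  infer_instance

theorem finite_maxPts_of_isClosed {Y : Type*} [TopologicalSpace Y] [NoetherianSpace Y]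
    [QuasiSober Y] [T0Space Y] (C : Set Y) (hC : IsClosed C) : (MaxPts C).Finite := by
  obtain ⟨S₀, hSf, hSc, hSi, hSU⟩ := NoetherianSpace.exists_finite_set_isClosed_irreducible hC
  have hsub : MaxPts C ⊆ (fun ξ : Y => closure ({ξ} : Set Y)) ⁻¹' S₀ := by
    rintro ξ ⟨hξ, hmax⟩
    rw [hSU] at hξ
    obtain ⟨s, hs, hξs⟩ := hξ
    obtain ⟨y, hy⟩ := QuasiSober.sober (hSi s hs) (hSc s hs)
    have hyξ : y ⤳ ξ := by
      rw [specializes_iff_mem_closure, hy.def]; exact hξs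
    have hyC : y ∈ C := by
      rw [hSU]
      exact ⟨s, hs, by rw [← hy.def]; exact subset_closure rfl⟩
    have := hmax y hyC hyξ
    show closure ({ξ} : Set Y) ∈ S₀
    rw [← this, hy.def]
    exact hs
  refine (hSf.preimage ?_).subset hsub
  intro a _ b _ hab
  have h1 : a ⤳ b := by
    rw [specializes_iff_closure_subset]
    exact (show closure ({a} : Set Y) = closure {b} from hab).symm.subset
  have h2 : b ⤳ a := by
    rw [specializes_iff_closure_subset]
    exact (show closure ({a} : Set Y) = closure {b} from hab).subset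
  exact (h1.antisymm h2).eq

/-- **Generic structure of the maximal points of the fibres of a closed subset.** -/
theorem generic_fibMaxPts (C : Set X) (hC : IsClosed C) :
    ∃ U : S.Opens, genericPoint S ∈ U ∧
      (∀ z : X, f z ∈ U →
        (z ∈ FibMaxPts f C (f z) ↔ ∃ ξ ∈ FibMaxPts f C (genericPoint S), MinPt f ξ z)) ∧
      (∀ ξ ∈ FibMaxPts f C (genericPoint S),
        (∀ z : X, f z ∈ U → MinPt f ξ z → relTrdeg f z = relTrdeg f ξ) ∧
        (∀ s ∈ U, ∃ z : X, f z = s ∧ ξ ⤳ z)) := by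
  classical
  haveI := noetherianSpace_total f
  set η := genericPoint S with hη
  have hΞfin : (MaxPts C).Finite := finite_maxPts_of_isClosed C hC
  have hA : ∀ ξ : X, ξ ∈ FibMaxPts f C η ↔ ξ ∈ MaxPts C ∧ f ξ = η := by
    intro ξ
    constructor
    · rintro ⟨h1, h2, h3⟩
      refine ⟨⟨h1, fun c hc hcξ => h3 c hc ?_ hcξ⟩, h2⟩
      have h4 : f c ⤳ η := h2 ▸ hcξ.map f.continuous
      exact (h4.antisymm (genericPoint_specializes _)).eq
    · rintro ⟨⟨h1, h3⟩, h2⟩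
      exact ⟨h1, h2, fun c hc _ hcξ => h3 c hc hcξ⟩
  have hB : ∀ c ∈ C, ∃ ξ ∈ MaxPts C, ξ ⤳ c := by
    intro c hc
    obtain ⟨q, hq, hqc, hqmax⟩ :=
      Groth.Agent.Lib.Helper55.exists_maximal_point_specializes C hC c hc
    exact ⟨q, ⟨hq, fun y hy hyq => ((hqmax y hy hyq).antisymm hyq).eq.symm⟩, hqc⟩
  -- avoid the non-generic maximal points
  obtain ⟨U₁, hU₁, k₁⟩ := exists_opens_forall_of_finite hΞfin η
    (fun ξ s => f ξ ≠ η → ¬ f ξ ⤳ s) (by
      intro ξ _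
      by_cases hfξ : f ξ = η
      · exact ⟨⊤, trivial, fun s _ h => absurd hfξ h⟩
      · refine ⟨⟨(closure {f ξ})ᶜ, isClosed_closure.isOpen_compl⟩, ?_, fun s hs _ hsp => ?_⟩
        · intro h
          have h1 : f ξ ⤳ η := specializes_iff_mem_closure.mpr h
          exact hfξ (h1.antisymm (genericPoint_specializes _)).eq
        · exact hs (specializes_iff_mem_closure.mp hsp))
  -- dimensions
  obtain ⟨U₂, hU₂, k₂⟩ := exists_opens_forall_of_finite hΞfin η
    (fun ξ s => f ξ = η → (∀ z : X, f z = s → MinPt f ξ z → relTrdeg f z = relTrdeg f ξ) ∧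
      (∃ z : X, f z = s ∧ ξ ⤳ z)) (by
      intro ξ _
      by_cases hfξ : f ξ = η
      · obtain ⟨U, hU, h1, h2⟩ := generic_dim_pt f ξ hfξ
        exact ⟨U, hU, fun s hs _ => ⟨fun z hz hmin => h1 z (by rw [hz]; exact hs) hmin, h2 s hs⟩⟩
      · exact ⟨⊤, trivial, fun s _ h => absurd h hfξ⟩)
  -- separation
  obtain ⟨U₃, hU₃, k₃⟩ := exists_opens_forall_of_finite (hΞfin.prod hΞfin) η
    (fun p s => f p.1 = η → ¬ p.2 ⤳ p.1 → ∀ z : X, f z = s → MinPt f p.1 z → ¬ p.2 ⤳ z) (by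
      rintro ⟨ξ, ξ'⟩ _
      by_cases hc : f ξ = η ∧ ¬ ξ' ⤳ ξ
      · obtain ⟨U, hU, h1⟩ := generic_sep_pair f ξ ξ' hc.1 hc.2
        exact ⟨U, hU, fun s hs _ _ z hz hmin => h1 z (by rw [hz]; exact hs) hmin⟩
      · exact ⟨⊤, trivial, fun s _ h1 h2 => absurd ⟨h1, h2⟩ hc⟩)
  refine ⟨U₁ ⊓ U₂ ⊓ U₃, ⟨⟨hU₁, hU₂⟩, hU₃⟩, fun z hz => ⟨?_, ?_⟩, fun ξ hξ => ⟨?_, ?_⟩⟩
  · rintro ⟨hzC, -, hzmax⟩
    obtain ⟨ξ, hξ, hξz⟩ := hB z hzC
    have hfξ : f ξ = η := by
      by_contra hne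
      exact k₁ ξ hξ (f z) hz.1.1 hne (hξz.map f.continuous)
    refine ⟨ξ, (hA ξ).mpr ⟨hξ, hfξ⟩, hξz, fun z' h1 h2 h3 => ?_⟩
    exact hzmax z' (h1.mem_closed hC hξ.1) h3 h2
  · rintro ⟨ξ, hξ, hmin⟩
    obtain ⟨hξM, hfξ⟩ := (hA ξ).mp hξ
    refine ⟨hmin.1.mem_closed hC hξM.1, rfl, fun y hy hfy hyz => ?_⟩
    obtain ⟨ξ', hξ', hξ'y⟩ := hB y hy
    have hfξ' : f ξ' = η := by
      by_contra hne
      exact k₁ ξ' hξ' (f z) hz.1.1 hne (hfy ▸ hξ'y.map f.continuous)
    by_cases hsp : ξ' ⤳ ξ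
    · have : ξ' = ξ := hξM.2 ξ' hξ'.1 hsp
      rw [this] at hξ'y
      exact hmin.2 y hξ'y hyz hfy
    · exact absurd (hξ'y.trans hyz)
        (k₃ (ξ, ξ') ⟨hξM, hξ'⟩ (f z) hz.2 hfξ hsp z rfl hmin)
  · intro z hz hmin
    obtain ⟨hξM, hfξ⟩ := (hA ξ).mp hξ
    exact (k₂ ξ hξM (f z) hz.1.2 hfξ).1 z rfl hmin
  · intro s hs
    obtain ⟨hξM, hfξ⟩ := (hA ξ).mp hξ
    exact (k₂ ξ hξM s hs.1.2 hfξ).2

/-- Near the generic point, the set of the dimensions of the irreducible components of the fibres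
of a closed subset is constant. -/
theorem generic_dims_closed (C : Set X) (hC : IsClosed C) :
    ∃ U : S.Opens, genericPoint S ∈ U ∧ ∀ s ∈ U,
      (fun y : ↥(f.fiber s) => topologicalKrullDim ↥(closure ({y} : Set ↥(f.fiber s)))) ''
          MaxPts ((f.fiberι s) ⁻¹' C) =
        (fun y : ↥(f.fiber (genericPoint S)) =>
          topologicalKrullDim ↥(closure ({y} : Set ↥(f.fiber (genericPoint S))))) ''
          MaxPts ((f.fiberι (genericPoint S)) ⁻¹' C) := by
  obtain ⟨U, hU, k1, k2⟩ := generic_fibMaxPts f C hC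
  refine ⟨U, hU, fun s hs => ?_⟩
  ext w
  constructor
  · rintro ⟨y, hy, rfl⟩
    have hz := (mem_maxPts_preimage_fiberι_iff f C s y).mp hy
    have hfz : f (f.fiberι s y) = s := apply_fiberι' f s y
    have hz' : f.fiberι s y ∈ FibMaxPts f C (f (f.fiberι s y)) := by rw [hfz]; exact hz
    obtain ⟨ξ, hξ, hmin⟩ := (k1 _ (by rw [hfz]; exact hs)).mp hz'
    obtain ⟨y₀, rfl⟩ := exists_fiberι_eq f _ ξ hξ.2.1
    refine ⟨y₀, (mem_maxPts_preimage_fiberι_iff f C _ y₀).mpr hξ, ?_⟩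
    have := (k2 _ hξ).1 _ (by rw [hfz]; exact hs) hmin
    exact (dim_closure_fiber_eq_of_relTrdeg_eq f y y₀ this).symm
  · rintro ⟨y₀, hy₀, rfl⟩
    have hξ := (mem_maxPts_preimage_fiberι_iff f C _ y₀).mp hy₀
    obtain ⟨z₀, hfz₀, hξz₀⟩ := (k2 _ hξ).2 s hs
    obtain ⟨z₁, hmin, -, hfz₁⟩ := exists_minPt f _ z₀ hξz₀
    have hfz₁s : f z₁ = s := by rw [hfz₁, hfz₀]
    have hz₁ : z₁ ∈ FibMaxPts f C (f z₁) :=
      (k1 z₁ (by rw [hfz₁s]; exact hs)).mpr ⟨_, hξ, hmin⟩
    have hdim := (k2 _ hξ).1 z₁ (by rw [hfz₁s]; exact hs) hmin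
    rw [hfz₁s] at hz₁
    obtain ⟨y, rfl⟩ := exists_fiberι_eq f s z₁ hfz₁s
    exact ⟨y, (mem_maxPts_preimage_fiberι_iff f C s y).mpr hz₁,
      dim_closure_fiber_eq_of_relTrdeg_eq f y y₀ hdim⟩

/-- Near the generic point, the set of the dimensions of the irreducible components of the fibres
of a constructible subset is constant. -/
theorem generic_compDims (Z : Set X) (hZ : IsConstructible Z) :
    ∃ (U : S.Opens) (Δ : Set (WithBot ℕ∞)), genericPoint S ∈ U ∧ ∀ s ∈ U,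
      (fun T : Set ↥((f.fiberι s) ⁻¹' Z) => topologicalKrullDim ↥T) ''
          irreducibleComponents ↥((f.fiberι s) ⁻¹' Z) = Δ := by
  obtain ⟨U, hU, k⟩ := generic_dims_closed f (closure Z) isClosed_closure
  obtain ⟨O, hO, kO⟩ := Groth.Agent.Lib.Helper23.exists_open_closure_preimage_fiberι f Z hZ
  have hηO : genericPoint S ∈ O :=
    ((genericPoint_spec S).mem_open_set_iff O.2).mpr (by
      obtain ⟨o, ho⟩ := hO
      exact ⟨o, trivial, ho⟩)
  refine ⟨U ⊓ O, (fun y : ↥(f.fiber (genericPoint S)) =>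
      topologicalKrullDim ↥(closure ({y} : Set ↥(f.fiber (genericPoint S))))) ''
      MaxPts ((f.fiberι (genericPoint S)) ⁻¹' closure Z), ⟨hU, hηO⟩, fun s hs => ?_⟩
  have hcs : IsConstructible ((f.fiberι s) ⁻¹' Z) := (f.fiberι s).isConstructible_preimage hZ
  haveI : LocallyOfFiniteType (f.fiberToSpecResidueField s) :=
    MorphismProperty.pullback_snd (P := @LocallyOfFiniteType) _ _ ‹_›
  haveI : QuasiCompact (f.fiberToSpecResidueField s) :=
    MorphismProperty.pullback_snd (P := @QuasiCompact) _ _ ‹_›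
  haveI := noetherianSpace_of_field (f.fiberToSpecResidueField s)
  rw [compDims_eq_field (f.fiberToSpecResidueField s) hcs, ← maxPts_closure hcs, kO s hs.2,
    k s hs.1]

end Global

end Groth.Agent.H76.CompDims
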