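/-
helper76: local constructibility of the level sets of the function "set of dimensions of the
irreducible components of the fibres of a locally constructible subset" (EGA IV 9.5.5 type).
-/
import Mathlib
import Groth.Prelude
import Groth.Agent.H76.CompDimsGen
import Groth.Agent.Lib.Helper23.ConsDensePair
import Groth.Agent.Lib.Helper79.ProCons

set_option autoImplicit false
universe u
open AlgebraicGeometry CategoryTheory TopologicalSpace Topology Limits

namespace Groth.Agent.H76.CompDims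

open Groth.Agent.Lib.Helper97.AssFibre Groth.Agent.H76.AssGen Groth.Agent.Lib.Helper23

section Homeo

theorem compDims_subset_of_homeo {α β : Type*} [TopologicalSpace α] [TopologicalSpace β]
    (φ : α ≃ₜ β) :
    (fun C : Set β => topologicalKrullDim ↥C) '' irreducibleComponents β ⊆
      (fun C : Set α => topologicalKrullDim ↥C) '' irreducibleComponents α := by
  rintro w ⟨C, hC, rfl⟩
  have hne : (C ∩ Set.range φ).Nonempty := by
    rw [φ.surjective.range_eq, Set.inter_univ]
    exact hC.1.nonempty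
  have h1 := preimage_mem_irreducibleComponents hC φ.isOpenEmbedding hne
  refine ⟨φ ⁻¹' C, h1, ?_⟩
  show topologicalKrullDim ↥(φ ⁻¹' C) = topologicalKrullDim ↥C
  have h2 : φ.symm '' C = φ ⁻¹' C := by rw [φ.image_symm]
  rw [← h2]
  exact (IsHomeomorph.topologicalKrullDim_eq _ (φ.symm.image C).isHomeomorph).symm

theorem compDims_homeo {α β : Type*} [TopologicalSpace α] [TopologicalSpace β] (φ : α ≃ₜ β) :
    (fun C : Set α => topologicalKrullDim ↥C) '' irreducibleComponents α =
      (fun C : Set β => topologicalKrullDim ↥C) '' irreducibleComponents β :=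
  subset_antisymm (compDims_subset_of_homeo φ.symm) (compDims_subset_of_homeo φ)

end Homeo

/-- The set of points `s` of the base such that the set of dimensions of the irreducible components
of `Z ∩ f⁻¹(s)` is `Φ`. -/
def dimLocus {X S : Scheme.{u}} (f : X ⟶ S) (Z : Set X) (Φ : Set (WithBot ℕ∞)) : Set S :=
  {s | (fun T : Set ↥(Z ∩ f ⁻¹' {s}) => topologicalKrullDim ↥T) ''
    irreducibleComponents ↥(Z ∩ f ⁻¹' {s}) = Φ}

/-- Passage to the scheme-theoretic fibre. -/
theorem compDims_inter_fibre_eq {X S : Scheme.{u}} (f : X ⟶ S) (Z : Set X) (s : S) :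
    (fun T : Set ↥(Z ∩ f ⁻¹' {s}) => topologicalKrullDim ↥T) ''
        irreducibleComponents ↥(Z ∩ f ⁻¹' {s}) =
      (fun T : Set ↥((f.fiberι s) ⁻¹' Z) => topologicalKrullDim ↥T) ''
        irreducibleComponents ↥((f.fiberι s) ⁻¹' Z) := by
  let g : ↥((f.fiberι s) ⁻¹' Z) → ↥(Z ∩ f ⁻¹' {s}) := fun y =>
    ⟨f.fiberι s y.1, y.2, apply_fiberι' f s y.1⟩
  have hg : IsEmbedding g := by
    refine IsEmbedding.of_comp ?_ continuous_subtype_val ?_
    · exact ((f.fiberι s).continuous.comp continuous_subtype_val).subtype_mk _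
    · exact (f.fiberι s).isEmbedding.comp IsEmbedding.subtypeVal
  have hsurj : Function.Surjective g := by
    rintro ⟨x, hxZ, hxs⟩
    obtain ⟨y, rfl⟩ := exists_fiberι_eq f s x hxs
    exact ⟨⟨y, hxZ⟩, rfl⟩
  have hh : IsHomeomorph g := isHomeomorph_iff_isEmbedding_surjective.mpr ⟨hg, hsurj⟩
  exact (compDims_homeo (hh.homeomorph g)).symm

section BaseChange

theorem isConstructible_preimage_fiberι {X S : Scheme.{u}} (f : X ⟶ S) [LocallyOfFiniteType f]
    [QuasiCompact f] (Z : Set X) (hZ : IsLocallyConstructible Z) (s : S) :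
    IsConstructible ((f.fiberι s) ⁻¹' Z) := by
  haveI : IsLocallyNoetherian (f.fiber s) :=
    isLocallyNoetherian_fiber_of_locallyOfFiniteType f s
  haveI : QuasiCompact (f.fiberToSpecResidueField s) :=
    MorphismProperty.pullback_snd (P := @QuasiCompact) _ _ ‹_›
  haveI : CompactSpace ↥(f.fiber s) :=
    QuasiCompact.compactSpace_of_compactSpace (f.fiberToSpecResidueField s)
  exact (Groth.Agent.Lib.Helper79.isLocallyConstructible_preimage_scheme (f.fiberι s)
    hZ).isConstructible

/-- Compatibility of the locus with base change. -/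
theorem dimLocus_baseChange {X S X' S' : Scheme.{u}} {f : X ⟶ S} {f' : X' ⟶ S'} {e : X' ⟶ X}
    {b : S' ⟶ S} [LocallyOfFiniteType f] [QuasiCompact f] (h : IsPullback e f' f b) (Z : Set X)
    (hZ : IsLocallyConstructible Z) (Φ : Set (WithBot ℕ∞)) :
    dimLocus f' (e ⁻¹' Z) Φ = b ⁻¹' dimLocus f Z Φ := by
  ext s'
  show _ = Φ ↔ _ = Φ
  rw [compDims_inter_fibre_eq, compDims_inter_fibre_eq]
  obtain ⟨pX, hpX, hpb⟩ := exists_isPullback_fiber' f b h s'
  haveI : LocallyOfFiniteType (f.fiberToSpecResidueField (b s')) :=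
    MorphismProperty.pullback_snd (P := @LocallyOfFiniteType) _ _ ‹_›
  haveI : QuasiCompact (f.fiberToSpecResidueField (b s')) :=
    MorphismProperty.pullback_snd (P := @QuasiCompact) _ _ ‹_›
  have hE := isConstructible_preimage_fiberι f Z hZ (b s')
  have key : (f'.fiberι s') ⁻¹' (e ⁻¹' Z) = pX ⁻¹' ((f.fiberι (b s')) ⁻¹' Z) := by
    rw [← Set.preimage_comp, ← Set.preimage_comp, ← TopCat.coe_comp, ← TopCat.coe_comp,
      ← Scheme.Hom.comp_base, ← Scheme.Hom.comp_base, hpX]
  rw [key, compDims_preimage_eq_of_isPullback_field (f.fiberToSpecResidueField (b s'))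
    (f'.fiberToSpecResidueField s') pX (Spec.map (b.residueFieldMap s')) hpb hE]

end BaseChange

section Dichotomy

theorem dimLocus_dichotomy {X S : Scheme.{u}} [IsIntegral S] [IsNoetherian S] (f : X ⟶ S)
    [LocallyOfFiniteType f] [QuasiCompact f] (Z : Set X) (hZ : IsConstructible Z)
    (Φ : Set (WithBot ℕ∞)) :
    (interior (dimLocus f Z Φ)).Nonempty ∨ (interior (dimLocus f Z Φ)ᶜ).Nonempty := by
  obtain ⟨U, Δ, hU, k⟩ := generic_compDims f Z hZ
  have hrw : ∀ s ∈ U, (s ∈ dimLocus f Z Φ ↔ Δ = Φ) := by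
    intro s hs
    show _ = Φ ↔ _
    rw [compDims_inter_fibre_eq, k s hs]
  by_cases hΔ : Δ = Φ
  · left
    exact ⟨genericPoint S, mem_interior.mpr ⟨U, fun s hs => (hrw s hs).mpr hΔ, U.2, hU⟩⟩
  · right
    exact ⟨genericPoint S, mem_interior.mpr
      ⟨U, fun s hs hmem => hΔ ((hrw s hs).mp hmem), U.2, hU⟩⟩

end Dichotomy

section Main

/-- **EGA IV 9.5.5 type**: the level sets of the function "dimensions of the irreducible components
of `Z_s`" are locally constructible. -/
theorem isLocallyConstructible_dimLocus {X S : Scheme.{u}} (f : X ⟶ S)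
    [LocallyOfFinitePresentation f] [QuasiCompact f] [QuasiSeparated f] (Z : Set X)
    (hZ : IsLocallyConstructible Z) (Φ : Set (WithBot ℕ∞)) :
    IsLocallyConstructible (dimLocus f Z Φ) := by
  apply isLocallyConstructible_of_affine_models
  intro U hU
  have : IsAffine U.toScheme := hU
  have : CompactSpace ↥(f ⁻¹ᵁ U).toScheme := QuasiCompact.compactSpace_of_compactSpace (f ∣_ U)
  have : QuasiSeparatedSpace ↥(f ⁻¹ᵁ U).toScheme :=
    quasiSeparatedSpace_of_quasiSeparated (f ∣_ U)
  have e1 := dimLocus_baseChange (isPullback_morphismRestrict f U).flip Z hZ Φ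
  have hZU : IsConstructible ((f ⁻¹ᵁ U).ι ⁻¹' Z) :=
    (hZ.preimage_of_isOpenEmbedding (f ⁻¹ᵁ U).ι.isOpenEmbedding).isConstructible
  obtain ⟨A₀, hA₀, π, X₀, f₀, q, Z₀, Z₀', a1, a2, a3, hq, hZ₀, hZ₀', e, e'⟩ :=
    exists_noetherian_model_sets (f ∣_ U) _ _ hZU hZU
  have e2 := dimLocus_baseChange hq Z₀ hZ₀.isLocallyConstructible Φ
  rw [e] at e2
  refine ⟨A₀, hA₀, π, dimLocus f₀ Z₀ Φ, e1.symm.trans e2, ?_⟩
  intro p hp
  have hsq : IsPullback (pullback.fst f₀ (primeIncl A₀ p)) (pullback.snd f₀ (primeIncl A₀ p))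
      f₀ (primeIncl A₀ p) := IsPullback.of_hasPullback _ _
  rw [← dimLocus_baseChange hsq Z₀ hZ₀.isLocallyConstructible Φ]
  have : IsDomain (A₀ ⧸ p) := Ideal.Quotient.isDomain p
  exact dimLocus_dichotomy (pullback.snd f₀ (primeIncl A₀ p)) _
    ((pullback.fst f₀ (primeIncl A₀ p)).isConstructible_preimage hZ₀) Φ

end Main

end Groth.Agent.H76.CompDims
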