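import Mathlib
import Groth.Agent.Lib.Helper9.HensK.FiniteLocal

/-!
# Finite domains over a complete discrete valuation ring (helper76)

A module-finite domain `B` over a complete discrete valuation ring `A` is a henselian local ring.
-/

set_option autoImplicit false
universe u

namespace Groth.Agent.H76.CompleteDVRExt

open IsLocalRing

theorem henselianBase (A : Type u) [CommRing A] [IsDomain A] [IsDiscreteValuationRing A]
    [IsAdicComplete (maximalIdeal A) A] : HenselianLocalRing A :=
  Groth.Agent.Lib.Helper3.henselianLocalRing_of_henselianRing_maximalIdeal A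

variable (A B : Type u) [CommRing A] [IsDomain A] [IsDiscreteValuationRing A]
  [IsAdicComplete (maximalIdeal A) A] [CommRing B] [IsDomain B] [Algebra A B] [Module.Finite A B]

include A

theorem eq_of_isMaximal (M M' : Ideal B) [hM : M.IsMaximal] [hM' : M'.IsMaximal] : M' = M := by
  have hhA : HenselianLocalRing A := henselianBase A
  have hsurj := Groth.Agent.Lib.Helper3.algebraMap_localization_surjective_of_finite A B M
  have hinj : Function.Injective (algebraMap B (Localization.AtPrime M)) :=
    IsLocalization.injective _ (Ideal.primeCompl_le_nonZeroDivisors M)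
  refine hM'.eq_of_le (Ideal.IsPrime.ne_top inferInstance) ?_
  intro y hy
  by_contra hyM
  have hunit : IsUnit (algebraMap B (Localization.AtPrime M) y) :=
    IsLocalization.map_units (Localization.AtPrime M) (⟨y, hyM⟩ : M.primeCompl)
  obtain ⟨v, hv⟩ := hunit.exists_right_inv
  obtain ⟨u, rfl⟩ := hsurj v
  have h1 : y * u = 1 := by
    apply hinj
    rw [map_mul, hv, map_one]
  apply hM'.ne_top
  rw [Ideal.eq_top_iff_one, ← h1]
  exact M'.mul_mem_right u hy

theorem isLocalRing : IsLocalRing B := by
  obtain ⟨M, hM⟩ := Ideal.exists_maximal B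
  exact IsLocalRing.of_unique_max_ideal ⟨M, hM, fun Q hQ => eq_of_isMaximal A B M Q⟩

theorem maximalIdeal_eq [IsLocalRing B] (M : Ideal B) [M.IsMaximal] : maximalIdeal B = M :=
  eq_of_isMaximal A B M (maximalIdeal B)

theorem henselianLocalRing [IsLocalRing B] : HenselianLocalRing B := by
  have hhA : HenselianLocalRing A := henselianBase A
  exact Groth.Agent.Lib.Helper9.HensK.henselianLocalRing_of_isIntegral A B

end Groth.Agent.H76.CompleteDVRExt
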