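import Mathlib
import Groth.Agent.S4449

/-!
# Centres of valuation subrings of the function field of an integral scheme
-/

set_option autoImplicit false
universe u

namespace Groth.Agent.H76.DVRCenter

open CategoryTheory CategoryTheory.Limits AlgebraicGeometry IsLocalRing

/-- If all sections over a nonempty affine open `U` lie in the valuation subring `V` of the function
field, then `V` dominates the local ring of a point of `U`. -/
theorem exists_center_of_affine {X : Scheme.{u}} [IsIntegral X] {U : X.Opens} (hU : IsAffineOpen U)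
    [Nonempty U] (V : ValuationSubring X.functionField)
    (h : ∀ s : Γ(X, U), (X.germToFunctionField U).hom s ∈ V) :
    ∃ x ∈ U, (∀ a : X.presheaf.stalk x, algebraMap (X.presheaf.stalk x) X.functionField a ∈ V) ∧
      ∀ a ∈ maximalIdeal (X.presheaf.stalk x),
        V.valuation (algebraMap (X.presheaf.stalk x) X.functionField a) < 1 := by
  let g : Γ(X, U) →+* V := (X.germToFunctionField U).hom.codRestrict V.toSubring h
  let p : Ideal Γ(X, U) := (maximalIdeal V).comap g
  have hp : p.IsPrime := Ideal.comap_isPrime g _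
  let y : PrimeSpectrum Γ(X, U) := ⟨p, hp⟩
  have hx : hU.fromSpec y ∈ U := (hU.isoSpec.inv y).2
  refine ⟨hU.fromSpec y, hx, ?_⟩
  letI := TopCat.Presheaf.algebra_section_stalk X.presheaf ⟨hU.fromSpec y, hx⟩
  haveI hloc : IsLocalization.AtPrime (X.presheaf.stalk (hU.fromSpec y)) p :=
    hU.isLocalization_stalk' y hx
  have e1 : ∀ r : Γ(X, U), algebraMap (X.presheaf.stalk (hU.fromSpec y)) X.functionField
      (algebraMap Γ(X, U) (X.presheaf.stalk (hU.fromSpec y)) r) =
        (X.germToFunctionField U).hom r :=
    fun r => X.algebraMap_germ_eq_germToFunctionField hx r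
  have hunit : ∀ t : p.primeCompl, V.valuation ((X.germToFunctionField U).hom t.1) = 1 := by
    intro t
    have h1 : ¬ g t.1 ∈ maximalIdeal V := t.2
    rcases V.valuation_lt_one_or_eq_one (g t.1) with h2 | h2
    · exact absurd ((V.valuation_lt_one_iff _).mpr h2) h1
    · exact h2
  have key : ∀ (s : Γ(X, U)) (t : p.primeCompl),
      V.valuation (algebraMap (X.presheaf.stalk (hU.fromSpec y)) X.functionField
        (IsLocalization.mk' (X.presheaf.stalk (hU.fromSpec y)) s t)) =
        V.valuation ((X.germToFunctionField U).hom s) := by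
    intro s t
    have h1 := IsLocalization.mk'_spec (X.presheaf.stalk (hU.fromSpec y)) s t
    have h2 := congrArg (algebraMap (X.presheaf.stalk (hU.fromSpec y)) X.functionField) h1
    rw [map_mul, e1, e1] at h2
    have h3 := congrArg V.valuation h2
    rw [map_mul, hunit t, mul_one] at h3
    exact h3
  constructor
  · intro a
    obtain ⟨s, t, rfl⟩ := IsLocalization.exists_mk'_eq p.primeCompl a
    rw [← V.valuation_le_one_iff, key]
    exact (V.valuation_le_one_iff _).mpr (h s)
  · intro a ha
    obtain ⟨s, t, rfl⟩ := IsLocalization.exists_mk'_eq p.primeCompl a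
    rw [key]
    have hs : s ∈ p := (IsLocalization.AtPrime.mk'_mem_maximal_iff _ p s t).mp ha
    exact (V.valuation_lt_one_iff (g s)).mp hs

/-- If a valuation subring `R` of the function field of `X` dominates the local ring of `y : Y` and
the local ring of `x : X`, and `Y` is separated, then `f x` specializes to `y`. -/
theorem specializes_of_dominates {X Y : Scheme.{u}} [IsIntegral X] [Y.IsSeparated]
    (f : X ⟶ Y) (R : ValuationSubring X.functionField) (y : Y)
    (hy : f.base (genericPoint X) ⤳ y)
    (hy1 : ∀ a : Y.presheaf.stalk y,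
      (Y.presheaf.stalkSpecializes hy ≫ f.stalkMap (genericPoint X)).hom a ∈ R)
    (x : X)
    (hx1 : ∀ a : X.presheaf.stalk x, algebraMap (X.presheaf.stalk x) X.functionField a ∈ R)
    (hx2 : ∀ a ∈ maximalIdeal (X.presheaf.stalk x),
      R.valuation (algebraMap (X.presheaf.stalk x) X.functionField a) < 1) :
    f.base x ⤳ y := by
  set ξ := genericPoint X with hξ
  have hξx : ξ ⤳ x := (genericPoint_spec X).specializes trivial
  let ρy : Y.presheaf.stalk y ⟶ CommRingCat.of R :=
    CommRingCat.ofHom ((Y.presheaf.stalkSpecializes hy ≫ f.stalkMap ξ).hom.codRestrict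
      R.toSubring hy1)
  let ρx : X.presheaf.stalk x ⟶ CommRingCat.of R :=
    CommRingCat.ofHom ((X.presheaf.stalkSpecializes hξx).hom.codRestrict R.toSubring hx1)
  have hρloc : IsLocalHom ρx.hom := by
    constructor
    intro o ho
    by_contra hnu
    have h1 := hx2 o ((mem_maximalIdeal o).mpr hnu)
    have h2 := (R.valuation_eq_one_iff _).mp ho
    have h3 : R.valuation (algebraMap (X.presheaf.stalk x) X.functionField o) = 1 := h2
    rw [h3] at h1
    exact lt_irrefl _ h1
  let inc : CommRingCat.of R ⟶ X.functionField := CommRingCat.ofHom R.subtype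
  have hinc : Function.Injective inc.hom := Subtype.val_injective
  have e1 : ρy ≫ inc = Y.presheaf.stalkSpecializes hy ≫ f.stalkMap ξ := by
    ext a; rfl
  have e2 : ρx ≫ inc = X.presheaf.stalkSpecializes hξx := by
    ext a; rfl
  have hl : Spec.map ρy ≫ Y.fromSpecStalk y = Spec.map ρx ≫ X.fromSpecStalk x ≫ f := by
    apply Groth.Agent.S4449.ext_of_injective inc hinc
    rw [← Spec.map_comp_assoc, ← Spec.map_comp_assoc, e1, e2,
      Scheme.SpecMap_stalkSpecializes_fromSpecStalk_assoc, Spec.map_comp, Category.assoc,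
      Scheme.SpecMap_stalkSpecializes_fromSpecStalk, Scheme.SpecMap_stalkMap_fromSpecStalk]
  have h1 : (Spec.map ρx ≫ X.fromSpecStalk x ≫ f).base (closedPoint R) = f.base x := by
    rw [Scheme.Hom.comp_apply, Scheme.Hom.comp_apply, Spec_closedPoint (f := ρx),
      Scheme.fromSpecStalk_closedPoint]
  have h2 : (Spec.map ρy ≫ Y.fromSpecStalk y).base (closedPoint R) ∈
      Set.range (Y.fromSpecStalk y).base := by
    rw [Scheme.Hom.comp_apply]
    exact ⟨_, rfl⟩
  rw [Scheme.range_fromSpecStalk, hl, h1] at h2
  exact h2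

end Groth.Agent.H76.DVRCenter

namespace Groth.Agent.H76.DVRCenter

open CategoryTheory CategoryTheory.Limits AlgebraicGeometry IsLocalRing

/-- Compatibility of the map `O_{Y,y} → K(X)` with the maps on sections. -/
theorem germ_compat {X Y : Scheme.{u}} [IrreducibleSpace X] (f : X ⟶ Y) (y : Y)
    (hy : f.base (genericPoint X) ⤳ y) (Y₀ : Y.Opens) (hyY₀ : y ∈ Y₀) (U : X.Opens) [Nonempty U]
    (e : U ≤ f ⁻¹ᵁ Y₀) (r : Γ(Y, Y₀)) :
    (Y.presheaf.stalkSpecializes hy ≫ f.stalkMap (genericPoint X)).hom
      (Y.presheaf.germ Y₀ y hyY₀ r) = (X.germToFunctionField U).hom ((f.appLE Y₀ U e).hom r) := by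
  have hξU : genericPoint X ∈ U :=
    ((genericPoint_spec X).mem_open_set_iff U.isOpen).mpr (by simpa using ‹Nonempty U›)
  have key : Y.presheaf.germ Y₀ y hyY₀ ≫ Y.presheaf.stalkSpecializes hy ≫
      f.stalkMap (genericPoint X) = f.appLE Y₀ U e ≫ X.germToFunctionField U := by
    rw [TopCat.Presheaf.germ_stalkSpecializes_assoc, Scheme.Hom.germ_stalkMap,
      Scheme.Hom.appLE, Category.assoc]
    congr 1
    exact (X.presheaf.germ_res (homOfLE e) (genericPoint X) hξU).symm
  exact congrArg (fun g => g.hom r) key

end Groth.Agent.H76.DVRCenter
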