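import Mathlib.RingTheory.Flat.FaithfullyFlat.Basic
import Mathlib.RingTheory.TensorProduct.Basic
import Mathlib.LinearAlgebra.TensorProduct.Tower
import Mathlib.LinearAlgebra.TensorProduct.Associator

/-!
# Faithfully flat descent: exactness of `N → S ⊗ N ⇉ (S ⊗ S) ⊗ N` (helper76)
-/

set_option autoImplicit false

open TensorProduct

namespace Groth.Agent.H76.Descent

variable (R S : Type*) [CommRing R] [CommRing S] [Algebra R S]
variable (N : Type*) [AddCommGroup N] [Module R N]

/-- The difference of the two coface maps `S ⊗ N → (S ⊗ S) ⊗ N`. -/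
noncomputable def dMap : S ⊗[R] N →ₗ[R] (S ⊗[R] S) ⊗[R] N :=
  LinearMap.rTensor N (Algebra.TensorProduct.includeLeft : S →ₐ[R] S ⊗[R] S).toLinearMap -
    LinearMap.rTensor N (Algebra.TensorProduct.includeRight : S →ₐ[R] S ⊗[R] S).toLinearMap

/-- The multiplication map `S ⊗ (S ⊗ X) → S ⊗ X`. -/
noncomputable def muMap (X : Type*) [AddCommGroup X] [Module R X] :
    S ⊗[R] (S ⊗[R] X) →ₗ[R] S ⊗[R] X :=
  TensorProduct.lift (Algebra.lsmul R R (S ⊗[R] X)).toLinearMap

theorem muMap_tmul (X : Type*) [AddCommGroup X] [Module R X] (s s' : S) (x : X) :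
    muMap R S X (s ⊗ₜ[R] (s' ⊗ₜ[R] x)) = (s * s') ⊗ₜ[R] x := by
  simp [muMap, TensorProduct.smul_tmul']

theorem dMap_tmul (s : S) (n : N) :
    dMap R S N (s ⊗ₜ[R] n) = (s ⊗ₜ[R] (1 : S)) ⊗ₜ[R] n - ((1 : S) ⊗ₜ[R] s) ⊗ₜ[R] n := by
  simp [dMap]

theorem dMap_comp_mk : dMap R S N ∘ₗ TensorProduct.mk R S N 1 = 0 := by
  ext n
  simp [dMap_tmul]

/-- The contracting homotopy identity after base change to `S`. -/
theorem homotopy :
    (muMap R S (S ⊗[R] N) ∘ₗ LinearMap.lTensor S (TensorProduct.assoc R S S N).toLinearMap) ∘ₗ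
        LinearMap.lTensor S (dMap R S N) =
      LinearMap.lTensor S (TensorProduct.mk R S N 1) ∘ₗ muMap R S N - LinearMap.id := by
  apply TensorProduct.ext'
  intro s z
  induction z with
  | zero => simp
  | tmul s' n =>
    simp only [LinearMap.comp_apply, LinearMap.lTensor_tmul, dMap_tmul, tmul_sub, map_sub,
      LinearEquiv.coe_coe, TensorProduct.assoc_tmul, muMap_tmul, LinearMap.sub_apply,
      TensorProduct.mk_apply, LinearMap.id_apply, mul_one]
  | add x y hx hy =>
    rw [tmul_add, map_add, map_add, hx, hy]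

theorem exact_lTensor :
    Function.Exact (LinearMap.lTensor S (TensorProduct.mk R S N 1))
      (LinearMap.lTensor S (dMap R S N)) := by
  intro y
  constructor
  · intro hy
    have h := LinearMap.congr_fun (homotopy R S N) y
    simp only [LinearMap.comp_apply, hy, map_zero, LinearMap.sub_apply, LinearMap.id_apply] at h
    refine ⟨muMap R S N y, ?_⟩
    exact (sub_eq_zero.mp h.symm)
  · rintro ⟨x, rfl⟩
    rw [← LinearMap.comp_apply, ← LinearMap.lTensor_comp, dMap_comp_mk, LinearMap.lTensor_zero,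
      LinearMap.zero_apply]

/-- Faithfully flat descent for elements: the sequence `N → S ⊗ N → (S ⊗ S) ⊗ N` is exact. -/
theorem exact_mk_dMap [Module.FaithfullyFlat R S] :
    Function.Exact (TensorProduct.mk R S N 1) (dMap R S N) :=
  Module.FaithfullyFlat.lTensor_reflects_exact R S _ _ (exact_lTensor R S N)

theorem exists_of_includeLeft_eq_includeRight [Module.FaithfullyFlat R S] (x : S ⊗[R] N)
    (hx : LinearMap.rTensor N (Algebra.TensorProduct.includeLeft : S →ₐ[R] S ⊗[R] S).toLinearMap x =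
      LinearMap.rTensor N (Algebra.TensorProduct.includeRight : S →ₐ[R] S ⊗[R] S).toLinearMap x) :
    ∃ n : N, (1 : S) ⊗ₜ[R] n = x := by
  have : dMap R S N x = 0 := by
    simp only [dMap, LinearMap.sub_apply, hx, sub_self]
  obtain ⟨n, hn⟩ := (exact_mk_dMap R S N x).mp this
  exact ⟨n, hn⟩

theorem one_tmul_injective [Module.FaithfullyFlat R S] :
    Function.Injective (fun n : N => (1 : S) ⊗ₜ[R] n) := by
  intro a b hab
  have : (1 : S) ⊗ₜ[R] (a - b) = 0 := by
    rw [tmul_sub]; exact sub_eq_zero.mpr hab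
  exact sub_eq_zero.mp ((Module.FaithfullyFlat.one_tmul_eq_zero_iff R N (A := S) (a - b)).mp this)

end Groth.Agent.H76.Descent
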