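import Mathlib

/-!
# `A[x]/(x^n - π)` for a discrete valuation ring `A` with uniformizer `π` (helper76)

The ring `A' = A[x]/(x^n - π)` is a discrete valuation ring with uniformizer `x`; a valuation
subring of its fraction field dominating `A` is `A'`.
-/

set_option autoImplicit false
universe u

namespace Groth.Agent.H76.EisensteinDVR

open Polynomial

section General

/-- A valuation subring of the fraction field `L` of a valuation ring `B` that contains `B` and
whose maximal ideal contains the non-units of `B` is `B`. -/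
theorem eq_valuationSubring_of_dominates (B L : Type u) [CommRing B] [IsDomain B]
    [ValuationRing B] [Field L] [Algebra B L] [IsFractionRing B L]
    (V : ValuationSubring L) (h1 : ∀ b : B, algebraMap B L b ∈ V)
    (h2 : ∀ b : B, ¬ IsUnit b → V.valuation (algebraMap B L b) < 1) :
    V = (ValuationRing.valuation B L).valuationSubring := by
  ext y
  constructor
  · intro hy
    by_cases hy0 : y = 0
    · subst hy0; exact zero_mem _
    rcases ValuationSubring.mem_or_inv_mem (ValuationRing.valuation B L).valuationSubring y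
      with h | h
    · exact h
    · obtain ⟨b, hb⟩ := (ValuationRing.mem_integer_iff B L _).mp h
      by_cases hu : IsUnit b
      · obtain ⟨u, rfl⟩ := hu
        refine (ValuationRing.mem_integer_iff B L _).mpr ⟨((u⁻¹ : Bˣ) : B), ?_⟩
        have h3 : algebraMap B L (u : B) * algebraMap B L ((u⁻¹ : Bˣ) : B) = 1 := by
          rw [← map_mul, Units.mul_inv, map_one]
        rw [hb] at h3
        field_simp at h3
        exact h3
      · exfalso
        have h4 := h2 b hu
        rw [hb, map_inv₀] at h4
        have h5 : V.valuation y ≤ 1 := (V.valuation_le_one_iff y).mpr hy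
        have hv0 : V.valuation y ≠ 0 := (Valuation.ne_zero_iff _).mpr hy0
        have h6 : (1 : V.ValueGroup) ≤ (V.valuation y)⁻¹ := by
          rw [one_le_inv₀ (zero_lt_iff.mpr hv0)]; exact h5
        exact not_lt_of_ge h6 h4
  · intro hy
    obtain ⟨b, hb⟩ := (ValuationRing.mem_integer_iff B L _).mp hy
    rw [← hb]; exact h1 b

end General

variable {A : Type u} [CommRing A] [IsDomain A] [IsDiscreteValuationRing A] {π : A} {n : ℕ}

omit [IsDomain A] [IsDiscreteValuationRing A] in
/-- Every element of `A[x]/(x^n - π)` is a constant plus a multiple of `x`. -/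
theorem exists_decomp (a' : AdjoinRoot (X ^ n - C π : A[X])) :
    ∃ (a₀ : A) (b : AdjoinRoot (X ^ n - C π : A[X])),
      a' = AdjoinRoot.of _ a₀ + AdjoinRoot.root _ * b := by
  induction a' using AdjoinRoot.induction_on with
  | ih p =>
    refine ⟨p.coeff 0, AdjoinRoot.mk _ p.divX, ?_⟩
    conv_lhs => rw [← Polynomial.divX_mul_X_add p]
    rw [map_add, map_mul, AdjoinRoot.mk_X, AdjoinRoot.mk_C, mul_comm, add_comm]

omit [IsDomain A] [IsDiscreteValuationRing A] in
theorem root_pow : (AdjoinRoot.root (X ^ n - C π : A[X])) ^ n = AdjoinRoot.of _ π := by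
  have := AdjoinRoot.eval₂_root (X ^ n - C π : A[X])
  simpa [sub_eq_zero] using this

variable (hπ : Irreducible π) (hn : n ≠ 0)
include hπ hn

theorem irreducible_poly : Irreducible (X ^ n - C π : A[X]) := by
  have hmonic := monic_X_pow_sub_C π hn
  have hmax : IsLocalRing.maximalIdeal A = Ideal.span {π} := hπ.maximalIdeal_eq
  apply Polynomial.IsEisensteinAt.irreducible (𝓟 := IsLocalRing.maximalIdeal A) _ inferInstance
    hmonic.isPrimitive
  · rw [natDegree_X_pow_sub_C]; omega
  · constructor
    · rw [hmonic.leadingCoeff]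
      exact (Ideal.ne_top_iff_one _).mp (IsLocalRing.maximalIdeal.isMaximal A).ne_top
    · intro i hi
      rw [natDegree_X_pow_sub_C] at hi
      rw [coeff_sub, coeff_X_pow, coeff_C, if_neg hi.ne]
      by_cases h0 : i = 0
      · simp [h0, hmax]
      · simp [h0]
    · rw [coeff_sub, coeff_X_pow, coeff_C_zero, if_neg (Ne.symm hn), zero_sub, hmax,
        Ideal.span_singleton_pow, Ideal.mem_span_singleton, dvd_neg]
      rintro ⟨c, hc⟩
      have h1 : π * (π * c) = π * 1 := by rw [mul_one, ← mul_assoc, ← sq, ← hc]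
      have h2 := mul_left_cancel₀ hπ.ne_zero h1
      exact hπ.not_isUnit (IsUnit.of_mul_eq_one _ h2)

omit hπ in
theorem of_injective : Function.Injective (AdjoinRoot.of (X ^ n - C π : A[X])) := by
  apply AdjoinRoot.of.injective_of_degree_ne_zero
  rw [degree_X_pow_sub_C (Nat.pos_of_ne_zero hn)]
  exact_mod_cast hn

theorem root_ne_zero : AdjoinRoot.root (X ^ n - C π : A[X]) ≠ 0 := by
  intro h
  have h1 := root_pow (A := A) (π := π) (n := n)
  rw [h, zero_pow hn] at h1
  exact hπ.ne_zero (of_injective hn (by rw [← h1, map_zero]))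

/-- The residue map `A[x]/(x^n - π) → A/π`. -/
noncomputable def resMap : AdjoinRoot (X ^ n - C π : A[X]) →+* IsLocalRing.ResidueField A :=
  AdjoinRoot.lift (IsLocalRing.residue A) 0 (by
    have hm : IsLocalRing.residue A π = 0 := by
      rw [IsLocalRing.residue_eq_zero_iff, hπ.maximalIdeal_eq]
      exact Ideal.mem_span_singleton_self π
    simp [eval₂_sub, eval₂_pow, hm, zero_pow hn])

theorem ker_resMap : RingHom.ker (resMap hπ hn) = Ideal.span {AdjoinRoot.root _} := by
  apply le_antisymm
  · intro a' ha'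
    obtain ⟨a₀, b, rfl⟩ := exists_decomp a'
    rw [RingHom.mem_ker, map_add, map_mul] at ha'
    simp only [resMap, AdjoinRoot.lift_root, AdjoinRoot.lift_of, zero_mul, add_zero] at ha'
    rw [IsLocalRing.residue_eq_zero_iff, hπ.maximalIdeal_eq, Ideal.mem_span_singleton] at ha'
    obtain ⟨c, rfl⟩ := ha'
    refine Ideal.add_mem _ ?_ (Ideal.mul_mem_right _ _ (Ideal.mem_span_singleton_self _))
    rw [map_mul, ← root_pow, Ideal.mem_span_singleton]
    exact Dvd.dvd.mul_right (dvd_pow_self _ hn) _
  · rw [Ideal.span_le, Set.singleton_subset_iff, SetLike.mem_coe, RingHom.mem_ker]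
    simp [resMap]

theorem resMap_surjective : Function.Surjective (resMap hπ hn) := by
  intro r
  obtain ⟨a, rfl⟩ := IsLocalRing.residue_surjective r
  exact ⟨AdjoinRoot.of _ a, by simp [resMap]⟩

theorem span_root_isMaximal :
    (Ideal.span {AdjoinRoot.root (X ^ n - C π : A[X])}).IsMaximal := by
  rw [← ker_resMap hπ hn]
  exact RingHom.ker_isMaximal_of_surjective _ (resMap_surjective hπ hn)

theorem root_mem_of_isMaximal (M : Ideal (AdjoinRoot (X ^ n - C π : A[X]))) (hM : M.IsMaximal) :
    AdjoinRoot.root _ ∈ M := by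
  have hfin : Module.Finite A (AdjoinRoot (X ^ n - C π : A[X])) :=
    (monic_X_pow_sub_C π hn).finite_adjoinRoot
  have hint : Algebra.IsIntegral A (AdjoinRoot (X ^ n - C π : A[X])) :=
    Algebra.IsIntegral.of_finite _ _
  have hc : (M.comap (algebraMap A (AdjoinRoot (X ^ n - C π : A[X])))).IsMaximal :=
    Ideal.isMaximal_comap_of_isIntegral_of_isMaximal M
  have h1 : π ∈ M.comap (algebraMap A (AdjoinRoot (X ^ n - C π : A[X]))) := by
    rw [IsLocalRing.eq_maximalIdeal hc, hπ.maximalIdeal_eq]
    exact Ideal.mem_span_singleton_self π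
  rw [Ideal.mem_comap, AdjoinRoot.algebraMap_eq, ← root_pow] at h1
  exact hM.isPrime.mem_of_pow_mem _ h1

theorem isLocalRing : IsLocalRing (AdjoinRoot (X ^ n - C π : A[X])) :=
  IsLocalRing.of_unique_max_ideal ⟨_, span_root_isMaximal hπ hn, fun M hM =>
    ((span_root_isMaximal hπ hn).eq_of_le hM.ne_top (by
      rw [Ideal.span_le, Set.singleton_subset_iff]
      exact root_mem_of_isMaximal hπ hn M hM)).symm⟩

theorem maximalIdeal_eq [IsLocalRing (AdjoinRoot (X ^ n - C π : A[X]))] :
    IsLocalRing.maximalIdeal (AdjoinRoot (X ^ n - C π : A[X])) =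
      Ideal.span {AdjoinRoot.root _} :=
  (IsLocalRing.eq_maximalIdeal (span_root_isMaximal hπ hn)).symm

theorem isDomain : IsDomain (AdjoinRoot (X ^ n - C π : A[X])) :=
  AdjoinRoot.isDomain_of_prime (irreducible_poly hπ hn).prime

theorem isDiscreteValuationRing [IsDomain (AdjoinRoot (X ^ n - C π : A[X]))] :
    IsDiscreteValuationRing (AdjoinRoot (X ^ n - C π : A[X])) := by
  have := isLocalRing hπ hn
  have hnf : ¬ IsField (AdjoinRoot (X ^ n - C π : A[X])) := by
    rw [IsLocalRing.isField_iff_maximalIdeal_eq, maximalIdeal_eq hπ hn,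
      Ideal.span_singleton_eq_bot]
    exact root_ne_zero hπ hn
  exact ((IsDiscreteValuationRing.TFAE (AdjoinRoot (X ^ n - C π : A[X])) hnf).out 0 4).mpr
    (⟨⟨AdjoinRoot.root _, maximalIdeal_eq hπ hn⟩⟩ : Submodule.IsPrincipal _)

theorem map_maximalIdeal [IsLocalRing (AdjoinRoot (X ^ n - C π : A[X]))] :
    (IsLocalRing.maximalIdeal A).map (algebraMap A (AdjoinRoot (X ^ n - C π : A[X]))) =
      IsLocalRing.maximalIdeal (AdjoinRoot (X ^ n - C π : A[X])) ^ n := by
  rw [maximalIdeal_eq hπ hn, hπ.maximalIdeal_eq, Ideal.map_span, Set.image_singleton,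
    Ideal.span_singleton_pow, AdjoinRoot.algebraMap_eq, root_pow]

/-- Non-units are multiples of the root. -/
theorem root_dvd_of_not_isUnit (b : AdjoinRoot (X ^ n - C π : A[X])) (hb : ¬ IsUnit b) :
    AdjoinRoot.root _ ∣ b := by
  have := isLocalRing hπ hn
  have : b ∈ IsLocalRing.maximalIdeal (AdjoinRoot (X ^ n - C π : A[X])) := hb
  rw [maximalIdeal_eq hπ hn, Ideal.mem_span_singleton] at this
  exact this

end Groth.Agent.H76.EisensteinDVR

namespace Groth.Agent.H76.EisensteinDVR

/-- In the valuation subring attached to a valuation ring `B`, images of non-units have valuation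
`< 1`. -/
theorem valuation_lt_one_of_not_isUnit (B L : Type u) [CommRing B] [IsDomain B]
    [ValuationRing B] [Field L] [Algebra B L] [IsFractionRing B L] (b : B) (hb : ¬ IsUnit b) :
    (ValuationRing.valuation B L).valuationSubring.valuation (algebraMap B L b) < 1 := by
  set V₀ := (ValuationRing.valuation B L).valuationSubring with hV₀
  have hmem : algebraMap B L b ∈ V₀ := (ValuationRing.mem_integer_iff B L _).mpr ⟨b, rfl⟩
  have key : (⟨algebraMap B L b, hmem⟩ : V₀) ∈ IsLocalRing.maximalIdeal V₀ := by
    rw [IsLocalRing.mem_maximalIdeal, mem_nonunits_iff]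
    rintro ⟨u, hu⟩
    obtain ⟨c, hc⟩ := (ValuationRing.mem_integer_iff B L _).mp ((u⁻¹ : V₀ˣ) : V₀).2
    have h1 : ((u : V₀) : L) * (((u⁻¹ : V₀ˣ) : V₀) : L) = 1 := by
      have := congrArg Subtype.val u.mul_inv
      rw [MulMemClass.coe_mul, OneMemClass.coe_one] at this
      exact this
    rw [hu, ← hc] at h1
    simp only at h1
    rw [← map_mul, ← map_one (algebraMap B L)] at h1
    have h2 := IsFractionRing.injective B L h1
    exact hb (IsUnit.of_mul_eq_one _ h2)
  exact (V₀.valuation_lt_one_iff _).mp key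

end Groth.Agent.H76.EisensteinDVR
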