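import Mathlib

/-!
# Spreading out a map from a finitely presented algebra into a localization (helper76)

`exists_away_lift`: if `T` is a finitely presented `R`-algebra and `T → S' = M₂⁻¹ T₀` is an
`R`-algebra map into a localization of an `R`-algebra `T₀`, then the map factors through
`(T₀)_g` for some `g ∈ M₂`.

`exists_fp_over`: consequently, if `S'` is essentially of finite presentation over `R` and receives a
map from a finitely presented `R`-algebra `T`, then `S'` is a localization of a finitely presented
`R`-algebra `T'` which is a `T`-algebra (compatibly).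
-/

set_option autoImplicit false
universe u

namespace Groth.Agent.H76.EssFPSpread

section Local

/-- A local ring which is a localization of `A` is the localization of `A` at the prime below its
maximal ideal. -/
theorem isLocalization_atPrime_comap_maximalIdeal {A B : Type*} [CommRing A] [CommRing B]
    [Algebra A B] [IsLocalRing B] (W : Submonoid A) [IsLocalization W B] :
    IsLocalization.AtPrime B ((IsLocalRing.maximalIdeal B).comap (algebraMap A B)) := by
  refine IsLocalization.of_le W _ ?_ ?_
  · intro w hw h
    exact (IsLocalRing.mem_maximalIdeal _).mp h (IsLocalization.map_units B ⟨w, hw⟩)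
  · intro r hr
    by_contra h
    exact hr ((IsLocalRing.mem_maximalIdeal _).mpr h)

end Local

section Spread

variable {R T T₀ S' : Type u} [CommRing R] [CommRing T] [CommRing T₀] [CommRing S']
  [Algebra R T] [Algebra R T₀] [Algebra R S'] [Algebra T₀ S']
  [IsScalarTower R T₀ S'] [Algebra T S'] [IsScalarTower R T S']
  (M₂ : Submonoid T₀) [IsLocalization M₂ S']

/-- Elements of `(T₀)_s` dying in `S' = M₂⁻¹ T₀` are killed by an element of `M₂`. -/
theorem exists_mul_eq_zero_of_lift_eq_zero (s : M₂)
    (z : Localization.Away (s : T₀))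
    (hz : IsLocalization.Away.lift (s : T₀) (IsLocalization.map_units S' s) z = 0) :
    ∃ u : M₂, algebraMap T₀ (Localization.Away (s : T₀)) u * z = 0 := by
  obtain ⟨⟨b, w⟩, rfl⟩ := IsLocalization.mk'_surjective (Submonoid.powers (s : T₀)) z
  have hb : algebraMap T₀ S' b = 0 := by
    have h1 := IsLocalization.mk'_spec (Localization.Away (s : T₀)) b w
    have h2 := congrArg (IsLocalization.Away.lift (s : T₀) (IsLocalization.map_units S' s)) h1
    rw [map_mul, IsLocalization.Away.lift_eq, IsLocalization.Away.lift_eq] at h2
    rw [← h2]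
    simp only at hz
    rw [hz, zero_mul]
  obtain ⟨u, hu⟩ := (IsLocalization.map_eq_zero_iff M₂ S' b).mp hb
  refine ⟨u, ?_⟩
  simp only
  rw [IsLocalization.mul_mk'_eq_mk'_of_mul, hu, IsLocalization.mk'_zero]

/-- **Spreading out**: a map from a finitely presented algebra into a localization factors through
the localization at one element. -/
theorem exists_away_lift [Algebra.FinitePresentation R T] :
    ∃ (g : T₀) (hg : g ∈ M₂) (φ' : T →+* Localization.Away g),
      (∀ r, φ' (algebraMap R T r) = algebraMap R (Localization.Away g) r) ∧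
      ∀ t, IsLocalization.Away.lift g (IsLocalization.map_units S' ⟨g, hg⟩) (φ' t) =
        algebraMap T S' t := by
  classical
  obtain ⟨n, π, hπ, hker⟩ := Algebra.FinitePresentation.out (R := R) (A := T)
  obtain ⟨r, fJ, hfJ⟩ := Submodule.fg_iff_exists_fin_generating_family.mp hker
  -- Step 1: a common denominator
  obtain ⟨s, hs⟩ := IsLocalization.exist_integer_multiples_of_finite M₂
    (fun i : Fin n => algebraMap T S' (π (MvPolynomial.X i)))
  choose a ha using hs
  have hunit₁ : IsUnit (algebraMap T₀ S' s) := IsLocalization.map_units S' s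
  let ι₁ : Localization.Away (s : T₀) →+* S' := IsLocalization.Away.lift (s : T₀) hunit₁
  have hι₁ : ∀ b, ι₁ (algebraMap T₀ (Localization.Away (s : T₀)) b) = algebraMap T₀ S' b :=
    IsLocalization.Away.lift_eq _ hunit₁
  let y : Fin n → Localization.Away (s : T₀) := fun i =>
    IsLocalization.mk' (Localization.Away (s : T₀)) (a i)
      (⟨s, Submonoid.mem_powers _⟩ : Submonoid.powers (s : T₀))
  have hy : ∀ i, ι₁ (y i) = algebraMap T S' (π (MvPolynomial.X i)) := by
    intro i
    apply hunit₁.mul_left_injective
    show ι₁ (y i) * algebraMap T₀ S' s = _ * algebraMap T₀ S' s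
    rw [← hι₁ s, ← map_mul]
    have := IsLocalization.mk'_spec (Localization.Away (s : T₀)) (a i)
      (⟨s, Submonoid.mem_powers _⟩ : Submonoid.powers (s : T₀))
    simp only at this
    rw [this, hι₁, ha i, hι₁, Algebra.smul_def, mul_comm]
  let ψ₁ : MvPolynomial (Fin n) R →+* Localization.Away (s : T₀) :=
    MvPolynomial.eval₂Hom (algebraMap R (Localization.Away (s : T₀))) y
  have hψ₁ : ∀ p, ι₁ (ψ₁ p) = algebraMap T S' (π p) := by
    intro p
    have : ι₁.comp ψ₁ = (algebraMap T S').comp π.toRingHom := by
      apply MvPolynomial.ringHom_ext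
      · intro x
        simp only [ψ₁, RingHom.coe_comp, Function.comp_apply, MvPolynomial.coe_eval₂Hom,
          MvPolynomial.eval₂_C, AlgHom.toRingHom_eq_coe, RingHom.coe_coe]
        rw [IsScalarTower.algebraMap_apply R T₀ (Localization.Away (s : T₀)), hι₁,
          ← IsScalarTower.algebraMap_apply, ← MvPolynomial.algebraMap_eq, AlgHom.commutes,
          ← IsScalarTower.algebraMap_apply]
      · intro i
        simp only [ψ₁, RingHom.coe_comp, Function.comp_apply, MvPolynomial.coe_eval₂Hom,
          MvPolynomial.eval₂_X, AlgHom.toRingHom_eq_coe, RingHom.coe_coe]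
        exact hy i
    exact RingHom.congr_fun this p
  -- Step 2: kill the relations
  have hz : ∀ k, ∃ u : M₂, algebraMap T₀ (Localization.Away (s : T₀)) u * ψ₁ (fJ k) = 0 := by
    intro k
    apply exists_mul_eq_zero_of_lift_eq_zero (S' := S') M₂ s
    show ι₁ (ψ₁ (fJ k)) = 0
    rw [hψ₁]
    have : fJ k ∈ RingHom.ker π.toRingHom := hfJ ▸ Submodule.subset_span ⟨k, rfl⟩
    rw [show π (fJ k) = 0 from this, map_zero]
  choose u hu using hz
  have hg : (s : T₀) * ∏ k, (u k : T₀) ∈ M₂ :=
    M₂.mul_mem s.2 (Submonoid.prod_mem _ fun k _ => (u k).2)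
  set g : T₀ := (s : T₀) * ∏ k, (u k : T₀) with hgdef
  have hgL : IsUnit (algebraMap T₀ (Localization.Away g) g) :=
    IsLocalization.Away.algebraMap_isUnit g
  have hgmap : algebraMap T₀ (Localization.Away g) g =
      algebraMap T₀ (Localization.Away g) s *
        ∏ k, algebraMap T₀ (Localization.Away g) (u k) := by
    rw [← map_prod, ← map_mul]
  rw [hgmap] at hgL
  have hsL : IsUnit (algebraMap T₀ (Localization.Away g) s) := isUnit_of_mul_isUnit_left hgL
  have huL : ∀ k, IsUnit (algebraMap T₀ (Localization.Away g) (u k)) := fun k =>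
    isUnit_of_dvd_unit (Finset.dvd_prod_of_mem
      (fun k => algebraMap T₀ (Localization.Away g) (u k)) (Finset.mem_univ k))
      (isUnit_of_mul_isUnit_right hgL)
  let j : Localization.Away (s : T₀) →+* Localization.Away g :=
    IsLocalization.Away.lift (s : T₀) hsL
  have hj : ∀ b, j (algebraMap T₀ (Localization.Away (s : T₀)) b) =
      algebraMap T₀ (Localization.Away g) b := IsLocalization.Away.lift_eq _ hsL
  let ψ : MvPolynomial (Fin n) R →+* Localization.Away g := j.comp ψ₁
  have hψ : ∀ k, ψ (fJ k) = 0 := by
    intro k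
    apply (huL k).mul_right_injective
    show algebraMap T₀ (Localization.Away g) (u k) * j (ψ₁ (fJ k)) = _ * 0
    rw [← hj, ← map_mul, hu k, map_zero, mul_zero]
  have hker_le : RingHom.ker π.toRingHom ≤ RingHom.ker ψ := by
    rw [← hfJ]
    show Ideal.span (Set.range fJ) ≤ _
    rw [Ideal.span_le]
    rintro _ ⟨k, rfl⟩
    exact hψ k
  let φ' : T →+* Localization.Away g :=
    RingHom.liftOfSurjective π.toRingHom hπ ⟨ψ, hker_le⟩
  have hφ' : ∀ p, φ' (π p) = ψ p := fun p =>
    RingHom.liftOfSurjective_comp_apply π.toRingHom hπ ⟨ψ, hker_le⟩ p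
  have hunit : IsUnit (algebraMap T₀ S' g) := IsLocalization.map_units S' ⟨g, hg⟩
  have hcomp : (IsLocalization.Away.lift g hunit).comp j = ι₁ := by
    apply IsLocalization.ringHom_ext (Submonoid.powers (s : T₀))
    ext b
    simp only [RingHom.coe_comp, Function.comp_apply]
    rw [hj, hι₁, IsLocalization.Away.lift_eq]
  refine ⟨g, hg, φ', ?_, ?_⟩
  · intro x
    rw [← π.commutes x, hφ']
    show j (ψ₁ (algebraMap R (MvPolynomial (Fin n) R) x)) = _
    rw [MvPolynomial.algebraMap_eq]
    simp only [ψ₁, MvPolynomial.coe_eval₂Hom, MvPolynomial.eval₂_C]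
    rw [IsScalarTower.algebraMap_apply R T₀ (Localization.Away (s : T₀)), hj,
      ← IsScalarTower.algebraMap_apply]
  · intro t
    obtain ⟨p, rfl⟩ := hπ t
    rw [hφ', ← hψ₁ p, ← hcomp]
    rfl

include M₂ in
/-- If `S'` is a localization of a finitely presented `R`-algebra and receives an `R`-algebra map
from a finitely presented `R`-algebra `T`, then `S'` is a localization of a finitely presented
`R`-algebra `T'` which is a `T`-algebra, compatibly with the maps to `S'`. -/
theorem exists_fp_over [Algebra.FinitePresentation R T] [Algebra.FinitePresentation R T₀] :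
    ∃ (T' : Type u) (_ : CommRing T') (_ : Algebra R T') (_ : Algebra T T')
      (_ : IsScalarTower R T T') (_ : Algebra T' S') (_ : IsScalarTower R T' S')
      (_ : IsScalarTower T T' S') (W : Submonoid T'),
      Algebra.FinitePresentation R T' ∧ IsLocalization W S' := by
  obtain ⟨g, hg, φ', h1, h2⟩ := exists_away_lift (R := R) (T := T) (S' := S') M₂
  have hunit : IsUnit (algebraMap T₀ S' g) := IsLocalization.map_units S' ⟨g, hg⟩
  letI algTT' : Algebra T (Localization.Away g) := φ'.toAlgebra
  haveI : IsScalarTower R T (Localization.Away g) :=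
    IsScalarTower.of_algebraMap_eq (fun r => (h1 r).symm)
  letI algT'S' : Algebra (Localization.Away g) S' := (IsLocalization.Away.lift g hunit).toAlgebra
  haveI tow1 : IsScalarTower T₀ (Localization.Away g) S' :=
    IsScalarTower.of_algebraMap_eq (fun b => (IsLocalization.Away.lift_eq g hunit b).symm)
  haveI tow2 : IsScalarTower R (Localization.Away g) S' := by
    refine IsScalarTower.of_algebraMap_eq (fun r => ?_)
    rw [IsScalarTower.algebraMap_apply R T₀ (Localization.Away g),
      ← IsScalarTower.algebraMap_apply T₀ (Localization.Away g) S',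
      ← IsScalarTower.algebraMap_apply R T₀ S']
  haveI tow3 : IsScalarTower T (Localization.Away g) S' :=
    IsScalarTower.of_algebraMap_eq (fun t => (h2 t).symm)
  haveI : Algebra.FinitePresentation T₀ (Localization.Away g) :=
    IsLocalization.Away.finitePresentation g
  haveI : Algebra.FinitePresentation R (Localization.Away g) :=
    Algebra.FinitePresentation.trans R T₀ (Localization.Away g)
  refine ⟨Localization.Away g, inferInstance, inferInstance, algTT', inferInstance, algT'S',
    tow2, tow3, M₂.map (algebraMap T₀ (Localization.Away g)), inferInstance, ?_⟩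
  exact IsLocalization.isLocalization_of_submonoid_le (Localization.Away g) S'
    (Submonoid.powers g) M₂ (Submonoid.powers_le.mpr hg)

end Spread

end Groth.Agent.H76.EssFPSpread
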