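import Mathlib
import Groth.Agent.Lib.Helper71.FibreCritNoeth
import Groth.Agent.H76.FlatBaseChange

/-!
# Flatness relative to torsion modules (helper76)

`TorsFlat I L`: the functor `L ⊗ -` preserves injections into `I`-torsion modules; equivalent to
`(B/I) ⊗ L` being flat over `B/I`.  A small calculus (base change, transitivity, pure maps) used for
descending fibrewise flatness to a Noetherian stage.
-/

set_option autoImplicit false
universe u

open TensorProduct

namespace Groth.Agent.H76.TorsionFlat

section Def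

variable {B : Type u} [CommRing B] (I : Ideal B) (L : Type u) [AddCommGroup L] [Module B L]

/-- `L ⊗ -` preserves injections into `I`-torsion modules. -/
def TorsFlat : Prop :=
  ∀ ⦃X Y : Type u⦄ [AddCommGroup X] [Module B X] [AddCommGroup Y] [Module B Y],
    Module.IsTorsionBySet B Y (I : Set B) → ∀ f : X →ₗ[B] Y, Function.Injective f →
      Function.Injective (f.lTensor L)

variable {I L}

theorem isTorsionBySet_of_injective {X Y : Type*} [AddCommGroup X] [Module B X] [AddCommGroup Y]
    [Module B Y] (hY : Module.IsTorsionBySet B Y (I : Set B)) (f : X →ₗ[B] Y)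
    (hf : Function.Injective f) : Module.IsTorsionBySet B X (I : Set B) := by
  intro x a
  apply hf
  rw [map_smul, map_zero]
  exact @hY (f x) a

variable (I L)

theorem torsFlat_iff : TorsFlat I L ↔ Module.Flat (B ⧸ I) ((B ⧸ I) ⊗[B] L) := by
  constructor
  · intro h
    apply Groth.Agent.Lib.Helper98.flat_quotient_of_rTensor_injective L I
    intro J
    rw [← LinearMap.lTensor_inj_iff_rTensor_inj]
    refine h ?_ J.subtype Subtype.val_injective
    intro x a
    obtain ⟨y, rfl⟩ := Ideal.Quotient.mk_surjective x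
    rw [← Ideal.Quotient.mk_eq_mk, ← Submodule.Quotient.mk_smul, smul_eq_mul,
      Ideal.Quotient.mk_eq_mk, Ideal.Quotient.eq_zero_iff_mem]
    exact I.mul_mem_right _ a.2
  · intro h X Y _ _ _ _ hY f hf
    rw [LinearMap.lTensor_inj_iff_rTensor_inj]
    exact Groth.Agent.Lib.Helper84.rTensor_injective_of_flat_quotient_of_torsion I L
      (isTorsionBySet_of_injective hY f hf) hY f hf

variable {I L}

theorem TorsFlat.of_linearEquiv {L' : Type u} [AddCommGroup L'] [Module B L'] (e : L ≃ₗ[B] L')
    (h : TorsFlat I L) : TorsFlat I L' := by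
  intro X Y _ _ _ _ hY f hf
  have h1 := h hY f hf
  have hcomm : (f.lTensor L') ∘ₗ (e.toLinearMap.rTensor X) =
      (e.toLinearMap.rTensor Y) ∘ₗ (f.lTensor L) := by
    ext l x
    simp
  have hbij : Function.Bijective (e.toLinearMap.rTensor X) :=
    (TensorProduct.congr e (LinearEquiv.refl B X)).bijective
  have hinj : Function.Injective (e.toLinearMap.rTensor Y) :=
    (TensorProduct.congr e (LinearEquiv.refl B Y)).injective
  intro a b hab
  obtain ⟨a', rfl⟩ := hbij.2 a
  obtain ⟨b', rfl⟩ := hbij.2 b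
  have := congrArg (fun g => g a') hcomm
  have h2 : (e.toLinearMap.rTensor Y) (f.lTensor L a') = (e.toLinearMap.rTensor Y) (f.lTensor L b') := by
    have e1 := LinearMap.congr_fun hcomm a'
    have e2 := LinearMap.congr_fun hcomm b'
    simp only [LinearMap.comp_apply] at e1 e2
    rw [← e1, ← e2, hab]
  rw [h1 (hinj h2)]

theorem TorsFlat.of_flat [Module.Flat B L] : TorsFlat I L := by
  intro X Y _ _ _ _ _ f hf
  exact Module.Flat.lTensor_preserves_injective_linearMap f hf

/-- A pure-on-torsion submodule of a `TorsFlat` module is `TorsFlat`. -/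
theorem TorsFlat.of_pure {L₂ : Type u} [AddCommGroup L₂] [Module B L₂] (lam : L →ₗ[B] L₂)
    (hpure : ∀ ⦃X : Type u⦄ [AddCommGroup X] [Module B X],
      Module.IsTorsionBySet B X (I : Set B) → Function.Injective (lam.rTensor X))
    (h : TorsFlat I L₂) : TorsFlat I L := by
  intro X Y _ _ _ _ hY f hf
  have hX := isTorsionBySet_of_injective hY f hf
  have h2 := h hY f hf
  have hcomm : (f.lTensor L₂) ∘ₗ (lam.rTensor X) = (lam.rTensor Y) ∘ₗ (f.lTensor L) := by
    ext l x
    simp
  intro a b hab
  apply hpure hX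
  apply h2
  have e1 := LinearMap.congr_fun hcomm a
  have e2 := LinearMap.congr_fun hcomm b
  simp only [LinearMap.comp_apply] at e1 e2
  rw [e1, e2, hab]

end Def


section BaseChange

variable {A B : Type u} [CommRing A] [CommRing B] [Algebra A B] (p : Ideal A)
  (k : Type u) [AddCommGroup k] [Module A k]

/-- Base change of `TorsFlat`. -/
theorem TorsFlat.baseChange (h : TorsFlat p k) :
    TorsFlat (p.map (algebraMap A B)) (B ⊗[A] k) := by
  intro X Y _ _ _ _ hY f hf
  letI : Module A X := Module.compHom X (algebraMap A B)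
  haveI : IsScalarTower A B X := IsScalarTower.of_algebraMap_smul (fun _ _ => rfl)
  letI : Module A Y := Module.compHom Y (algebraMap A B)
  haveI : IsScalarTower A B Y := IsScalarTower.of_algebraMap_smul (fun _ _ => rfl)
  have hY' : Module.IsTorsionBySet A Y (p : Set A) := by
    intro y a
    show algebraMap A B a • y = 0
    exact @hY y ⟨algebraMap A B a, Ideal.mem_map_of_mem _ a.2⟩
  have h1 : Function.Injective ((f.restrictScalars A).rTensor k) := by
    rw [← LinearMap.lTensor_inj_iff_rTensor_inj]
    exact h hY' (f.restrictScalars A) hf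
  rw [LinearMap.lTensor_inj_iff_rTensor_inj]
  let eX := TensorProduct.AlgebraTensorModule.cancelBaseChange A B B X k
  let eY := TensorProduct.AlgebraTensorModule.cancelBaseChange A B B Y k
  have comm : ∀ z, eY (f.rTensor (B ⊗[A] k) z) = (f.restrictScalars A).rTensor k (eX z) := by
    intro z
    induction z using TensorProduct.induction_on with
    | zero => simp
    | tmul x w =>
      induction w using TensorProduct.induction_on with
      | zero => simp
      | tmul b c =>
        simp only [eX, eY, LinearMap.rTensor_tmul,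
          TensorProduct.AlgebraTensorModule.cancelBaseChange_tmul, LinearMap.coe_restrictScalars,
          map_smul]
      | add x y hx hy => simp only [TensorProduct.tmul_add, map_add, hx, hy]
    | add x y hx hy => simp only [map_add, hx, hy]
  intro a b hab
  apply eX.injective
  apply h1
  rw [← comm, ← comm, hab]

end BaseChange

section Comp

variable {B T : Type u} [CommRing B] [CommRing T] [Algebra B T] (I : Ideal B) (J : Ideal T)
  (Tb : Type u) [AddCommGroup Tb] [Module T Tb] [Module B Tb] [IsScalarTower B T Tb]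
  (M : Type u) [AddCommGroup M] [Module T M] [Module B M] [IsScalarTower B T M]

/-- Transitivity of `TorsFlat`. -/
theorem TorsFlat.comp (hTb : TorsFlat I Tb) (htors : Module.IsTorsionBySet T Tb (J : Set T))
    (hM : TorsFlat J M) : TorsFlat I (M ⊗[T] Tb) := by
  intro X Y _ _ _ _ hY f hf
  let g : Tb ⊗[B] X →ₗ[T] Tb ⊗[B] Y := TensorProduct.AlgebraTensorModule.lTensor T Tb f
  have hg : Function.Injective g := hTb hY f hf
  have hY' : Module.IsTorsionBySet T (Tb ⊗[B] Y) (J : Set T) := by
    intro z j
    induction z using TensorProduct.induction_on with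
    | zero => simp
    | tmul t y =>
      rw [TensorProduct.smul_tmul', @htors t j, TensorProduct.zero_tmul]
    | add x y hx hy => rw [smul_add, hx, hy, add_zero]
  have h2 : Function.Injective (g.lTensor M) := hM hY' g hg
  let eX := TensorProduct.AlgebraTensorModule.assoc B T T M Tb X
  let eY := TensorProduct.AlgebraTensorModule.assoc B T T M Tb Y
  have comm : ∀ z, eY (f.lTensor (M ⊗[T] Tb) z) = g.lTensor M (eX z) := by
    intro z
    induction z using TensorProduct.induction_on with
    | zero => simp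
    | tmul w x =>
      induction w using TensorProduct.induction_on with
      | zero => simp
      | tmul m t => rfl
      | add x y hx hy => simp only [TensorProduct.add_tmul, map_add, hx, hy]
    | add x y hx hy => simp only [map_add, hx, hy]
  intro a b hab
  apply eX.injective
  apply h2
  rw [← comm, ← comm, hab]

end Comp


section Residue

variable {A R : Type u} [CommRing A] [CommRing R] [Algebra A R] (m : Ideal R) [m.IsMaximal]

/-- A field containing a domain `D` is flat over `D`. -/
theorem flat_of_injective_field (D k : Type u) [CommRing D] [IsDomain D] [Field k] [Algebra D k]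
    (hinj : Function.Injective (algebraMap D k)) : Module.Flat D k := by
  let K := FractionRing D
  letI : Algebra K k := (IsFractionRing.lift hinj).toAlgebra
  haveI : IsScalarTower D K k :=
    IsScalarTower.of_algebraMap_eq (fun x => (IsFractionRing.lift_algebraMap hinj x).symm)
  haveI : Module.Flat D K := IsLocalization.flat K (nonZeroDivisors D)
  exact Module.Flat.trans D K k

/-- For a surjection `A → D` and a `D`-module `k`, `D ⊗[A] k ≃ k`. -/
noncomputable def tensorEquivOfSurjective (D k : Type u) [CommRing D] [Algebra A D]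
    (hs : Function.Surjective (algebraMap A D)) [AddCommGroup k] [Module A k] [Module D k]
    [IsScalarTower A D k] : D ⊗[A] k ≃ₗ[D] k :=
  LinearEquiv.ofLinear (LinearMap.liftBaseChange D (LinearMap.id : k →ₗ[A] k))
    ((TensorProduct.mk A D k 1).extendScalarsOfSurjective hs)
    (by
      ext x
      simp)
    (by
      apply TensorProduct.AlgebraTensorModule.curry_injective
      ext x
      simp)

theorem torsFlat_residue : TorsFlat (m.comap (algebraMap A R)) (R ⧸ m) := by
  set p := m.comap (algebraMap A R) with hp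
  haveI : p.IsPrime := Ideal.comap_isPrime _ _
  rw [torsFlat_iff]
  let φ : A ⧸ p →+* R ⧸ m := Ideal.quotientMap m (algebraMap A R) le_rfl
  have hφ : Function.Injective φ := Ideal.quotientMap_injective
  letI algDk : Algebra (A ⧸ p) (R ⧸ m) := φ.toAlgebra
  letI : Field (R ⧸ m) := Ideal.Quotient.field m
  haveI : IsScalarTower A (A ⧸ p) (R ⧸ m) := by
    refine IsScalarTower.of_algebraMap_smul (fun a x => ?_)
    obtain ⟨r, rfl⟩ := Ideal.Quotient.mk_surjective x
    show φ (Ideal.Quotient.mk p a) * _ = _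
    rw [Ideal.quotientMap_mk, ← map_mul, Algebra.smul_def]
    rfl
  haveI : Module.Flat (A ⧸ p) (R ⧸ m) := flat_of_injective_field (A ⧸ p) (R ⧸ m) hφ
  exact Module.Flat.of_linearEquiv
    (tensorEquivOfSurjective (A ⧸ p) (R ⧸ m) Ideal.Quotient.mk_surjective)

end Residue


section Pushout

variable {A R B T : Type u} [CommRing A] [CommRing R] [CommRing B] [CommRing T]
  [Algebra A R] [Algebra A B] [Algebra R T] [Algebra B T] [Algebra A T] [IsScalarTower A R T]
  [IsScalarTower A B T] [Algebra.IsPushout A R B T] (m : Ideal R) [m.IsMaximal]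

/-- The fibre `T ⊗[R] (R/m)` of a pushout is `TorsFlat` over the model `B`. -/
theorem torsFlat_pushout_residue :
    TorsFlat ((m.comap (algebraMap A R)).map (algebraMap A B)) (T ⊗[R] (R ⧸ m)) := by
  haveI : Algebra.IsPushout A B R T := Algebra.IsPushout.symm inferInstance
  exact ((torsFlat_residue (A := A) m).baseChange (B := B) _ _).of_linearEquiv
    (Algebra.IsPushout.cancelBaseChange A B R T (R ⧸ m)).symm

end Pushout


section Faithful

variable {B' T' : Type u} [CommRing B'] [CommRing T'] [Algebra B' T'] (I' : Ideal B')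
  (E₀ : Type u) [AddCommGroup E₀] [Module T' E₀] [Module B' E₀] [IsScalarTower B' T' E₀]

/-- A faithfulness statement: if `W ∉ Q` kills `e₀ ⊗ z` in `E₀ ⊗ Z`, where `E₀` is `TorsFlat` and
"cyclic modulo `𝔪'`", then some `a ∉ Q ∩ B'` kills `z`. -/
theorem exists_smul_eq_zero_of_smul_tmul_eq_zero (hE : TorsFlat I' E₀) (e₀ : E₀) (𝔪' : Ideal T')
    (hcyc : ∀ (𝔞 : Ideal B') (W : T'), W • e₀ ∈ 𝔞 • (⊤ : Submodule B' E₀) →
      W ∈ 𝔞.map (algebraMap B' T') ⊔ 𝔪')
    (Q : Ideal T') [Q.IsPrime] (hQ : 𝔪' ≤ Q)
    (Z : Type u) [AddCommGroup Z] [Module B' Z] (hZ : Module.IsTorsionBySet B' Z (I' : Set B'))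
    (z : Z) (W : T') (hW : W ∉ Q) (h : W • (e₀ ⊗ₜ[B'] z) = 0) :
    ∃ a : B', a ∉ Q.comap (algebraMap B' T') ∧ a • z = 0 := by
  set 𝔞 : Ideal B' := LinearMap.ker (LinearMap.toSpanSingleton B' Z z) with h𝔞
  let ι : (B' ⧸ 𝔞) →ₗ[B'] Z := Submodule.liftQ 𝔞 (LinearMap.toSpanSingleton B' Z z) le_rfl
  have hι : Function.Injective ι := by
    rw [← LinearMap.ker_eq_bot]
    exact Submodule.ker_liftQ_eq_bot _ _ _ le_rfl
  have h1 : Function.Injective (ι.lTensor E₀) := hE hZ ι hι
  have h2 : ι.lTensor E₀ ((W • e₀) ⊗ₜ[B'] (Submodule.Quotient.mk 1)) = 0 := by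
    rw [LinearMap.lTensor_tmul]
    have : ι (Submodule.Quotient.mk 1) = z := by
      show LinearMap.toSpanSingleton B' Z z 1 = z
      simp
    rw [this, ← TensorProduct.smul_tmul', h]
  have h3 : (W • e₀) ⊗ₜ[B'] (Submodule.Quotient.mk (1 : B') : B' ⧸ 𝔞) = 0 :=
    h1 (by rw [h2, map_zero])
  have h4 : W • e₀ ∈ 𝔞 • (⊤ : Submodule B' E₀) := by
    have := congrArg (TensorProduct.tensorQuotEquivQuotSMul E₀ 𝔞) h3
    rw [map_zero] at this
    have e : TensorProduct.tensorQuotEquivQuotSMul E₀ 𝔞
        ((W • e₀) ⊗ₜ[B'] (Submodule.Quotient.mk (1 : B') : B' ⧸ 𝔞)) =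
        Submodule.Quotient.mk ((1 : B') • (W • e₀)) :=
      TensorProduct.tensorQuotEquivQuotSMul_tmul_mk _ _ _
    rw [e, one_smul, Submodule.Quotient.mk_eq_zero] at this
    exact this
  have h5 := hcyc 𝔞 W h4
  by_contra hcon
  push_neg at hcon
  apply hW
  refine (sup_le ?_ hQ) h5
  rw [Ideal.map_le_iff_le_comap]
  intro a ha
  by_contra ha'
  apply hcon a ha'
  have : LinearMap.toSpanSingleton B' Z z a = 0 := ha
  simpa using this

end Faithful

section Cyc

variable {R B' T' : Type u} [CommRing R] [CommRing B'] [CommRing T'] [Algebra R T'] [Algebra B' T']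
  (m : Ideal R)

/-- The cyclicity property of `T' ⊗[R] (R/m)`. -/
theorem mem_sup_of_smul_mem (𝔞 : Ideal B') (W : T')
    (h : W • ((1 : T') ⊗ₜ[R] (1 : R ⧸ m)) ∈ 𝔞 • (⊤ : Submodule B' (T' ⊗[R] (R ⧸ m)))) :
    W ∈ 𝔞.map (algebraMap B' T') ⊔ m.map (algebraMap R T') := by
  set 𝔟 : Ideal T' := 𝔞.map (algebraMap B' T') ⊔ m.map (algebraMap R T') with h𝔟
  have hm : m ≤ 𝔟.comap (algebraMap R T') := by
    rw [← Ideal.map_le_iff_le_comap]
    exact le_sup_right
  let l : (R ⧸ m) →ₗ[R] (T' ⧸ 𝔟) := (Ideal.quotientMapₐ 𝔟 (Algebra.ofId R T') hm).toLinearMap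
  let χ : T' ⊗[R] (R ⧸ m) →ₗ[T'] (T' ⧸ 𝔟) := LinearMap.liftBaseChange T' l
  have hχ : ∀ y ∈ 𝔞 • (⊤ : Submodule B' (T' ⊗[R] (R ⧸ m))), χ y = 0 := by
    intro y hy
    refine Submodule.smul_induction_on hy ?_ ?_
    · intro a ha x _
      have ht : algebraMap B' T' a ∈ 𝔟 :=
        (le_sup_left : 𝔞.map (algebraMap B' T') ≤ 𝔟) (Ideal.mem_map_of_mem _ ha)
      rw [← algebraMap_smul T' a x, map_smul, Algebra.smul_def, Ideal.Quotient.algebraMap_eq,
        Ideal.Quotient.eq_zero_iff_mem.mpr ht, zero_mul]
    · intro x y hx hy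
      rw [map_add, hx, hy, add_zero]
  have h1 := hχ _ h
  rw [map_smul] at h1
  have h2 : χ ((1 : T') ⊗ₜ[R] (1 : R ⧸ m)) = 1 := by
    simp [χ, l]
  rw [h2] at h1
  have : (Ideal.Quotient.mk 𝔟 W) = 0 := by
    rw [← h1]
    rw [Algebra.smul_def, mul_one]
    rfl
  exact Ideal.Quotient.eq_zero_iff_mem.mp this

end Cyc

end Groth.Agent.H76.TorsionFlat
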