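import Mathlib
import Groth.Agent.H76.TorsFlat

/-!
# Descent of fibrewise flatness to a stage (helper76)

Given a pushout situation `A → R`, `B → B'` over `A` with base changes `T → T'` over `R`, a
`B'`-module `N` with base change `MT`, a maximal ideal `m` of `R` and a prime `Q` of `T'` over it:
if the fibre of `MT_Q` over `m` is flat over the fibre of `T`, the same holds for `N_{Q ∩ B'}`
over the prime `m ∩ A`.
-/

set_option autoImplicit false
universe u

open TensorProduct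

namespace Groth.Agent.H76.FibreDescent

open Groth.Agent.H76.TorsionFlat

section

variable {A R B T B' T' : Type u} [CommRing A] [CommRing R] [CommRing B] [CommRing T]
  [CommRing B'] [CommRing T']
  [Algebra A R] [Algebra A B] [Algebra R T] [Algebra B T] [Algebra A T] [IsScalarTower A R T]
  [IsScalarTower A B T] [Algebra.IsPushout A R B T]
  [Algebra A B'] [Algebra R T'] [Algebra B' T'] [Algebra A T'] [IsScalarTower A R T']
  [IsScalarTower A B' T'] [Algebra.IsPushout A R B' T']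
  [Algebra B B'] [Algebra T T'] [Algebra B T'] [IsScalarTower B B' T'] [IsScalarTower B T T']
  [IsScalarTower R T T'] [IsScalarTower A B B']
  (m : Ideal R) [m.IsMaximal]
  {N MT : Type u} [AddCommGroup N] [Module B' N] [Module B N] [IsScalarTower B B' N]
  [AddCommGroup MT] [Module T' MT] [Module T MT] [IsScalarTower T T' MT]
  [Module R MT] [IsScalarTower R T MT] [IsScalarTower R T' MT]
  [Module B' MT] [IsScalarTower B' T' MT]
  [Module B MT] [IsScalarTower B T MT] [IsScalarTower B T' MT]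
  (ψ : N →ₗ[B'] MT) (hψ : IsBaseChange T' ψ)
  (Q : Ideal T') [Q.IsPrime] (hQ : m.map (algebraMap R T') ≤ Q)

include hψ hQ in
theorem torsFlat_stage
    (H : TorsFlat (m.map (algebraMap R T)) (LocalizedModule Q.primeCompl MT)) :
    TorsFlat ((m.comap (algebraMap A R)).map (algebraMap A B))
      (LocalizedModule (Q.comap (algebraMap B' T')).primeCompl N) := by
  classical
  set p := m.comap (algebraMap A R) with hp
  set I := p.map (algebraMap A B) with hI
  set I' := p.map (algebraMap A B') with hI'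
  set Q₁ := Q.comap (algebraMap B' T') with hQ₁
  haveI : Q₁.IsPrime := Ideal.comap_isPrime _ _
  -- (a)
  have hTb : TorsFlat I (T ⊗[R] (R ⧸ m)) := torsFlat_pushout_residue (A := A) (B := B) (T := T) m
  have hTb' : TorsFlat I' (T' ⊗[R] (R ⧸ m)) :=
    torsFlat_pushout_residue (A := A) (B := B') (T := T') m
  have htors : Module.IsTorsionBySet T (T ⊗[R] (R ⧸ m)) (m.map (algebraMap R T) : Set T) := by
    have hle : m.map (algebraMap R T) ≤ Module.annihilator T (T ⊗[R] (R ⧸ m)) := by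
      rw [Ideal.map_le_iff_le_comap]
      intro μ hμ
      rw [Ideal.mem_comap, Module.mem_annihilator]
      intro z
      rw [algebraMap_smul]
      induction z using TensorProduct.induction_on with
      | zero => simp
      | tmul t κ =>
        obtain ⟨r, rfl⟩ := Ideal.Quotient.mk_surjective κ
        rw [← TensorProduct.tmul_smul, ← Ideal.Quotient.mk_eq_mk, ← Submodule.Quotient.mk_smul,
          smul_eq_mul, Ideal.Quotient.mk_eq_mk,
          Ideal.Quotient.eq_zero_iff_mem.mpr (m.mul_mem_right _ hμ), TensorProduct.tmul_zero]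
      | add x y hx hy => rw [smul_add, hx, hy, add_zero]
    intro z t
    exact Module.mem_annihilator.mp (hle t.2) z
  -- (b)
  have h1 : TorsFlat I ((LocalizedModule Q.primeCompl MT) ⊗[T] (T ⊗[R] (R ⧸ m))) :=
    TorsFlat.comp I _ (T ⊗[R] (R ⧸ m)) (LocalizedModule Q.primeCompl MT) hTb htors H
  -- (c)
  let θ : (T' ⊗[R] (R ⧸ m)) ⊗[B'] N ≃ₗ[T'] MT ⊗[T] (T ⊗[R] (R ⧸ m)) :=
    (TensorProduct.AlgebraTensorModule.rightComm R B' T' T' N (R ⧸ m)).symm ≪≫ₗ
      TensorProduct.AlgebraTensorModule.congr hψ.equiv (LinearEquiv.refl R (R ⧸ m)) ≪≫ₗ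
      (TensorProduct.AlgebraTensorModule.cancelBaseChange R T T' MT (R ⧸ m)).symm
  let g₂ : MT ⊗[T] (T ⊗[R] (R ⧸ m)) →ₗ[T']
      (LocalizedModule Q.primeCompl MT) ⊗[T] (T ⊗[R] (R ⧸ m)) :=
    TensorProduct.AlgebraTensorModule.rTensor T (T ⊗[R] (R ⧸ m))
      (LocalizedModule.mkLinearMap Q.primeCompl MT)
  haveI hg₂ : IsLocalizedModule Q.primeCompl g₂ := inferInstance
  haveI hg₂θ : IsLocalizedModule Q.primeCompl (g₂ ∘ₗ θ.toLinearMap) :=
    IsLocalizedModule.of_linearEquiv_right Q.primeCompl g₂ θ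
  let e₂ : LocalizedModule Q.primeCompl ((T' ⊗[R] (R ⧸ m)) ⊗[B'] N) ≃ₗ[T']
      (LocalizedModule Q.primeCompl MT) ⊗[T] (T ⊗[R] (R ⧸ m)) :=
    IsLocalizedModule.linearEquiv Q.primeCompl
      (LocalizedModule.mkLinearMap Q.primeCompl ((T' ⊗[R] (R ⧸ m)) ⊗[B'] N))
      (g₂ ∘ₗ θ.toLinearMap)
  letI : AddCommGroup (LocalizedModule Q.primeCompl ((T' ⊗[R] (R ⧸ m)) ⊗[B'] N)) :=
    Module.addCommMonoidToAddCommGroup T'
  have h2 : TorsFlat I (LocalizedModule Q.primeCompl ((T' ⊗[R] (R ⧸ m)) ⊗[B'] N)) :=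
    h1.of_linearEquiv (e₂.symm.restrictScalars B)
  -- (d) the comparison map
  let e₀ : T' ⊗[R] (R ⧸ m) := (1 : T') ⊗ₜ[R] (1 : R ⧸ m)
  let mkL := LocalizedModule.mkLinearMap Q.primeCompl ((T' ⊗[R] (R ⧸ m)) ⊗[B'] N)
  let lam₀ : N →ₗ[B'] LocalizedModule Q.primeCompl ((T' ⊗[R] (R ⧸ m)) ⊗[B'] N) :=
    (mkL.restrictScalars B') ∘ₗ (TensorProduct.mk B' (T' ⊗[R] (R ⧸ m)) N e₀)
  have hunits : ∀ x : Q₁.primeCompl, IsUnit ((algebraMap B'
      (Module.End B' (LocalizedModule Q.primeCompl ((T' ⊗[R] (R ⧸ m)) ⊗[B'] N)))) x) := by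
    intro x
    have hx : algebraMap B' T' x ∈ Q.primeCompl := x.2
    have hu := IsLocalizedModule.map_units mkL ⟨algebraMap B' T' x, hx⟩
    rw [Module.End.isUnit_iff] at hu ⊢
    convert hu using 1
    ext y
    simp only [Module.algebraMap_end_apply]
    exact (algebraMap_smul T' (x : B') y).symm
  let lam : LocalizedModule Q₁.primeCompl N →ₗ[B']
      LocalizedModule Q.primeCompl ((T' ⊗[R] (R ⧸ m)) ⊗[B'] N) :=
    IsLocalizedModule.lift Q₁.primeCompl (LocalizedModule.mkLinearMap Q₁.primeCompl N) lam₀ hunits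
  have hlam : ∀ n : N, lam (LocalizedModule.mkLinearMap Q₁.primeCompl N n) = lam₀ n :=
    fun n => IsLocalizedModule.lift_apply _ _ _ hunits n
  refine TorsFlat.of_pure (lam.restrictScalars B) ?_ h2
  intro X _ _ hX
  have hZ : Module.IsTorsionBySet B' (N ⊗[B] X) (I' : Set B') := by
    have hle : I' ≤ Module.annihilator B' (N ⊗[B] X) := by
      rw [hI', Ideal.map_le_iff_le_comap]
      intro a ha
      rw [Ideal.mem_comap, Module.mem_annihilator]
      intro z
      induction z using TensorProduct.induction_on with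
      | zero => simp
      | tmul n x =>
        have hx0 : algebraMap A B a • x = 0 :=
          @hX x ⟨algebraMap A B a, Ideal.mem_map_of_mem _ ha⟩
        rw [TensorProduct.smul_tmul', IsScalarTower.algebraMap_apply A B B', algebraMap_smul,
          TensorProduct.smul_tmul, hx0, TensorProduct.tmul_zero]
      | add x y hx hy => rw [smul_add, hx, hy, add_zero]
    intro z t
    exact Module.mem_annihilator.mp (hle t.2) z
  let Lam : (LocalizedModule Q₁.primeCompl N) ⊗[B] X →ₗ[B']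
      (LocalizedModule Q.primeCompl ((T' ⊗[R] (R ⧸ m)) ⊗[B'] N)) ⊗[B] X :=
    TensorProduct.AlgebraTensorModule.rTensor B X lam
  let mu : N ⊗[B] X →ₗ[B'] (LocalizedModule Q₁.primeCompl N) ⊗[B] X :=
    TensorProduct.AlgebraTensorModule.rTensor B X (LocalizedModule.mkLinearMap Q₁.primeCompl N)
  haveI hmu : IsLocalizedModule Q₁.primeCompl mu := inferInstance
  let G : ((T' ⊗[R] (R ⧸ m)) ⊗[B'] N) ⊗[B] X →ₗ[T']
      (LocalizedModule Q.primeCompl ((T' ⊗[R] (R ⧸ m)) ⊗[B'] N)) ⊗[B] X :=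
    TensorProduct.AlgebraTensorModule.rTensor B X mkL
  haveI hG : IsLocalizedModule Q.primeCompl G := inferInstance
  let α := TensorProduct.AlgebraTensorModule.assoc B B' T' (T' ⊗[R] (R ⧸ m)) N X
  have key : ∀ ζ₀ : N ⊗[B] X, Lam (mu ζ₀) = G (α.symm (e₀ ⊗ₜ[B'] ζ₀)) := by
    intro ζ₀
    induction ζ₀ using TensorProduct.induction_on with
    | zero => simp
    | tmul n x =>
      show (lam (LocalizedModule.mkLinearMap Q₁.primeCompl N n)) ⊗ₜ[B] x = _
      rw [hlam]
      rfl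
    | add x y hx hy => simp only [map_add, TensorProduct.tmul_add, hx, hy]
  have hLam : ∀ ζ, (lam.restrictScalars B).rTensor X ζ = Lam ζ := fun ζ => rfl
  rw [injective_iff_map_eq_zero]
  intro ζ hζ
  rw [hLam] at hζ
  obtain ⟨⟨ζ₀, w⟩, hw⟩ := IsLocalizedModule.surj Q₁.primeCompl mu ζ
  have hw' : (w : B') • ζ = mu ζ₀ := hw
  have h3 : G (α.symm (e₀ ⊗ₜ[B'] ζ₀)) = 0 := by
    rw [← key, ← hw', map_smul, hζ, smul_zero]
  obtain ⟨W, hW⟩ := (IsLocalizedModule.eq_zero_iff Q.primeCompl G).mp h3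
  have h4 : (W : T') • (e₀ ⊗ₜ[B'] ζ₀) = 0 := by
    have hW' : (W : T') • α.symm (e₀ ⊗ₜ[B'] ζ₀) = 0 := hW
    have := congrArg α hW'
    rwa [map_smul, LinearEquiv.apply_symm_apply, map_zero] at this
  obtain ⟨a, ha, haz⟩ := exists_smul_eq_zero_of_smul_tmul_eq_zero I' (T' ⊗[R] (R ⧸ m)) hTb' e₀
    (m.map (algebraMap R T')) (fun 𝔞 W h => mem_sup_of_smul_mem m 𝔞 W h) Q hQ (N ⊗[B] X) hZ ζ₀
    W W.2 h4
  have h5 : mu ζ₀ = 0 := by
    have h6 : (⟨a, ha⟩ : Q₁.primeCompl) • mu ζ₀ = 0 := by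
      show a • mu ζ₀ = 0
      rw [← map_smul, haz, map_zero]
    refine IsLocalizedModule.smul_injective (S := Q₁.primeCompl) mu ⟨a, ha⟩ ?_
    show (⟨a, ha⟩ : Q₁.primeCompl) • mu ζ₀ = (⟨a, ha⟩ : Q₁.primeCompl) • (0 : _)
    rw [h6, smul_zero]
  have hw2 : w • ζ = 0 := by
    rw [← h5]
    exact hw
  refine IsLocalizedModule.smul_injective (S := Q₁.primeCompl) mu w ?_
  show w • ζ = w • (0 : _)
  rw [hw2, smul_zero]

include hψ hQ in
/-- **Descent of fibrewise flatness to a stage**, quotient-ring form. -/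
theorem flat_quotient_stage
    (H : Module.Flat (T ⧸ m.map (algebraMap R T))
      ((T ⧸ m.map (algebraMap R T)) ⊗[T] LocalizedModule Q.primeCompl MT)) :
    Module.Flat (B ⧸ (m.comap (algebraMap A R)).map (algebraMap A B))
      ((B ⧸ (m.comap (algebraMap A R)).map (algebraMap A B)) ⊗[B]
        LocalizedModule (Q.comap (algebraMap B' T')).primeCompl N) :=
  (torsFlat_iff _ _).mp (torsFlat_stage m ψ hψ Q hQ ((torsFlat_iff _ _).mpr H))

end

end Groth.Agent.H76.FibreDescent
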