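import Mathlib
import Groth.Agent.H76.FibreDescent

/-!
# The fibre criterion from a Noetherian stage (helper76)

`flat_of_stage`: abstract stage data (`A` Noetherian, `B → B'` of finite type over `A`, pushouts to
`T → T'`, a finite `B'`-module `N` with base change `MT`, flat over `A` at the prime below `Q`) plus
fibrewise flatness upstairs imply that `MT_Q` is flat over `T`.
-/

set_option autoImplicit false
universe u

open TensorProduct

namespace Groth.Agent.H76.FibreStage

open Groth.Agent.H76.TorsionFlat Groth.Agent.H76.FibreDescent Groth.Agent.H76.FlatBaseChange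

section

variable {A R B T B' T' : Type u} [CommRing A] [CommRing R] [CommRing B] [CommRing T]
  [CommRing B'] [CommRing T']
  [Algebra A R] [Algebra A B] [Algebra R T] [Algebra B T] [Algebra A T] [IsScalarTower A R T]
  [IsScalarTower A B T] [Algebra.IsPushout A R B T]
  [Algebra A B'] [Algebra R T'] [Algebra B' T'] [Algebra A T'] [IsScalarTower A R T']
  [IsScalarTower A B' T'] [Algebra.IsPushout A R B' T']
  [Algebra B B'] [Algebra T T'] [Algebra B T'] [IsScalarTower B B' T'] [IsScalarTower B T T']
  [IsScalarTower R T T'] [IsScalarTower A B B']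
  [IsNoetherianRing A]
  (m : Ideal R) [m.IsMaximal]
  {N MT : Type u} [AddCommGroup N] [Module B' N] [Module B N] [IsScalarTower B B' N]
  [Module A N] [IsScalarTower A B' N] [IsScalarTower A B N] [Module.Finite B' N]
  [AddCommGroup MT] [Module T' MT] [Module T MT] [IsScalarTower T T' MT]
  [Module R MT] [IsScalarTower R T MT] [IsScalarTower R T' MT]
  [Module B' MT] [IsScalarTower B' T' MT]
  [Module B MT] [IsScalarTower B T MT] [IsScalarTower B T' MT]
  (ψ : N →ₗ[B'] MT) (hψ : IsBaseChange T' ψ)
  (Q : Ideal T') [Q.IsPrime] (hQ : m.map (algebraMap R T') ≤ Q)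

include hψ hQ in
theorem flat_of_stage [Algebra.FiniteType A B] [Algebra.FiniteType A B']
    (hA : Module.Flat A (LocalizedModule (Q.comap (algebraMap B' T')).primeCompl N))
    (hfib : Module.Flat (T ⧸ m.map (algebraMap R T))
      ((T ⧸ m.map (algebraMap R T)) ⊗[T] LocalizedModule Q.primeCompl MT)) :
    Module.Flat T (LocalizedModule Q.primeCompl MT) := by
  classical
  haveI : IsNoetherianRing B := Algebra.FiniteType.isNoetherianRing A B
  haveI : IsNoetherianRing B' := Algebra.FiniteType.isNoetherianRing A B'
  set Q₁ := Q.comap (algebraMap B' T') with hQ₁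
  haveI : Q₁.IsPrime := Ideal.comap_isPrime _ _
  set p := m.comap (algebraMap A R) with hp
  set I := p.map (algebraMap A B) with hI
  have hfib₁ : Module.Flat (B ⧸ I) ((B ⧸ I) ⊗[B] LocalizedModule Q₁.primeCompl N) :=
    flat_quotient_stage m ψ hψ Q hQ hfib
  have hb : Function.Injective (I.subtype.rTensor (LocalizedModule Q₁.primeCompl N)) :=
    Groth.Agent.Lib.Helper71.FibreCritNoeth.rTensor_injective_map (R := A) (S := B) p
      (LocalizedModule Q₁.primeCompl N)
  have hIJ : I.map (algebraMap B (Localization.AtPrime Q₁)) ≤ Ideal.jacobson ⊥ := by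
    rw [IsLocalRing.jacobson_eq_maximalIdeal ⊥ bot_ne_top, hI, Ideal.map_map,
      Ideal.map_le_iff_le_comap]
    intro a ha
    rw [Ideal.mem_comap, RingHom.comp_apply, ← IsScalarTower.algebraMap_apply,
      IsScalarTower.algebraMap_apply A B' (Localization.AtPrime Q₁),
      IsLocalization.AtPrime.to_map_mem_maximal_iff (Localization.AtPrime Q₁) Q₁]
    show algebraMap B' T' (algebraMap A B' a) ∈ Q
    rw [← IsScalarTower.algebraMap_apply, IsScalarTower.algebraMap_apply A R T']
    exact hQ (Ideal.mem_map_of_mem _ ha)
  have h1 : Module.Flat B (LocalizedModule Q₁.primeCompl N) :=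
    Groth.Agent.Lib.Helper71.FibreCritNoeth.flat_of_rTensor_injective I
      (B := Localization.AtPrime Q₁) (LocalizedModule Q₁.primeCompl N) hIJ hb
  haveI : IsScalarTower A T T' := by
    refine IsScalarTower.of_algebraMap_eq (fun a => ?_)
    rw [IsScalarTower.algebraMap_apply A R T', IsScalarTower.algebraMap_apply R T T',
      ← IsScalarTower.algebraMap_apply A R T]
  haveI : Algebra.IsPushout A B R T := Algebra.IsPushout.symm inferInstance
  haveI : Algebra.IsPushout A B' R T' := Algebra.IsPushout.symm inferInstance
  haveI : Algebra.IsPushout B B' T T' := (Algebra.IsPushout.comp_iff A B R T (T := B') (T' := T')).mp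
    inferInstance
  haveI : Algebra.IsPushout B T B' T' := Algebra.IsPushout.symm inferInstance
  refine flat_localized_baseChange (A₁ := B) (A₂ := T) (P₁ := B') (P₂ := T') ψ hψ Q₁.primeCompl
    Q.primeCompl ?_
  rintro _ ⟨x, hx, rfl⟩
  exact hx

end

end Groth.Agent.H76.FibreStage
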