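import Mathlib
import Groth.Agent.H76.FibreStage
import Groth.Agent.H76.FlatModel

/-!
# The fibre criterion for flatness, finitely presented case (helper76)

`flat_of_fibre_fp`: `R` a ring, `m` a maximal ideal, `T → T'` finitely presented `R`-algebras,
`MT` a finitely presented `T'`-module, `Q` a prime of `T'` over `m`.  If `MT_Q` is flat over `R` and
its fibre over `m` is flat over the fibre of `T`, then `MT_Q` is flat over `T`
(Stacks 00R7 / EGA IV 11.3.10, without Noetherian hypotheses).
-/

set_option autoImplicit false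
universe u

open TensorProduct Groth.Agent.H76.FlatKernel Groth.Agent.H76.FlatDescentLocal
  Groth.Agent.H76.FlatBaseChange Groth.Agent.H76.FlatLocusFP Groth.Agent.H76.FlatModel

namespace Groth.Agent.H76.FibreCritFP

attribute [local instance] MvPolynomial.algebraMvPolynomial

/-- Transport of flatness of a localized module along an equality of primes. -/
theorem flat_localizedModule_congr {R₀ P M : Type*} [CommRing R₀] [CommRing P] [Algebra R₀ P]
    [AddCommGroup M] [Module P M] [Module R₀ M] [IsScalarTower R₀ P M]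
    {p q : Ideal P} [p.IsPrime] [q.IsPrime] (h : p = q)
    (hf : Module.Flat R₀ (LocalizedModule p.primeCompl M)) :
    Module.Flat R₀ (LocalizedModule q.primeCompl M) := by
  subst h
  exact hf

section PolyStage

variable {R₀ R T T' : Type u} [CommRing R₀] [IsNoetherianRing R₀] [CommRing R] [CommRing T]
  [CommRing T'] [Algebra R₀ R] [Algebra R T] [Algebra R T'] [Algebra T T'] [IsScalarTower R T T']
  [Algebra R₀ T] [IsScalarTower R₀ R T] [Algebra R₀ T'] [IsScalarTower R₀ R T']
  {n n' r r' a b : ℕ}
  [Algebra (MvPolynomial (Fin n) R) T] [IsScalarTower R (MvPolynomial (Fin n) R) T]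
  [Algebra (MvPolynomial (Fin n') R) T'] [IsScalarTower R (MvPolynomial (Fin n') R) T']
  {B B' : Type u} [CommRing B] [CommRing B'] [Algebra R₀ B]
  [Algebra (MvPolynomial (Fin n) R₀) B] [IsScalarTower R₀ (MvPolynomial (Fin n) R₀) B]
  [Algebra R₀ B'] [Algebra (MvPolynomial (Fin n') R₀) B']
  [IsScalarTower R₀ (MvPolynomial (Fin n') R₀) B']
  {MT : Type u} [AddCommGroup MT] [Module T' MT] [Module T MT] [IsScalarTower T T' MT]
  [Module R MT] [IsScalarTower R T MT] [IsScalarTower R T' MT]
  [Module (MvPolynomial (Fin n') R) MT] [IsScalarTower (MvPolynomial (Fin n') R) T' MT]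

/-- The fibre criterion, given polynomial stage data over a Noetherian ring `R₀ ⊆ R`. -/
theorem flat_of_poly_stage (hinj : Function.Injective (algebraMap R₀ R))
    (hsurjT : Function.Surjective (algebraMap (MvPolynomial (Fin n) R) T))
    (hsurjB : Function.Surjective (algebraMap (MvPolynomial (Fin n) R₀) B))
    (f₀ : Fin r → MvPolynomial (Fin n) R₀)
    (hkerT : RingHom.ker (algebraMap (MvPolynomial (Fin n) R) T) =
      Ideal.span (Set.range fun k => MvPolynomial.map (algebraMap R₀ R) (f₀ k)))
    (hkerB : RingHom.ker (algebraMap (MvPolynomial (Fin n) R₀) B) = Ideal.span (Set.range f₀))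
    (hsurjT' : Function.Surjective (algebraMap (MvPolynomial (Fin n') R) T'))
    (hsurjB' : Function.Surjective (algebraMap (MvPolynomial (Fin n') R₀) B'))
    (g₀ : Fin r' → MvPolynomial (Fin n') R₀)
    (hkerT' : RingHom.ker (algebraMap (MvPolynomial (Fin n') R) T') =
      Ideal.span (Set.range fun k => MvPolynomial.map (algebraMap R₀ R) (g₀ k)))
    (hkerB' : RingHom.ker (algebraMap (MvPolynomial (Fin n') R₀) B') = Ideal.span (Set.range g₀))
    (h₀ : Fin n → MvPolynomial (Fin n') R₀)
    (hh : ∀ i, algebraMap (MvPolynomial (Fin n') R) T' (MvPolynomial.map (algebraMap R₀ R) (h₀ i)) =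
      algebraMap T T' (algebraMap (MvPolynomial (Fin n) R) T (MvPolynomial.X i)))
    (hlam : ∀ k, MvPolynomial.aeval h₀ (f₀ k) ∈ Ideal.span (Set.range g₀))
    (c₀ : Fin a → Fin b → MvPolynomial (Fin n') R₀)
    (hann : ∀ k l, g₀ k • (Pi.single l 1 : Fin b → MvPolynomial (Fin n') R₀) ∈
        Submodule.span (MvPolynomial (Fin n') R₀) (Set.range c₀))
    (e : MT ≃ₗ[MvPolynomial (Fin n') R] ((Fin b → MvPolynomial (Fin n') R) ⧸
        Submodule.span (MvPolynomial (Fin n') R) (Set.range (cmap (algebraMap R₀ R) c₀))))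
    (m : Ideal R) [m.IsMaximal] (Q : Ideal T') [Q.IsPrime] (hQ : m.map (algebraMap R T') ≤ Q)
    (hA : Module.Flat R₀ (LocalizedModule
      ((Q.comap (algebraMap (MvPolynomial (Fin n') R) T')).comap
        (MvPolynomial.map (algebraMap R₀ R))).primeCompl
      ((Fin b → MvPolynomial (Fin n') R₀) ⧸
        Submodule.span (MvPolynomial (Fin n') R₀) (Set.range c₀))))
    (hfib : Module.Flat (T ⧸ m.map (algebraMap R T))
      ((T ⧸ m.map (algebraMap R T)) ⊗[T] LocalizedModule Q.primeCompl MT)) :
    Module.Flat T (LocalizedModule Q.primeCompl MT) := by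
  classical
  -- the algebra `B → T`
  let ψB : MvPolynomial (Fin n) R₀ →+* T :=
    (algebraMap (MvPolynomial (Fin n) R) T).comp (MvPolynomial.map (algebraMap R₀ R))
  have hψB : RingHom.ker (algebraMap (MvPolynomial (Fin n) R₀) B) ≤ RingHom.ker ψB := by
    rw [hkerB, Ideal.span_le]
    rintro _ ⟨k, rfl⟩
    show algebraMap (MvPolynomial (Fin n) R) T (MvPolynomial.map (algebraMap R₀ R) (f₀ k)) = 0
    rw [← RingHom.mem_ker, hkerT]
    exact Ideal.subset_span ⟨k, rfl⟩
  let φB : B →+* T := RingHom.liftOfSurjective (algebraMap (MvPolynomial (Fin n) R₀) B) hsurjB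
    ⟨ψB, hψB⟩
  have hφB : ∀ p, φB (algebraMap (MvPolynomial (Fin n) R₀) B p) = ψB p := fun p =>
    RingHom.liftOfSurjective_comp_apply _ hsurjB ⟨ψB, hψB⟩ p
  letI algBT : Algebra B T := φB.toAlgebra
  have hCB : ∀ x : R₀, ψB (MvPolynomial.C x) = algebraMap R₀ T x := by
    intro x
    simp only [ψB, RingHom.coe_comp, Function.comp_apply, MvPolynomial.map_C]
    rw [IsScalarTower.algebraMap_apply R₀ R T,
      IsScalarTower.algebraMap_apply R (MvPolynomial (Fin n) R) T]
    rfl
  haveI towR₀BT : IsScalarTower R₀ B T := by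
    refine IsScalarTower.of_algebraMap_eq (fun x => ?_)
    rw [IsScalarTower.algebraMap_apply R₀ (MvPolynomial (Fin n) R₀) B]
    show _ = φB _
    rw [MvPolynomial.algebraMap_eq, hφB, hCB]
  haveI poB : Algebra.IsPushout R₀ R B T :=
    isPushout_quotient hsurjT hsurjB f₀ hkerT hkerB (fun p => hφB p)
  -- the algebra `B' → T'`
  let ψB' : MvPolynomial (Fin n') R₀ →+* T' :=
    (algebraMap (MvPolynomial (Fin n') R) T').comp (MvPolynomial.map (algebraMap R₀ R))
  have hψB' : RingHom.ker (algebraMap (MvPolynomial (Fin n') R₀) B') ≤ RingHom.ker ψB' := by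
    rw [hkerB', Ideal.span_le]
    rintro _ ⟨k, rfl⟩
    show algebraMap (MvPolynomial (Fin n') R) T' (MvPolynomial.map (algebraMap R₀ R) (g₀ k)) = 0
    rw [← RingHom.mem_ker, hkerT']
    exact Ideal.subset_span ⟨k, rfl⟩
  let φB' : B' →+* T' := RingHom.liftOfSurjective (algebraMap (MvPolynomial (Fin n') R₀) B')
    hsurjB' ⟨ψB', hψB'⟩
  have hφB' : ∀ p, φB' (algebraMap (MvPolynomial (Fin n') R₀) B' p) = ψB' p := fun p =>
    RingHom.liftOfSurjective_comp_apply _ hsurjB' ⟨ψB', hψB'⟩ p
  letI algB'T' : Algebra B' T' := φB'.toAlgebra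
  have hCB' : ∀ x : R₀, ψB' (MvPolynomial.C x) = algebraMap R₀ T' x := by
    intro x
    simp only [ψB', RingHom.coe_comp, Function.comp_apply, MvPolynomial.map_C]
    rw [IsScalarTower.algebraMap_apply R₀ R T',
      IsScalarTower.algebraMap_apply R (MvPolynomial (Fin n') R) T']
    rfl
  haveI towR₀B'T' : IsScalarTower R₀ B' T' := by
    refine IsScalarTower.of_algebraMap_eq (fun x => ?_)
    rw [IsScalarTower.algebraMap_apply R₀ (MvPolynomial (Fin n') R₀) B']
    show _ = φB' _
    rw [MvPolynomial.algebraMap_eq, hφB', hCB']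
  haveI poB' : Algebra.IsPushout R₀ R B' T' :=
    isPushout_quotient hsurjT' hsurjB' g₀ hkerT' hkerB' (fun p => hφB' p)
  -- the algebra `B → B'`
  let Φ₀ : MvPolynomial (Fin n) R₀ →ₐ[R₀] MvPolynomial (Fin n') R₀ := MvPolynomial.aeval h₀
  let ψBB' : MvPolynomial (Fin n) R₀ →+* B' :=
    (algebraMap (MvPolynomial (Fin n') R₀) B').comp Φ₀.toRingHom
  have hψBB' : RingHom.ker (algebraMap (MvPolynomial (Fin n) R₀) B) ≤ RingHom.ker ψBB' := by
    rw [hkerB, Ideal.span_le]
    rintro _ ⟨k, rfl⟩
    show algebraMap (MvPolynomial (Fin n') R₀) B' (MvPolynomial.aeval h₀ (f₀ k)) = 0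
    rw [← RingHom.mem_ker, hkerB']
    exact hlam k
  let φBB' : B →+* B' := RingHom.liftOfSurjective (algebraMap (MvPolynomial (Fin n) R₀) B) hsurjB
    ⟨ψBB', hψBB'⟩
  have hφBB' : ∀ p, φBB' (algebraMap (MvPolynomial (Fin n) R₀) B p) = ψBB' p := fun p =>
    RingHom.liftOfSurjective_comp_apply _ hsurjB ⟨ψBB', hψBB'⟩ p
  letI algBB' : Algebra B B' := φBB'.toAlgebra
  haveI towR₀BB' : IsScalarTower R₀ B B' := by
    refine IsScalarTower.of_algebraMap_eq (fun x => ?_)
    rw [IsScalarTower.algebraMap_apply R₀ (MvPolynomial (Fin n) R₀) B]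
    show _ = φBB' _
    rw [MvPolynomial.algebraMap_eq, hφBB']
    show _ = algebraMap (MvPolynomial (Fin n') R₀) B' (MvPolynomial.aeval h₀ (MvPolynomial.C x))
    rw [MvPolynomial.aeval_C, IsScalarTower.algebraMap_apply R₀ (MvPolynomial (Fin n') R₀) B']
  -- the algebra `B → T'`
  letI algBT' : Algebra B T' := ((algebraMap T T').comp (algebraMap B T)).toAlgebra
  haveI towBTT' : IsScalarTower B T T' := IsScalarTower.of_algebraMap_eq (fun _ => rfl)
  -- compatibility of the square
  have hsq : ∀ p : MvPolynomial (Fin n) R₀,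
      algebraMap (MvPolynomial (Fin n') R) T' (MvPolynomial.map (algebraMap R₀ R) (Φ₀ p)) =
        algebraMap T T' (algebraMap (MvPolynomial (Fin n) R) T
          (MvPolynomial.map (algebraMap R₀ R) p)) := by
    intro p
    have : ((algebraMap (MvPolynomial (Fin n') R) T').comp
        ((MvPolynomial.map (algebraMap R₀ R)).comp Φ₀.toRingHom)) =
        ((algebraMap T T').comp ((algebraMap (MvPolynomial (Fin n) R) T).comp
          (MvPolynomial.map (algebraMap R₀ R)))) := by
      apply MvPolynomial.ringHom_ext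
      · intro x
        simp only [RingHom.coe_comp, Function.comp_apply, AlgHom.toRingHom_eq_coe, RingHom.coe_coe,
          Φ₀, MvPolynomial.aeval_C, MvPolynomial.map_C, MvPolynomial.algebraMap_eq]
        rw [← MvPolynomial.algebraMap_eq, ← MvPolynomial.algebraMap_eq,
          ← IsScalarTower.algebraMap_apply R (MvPolynomial (Fin n') R) T',
          ← IsScalarTower.algebraMap_apply R (MvPolynomial (Fin n) R) T,
          ← IsScalarTower.algebraMap_apply R T T']
      · intro i
        simp only [RingHom.coe_comp, Function.comp_apply, AlgHom.toRingHom_eq_coe, RingHom.coe_coe,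
          Φ₀, MvPolynomial.aeval_X, MvPolynomial.map_X]
        exact hh i
    exact RingHom.congr_fun this p
  haveI towBB'T' : IsScalarTower B B' T' := by
    refine IsScalarTower.of_algebraMap_eq (fun x => ?_)
    obtain ⟨p, rfl⟩ := hsurjB x
    show algebraMap T T' (φB _) = φB' (φBB' _)
    rw [hφB, hφBB']
    show _ = φB' (algebraMap (MvPolynomial (Fin n') R₀) B' (Φ₀ p))
    rw [hφB']
    exact (hsq p).symm
  -- the module `N₀`
  have hk : ∀ p ∈ RingHom.ker (algebraMap (MvPolynomial (Fin n') R₀) B'),
      ∀ x : (Fin b → MvPolynomial (Fin n') R₀) ⧸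
        Submodule.span (MvPolynomial (Fin n') R₀) (Set.range c₀), p • x = 0 := by
    intro p hp x
    rw [hkerB'] at hp
    induction hp using Submodule.span_induction with
    | mem p hp =>
      obtain ⟨k, rfl⟩ := hp
      obtain ⟨v, rfl⟩ := Submodule.Quotient.mk_surjective _ x
      rw [← Submodule.Quotient.mk_smul, Submodule.Quotient.mk_eq_zero, pi_eq_sum_univ v,
        Finset.smul_sum]
      refine Submodule.sum_mem _ fun l _ => ?_
      rw [smul_comm]
      refine Submodule.smul_mem _ _ ?_
      convert hann k l using 2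
      ext i
      simp [Pi.single_apply, eq_comm]
    | zero => exact zero_smul _ _
    | add p q _ _ hp hq => rw [add_smul, hp, hq, add_zero]
    | smul a p _ hp => rw [smul_eq_mul, mul_smul, hp, smul_zero]
  letI modB'N₀ : Module B' ((Fin b → MvPolynomial (Fin n') R₀) ⧸
        Submodule.span (MvPolynomial (Fin n') R₀) (Set.range c₀)) := moduleOfSurjective hsurjB' hk
  haveI towP₀B'N₀ : IsScalarTower (MvPolynomial (Fin n') R₀) B'
      ((Fin b → MvPolynomial (Fin n') R₀) ⧸
        Submodule.span (MvPolynomial (Fin n') R₀) (Set.range c₀)) :=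
    IsScalarTower.of_algebraMap_smul (fun p x => moduleOfSurjective_smul hsurjB' hk p x)
  haveI towR₀B'N₀ : IsScalarTower R₀ B'
      ((Fin b → MvPolynomial (Fin n') R₀) ⧸
        Submodule.span (MvPolynomial (Fin n') R₀) (Set.range c₀)) := by
    refine IsScalarTower.of_algebraMap_smul (fun x y => ?_)
    rw [IsScalarTower.algebraMap_apply R₀ (MvPolynomial (Fin n') R₀) B', algebraMap_smul,
      algebraMap_smul]
  letI modBN₀ : Module B ((Fin b → MvPolynomial (Fin n') R₀) ⧸
        Submodule.span (MvPolynomial (Fin n') R₀) (Set.range c₀)) :=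
    Module.compHom _ (algebraMap B B')
  haveI towBB'N₀ : IsScalarTower B B' ((Fin b → MvPolynomial (Fin n') R₀) ⧸
        Submodule.span (MvPolynomial (Fin n') R₀) (Set.range c₀)) :=
    IsScalarTower.of_algebraMap_smul (fun _ _ => rfl)
  haveI towR₀BN₀ : IsScalarTower R₀ B ((Fin b → MvPolynomial (Fin n') R₀) ⧸
        Submodule.span (MvPolynomial (Fin n') R₀) (Set.range c₀)) := by
    refine IsScalarTower.of_algebraMap_smul (fun x y => ?_)
    show algebraMap B B' (algebraMap R₀ B x) • y = x • y
    rw [← IsScalarTower.algebraMap_apply R₀ B B', algebraMap_smul]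
  haveI finN₀ : Module.Finite B' ((Fin b → MvPolynomial (Fin n') R₀) ⧸
        Submodule.span (MvPolynomial (Fin n') R₀) (Set.range c₀)) :=
    Module.Finite.of_restrictScalars_finite (MvPolynomial (Fin n') R₀) _ _
  -- module structures on `MT`
  letI modB'MT : Module B' MT := Module.compHom MT (algebraMap B' T')
  haveI towB'T'MT : IsScalarTower B' T' MT := IsScalarTower.of_algebraMap_smul (fun _ _ => rfl)
  letI modBMT : Module B MT := Module.compHom MT (algebraMap B T')
  haveI towBT'MT : IsScalarTower B T' MT := IsScalarTower.of_algebraMap_smul (fun _ _ => rfl)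
  haveI towBTMT : IsScalarTower B T MT := by
    refine IsScalarTower.of_algebraMap_smul (fun x y => ?_)
    exact (algebraMap_smul T' (algebraMap B T x) y).symm
  letI algP₀T' : Algebra (MvPolynomial (Fin n') R₀) T' := ψB'.toAlgebra
  haveI : IsScalarTower (MvPolynomial (Fin n') R₀) (MvPolynomial (Fin n') R) T' :=
    IsScalarTower.of_algebraMap_eq (fun x => rfl)
  haveI : IsScalarTower (MvPolynomial (Fin n') R₀) B' T' :=
    IsScalarTower.of_algebraMap_eq (fun x => (hφB' x).symm)
  letI modP₀MT : Module (MvPolynomial (Fin n') R₀) MT :=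
    Module.compHom MT (algebraMap (MvPolynomial (Fin n') R₀) (MvPolynomial (Fin n') R))
  haveI : IsScalarTower (MvPolynomial (Fin n') R₀) (MvPolynomial (Fin n') R) MT :=
    IsScalarTower.of_algebraMap_smul (fun _ _ => rfl)
  haveI : IsScalarTower (MvPolynomial (Fin n') R₀) B' MT := by
    refine IsScalarTower.of_algebraMap_smul (fun p y => ?_)
    show φB' (algebraMap (MvPolynomial (Fin n') R₀) B' p) • y =
      (MvPolynomial.map (algebraMap R₀ R) p) • y
    rw [hφB']
    exact algebraMap_smul T' (MvPolynomial.map (algebraMap R₀ R) p) y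
  -- the map
  let F₀ : ((Fin b → MvPolynomial (Fin n') R₀) ⧸
        Submodule.span (MvPolynomial (Fin n') R₀) (Set.range c₀)) →ₗ[MvPolynomial (Fin n') R₀] MT :=
    (e.symm.toLinearMap.restrictScalars (MvPolynomial (Fin n') R₀)).comp
      (cokerMap (P₂ := MvPolynomial (Fin n') R) c₀)
  have hF₀ : IsBaseChange (MvPolynomial (Fin n') R) F₀ :=
    (isBaseChange_cokerMap (P₂ := MvPolynomial (Fin n') R) c₀).comp (IsBaseChange.ofEquiv e.symm)
  let ψ : ((Fin b → MvPolynomial (Fin n') R₀) ⧸
        Submodule.span (MvPolynomial (Fin n') R₀) (Set.range c₀)) →ₗ[B'] MT :=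
    F₀.extendScalarsOfSurjective hsurjB'
  have hψ : IsBaseChange T' ψ := isBaseChange_of_surjective hsurjT' ψ hF₀
  -- flatness over `R₀` at the prime below `Q`
  set Q₁ := Q.comap (algebraMap B' T') with hQ₁
  haveI : Q₁.IsPrime := Ideal.comap_isPrime _ _
  have hprime : Q₁.comap (algebraMap (MvPolynomial (Fin n') R₀) B') =
      (Q.comap (algebraMap (MvPolynomial (Fin n') R) T')).comap
        (MvPolynomial.map (algebraMap R₀ R)) := by
    rw [hQ₁, Ideal.comap_comap, Ideal.comap_comap]
    congr 1
    exact RingHom.ext fun p => hφB' p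
  have hA' : Module.Flat R₀ (LocalizedModule Q₁.primeCompl ((Fin b → MvPolynomial (Fin n') R₀) ⧸
        Submodule.span (MvPolynomial (Fin n') R₀) (Set.range c₀))) := by
    have h1 := isLocalizedModule_restrictScalars_of_surjective
      (M := ((Fin b → MvPolynomial (Fin n') R₀) ⧸
        Submodule.span (MvPolynomial (Fin n') R₀) (Set.range c₀))) hsurjB' Q₁
    exact (flat_iff_flat_localized (R := R₀) _
      ((LocalizedModule.mkLinearMap Q₁.primeCompl ((Fin b → MvPolynomial (Fin n') R₀) ⧸
        Submodule.span (MvPolynomial (Fin n') R₀) (Set.range c₀))).restrictScalars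
          (MvPolynomial (Fin n') R₀))).mpr (flat_localizedModule_congr hprime.symm hA)
  haveI : Algebra.FiniteType R₀ B := Algebra.FiniteType.of_surjective
    (IsScalarTower.toAlgHom R₀ (MvPolynomial (Fin n) R₀) B) hsurjB
  haveI : Algebra.FiniteType R₀ B' := Algebra.FiniteType.of_surjective
    (IsScalarTower.toAlgHom R₀ (MvPolynomial (Fin n') R₀) B') hsurjB'
  exact Groth.Agent.H76.FibreStage.flat_of_stage (A := R₀) (B := B) (B' := B') m ψ hψ Q hQ hA' hfib

end PolyStage

section Main

variable {R T T' : Type u} [CommRing R] [CommRing T] [CommRing T'] [Algebra R T] [Algebra R T']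
  [Algebra T T'] [IsScalarTower R T T']
  {N : Type u} [AddCommGroup N] [Module T' N] [Module T N] [IsScalarTower T T' N]
  [Module R N] [IsScalarTower R T N] [IsScalarTower R T' N]

/-- **The fibre criterion for flatness, finitely presented case** (EGA IV 11.3.10, Stacks 00R7):
`R` any ring, `m` a maximal ideal, `T → T'` finitely presented `R`-algebras, `N` a finitely
presented `T'`-module and `Q` a prime of `T'` over `m`.  If `N_Q` is `R`-flat and its fibre over `m`
is flat over the fibre of `T`, then `N_Q` is flat over `T`. -/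
theorem flat_of_fibre_fp [Algebra.FinitePresentation R T] [Algebra.FinitePresentation R T']
    [Module.FinitePresentation T' N]
    (m : Ideal R) [m.IsMaximal] (Q : Ideal T') [Q.IsPrime] (hQ : m.map (algebraMap R T') ≤ Q)
    (hflat : Module.Flat R (LocalizedModule Q.primeCompl N))
    (hfib : Module.Flat (T ⧸ m.map (algebraMap R T))
      ((T ⧸ m.map (algebraMap R T)) ⊗[T] LocalizedModule Q.primeCompl N)) :
    Module.Flat T (LocalizedModule Q.primeCompl N) := by
  classical
  obtain ⟨n, π, hπ, hker⟩ := Algebra.FinitePresentation.out (R := R) (A := T)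
  obtain ⟨n', π', hπ', hker'⟩ := Algebra.FinitePresentation.out (R := R) (A := T')
  letI algPT : Algebra (MvPolynomial (Fin n) R) T := π.toRingHom.toAlgebra
  haveI : IsScalarTower R (MvPolynomial (Fin n) R) T :=
    IsScalarTower.of_algebraMap_eq (fun r => (π.commutes r).symm)
  letI algPT' : Algebra (MvPolynomial (Fin n') R) T' := π'.toRingHom.toAlgebra
  haveI : IsScalarTower R (MvPolynomial (Fin n') R) T' :=
    IsScalarTower.of_algebraMap_eq (fun r => (π'.commutes r).symm)
  letI modPN : Module (MvPolynomial (Fin n') R) N := Module.compHom N π'.toRingHom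
  haveI : IsScalarTower (MvPolynomial (Fin n') R) T' N :=
    IsScalarTower.of_algebraMap_smul (fun _ _ => rfl)
  haveI : IsScalarTower R (MvPolynomial (Fin n') R) N := by
    constructor
    intro r p x
    show π' (r • p) • x = r • (π' p • x)
    rw [map_smul, smul_assoc]
  have hsurjT : Function.Surjective (algebraMap (MvPolynomial (Fin n) R) T) := hπ
  have hsurjT' : Function.Surjective (algebraMap (MvPolynomial (Fin n') R) T') := hπ'
  haveI : Module.FinitePresentation (MvPolynomial (Fin n') R) T' :=
    Module.finitePresentation_of_surjective (Algebra.linearMap (MvPolynomial (Fin n') R) T')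
      hsurjT' hker'
  haveI : Module.FinitePresentation (MvPolynomial (Fin n') R) N :=
    Module.FinitePresentation.trans (MvPolynomial (Fin n') R) N T'
  obtain ⟨b, K, e, hK⟩ := Module.FinitePresentation.exists_fin (MvPolynomial (Fin n') R) N
  obtain ⟨a, c, hc⟩ := Submodule.fg_iff_exists_fin_generating_family.mp hK
  subst hc
  obtain ⟨r, fJ, hfJ⟩ := Submodule.fg_iff_exists_fin_generating_family.mp hker
  obtain ⟨r', gJ, hgJ⟩ := Submodule.fg_iff_exists_fin_generating_family.mp hker'
  -- the lift of `T → T'`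
  choose h hh using fun i => hπ' (algebraMap T T' (π (MvPolynomial.X i)))
  have hcomp : ∀ p : MvPolynomial (Fin n) R,
      π' (MvPolynomial.aeval h p) = algebraMap T T' (π p) := by
    intro p
    have : (π'.toRingHom.comp
        (MvPolynomial.aeval h : MvPolynomial (Fin n) R →ₐ[R] MvPolynomial (Fin n') R).toRingHom) =
        (algebraMap T T').comp π.toRingHom := by
      apply MvPolynomial.ringHom_ext
      · intro x
        simp only [RingHom.coe_comp, Function.comp_apply, AlgHom.toRingHom_eq_coe, RingHom.coe_coe]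
        rw [← MvPolynomial.algebraMap_eq, AlgHom.commutes, AlgHom.commutes, AlgHom.commutes,
          ← IsScalarTower.algebraMap_apply]
      · intro i
        simp only [RingHom.coe_comp, Function.comp_apply, AlgHom.toRingHom_eq_coe, RingHom.coe_coe,
          MvPolynomial.aeval_X]
        exact hh i
    exact RingHom.congr_fun this p
  have hlamJ : ∀ k, ∃ w : Fin r' → MvPolynomial (Fin n') R,
      ∑ j, w j • gJ j = MvPolynomial.aeval h (fJ k) := by
    intro k
    apply (Submodule.mem_span_range_iff_exists_fun _).mp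
    rw [hgJ]
    show π' (MvPolynomial.aeval h (fJ k)) = 0
    rw [hcomp]
    have : fJ k ∈ RingHom.ker π.toRingHom := hfJ ▸ Submodule.subset_span ⟨k, rfl⟩
    rw [show π (fJ k) = 0 from this, map_zero]
  choose w hw using hlamJ
  have hannJ : ∀ k l, gJ k • (Pi.single l 1 : Fin b → MvPolynomial (Fin n') R) ∈
      Submodule.span (MvPolynomial (Fin n') R) (Set.range c) := by
    intro k l
    rw [← Submodule.Quotient.mk_eq_zero, ← e.symm.map_eq_zero_iff, Submodule.Quotient.mk_smul,
      map_smul]
    show π' (gJ k) • (e.symm (Submodule.Quotient.mk (Pi.single l 1)) : N) = 0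
    have : gJ k ∈ RingHom.ker π'.toRingHom := hgJ ▸ Submodule.subset_span ⟨k, rfl⟩
    rw [show π' (gJ k) = 0 from this, zero_smul]
  have hwit : ∀ k l, ∃ u : Fin a → MvPolynomial (Fin n') R,
      ∑ j, u j • c j = gJ k • (Pi.single l 1 : Fin b → MvPolynomial (Fin n') R) :=
    fun k l => (Submodule.mem_span_range_iff_exists_fun _).mp (hannJ k l)
  choose u hu using hwit
  -- flatness in polynomial form
  haveI hflatP : Module.Flat R (LocalizedModule
      (Q.comap (algebraMap (MvPolynomial (Fin n') R) T')).primeCompl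
      ((Fin b → MvPolynomial (Fin n') R) ⧸
        Submodule.span (MvPolynomial (Fin n') R) (Set.range c))) := by
    haveI h1 := isLocalizedModule_restrictScalars_of_surjective (M := N) hsurjT' Q
    haveI h2 : IsLocalizedModule (Q.comap (algebraMap (MvPolynomial (Fin n') R) T')).primeCompl
        (((LocalizedModule.mkLinearMap Q.primeCompl N).restrictScalars
          (MvPolynomial (Fin n') R)) ∘ₗ e.symm.toLinearMap) :=
      IsLocalizedModule.of_linearEquiv_right _ _ e.symm
    exact (flat_iff_flat_localized (R := R)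
      (Q.comap (algebraMap (MvPolynomial (Fin n') R) T')).primeCompl
      (((LocalizedModule.mkLinearMap Q.primeCompl N).restrictScalars
          (MvPolynomial (Fin n') R)) ∘ₗ e.symm.toLinearMap)).mp hflat
  -- the stage
  set s₀ : Finset R := (Finset.univ.biUnion fun k => (fJ k).coeffs) ∪
    (Finset.univ.biUnion fun k => (gJ k).coeffs) ∪
    (Finset.univ.biUnion fun i => (h i).coeffs) ∪
    (Finset.univ.biUnion fun k => Finset.univ.biUnion fun j => (w k j).coeffs) ∪
    (Finset.univ.biUnion fun k => Finset.univ.biUnion fun l =>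
      Finset.univ.biUnion fun j => (u k l j).coeffs) with hs₀
  obtain ⟨s, hss, c', hc', hflat'⟩ :=
    exists_stage_flat c (Q.comap (algebraMap (MvPolynomial (Fin n') R) T')) s₀
  subst hc'
  have hinj : Function.Injective (algebraMap (Stg s) R) := algebraMap_stg_injective s
  have hf₀ : ∀ k, ∃ f : MvPolynomial (Fin n) (Stg s),
      MvPolynomial.map (algebraMap (Stg s) R) f = fJ k := by
    intro k
    apply exists_map_eq
    intro x hx
    apply hss
    simp only [hs₀, Finset.mem_union, Finset.mem_biUnion, Finset.mem_univ, true_and]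
    exact Or.inl (Or.inl (Or.inl (Or.inl ⟨k, hx⟩)))
  have hg₀ : ∀ k, ∃ f : MvPolynomial (Fin n') (Stg s),
      MvPolynomial.map (algebraMap (Stg s) R) f = gJ k := by
    intro k
    apply exists_map_eq
    intro x hx
    apply hss
    simp only [hs₀, Finset.mem_union, Finset.mem_biUnion, Finset.mem_univ, true_and]
    exact Or.inl (Or.inl (Or.inl (Or.inr ⟨k, hx⟩)))
  have hh₀ : ∀ i, ∃ f : MvPolynomial (Fin n') (Stg s),
      MvPolynomial.map (algebraMap (Stg s) R) f = h i := by
    intro i
    apply exists_map_eq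
    intro x hx
    apply hss
    simp only [hs₀, Finset.mem_union, Finset.mem_biUnion, Finset.mem_univ, true_and]
    exact Or.inl (Or.inl (Or.inr ⟨i, hx⟩))
  have hw₀ : ∀ k j, ∃ f : MvPolynomial (Fin n') (Stg s),
      MvPolynomial.map (algebraMap (Stg s) R) f = w k j := by
    intro k j
    apply exists_map_eq
    intro x hx
    apply hss
    simp only [hs₀, Finset.mem_union, Finset.mem_biUnion, Finset.mem_univ, true_and]
    exact Or.inl (Or.inr ⟨k, j, hx⟩)
  have hu₀ : ∀ k l j, ∃ f : MvPolynomial (Fin n') (Stg s),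
      MvPolynomial.map (algebraMap (Stg s) R) f = u k l j := by
    intro k l j
    apply exists_map_eq
    intro x hx
    apply hss
    simp only [hs₀, Finset.mem_union, Finset.mem_biUnion, Finset.mem_univ, true_and]
    exact Or.inr ⟨k, l, j, hx⟩
  choose f₀ hf₀ using hf₀
  choose g₀ hg₀ using hg₀
  choose h₀ hh₀ using hh₀
  choose w₀ hw₀ using hw₀
  choose u₀ hu₀ using hu₀
  -- identities at the stage
  have hlam₀ : ∀ k, MvPolynomial.aeval h₀ (f₀ k) ∈ Ideal.span (Set.range g₀) := by
    intro k
    have hsum : ∑ j, w₀ k j * g₀ j = MvPolynomial.aeval h₀ (f₀ k) := by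
      apply MvPolynomial.map_injective (algebraMap (Stg s) R) hinj
      show _ = MvPolynomial.map (algebraMap (Stg s) R) (MvPolynomial.bind₁ h₀ (f₀ k))
      rw [MvPolynomial.map_bind₁, map_sum]
      simp only [map_mul, hw₀, hg₀, hh₀, hf₀]
      exact hw k
    rw [← hsum]
    exact Ideal.sum_mem _ fun j _ => Ideal.mul_mem_left _ _ (Ideal.subset_span ⟨j, rfl⟩)
  have hann₀ : ∀ k l, g₀ k • (Pi.single l 1 : Fin b → MvPolynomial (Fin n') (Stg s)) ∈
      Submodule.span (MvPolynomial (Fin n') (Stg s)) (Set.range c') := by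
    intro k l
    have hsum : ∑ j, u₀ k l j • c' j =
        g₀ k • (Pi.single l 1 : Fin b → MvPolynomial (Fin n') (Stg s)) := by
      apply vmap_injective (algebraMap (Stg s) R) hinj
      rw [vmap_smul, hg₀]
      have h1 : vmap (algebraMap (Stg s) R) (∑ j, u₀ k l j • c' j) =
          ∑ j, u k l j • cmap (algebraMap (Stg s) R) c' j := by
        ext i : 1
        simp only [vmap_apply, Finset.sum_apply, Pi.smul_apply, smul_eq_mul, map_sum, map_mul,
          hu₀, cmap_apply]
      have h2 : vmap (algebraMap (Stg s) R)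
          (Pi.single l 1 : Fin b → MvPolynomial (Fin n') (Stg s)) = Pi.single l 1 := by
        ext i : 1
        by_cases hil : i = l
        · subst hil; simp
        · simp [Pi.single_eq_of_ne hil]
      rw [h1, h2]
      exact hu k l
    rw [← hsum]
    exact Submodule.sum_mem _ fun j _ =>
      Submodule.smul_mem _ _ (Submodule.subset_span ⟨j, rfl⟩)
  have hkerT : RingHom.ker (algebraMap (MvPolynomial (Fin n) R) T) = Ideal.span
      (Set.range fun k => MvPolynomial.map (algebraMap (Stg s) R) (f₀ k)) := by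
    change RingHom.ker π.toRingHom = _
    rw [← hfJ]
    congr 2
    ext k : 1
    exact (hf₀ k).symm
  have hkerT' : RingHom.ker (algebraMap (MvPolynomial (Fin n') R) T') = Ideal.span
      (Set.range fun k => MvPolynomial.map (algebraMap (Stg s) R) (g₀ k)) := by
    change RingHom.ker π'.toRingHom = _
    rw [← hgJ]
    congr 2
    ext k : 1
    exact (hg₀ k).symm
  have hhT : ∀ i, algebraMap (MvPolynomial (Fin n') R) T'
      (MvPolynomial.map (algebraMap (Stg s) R) (h₀ i)) =
      algebraMap T T' (algebraMap (MvPolynomial (Fin n) R) T (MvPolynomial.X i)) := by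
    intro i
    rw [hh₀]
    exact hh i
  letI algST : Algebra (Stg s) T := ((algebraMap R T).comp (algebraMap (Stg s) R)).toAlgebra
  haveI towSRT : @IsScalarTower (Stg s) R T Algebra.toSMul Algebra.toSMul Algebra.toSMul := IsScalarTower.of_algebraMap_eq (fun _ => rfl)
  letI algST' : Algebra (Stg s) T' := ((algebraMap R T').comp (algebraMap (Stg s) R)).toAlgebra
  haveI towSRT' : @IsScalarTower (Stg s) R T' Algebra.toSMul Algebra.toSMul Algebra.toSMul := IsScalarTower.of_algebraMap_eq (fun _ => rfl)
  refine flat_of_poly_stage (R₀ := Stg s) (R := R) (T := T) (T' := T') (MT := N)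
    (B := MvPolynomial (Fin n) (Stg s) ⧸ Ideal.span (Set.range f₀))
    (B' := MvPolynomial (Fin n') (Stg s) ⧸ Ideal.span (Set.range g₀)) (n := n) (n' := n')
    (r := r) (r' := r') (a := a) (b := b)
    hinj hsurjT ?_ f₀ ?_ ?_ hsurjT' ?_ g₀ ?_ ?_ h₀ ?_ ?_ c' ?_ ?_ m Q hQ ?_ ?_
  · exact Ideal.Quotient.mk_surjective
  · exact hkerT
  · exact Ideal.mk_ker
  · exact Ideal.Quotient.mk_surjective
  · exact hkerT'
  · exact Ideal.mk_ker
  · exact hhT
  · exact hlam₀
  · exact hann₀
  · exact e
  · convert hflat' using 1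
  · exact hfib

end Main

end Groth.Agent.H76.FibreCritFP
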