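import Mathlib
import Groth.Agent.H76.FibreCritFP
import Groth.Agent.H76.EssFPSpread
import Groth.Agent.Lib.Helper62.FibReg16

/-!
# The fibre criterion for essentially finitely presented local algebras (helper76)

`fibre_criterion_essFP`: `R → S → S'` local homomorphisms of local rings, `S` and `S'` localizations
of finitely presented `R`-algebras, `M` a nonzero finitely presented `S'`-module flat over `R` with
`M / 𝔪_R M` flat over `S / 𝔪_R S`.  Then `S` is flat over `R` and `M` is flat over `S`
(EGA IV 11.3.10, Stacks 00R7; no Noetherian hypotheses).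
-/

set_option autoImplicit false
universe u

open TensorProduct

namespace Groth.Agent.H76.FibreCritLocal

open Groth.Agent.H76.TorsionFlat

section General

/-- If `M` is flat over `R` and faithfully flat over the `R`-algebra `S`, then `S` is flat over
`R`. -/
theorem flat_of_faithfullyFlat_module {R S : Type u} [CommRing R] [CommRing S] [Algebra R S]
    (M : Type u) [AddCommGroup M] [Module R M] [Module S M] [IsScalarTower R S M]
    [Module.Flat R M] [Module.FaithfullyFlat S M] : Module.Flat R S := by
  rw [Module.Flat.iff_rTensor_injective']
  intro I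
  let g : S ⊗[R] I →ₗ[S] S ⊗[R] R := I.subtype.baseChange S
  have hg : Function.Injective g := by
    rw [← Module.FaithfullyFlat.lTensor_injective_iff_injective S M]
    let e₁ := TensorProduct.AlgebraTensorModule.cancelBaseChange R S S M I
    let e₂ := TensorProduct.AlgebraTensorModule.cancelBaseChange R S S M R
    have comm : ∀ x, e₂ (g.lTensor M x) = I.subtype.lTensor M (e₁ x) := by
      intro x
      induction x with
      | zero => simp
      | add x y hx hy => simp only [map_add, hx, hy]
      | tmul m y =>
        induction y with
        | zero => simp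
        | add x y hx hy => simp only [TensorProduct.tmul_add, map_add, hx, hy]
        | tmul s a =>
          simp [e₁, e₂, g, TensorProduct.AlgebraTensorModule.cancelBaseChange_tmul]
    have h1 : Function.Injective (I.subtype.lTensor M) :=
      Module.Flat.lTensor_preserves_injective_linearMap _ Subtype.val_injective
    intro x y hxy
    apply e₁.injective
    apply h1
    rw [← comm, ← comm, hxy]
  have comm2 : ∀ x : I ⊗[R] S,
      TensorProduct.comm R R S (I.subtype.rTensor S x) = g (TensorProduct.comm R I S x) := by
    intro x
    induction x with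
    | zero => simp
    | add x y hx hy => simp only [map_add, hx, hy]
    | tmul a s => rfl
  intro x y hxy
  apply (TensorProduct.comm R I S).injective
  apply hg
  rw [← comm2, ← comm2, hxy]

/-- `TorsFlat` descends along a flat ring map: if `M` is an `S`-module which is `TorsFlat` for the
extended ideal `I S`, then it is `TorsFlat` for `I` as a `B`-module. -/
theorem TorsFlat.restrict_of_flat {B S : Type u} [CommRing B] [CommRing S] [Algebra B S]
    [Module.Flat B S] (I : Ideal B) (M : Type u) [AddCommGroup M] [Module S M] [Module B M]
    [IsScalarTower B S M] (h : TorsFlat (I.map (algebraMap B S)) M) : TorsFlat I M := by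
  intro X Y _ _ _ _ hY f hf
  let g : S ⊗[B] X →ₗ[S] S ⊗[B] Y := f.baseChange S
  have hg : Function.Injective g :=
    Module.Flat.lTensor_preserves_injective_linearMap (M := S) f hf
  have hY' : Module.IsTorsionBySet S (S ⊗[B] Y) (I.map (algebraMap B S) : Set S) := by
    rw [Ideal.map, ← Module.isTorsionBySet_iff_is_torsion_by_span]
    rintro z ⟨_, ⟨a, ha, rfl⟩⟩
    show algebraMap B S a • z = 0
    induction z using TensorProduct.induction_on with
    | zero => simp
    | tmul s y =>
      rw [algebraMap_smul, ← TensorProduct.tmul_smul, @hY y ⟨a, ha⟩, TensorProduct.tmul_zero]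
    | add x y hx hy => rw [smul_add, hx, hy, add_zero]
  have h2 : Function.Injective (g.lTensor M) := h hY' g hg
  let eX := TensorProduct.AlgebraTensorModule.cancelBaseChange B S S M X
  let eY := TensorProduct.AlgebraTensorModule.cancelBaseChange B S S M Y
  have comm : ∀ z, eY (g.lTensor M z) = f.lTensor M (eX z) := by
    intro z
    induction z using TensorProduct.induction_on with
    | zero => simp
    | add x y hx hy => simp only [map_add, hx, hy]
    | tmul m y =>
      induction y using TensorProduct.induction_on with
      | zero => simp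
      | add x y hx hy => simp only [TensorProduct.tmul_add, map_add, hx, hy]
      | tmul s x =>
        simp [eX, eY, g, TensorProduct.AlgebraTensorModule.cancelBaseChange_tmul]
  intro a b hab
  apply eX.symm.injective
  apply h2
  apply eY.injective
  rw [comm, comm, LinearEquiv.apply_symm_apply, LinearEquiv.apply_symm_apply, hab]

end General

section Main

open IsLocalRing

variable {R S S' M : Type u} [CommRing R] [CommRing S] [CommRing S']
  [IsLocalRing R] [IsLocalRing S] [IsLocalRing S'] [Algebra R S] [Algebra S S'] [Algebra R S']
  [IsScalarTower R S S'] [IsLocalHom (algebraMap R S)] [IsLocalHom (algebraMap S S')]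
  {T : Type u} [CommRing T] [Algebra R T] [Algebra T S] [IsScalarTower R T S]
  {T₀ : Type u} [CommRing T₀] [Algebra R T₀] [Algebra T₀ S'] [IsScalarTower R T₀ S']
  [AddCommGroup M] [Module S' M] [Module S M] [Module R M] [IsScalarTower S S' M]
  [IsScalarTower R S' M] [IsScalarTower R S M]

/-- **Critère de platitude par fibres**, essentially finitely presented local case, with the
presentations of `S` and `S'` unpacked. -/
theorem fibre_criterion_essFP (M₁ : Submonoid T) [Algebra.FinitePresentation R T]
    [IsLocalization M₁ S] (M₂ : Submonoid T₀) [Algebra.FinitePresentation R T₀]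
    [IsLocalization M₂ S'] [Module.FinitePresentation S' M] [Nontrivial M] [Module.Flat R M]
    (hfib : Module.Flat (S ⧸ (maximalIdeal R).map (algebraMap R S))
      (M ⧸ (maximalIdeal R).map (algebraMap R S) • (⊤ : Submodule S M))) :
    Module.Flat R S ∧ Module.Flat S M := by
  classical
  -- the algebra `T → S'`
  letI algTS' : Algebra T S' := ((algebraMap S S').comp (algebraMap T S)).toAlgebra
  haveI towTSS' : IsScalarTower T S S' := IsScalarTower.of_algebraMap_eq (fun _ => rfl)
  haveI towRTS' : IsScalarTower R T S' := by
    refine IsScalarTower.of_algebraMap_eq (fun r => ?_)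
    show algebraMap R S' r = algebraMap S S' (algebraMap T S (algebraMap R T r))
    rw [← IsScalarTower.algebraMap_apply R T S, ← IsScalarTower.algebraMap_apply R S S']
  obtain ⟨T', iCR, iAlgRT', iAlgTT', iTowRTT', iAlgT'S', iTowRT'S', iTowTT'S', W, hfp, hW⟩ :=
    Groth.Agent.H76.EssFPSpread.exists_fp_over (R := R) (T := T) (S' := S') M₂
  set Q : Ideal T' := (maximalIdeal S').comap (algebraMap T' S') with hQdef
  haveI : Q.IsPrime := Ideal.comap_isPrime _ _
  haveI locS' : IsLocalization.AtPrime S' Q :=
    Groth.Agent.H76.EssFPSpread.isLocalization_atPrime_comap_maximalIdeal W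
  haveI flatTS : Module.Flat T S := IsLocalization.flat S M₁
  -- module structures on `M`
  letI modT'M : Module T' M := Module.compHom M (algebraMap T' S')
  haveI towT'S'M : IsScalarTower T' S' M := IsScalarTower.of_algebraMap_smul (fun _ _ => rfl)
  letI modTM : Module T M := Module.compHom M (algebraMap T S)
  haveI towTSM : IsScalarTower T S M := IsScalarTower.of_algebraMap_smul (fun _ _ => rfl)
  haveI towTT'M : IsScalarTower T T' M := by
    refine IsScalarTower.of_algebraMap_smul (fun t x => ?_)
    show algebraMap T' S' (algebraMap T T' t) • x = algebraMap T S t • x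
    rw [← IsScalarTower.algebraMap_apply T T' S', IsScalarTower.algebraMap_apply T S S',
      algebraMap_smul]
  haveI towRT'M : IsScalarTower R T' M := by
    refine IsScalarTower.of_algebraMap_smul (fun r x => ?_)
    show algebraMap T' S' (algebraMap R T' r) • x = r • x
    rw [← IsScalarTower.algebraMap_apply R T' S', algebraMap_smul]
  haveI towRTM : IsScalarTower R T M := by
    refine IsScalarTower.of_algebraMap_smul (fun r x => ?_)
    show algebraMap T S (algebraMap R T r) • x = r • x
    rw [← IsScalarTower.algebraMap_apply R T S, algebraMap_smul]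
  -- descend `M` to a finitely presented `T'`-module
  obtain ⟨N₀, iN₀, iModN₀, ℓ, hN₀, hℓ⟩ :=
    Groth.Agent.Lib.Helper62.FibReg.exists_fp_descent (A := T') (B := S') Q.primeCompl M
  letI modTN₀ : Module T N₀ := Module.compHom N₀ (algebraMap T T')
  haveI towTT'N₀ : IsScalarTower T T' N₀ := IsScalarTower.of_algebraMap_smul (fun _ _ => rfl)
  letI modRN₀ : Module R N₀ := Module.compHom N₀ (algebraMap R T')
  haveI towRT'N₀ : IsScalarTower R T' N₀ := IsScalarTower.of_algebraMap_smul (fun _ _ => rfl)
  haveI towRTN₀ : IsScalarTower R T N₀ := by
    refine IsScalarTower.of_algebraMap_smul (fun r x => ?_)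
    show algebraMap T T' (algebraMap R T r) • x = algebraMap R T' r • x
    rw [← IsScalarTower.algebraMap_apply R T T']
  let e : LocalizedModule Q.primeCompl N₀ ≃ₗ[T'] M := IsLocalizedModule.iso Q.primeCompl ℓ
  -- hypotheses of the core theorem
  have hQ : (maximalIdeal R).map (algebraMap R T') ≤ Q := by
    rw [Ideal.map_le_iff_le_comap]
    intro r hr
    rw [Ideal.mem_comap, hQdef, Ideal.mem_comap, ← IsScalarTower.algebraMap_apply R T' S',
      IsScalarTower.algebraMap_apply R S S']
    exact (mem_maximalIdeal _).mpr (fun hu => (mem_maximalIdeal _).mp hr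
      (isUnit_of_map_unit _ _ (isUnit_of_map_unit _ _ hu)))
  have hflat : Module.Flat R (LocalizedModule Q.primeCompl N₀) :=
    Module.Flat.of_linearEquiv (e.restrictScalars R)
  have hTF : TorsFlat ((maximalIdeal R).map (algebraMap R T)) M := by
    apply TorsFlat.restrict_of_flat (S := S)
    rw [Ideal.map_map, ← IsScalarTower.algebraMap_eq]
    exact (torsFlat_iff _ M).mpr
      ((Groth.Agent.Lib.Helper71.FibreCritNoeth.flat_quot_tensor_iff _ M).mpr hfib)
  have hfib' : Module.Flat (T ⧸ (maximalIdeal R).map (algebraMap R T))
      ((T ⧸ (maximalIdeal R).map (algebraMap R T)) ⊗[T] LocalizedModule Q.primeCompl N₀) :=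
    (torsFlat_iff _ _).mp (TorsFlat.of_linearEquiv (e.restrictScalars T).symm hTF)
  have hcore : Module.Flat T (LocalizedModule Q.primeCompl N₀) :=
    Groth.Agent.H76.FibreCritFP.flat_of_fibre_fp (maximalIdeal R) Q hQ hflat hfib'
  haveI hTM : Module.Flat T M := Module.Flat.of_linearEquiv (e.restrictScalars T).symm
  haveI hSM : Module.Flat S M := (Module.flat_iff_of_isLocalization S M₁ M).mpr hTM
  haveI : Module.Finite S' M := inferInstance
  haveI : Module.FaithfullyFlat S M :=
    Groth.Agent.Lib.Helper71.FibreCritNoeth.faithfullyFlat_of_flat S' M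
  exact ⟨flat_of_faithfullyFlat_module M, hSM⟩

end Main

end Groth.Agent.H76.FibreCritLocal
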