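import Mathlib
import Groth.Agent.Lib.Helper55.FiberBaseChange
import Groth.Agent.Lib.Helper55.ChevalleyBound
import Groth.Agent.Lib.Helper55.ClosedSubschemeDim
import Groth.Agent.S4362

/-!
# Fibre dimension in a cofiltered limit of morphisms (helper76)

Setting: diagrams `DX DS : I ⥤ Scheme`, `φ : DX ⟶ DS`, limit cones `cX`, `cS`, `f : cX.pt ⟶ cS.pt`
compatible with `φ`, with `X_i ⟶ X_j ×_{S_j} S_i` closed immersions.  For `s : cS.pt` the
fibres `F_i = X_i ×_{S_i} Spec κ(s)` form a system of closed immersions with limit `f.fiber s`;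
by Noetherianity it is eventually constant.
-/

set_option autoImplicit false
universe u v

open CategoryTheory Limits AlgebraicGeometry

namespace Groth.Agent.H76.FibreDimLimit

section Cat

variable {J : Type u} [SmallCategory J] [IsCofiltered J] {C : Type v} [Category C]

/-- If all transition maps into `j₁` are isomorphisms, the leg of a limit cone at `j₁` is an
isomorphism. -/
theorem isIso_π_of_forall_isIso (G : J ⥤ C) (c : Cone G) (hc : IsLimit c) (j₁ : J)
    (h : ∀ (j : J) (b : j ⟶ j₁), IsIso (G.map b)) : IsIso (c.π.app j₁) := by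
  have hc' : IsLimit (c.whisker (Over.forget j₁)) :=
    (Functor.Initial.isLimitWhiskerEquiv (Over.forget j₁) c).symm hc
  haveI : ∀ k : Over j₁, IsIso (G.map k.hom) := fun k => h _ _
  let d : Cone (Over.forget j₁ ⋙ G) :=
    { pt := G.obj j₁
      π :=
        { app := fun k => inv (G.map k.hom)
          naturality := by
            intro k k' m
            simp only [Functor.const_obj_obj, Functor.const_obj_map, Category.id_comp,
              Functor.comp_map, Over.forget_map]
            rw [IsIso.eq_inv_comp, IsIso.comp_inv_eq, ← G.map_comp]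
            exact congrArg G.map (Over.w m).symm } }
  refine ⟨hc'.lift d, ?_, ?_⟩
  · refine hc'.hom_ext fun k => ?_
    rw [Category.assoc, hc'.fac, Category.id_comp]
    show c.π.app j₁ ≫ inv (G.map k.hom) = c.π.app k.left
    rw [IsIso.comp_inv_eq]
    exact (c.w k.hom).symm
  · have := hc'.fac d (Over.mk (𝟙 j₁))
    simp only [Cone.whisker_π, Functor.whiskerLeft_app, Over.forget_obj, Over.mk_left] at this
    refine this.trans ?_
    show inv (G.map (𝟙 j₁)) = 𝟙 _
    simp

end Cat


section Fib

variable {I : Type u} [SmallCategory I] (DX DS : I ⥤ Scheme.{u}) (φ : DX ⟶ DS)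
  (cX : Cone DX) (cS : Cone DS) (f : cX.pt ⟶ cS.pt)
  (hf : ∀ i, f ≫ cS.π.app i = cX.π.app i ≫ φ.app i)
  {K : Scheme.{u}} (σ : K ⟶ cS.pt)

/-- The transition maps of the system of fibres `X_i ×_{S_i} K`. -/
noncomputable def fibMap {i j : I} (a : i ⟶ j) :
    pullback (φ.app i) (σ ≫ cS.π.app i) ⟶ pullback (φ.app j) (σ ≫ cS.π.app j) :=
  pullback.lift (pullback.fst _ _ ≫ DX.map a) (pullback.snd _ _) (by
    rw [Category.assoc, φ.naturality a, ← Category.assoc, pullback.condition, Category.assoc,
      Category.assoc, cS.w a])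

@[reassoc (attr := simp)]
lemma fibMap_fst {i j : I} (a : i ⟶ j) :
    fibMap DX DS φ cS σ a ≫ pullback.fst _ _ = pullback.fst _ _ ≫ DX.map a :=
  pullback.lift_fst _ _ _

@[reassoc (attr := simp)]
lemma fibMap_snd {i j : I} (a : i ⟶ j) :
    fibMap DX DS φ cS σ a ≫ pullback.snd _ _ = pullback.snd _ _ :=
  pullback.lift_snd _ _ _

/-- The system of fibres `i ↦ X_i ×_{S_i} K`. -/
@[reducible] noncomputable def Fib : I ⥤ Scheme.{u} where
  obj i := pullback (φ.app i) (σ ≫ cS.π.app i)
  map a := fibMap DX DS φ cS σ a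
  map_id i := by
    apply pullback.hom_ext
    · rw [fibMap_fst, DX.map_id, Category.comp_id, Category.id_comp]
    · rw [fibMap_snd, Category.id_comp]
  map_comp a b := by
    apply pullback.hom_ext
    · rw [fibMap_fst, Category.assoc, fibMap_fst, fibMap_fst_assoc, DX.map_comp]
    · rw [fibMap_snd, Category.assoc, fibMap_snd, fibMap_snd]

/-- The leg `X ×_S K ⟶ X_i ×_{S_i} K`. -/
noncomputable def fibLeg (i : I) : pullback f σ ⟶ pullback (φ.app i) (σ ≫ cS.π.app i) :=
  pullback.lift (pullback.fst f σ ≫ cX.π.app i) (pullback.snd f σ) (by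
    rw [Category.assoc, ← hf i, ← Category.assoc, pullback.condition, Category.assoc])

@[reassoc (attr := simp)]
lemma fibLeg_fst (i : I) :
    fibLeg DX DS φ cX cS f hf σ i ≫ pullback.fst _ _ = pullback.fst f σ ≫ cX.π.app i :=
  pullback.lift_fst _ _ _

@[reassoc (attr := simp)]
lemma fibLeg_snd (i : I) :
    fibLeg DX DS φ cX cS f hf σ i ≫ pullback.snd _ _ = pullback.snd f σ :=
  pullback.lift_snd _ _ _

/-- The cone over the system of fibres with vertex `X ×_S K`. -/
@[reducible] noncomputable def fibCone : Cone (Fib DX DS φ cS σ) where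
  pt := pullback f σ
  π :=
    { app := fun i => fibLeg DX DS φ cX cS f hf σ i
      naturality := by
        intro i j a
        apply pullback.hom_ext
        · simp only [Functor.const_obj_obj, Functor.const_obj_map, Category.id_comp]
          show _ = (fibLeg DX DS φ cX cS f hf σ i ≫ fibMap DX DS φ cS σ a) ≫ _
          rw [Category.assoc, fibMap_fst, fibLeg_fst_assoc, fibLeg_fst, cX.w a]
        · simp only [Functor.const_obj_obj, Functor.const_obj_map, Category.id_comp]
          show _ = (fibLeg DX DS φ cX cS f hf σ i ≫ fibMap DX DS φ cS σ a) ≫ _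
          rw [Category.assoc, fibMap_snd, fibLeg_snd, fibLeg_snd] }


variable [IsCofiltered I]

omit [IsCofiltered I] in
lemma cone_snd_of_hom (t : Cone (Fib DX DS φ cS σ)) {k l : I} (a : k ⟶ l) :
    t.π.app l ≫ pullback.snd (φ.app l) (σ ≫ cS.π.app l) =
      t.π.app k ≫ pullback.snd (φ.app k) (σ ≫ cS.π.app k) :=
  calc t.π.app l ≫ pullback.snd (φ.app l) (σ ≫ cS.π.app l)
      = (t.π.app k ≫ (Fib DX DS φ cS σ).map a) ≫ pullback.snd (φ.app l) (σ ≫ cS.π.app l) := by
        rw [t.w a]
    _ = t.π.app k ≫ ((Fib DX DS φ cS σ).map a ≫ pullback.snd (φ.app l) (σ ≫ cS.π.app l)) :=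
        Category.assoc _ _ _
    _ = t.π.app k ≫ pullback.snd (φ.app k) (σ ≫ cS.π.app k) :=
        congrArg (t.π.app k ≫ ·) (fibMap_snd DX DS φ cS σ a)

omit [IsCofiltered I] in
lemma cone_fst_of_hom (t : Cone (Fib DX DS φ cS σ)) {k l : I} (a : k ⟶ l) :
    t.π.app l ≫ pullback.fst (φ.app l) (σ ≫ cS.π.app l) =
      (t.π.app k ≫ pullback.fst (φ.app k) (σ ≫ cS.π.app k)) ≫ DX.map a :=
  calc t.π.app l ≫ pullback.fst (φ.app l) (σ ≫ cS.π.app l)
      = (t.π.app k ≫ (Fib DX DS φ cS σ).map a) ≫ pullback.fst (φ.app l) (σ ≫ cS.π.app l) := by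
        rw [t.w a]
    _ = t.π.app k ≫ ((Fib DX DS φ cS σ).map a ≫ pullback.fst (φ.app l) (σ ≫ cS.π.app l)) :=
        Category.assoc _ _ _
    _ = t.π.app k ≫ (pullback.fst (φ.app k) (σ ≫ cS.π.app k) ≫ DX.map a) :=
        congrArg (t.π.app k ≫ ·) (fibMap_fst DX DS φ cS σ a)
    _ = _ := (Category.assoc _ _ _).symm

/-- All the second projections of a cone over the system of fibres agree. -/
lemma cone_snd_eq (t : Cone (Fib DX DS φ cS σ)) (i j : I) :
    t.π.app i ≫ pullback.snd (φ.app i) (σ ≫ cS.π.app i) =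
      t.π.app j ≫ pullback.snd (φ.app j) (σ ≫ cS.π.app j) := by
  rw [cone_snd_of_hom DX DS φ cS σ t (IsCofiltered.minToLeft i j),
    cone_snd_of_hom DX DS φ cS σ t (IsCofiltered.minToRight i j)]

omit [IsCofiltered I] in
/-- The cone over `DX` induced by a cone over the system of fibres. -/
@[reducible] noncomputable def coneX (t : Cone (Fib DX DS φ cS σ)) : Cone DX where
  pt := t.pt
  π :=
    { app := fun i => t.π.app i ≫ pullback.fst (φ.app i) (σ ≫ cS.π.app i)
      naturality := by
        intro i j a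
        simp only [Functor.const_obj_obj, Functor.const_obj_map, Category.id_comp]
        exact cone_fst_of_hom DX DS φ cS σ t a }

/-- Some index. -/
noncomputable def someIdx (I : Type u) [SmallCategory I] [IsCofiltered I] : I :=
  (IsCofiltered.nonempty (C := I)).some

/-- The lift of a cone over the system of fibres to `X ×_S K`. -/
noncomputable def fibLift (hX : IsLimit cX) (hS : IsLimit cS) (t : Cone (Fib DX DS φ cS σ)) :
    t.pt ⟶ pullback f σ :=
  pullback.lift (hX.lift (coneX DX DS φ cS σ t))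
    (t.π.app (someIdx I) ≫ pullback.snd (φ.app (someIdx I)) (σ ≫ cS.π.app (someIdx I))) (by
      refine hS.hom_ext fun i => ?_
      calc (hX.lift (coneX DX DS φ cS σ t) ≫ f) ≫ cS.π.app i
          = hX.lift (coneX DX DS φ cS σ t) ≫ (f ≫ cS.π.app i) := Category.assoc _ _ _
        _ = hX.lift (coneX DX DS φ cS σ t) ≫ (cX.π.app i ≫ φ.app i) := by rw [hf i]
        _ = (hX.lift (coneX DX DS φ cS σ t) ≫ cX.π.app i) ≫ φ.app i := (Category.assoc _ _ _).symm
        _ = (t.π.app i ≫ pullback.fst (φ.app i) (σ ≫ cS.π.app i)) ≫ φ.app i :=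
            congrArg (· ≫ φ.app i) (hX.fac (coneX DX DS φ cS σ t) i)
        _ = t.π.app i ≫ (pullback.fst (φ.app i) (σ ≫ cS.π.app i) ≫ φ.app i) := Category.assoc _ _ _
        _ = t.π.app i ≫ (pullback.snd (φ.app i) (σ ≫ cS.π.app i) ≫ (σ ≫ cS.π.app i)) := by
            rw [pullback.condition]
        _ = (t.π.app i ≫ pullback.snd (φ.app i) (σ ≫ cS.π.app i)) ≫ (σ ≫ cS.π.app i) :=
            (Category.assoc _ _ _).symm
        _ = (t.π.app (someIdx I) ≫ pullback.snd (φ.app (someIdx I)) (σ ≫ cS.π.app (someIdx I))) ≫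
              (σ ≫ cS.π.app i) := by rw [cone_snd_eq DX DS φ cS σ t i (someIdx I)]
        _ = _ := (Category.assoc _ _ _).symm)

/-- **The fibre of the limit is the limit of the fibres.** -/
noncomputable def isLimitFibCone (hX : IsLimit cX) (hS : IsLimit cS) :
    IsLimit (fibCone DX DS φ cX cS f hf σ) where
  lift t := fibLift DX DS φ cX cS f hf σ hX hS t
  fac t i := by
    show fibLift DX DS φ cX cS f hf σ hX hS t ≫ fibLeg DX DS φ cX cS f hf σ i = t.π.app i
    apply pullback.hom_ext
    · rw [Category.assoc, fibLeg_fst]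
      unfold fibLift
      rw [pullback.lift_fst_assoc, hX.fac]
    · rw [Category.assoc, fibLeg_snd]
      unfold fibLift
      rw [pullback.lift_snd]
      exact cone_snd_eq DX DS φ cS σ t _ i
  uniq t m hm := by
    have hm' : ∀ i, m ≫ fibLeg DX DS φ cX cS f hf σ i = t.π.app i := hm
    apply pullback.hom_ext
    · unfold fibLift
      rw [pullback.lift_fst]
      refine hX.hom_ext fun i => ?_
      rw [hX.fac, Category.assoc, ← fibLeg_fst DX DS φ cX cS f hf σ i, ← Category.assoc, hm' i]
    · unfold fibLift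
      rw [pullback.lift_snd,
        ← fibLeg_snd DX DS φ cX cS f hf σ (someIdx I), ← Category.assoc, hm']


omit [IsCofiltered I] in
/-- The map `X_j ×_{S_j} K ⟶ X_j ×_{S_j} S_i`. -/
noncomputable def fibToP {i j : I} (a : i ⟶ j) :
    pullback (φ.app j) (σ ≫ cS.π.app j) ⟶ pullback (φ.app j) (DS.map a) :=
  pullback.lift (pullback.fst (φ.app j) (σ ≫ cS.π.app j))
    (pullback.snd (φ.app j) (σ ≫ cS.π.app j) ≫ σ ≫ cS.π.app i) (by
      rw [pullback.condition]
      simp only [Category.assoc, cS.w a])

omit [IsCofiltered I] in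
/-- The transition maps of the system of fibres are base changes of `X_i ⟶ X_j ×_{S_j} S_i`. -/
theorem isPullback_fibMap {i j : I} (a : i ⟶ j) :
    IsPullback (pullback.fst (φ.app i) (σ ≫ cS.π.app i)) (fibMap DX DS φ cS σ a)
      (pullback.lift (DX.map a) (φ.app i) (φ.naturality a)) (fibToP DX DS φ cS σ a) := by
  have hbot : IsPullback (fibToP DX DS φ cS σ a)
      (pullback.snd (φ.app j) (σ ≫ cS.π.app j)) (pullback.snd (φ.app j) (DS.map a))
      (σ ≫ cS.π.app i) := by
    refine IsPullback.of_right ?_ (pullback.lift_snd _ _ _) (IsPullback.of_hasPullback _ _)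
    have e1 : fibToP DX DS φ cS σ a ≫ pullback.fst (φ.app j) (DS.map a) =
        pullback.fst (φ.app j) (σ ≫ cS.π.app j) := pullback.lift_fst _ _ _
    have e2 : (σ ≫ cS.π.app i) ≫ DS.map a = σ ≫ cS.π.app j := by
      rw [Category.assoc, cS.w a]
    rw [e1, e2]
    exact IsPullback.of_hasPullback _ _
  refine IsPullback.of_bot ?_ ?_ hbot
  · rw [fibMap_snd, pullback.lift_snd]
    exact IsPullback.of_hasPullback _ _
  · apply pullback.hom_ext
    · rw [Category.assoc, pullback.lift_fst, Category.assoc]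
      unfold fibToP
      rw [pullback.lift_fst, fibMap_fst]
    · rw [Category.assoc, pullback.lift_snd, Category.assoc]
      unfold fibToP
      rw [pullback.lift_snd, fibMap_snd_assoc, pullback.condition]

omit [IsCofiltered I] in
theorem isClosedImmersion_fibMap {i j : I} (a : i ⟶ j)
    (h : IsClosedImmersion (pullback.lift (DX.map a) (φ.app i) (φ.naturality a))) :
    IsClosedImmersion (fibMap DX DS φ cS σ a) :=
  MorphismProperty.of_isPullback (P := @IsClosedImmersion) (isPullback_fibMap DX DS φ cS σ a) h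

end Fib

end Groth.Agent.H76.FibreDimLimit
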