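import Groth.Agent.S9215

/-!
# Fibre dimension for a cofiltered limit of closed subschemes (helper76)
-/

set_option autoImplicit false
universe u

open CategoryTheory Limits AlgebraicGeometry

namespace Groth.Agent.H76.FibreDimLimit

/-- Invariance of the fibre dimension bound under an isomorphism of the source. -/
theorem fiber_dim_le_of_iso {A B S : Scheme.{u}} (e : A ⟶ B) [IsIso e] (g : B ⟶ S)
    [LocallyOfFiniteType g] (d : ℕ)
    (h : ∀ s : S, topologicalKrullDim ↥(g.fiber s) ≤ d) (s : S) :
    topologicalKrullDim ↥((e ≫ g).fiber s) ≤ d := by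
  rw [Groth.Agent.Lib.Helper55.topologicalKrullDim_fiber_le_iff]
  intro x hx
  have h1 := Groth.Agent.Lib.Helper55.fibreDimAt_eq_of_isPullback g (𝟙 S) e
    (e ≫ g) (IsPullback.of_horiz_isIso ⟨by simp⟩) x
  rw [h1]
  exact (Groth.Agent.Lib.Helper55.topologicalKrullDim_fiber_le_iff g (g (e x)) d).mp (h _) _ rfl

/-- If `Z = lim Z_i` is a cofiltered limit of closed subschemes of `X` and
the fibres of `Z ⟶ S` have dimension `≤ d`, so do the fibres of some `Z_i ⟶ S`. -/
theorem exists_stage_of_closedSubschemes {X S : Scheme.{u}} [CompactSpace S]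
    [QuasiSeparatedSpace S] (f : X ⟶ S) [LocallyOfFiniteType f] [QuasiCompact f]
    {I : Type u} [SmallCategory I] [IsCofiltered I] (DX : I ⥤ Scheme.{u})
    (g : ∀ i, DX.obj i ⟶ X) (hg : ∀ {i j : I} (a : i ⟶ j), DX.map a ≫ g j = g i)
    [∀ i, IsClosedImmersion (g i)] (cX : Cone DX) (hX : IsLimit cX) (p : cX.pt ⟶ X)
    (hp : ∀ i, cX.π.app i ≫ g i = p) (d : ℕ)
    (hd : ∀ s : S, topologicalKrullDim ↥((p ≫ f).fiber s) ≤ d) :
    ∃ i, ∀ s : S, topologicalKrullDim ↥((g i ≫ f).fiber s) ≤ d := by
  classical
  haveI : IsConnected I := IsCofiltered.isConnected I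
  let φ : DX ⟶ (Functor.const I).obj S :=
    { app := fun i => g i ≫ f
      naturality := by
        intro i j a
        show DX.map a ≫ g j ≫ f = (g i ≫ f) ≫ 𝟙 S
        rw [Category.comp_id, ← Category.assoc, hg] }
  have hφ : ∀ i, φ.app i = g i ≫ f := fun i => rfl
  have hS : IsLimit (constCone I S) := isLimitConstCone I S
  haveI : ∀ (i j : I) (a : i ⟶ j), IsAffineHom (((Functor.const I).obj S).map a) := by
    intro i j a
    show IsAffineHom (𝟙 S)
    infer_instance
  haveI : ∀ i : I, CompactSpace (((Functor.const I).obj S).obj i) := fun i => ‹CompactSpace S›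
  haveI : ∀ i : I, QuasiSeparatedSpace (((Functor.const I).obj S).obj i) :=
    fun i => ‹QuasiSeparatedSpace S›
  haveI : ∀ i : I, LocallyOfFiniteType (φ.app i) := by
    intro i
    show LocallyOfFiniteType (g i ≫ f)
    infer_instance
  haveI : ∀ i : I, QuasiCompact (φ.app i) := by
    intro i
    show QuasiCompact (g i ≫ f)
    infer_instance
  have hcl : ∀ (i j : I) (a : i ⟶ j),
      IsClosedImmersion (pullback.lift (DX.map a) (φ.app i) (φ.naturality a)) := by
    intro i j a
    haveI : IsClosedImmersion (DX.map a ≫ g j) := by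
      rw [hg a]
      infer_instance
    haveI : IsClosedImmersion (DX.map a) :=
      IsClosedImmersion.of_comp_isClosedImmersion (DX.map a) (g j)
    haveI : IsIso (pullback.fst (φ.app j) (((Functor.const I).obj S).map a)) := by
      haveI : IsIso (((Functor.const I).obj S).map a) := by
        show IsIso (𝟙 S)
        infer_instance
      infer_instance
    have e1 : pullback.lift (DX.map a) (φ.app i) (φ.naturality a) =
        DX.map a ≫ inv (pullback.fst (φ.app j) (((Functor.const I).obj S).map a)) := by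
      rw [IsIso.eq_comp_inv, pullback.lift_fst]
    rw [e1]
    infer_instance
  have hf : ∀ i, (p ≫ f : cX.pt ⟶ (constCone I S).pt) ≫ (constCone I S).π.app i =
      cX.π.app i ≫ φ.app i := by
    intro i
    show (p ≫ f) ≫ 𝟙 S = cX.π.app i ≫ g i ≫ f
    rw [Category.comp_id, ← Category.assoc, hp]
  obtain ⟨i, hi⟩ := Groth.Agent.S9215.result DX ((Functor.const I).obj S) φ cX (constCone I S)
    hX hS hcl (p ≫ f) hf d hd
  exact ⟨i, fun s => hi s⟩

end Groth.Agent.H76.FibreDimLimit
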