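import Groth.Agent.H76.FibreDimLimit

set_option autoImplicit false
universe u v

open CategoryTheory Limits AlgebraicGeometry

namespace Groth.Agent.H76.FibreDimLimit

section Stab

variable {I : Type u} [SmallCategory I] [IsCofiltered I]

/-- In a system of closed immersions with a Noetherian member, the system is eventually constant. -/
theorem exists_forall_isIso_of_isNoetherian (G : I ⥤ Scheme.{u})
    (hG : ∀ (i j : I) (a : i ⟶ j), IsClosedImmersion (G.map a)) (i₀ : I)
    [IsNoetherian (G.obj i₀)] :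
    ∃ (i₁ : I) (_ : i₁ ⟶ i₀), ∀ (i : I) (b : i ⟶ i₁), IsIso (G.map b) := by
  haveI : WellFoundedGT (G.obj i₀).IdealSheafData := Groth.Agent.S4362.result _
  let S : Set (G.obj i₀).IdealSheafData := Set.range fun k : Over i₀ => (G.map k.hom).ker
  have hne : S.Nonempty := ⟨_, ⟨Over.mk (𝟙 i₀), rfl⟩⟩
  obtain ⟨m, ⟨k₁, rfl⟩, hmax⟩ := (wellFounded_gt (α := (G.obj i₀).IdealSheafData)).has_min S hne
  refine ⟨k₁.left, k₁.hom, fun i b => ?_⟩
  haveI := hG _ _ b
  haveI := hG _ _ k₁.hom
  have hle : (G.map k₁.hom).ker ≤ (G.map b ≫ G.map k₁.hom).ker := Scheme.Hom.le_ker_comp _ _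
  have hmem : (G.map b ≫ G.map k₁.hom).ker ∈ S :=
    ⟨Over.mk (b ≫ k₁.hom), by simp [G.map_comp]⟩
  have hnot := hmax _ hmem
  have heq : (G.map b ≫ G.map k₁.hom).ker = (G.map k₁.hom).ker := by
    by_contra hne'
    exact hnot (lt_of_le_of_ne hle (Ne.symm hne'))
  exact IsClosedImmersion.isIso_of_ker_eq (G.map b ≫ G.map k₁.hom) (G.map k₁.hom) (G.map b) rfl heq

end Stab

end Groth.Agent.H76.FibreDimLimit
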