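import Groth.Agent.H76.FibreDimStab

/-!
# Fibre dimension at a point of a limit is attained at a finite stage (helper76)
-/

set_option autoImplicit false
universe u v

open CategoryTheory Limits AlgebraicGeometry

namespace Groth.Agent.H76.FibreDimLimit

open Groth.Agent.Lib.Helper55

section Top

/-- Over a base with a single point, the local fibre dimension is the local dimension. -/
theorem fibreDimAt_eq_localDim_of_subsingleton {P T : Scheme.{u}} (g : P ⟶ T) [Subsingleton T]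
    (w : P) : FlatMor.fibreDimAt g w = FlatMor.localDim P w := by
  rw [fibreDimAt_eq_localDim_preimage]
  have hsurj : Function.Surjective (Subtype.val : ↥(g ⁻¹' {g w}) → P) := fun p =>
    ⟨⟨p, Subsingleton.elim _ _⟩, rfl⟩
  exact localDim_eq_of_isHomeomorph (Subtype.val : ↥(g ⁻¹' {g w}) → P)
    (isHomeomorph_iff_isEmbedding_surjective.mpr ⟨Topology.IsEmbedding.subtypeVal, hsurj⟩) ⟨w, rfl⟩

end Top

section Stage

variable {I : Type u} [SmallCategory I] [IsCofiltered I] (DX DS : I ⥤ Scheme.{u}) (φ : DX ⟶ DS)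
  (cX : Cone DX) (cS : Cone DS) (hX : IsLimit cX) (hS : IsLimit cS) (f : cX.pt ⟶ cS.pt)
  (hf : ∀ i, f ≫ cS.π.app i = cX.π.app i ≫ φ.app i)
  [∀ i, LocallyOfFiniteType (φ.app i)] [∀ i, QuasiCompact (φ.app i)]
  (hcl : ∀ (i j : I) (a : i ⟶ j),
    IsClosedImmersion (pullback.lift (DX.map a) (φ.app i) (φ.naturality a)))

include hX hS hcl hf in
/-- **Lemma B.** The local fibre dimension of `f = lim f_i` at `x` is the local fibre dimension of
some `f_i` at the image of `x`. -/
theorem exists_fibreDimAt_eq (x : cX.pt) :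
    ∃ i₁ : I, FlatMor.fibreDimAt f x = FlatMor.fibreDimAt (φ.app i₁) (cX.π.app i₁ x) := by
  set σ : Spec (cS.pt.residueField (f x)) ⟶ cS.pt := cS.pt.fromSpecResidueField (f x) with hσ
  have hG : ∀ (i j : I) (a : i ⟶ j), IsClosedImmersion ((Fib DX DS φ cS σ).map a) := fun i j a =>
    isClosedImmersion_fibMap DX DS φ cS σ a (hcl i j a)
  haveI : IsNoetherian ((Fib DX DS φ cS σ).obj (someIdx I)) := by
    show IsNoetherian (pullback (φ.app (someIdx I)) (σ ≫ cS.π.app (someIdx I)))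
    exact { }
  obtain ⟨i₁, -, hiso⟩ := exists_forall_isIso_of_isNoetherian (Fib DX DS φ cS σ) hG (someIdx I)
  refine ⟨i₁, ?_⟩
  haveI : IsIso (fibLeg DX DS φ cX cS f hf σ i₁) :=
    isIso_π_of_forall_isIso (Fib DX DS φ cS σ) (fibCone DX DS φ cX cS f hf σ)
      (isLimitFibCone DX DS φ cX cS f hf σ hX hS) i₁ hiso
  -- the point of the fibre
  let z : ↥(pullback f σ) := f.asFiber x
  have h1 : FlatMor.fibreDimAt f x = FlatMor.localDim ↥(pullback f σ) z := rfl
  have h2 : FlatMor.localDim ↥(pullback f σ) z =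
      FlatMor.localDim ↥(pullback (φ.app i₁) (σ ≫ cS.π.app i₁))
        ((fibLeg DX DS φ cX cS f hf σ i₁) z) :=
    localDim_eq_of_isHomeomorph _ (fibLeg DX DS φ cX cS f hf σ i₁).homeomorph.isHomeomorph z
  have h3 := fibreDimAt_eq_localDim_of_subsingleton
    (pullback.snd (φ.app i₁) (σ ≫ cS.π.app i₁)) ((fibLeg DX DS φ cX cS f hf σ i₁) z)
  have h4 := fibreDimAt_eq_of_isPullback (φ.app i₁) (σ ≫ cS.π.app i₁)
    (pullback.fst (φ.app i₁) (σ ≫ cS.π.app i₁)) (pullback.snd (φ.app i₁) (σ ≫ cS.π.app i₁))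
    (IsPullback.of_hasPullback _ _) ((fibLeg DX DS φ cX cS f hf σ i₁) z)
  have h5 : pullback.fst (φ.app i₁) (σ ≫ cS.π.app i₁) ((fibLeg DX DS φ cX cS f hf σ i₁) z) =
      cX.π.app i₁ x := by
    have e := congr(($(fibLeg_fst DX DS φ cX cS f hf σ i₁)) z)
    rw [Scheme.Hom.comp_apply, Scheme.Hom.comp_apply] at e
    rw [e]
    congr 1
    exact f.fiberι_asFiber x
  rw [h1, h2, ← h3, h4, h5]

end Stage

end Groth.Agent.H76.FibreDimLimit
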