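import Groth.Agent.H76.LocalCrit
import Mathlib.RingTheory.Flat.FaithfullyFlat.Basic
import Mathlib.RingTheory.LocalRing.Module

/-!
# Fibrewise flatness helpers (helper76)
-/

set_option autoImplicit false
universe u v

open TensorProduct

namespace Groth.Agent.H76.FibreFlat

section MapIdeal

variable {R S : Type*} [CommRing R] [CommRing S] [Algebra R S]
  {M : Type*} [AddCommGroup M] [Module R M] [Module S M] [IsScalarTower R S M]

/-- If `J ⊗_R M → M` is injective then `JS ⊗_S M → M` is injective. -/
theorem rTensor_map_injective (J : Ideal R)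
    (h : Function.Injective (LinearMap.rTensor M (Submodule.subtype J))) :
    Function.Injective (LinearMap.rTensor M (Submodule.subtype (J.map (algebraMap R S)))) := by
  set I : Ideal S := J.map (algebraMap R S) with hI
  -- the additive map `g : J ⊗_R M → I ⊗_S M`
  let φ : J → I := fun a => ⟨algebraMap R S a, Ideal.mem_map_of_mem _ a.2⟩
  have φ0 : φ 0 = 0 := by apply Subtype.ext; simp [φ]
  have φadd : ∀ a b, φ (a + b) = φ a + φ b := fun a b => by apply Subtype.ext; simp [φ]
  have φsmul : ∀ (r : R) (a : J), φ (r • a) = (algebraMap R S r) • φ a := fun r a => by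
    apply Subtype.ext; simp [φ, Algebra.smul_def]
  let g0 : J →+ M →+ (I ⊗[S] M) :=
    { toFun := fun a =>
        { toFun := fun m => φ a ⊗ₜ[S] m
          map_zero' := by simp
          map_add' := fun m m' => by rw [TensorProduct.tmul_add] }
      map_zero' := by
        ext m
        show φ 0 ⊗ₜ[S] m = 0
        rw [φ0, TensorProduct.zero_tmul]
      map_add' := fun a b => by
        ext m
        show φ (a + b) ⊗ₜ[S] m = φ a ⊗ₜ[S] m + φ b ⊗ₜ[S] m
        rw [φadd, TensorProduct.add_tmul] }
  let g : J ⊗[R] M →+ I ⊗[S] M := TensorProduct.liftAddHom g0 (by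
    intro r a m
    show φ (r • a) ⊗ₜ[S] m = φ a ⊗ₜ[S] (r • m)
    rw [φsmul, TensorProduct.smul_tmul, algebraMap_smul])
  have hg : ∀ (a : J) (m : M), g (a ⊗ₜ[R] m) =
      (⟨algebraMap R S a, Ideal.mem_map_of_mem _ a.2⟩ : I) ⊗ₜ[S] m := fun a m => rfl
  -- surjectivity of `g`
  have hsub : ∀ x ∈ I, ∀ m : M, ∃ hx : x ∈ I, ((⟨x, hx⟩ : I) ⊗ₜ[S] m) ∈ g.range := by
    intro x hx
    refine Submodule.span_induction ?_ ?_ ?_ ?_ hx
    · rintro _ ⟨a, ha, rfl⟩ m
      exact ⟨Ideal.mem_map_of_mem _ ha, ⟨(⟨a, ha⟩ : J) ⊗ₜ[R] m, rfl⟩⟩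
    · intro m
      refine ⟨I.zero_mem, ?_⟩
      have : (⟨0, I.zero_mem⟩ : I) = 0 := rfl
      rw [this, TensorProduct.zero_tmul]
      exact g.range.zero_mem
    · intro x y _ _ hx hy m
      obtain ⟨hx1, hx2⟩ := hx m
      obtain ⟨hy1, hy2⟩ := hy m
      refine ⟨I.add_mem hx1 hy1, ?_⟩
      have : (⟨x + y, I.add_mem hx1 hy1⟩ : I) = ⟨x, hx1⟩ + ⟨y, hy1⟩ := rfl
      rw [this, TensorProduct.add_tmul]
      exact g.range.add_mem hx2 hy2
    · intro s x _ hx m
      obtain ⟨hx1, hx2⟩ := hx (s • m)
      refine ⟨I.smul_mem s hx1, ?_⟩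
      have : (⟨s • x, I.smul_mem s hx1⟩ : I) = s • ⟨x, hx1⟩ := rfl
      rw [this, TensorProduct.smul_tmul]
      exact hx2
  have hsurj : Function.Surjective g := by
    intro z
    induction z with
    | zero => exact ⟨0, map_zero g⟩
    | tmul x m =>
      obtain ⟨_, hx2⟩ := hsub x.1 x.2 m
      exact hx2
    | add a b ha hb =>
      obtain ⟨a', rfl⟩ := ha
      obtain ⟨b', rfl⟩ := hb
      exact ⟨a' + b', map_add g a' b'⟩
  -- compatibility
  have hcompat : ∀ w : J ⊗[R] M,
      TensorProduct.lid S M ((LinearMap.rTensor M (Submodule.subtype I)) (g w)) =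
      TensorProduct.lid R M ((LinearMap.rTensor M (Submodule.subtype J)) w) := by
    intro w
    induction w with
    | zero => simp
    | tmul a m =>
      rw [hg, LinearMap.rTensor_tmul, LinearMap.rTensor_tmul, TensorProduct.lid_tmul,
        TensorProduct.lid_tmul, Submodule.subtype_apply, Submodule.subtype_apply, algebraMap_smul]
    | add a b ha hb =>
      rw [map_add, map_add, map_add, map_add, map_add, ha, hb]
  rw [injective_iff_map_eq_zero]
  intro z hz
  obtain ⟨w, rfl⟩ := hsurj z
  have h0 := hcompat w
  rw [hz, map_zero] at h0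
  have h1 : (LinearMap.rTensor M (Submodule.subtype J)) w = 0 :=
    (TensorProduct.lid R M).injective (by rw [← h0, map_zero])
  have h2 : w = 0 := (injective_iff_map_eq_zero _).mp h _ h1
  rw [h2, map_zero]

end MapIdeal

section Faithful

open IsLocalRing

/-- A nonzero finite module over the target of a local homomorphism, flat over the source, is
faithfully flat over the source. -/
theorem faithfullyFlat_of_local {S S' : Type*} [CommRing S] [CommRing S'] [IsLocalRing S]
    [IsLocalRing S'] [Algebra S S'] [IsLocalHom (algebraMap S S')]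
    {M : Type*} [AddCommGroup M] [Module S M] [Module S' M] [IsScalarTower S S' M]
    [Module.Finite S' M] [Nontrivial M] [Module.Flat S M] : Module.FaithfullyFlat S M := by
  refine ⟨fun 𝔫 h𝔫 htop => ?_⟩
  have h𝔫' : 𝔫 = maximalIdeal S := IsLocalRing.eq_maximalIdeal h𝔫
  have hle : (⊤ : Submodule S' M) ≤ maximalIdeal S' • (⊤ : Submodule S' M) := by
    intro m _
    have hm : m ∈ 𝔫 • (⊤ : Submodule S M) := by rw [htop]; exact Submodule.mem_top
    refine Submodule.smul_induction_on hm ?_ ?_
    · intro s hs x _
      rw [← algebraMap_smul S' s x]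
      apply Submodule.smul_mem_smul _ Submodule.mem_top
      rw [h𝔫'] at hs
      exact map_nonunit (algebraMap S S') s hs
    · intro x y hx hy
      exact Submodule.add_mem _ hx hy
  have hbot : (⊤ : Submodule S' M) = ⊥ :=
    Submodule.eq_bot_of_le_smul_of_le_jacobson_bot (maximalIdeal S') ⊤ Module.Finite.fg_top hle
      (IsLocalRing.maximalIdeal_le_jacobson _)
  obtain ⟨x, hx⟩ := exists_ne (0 : M)
  exact hx ((Submodule.mem_bot S').mp (hbot ▸ Submodule.mem_top))

end Faithful

section Descend

variable {R S : Type*} [CommRing R] [CommRing S] [Algebra R S]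
  {M : Type*} [AddCommGroup M] [Module R M] [Module S M] [IsScalarTower R S M]

/-- If `M` is flat over `R` and faithfully flat over `S` then `S` is flat over `R`. -/
theorem flat_of_faithfullyFlat_module [Module.Flat R M] [Module.FaithfullyFlat S M] :
    Module.Flat R S := by
  rw [Module.Flat.iff_lTensor_preserves_injective_linearMap]
  intro N P _ _ _ _ f hf
  have h1 : Function.Injective (f.lTensor M) := Module.Flat.lTensor_preserves_injective_linearMap f hf
  have h2 : Function.Injective ((f.baseChange S).lTensor M) := by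
    have hcomm : (AlgebraTensorModule.cancelBaseChange R S S M P).toLinearMap.restrictScalars R ∘ₗ
        ((f.baseChange S).lTensor M).restrictScalars R =
        (f.lTensor M) ∘ₗ
          (AlgebraTensorModule.cancelBaseChange R S S M N).toLinearMap.restrictScalars R := by
      apply LinearMap.ext
      intro x
      induction x with
      | zero => simp
      | tmul m z =>
        induction z with
        | zero => simp
        | tmul s n => simp
        | add a b ha hb => simp only [TensorProduct.tmul_add, map_add, ha, hb]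
      | add a b ha hb => simp only [map_add, ha, hb]
    intro x y hxy
    apply (AlgebraTensorModule.cancelBaseChange R S S M N).injective
    apply h1
    have e1 := congrArg (fun φ => φ x) hcomm
    have e2 := congrArg (fun φ => φ y) hcomm
    simp only [LinearMap.comp_apply, LinearMap.restrictScalars_apply,
      LinearEquiv.coe_toLinearMap] at e1 e2
    rw [← e1, ← e2, hxy]
  have h3 : Function.Injective (f.baseChange S) :=
    (Module.FaithfullyFlat.lTensor_injective_iff_injective S M _).mp h2
  exact h3

end Descend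

end Groth.Agent.H76.FibreFlat
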