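import Mathlib
import Groth.Agent.H76.FlatKerFP
import Groth.Agent.Lib.Helper35.NoethRes
import Groth.Agent.Lib.Helper71.FlatKer

/-!
# Finite free resolutions of flat finitely presented modules (helper76)

`B` a finitely presented flat `A`-algebra, `M` a finitely presented `B`-module flat over `A`:
`M` has a resolution by finite free `B`-modules (EGA IV 12.3.1-type).  The construction follows
helper35's `NoethRes`, with the Noetherian hypothesis replaced by the invariant
"finitely presented over `B` and flat over `A`", which is stable under syzygies by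
`FlatKerFP.finitePresentation_ker`.
-/

set_option autoImplicit false
set_option linter.unusedSectionVars false
universe u

open CategoryTheory Limits

namespace Groth.Agent.H76.FiniteFreeRes

open Groth.Agent.Lib.Helper35.KL

section FlatA

variable (A : Type u) [CommRing A] (B : Type u) [CommRing B] [Algebra A B]

/-- `N` is flat over `A` for the restriction of scalars along `A → B`. -/
def FlatA (N : Type u) [AddCommGroup N] [Module B N] : Prop :=
  @Module.Flat A N _ _ (Module.compHom N (algebraMap A B))

variable {A B}

theorem flatA_iff (N : Type u) [AddCommGroup N] [Module B N] [inst : Module A N]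
    [IsScalarTower A B N] : FlatA A B N ↔ Module.Flat A N := by
  have : Module.compHom N (algebraMap A B) = inst := by
    refine Module.ext' _ _ fun a n => ?_
    exact algebraMap_smul B a n
  unfold FlatA
  rw [this]

theorem FlatA.of_equiv {N N' : Type u} [AddCommGroup N] [Module B N] [AddCommGroup N']
    [Module B N'] (e : N ≃ₗ[B] N') (h : FlatA A B N') : FlatA A B N := by
  letI : Module A N := Module.compHom N (algebraMap A B)
  letI : Module A N' := Module.compHom N' (algebraMap A B)
  haveI : IsScalarTower A B N := IsScalarTower.of_compHom _ _ _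
  haveI : IsScalarTower A B N' := IsScalarTower.of_compHom _ _ _
  haveI : Module.Flat A N' := h
  exact Module.Flat.of_linearEquiv (e.restrictScalars A)

theorem flatA_of_free [Module.Flat A B] (N : Type u) [AddCommGroup N] [Module B N]
    [Module.Free B N] : FlatA A B N := by
  letI : Module A N := Module.compHom N (algebraMap A B)
  haveI : IsScalarTower A B N := IsScalarTower.of_compHom _ _ _
  exact Module.Flat.trans A B N

theorem FlatA.ker {N N' : Type u} [AddCommGroup N] [Module B N] [AddCommGroup N']
    [Module B N'] (g : N →ₗ[B] N') (hg : Function.Surjective g) (h : FlatA A B N)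
    (h' : FlatA A B N') : FlatA A B (LinearMap.ker g) := by
  letI : Module A N := Module.compHom N (algebraMap A B)
  letI : Module A N' := Module.compHom N' (algebraMap A B)
  haveI : IsScalarTower A B N := IsScalarTower.of_compHom _ _ _
  haveI : IsScalarTower A B N' := IsScalarTower.of_compHom _ _ _
  haveI : Module.Flat A N := h
  haveI : Module.Flat A N' := h'
  have h1 : Module.Flat A (LinearMap.ker (g.restrictScalars A)) :=
    Groth.Agent.Lib.Helper71.flat_ker_of_surjective (g.restrictScalars A) hg
  rw [flatA_iff]
  exact h1

end FlatA

section Res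

variable (A : Type u) [CommRing A] (B : Type u) [CommRing B] [Algebra A B]
  [Algebra.FinitePresentation A B] [Module.Flat A B]

/-- The invariant: finitely presented over `B` and flat over `A`. -/
def Good (N : Type u) [AddCommGroup N] [Module B N] : Prop :=
  Module.FinitePresentation B N ∧ FlatA A B N

variable {A B}

theorem Good.ker {N N' : Type u} [AddCommGroup N] [Module B N] [AddCommGroup N']
    [Module B N'] (g : N →ₗ[B] N') (hg : Function.Surjective g)
    [Module.FinitePresentation B N] (h : FlatA A B N) (h' : Good A B N') :
    Good A B (LinearMap.ker g) := by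
  refine ⟨?_, FlatA.ker g hg h h'.2⟩
  letI : Module A N' := Module.compHom N' (algebraMap A B)
  haveI : IsScalarTower A B N' := IsScalarTower.of_compHom _ _ _
  haveI : Module.Flat A N' := h'.2
  haveI := h'.1
  exact Groth.Agent.H76.FlatKerFP.finitePresentation_ker A g hg

/-- Goodness of the kernel of a syzygy step. -/
theorem good_ker_syz {X Y : ModuleCat.{u} B} (f : X ⟶ Y)
    (hK : Good A B (LinearMap.ker f.hom)) : Good A B (LinearMap.ker (syz f).2.1.hom) := by
  haveI := hK.1
  haveI : Module.Finite B (ModuleCat.of B (LinearMap.ker f.hom)) :=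
    inferInstanceAs (Module.Finite B (LinearMap.ker f.hom))
  haveI hfin : Module.Finite B (coverObj (ModuleCat.of B (LinearMap.ker f.hom))) :=
    finite_coverObj _
  haveI hfree : Module.Free B (coverObj (ModuleCat.of B (LinearMap.ker f.hom))) := inferInstance
  haveI : Module.Projective B (coverObj (ModuleCat.of B (LinearMap.ker f.hom))) :=
    Module.Projective.of_free
  haveI : Module.FinitePresentation B (coverObj (ModuleCat.of B (LinearMap.ker f.hom))) :=
    Module.finitePresentation_of_projective B _
  have h1 : Good A B (LinearMap.ker (coverMap (ModuleCat.of B (LinearMap.ker f.hom))).hom) :=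
    Good.ker (N' := LinearMap.ker f.hom) _ (coverMap_surjective _) (flatA_of_free _) hK
  have h2 : LinearMap.ker (syz f).2.1.hom =
      LinearMap.ker (coverMap (ModuleCat.of B (LinearMap.ker f.hom))).hom := by
    ext x
    simp only [LinearMap.mem_ker]
    constructor
    · intro hx
      exact Subtype.ext hx
    · intro hx
      exact congrArg Subtype.val hx
  rw [h2]
  exact h1

/-- The invariant carried along the inductive construction. -/
def SyzInv' (S : ShortComplex (ModuleCat.{u} B)) : Prop :=
  S.Exact ∧ (Module.Finite B S.X₁ ∧ Module.Free B S.X₁) ∧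
    (Module.Finite B S.X₂ ∧ Module.Free B S.X₂) ∧
    (Module.Finite B S.X₃ ∧ Module.Free B S.X₃) ∧ Good A B (LinearMap.ker S.f.hom)

theorem finite_free_syz' {X Y : ModuleCat.{u} B} (f : X ⟶ Y)
    (hK : Good A B (LinearMap.ker f.hom)) :
    Module.Finite B (syz f).1 ∧ Module.Free B (syz f).1 := by
  haveI := hK.1
  have : Module.Finite B (ModuleCat.of B (LinearMap.ker f.hom)) :=
    inferInstanceAs (Module.Finite B (LinearMap.ker f.hom))
  exact ⟨finite_coverObj _, inferInstanceAs (Module.Free B (coverObj _))⟩

theorem syzInv'_step (S : ShortComplex (ModuleCat.{u} B)) (h : SyzInv' (A := A) (B := B) S) :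
    SyzInv' (A := A) (B := B) (ShortComplex.mk (syz S.f).2.1 S.f (syz S.f).2.2) := by
  obtain ⟨-, h1, h2, -, hK⟩ := h
  exact ⟨syz_exact S.f, finite_free_syz' S.f hK, h1, h2, good_ker_syz S.f hK⟩

variable (M : ModuleCat.{u} B)

/-- The resolution complex. -/
noncomputable def resCx' : ChainComplex (ModuleCat.{u} B) ℕ :=
  ChainComplex.mk (coverObj M) (syz (coverMap M)).1 (syz (syz (coverMap M)).2.1).1
    (syz (coverMap M)).2.1 (syz (syz (coverMap M)).2.1).2.1 (syz (syz (coverMap M)).2.1).2.2
    (fun S => syz S.f)

variable (hM : Good A B M)
include hM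

theorem resCx'_mkAux_inv (n : ℕ) :
    SyzInv' (A := A) (B := B) (ChainComplex.mkAux (coverObj M) (syz (coverMap M)).1
      (syz (syz (coverMap M)).2.1).1
      (syz (coverMap M)).2.1 (syz (syz (coverMap M)).2.1).2.1 (syz (syz (coverMap M)).2.1).2.2
      (fun S => syz S.f) n) := by
  induction n with
  | zero =>
    haveI := hM.1
    have h0 : Module.Finite B (coverObj M) := finite_coverObj M
    have h0' : Module.Free B (coverObj M) := inferInstance
    haveI : Module.Projective B (coverObj M) := Module.Projective.of_free
    haveI : Module.FinitePresentation B (coverObj M) := Module.finitePresentation_of_projective B _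
    have hK0 : Good A B (LinearMap.ker (coverMap M).hom) :=
      Good.ker _ (coverMap_surjective M) (flatA_of_free _) hM
    have h1 := finite_free_syz' (coverMap M) hK0
    have hK1 := good_ker_syz (coverMap M) hK0
    have h2 := finite_free_syz' (syz (coverMap M)).2.1 hK1
    have hK2 := good_ker_syz (syz (coverMap M)).2.1 hK1
    exact ⟨syz_exact _, h2, h1, ⟨h0, h0'⟩, hK2⟩
  | succ n ih => exact syzInv'_step _ ih

theorem resCx'_finite_free (n : ℕ) :
    Module.Finite B ((resCx' M).X n) ∧ Module.Free B ((resCx' M).X n) :=
  (resCx'_mkAux_inv M hM n).2.2.2.1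

theorem resCx'_exactAt_succ (n : ℕ) : (resCx' M).ExactAt (n + 1) := by
  rw [HomologicalComplex.exactAt_iff' _ (n + 1 + 1) (n + 1) n (by simp) (by simp)]
  have h := (resCx'_mkAux_inv M hM n).1
  rw [ChainComplex.mkAux_eq_shortComplex_mk_d_comp_d] at h
  exact h

omit hM in
theorem resCx'_d_one_zero : (resCx' M).d 1 0 = (syz (coverMap M)).2.1 :=
  ChainComplex.mk_d_1_0 _ _ _ _ _ _ _

omit hM in
theorem resCx'_d_comp : (resCx' M).d 1 0 ≫ coverMap M = 0 := by
  rw [resCx'_d_one_zero]
  exact (syz (coverMap M)).2.2

omit hM in
theorem resCx'_exact_and_epi (f : (syz (coverMap M)).1 ⟶ coverObj M) (g : coverObj M ⟶ M)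
    (w : f ≫ g = 0) (hf : f = (syz (coverMap M)).2.1) (hg : g = coverMap M) :
    (ShortComplex.mk f g w).Exact ∧ Epi g := by
  subst hf
  subst hg
  refine ⟨syz_exact _, ?_⟩
  rw [ModuleCat.epi_iff_surjective]
  exact coverMap_surjective M

/-- The resolution by finite free modules. -/
noncomputable def goodRes : ProjectiveResolution M where
  complex := resCx' M
  projective := fun n => by
    have := (resCx'_finite_free M hM n).2
    exact (IsProjective.iff_projective (R := B) (P := (resCx' M).X n)).mp inferInstance
  π := (ChainComplex.toSingle₀Equiv _ _).symm ⟨coverMap M, resCx'_d_comp M⟩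
  quasiIso := ⟨fun n => by
    cases n with
    | zero =>
      rw [ChainComplex.quasiIsoAt₀_iff, ShortComplex.quasiIso_iff_of_zeros']
      · exact resCx'_exact_and_epi M ((resCx' M).d 1 0)
          ((((resCx' M).toSingle₀Equiv M).symm ⟨coverMap M, resCx'_d_comp M⟩).f 0) _
          (resCx'_d_one_zero M)
          (ChainComplex.toSingle₀Equiv_symm_apply_f_zero (C := resCx' M) (coverMap M)
            (resCx'_d_comp M))
      all_goals rfl
    | succ n =>
      rw [quasiIsoAt_iff_exactAt']
      · exact resCx'_exactAt_succ M hM n
      · apply ChainComplex.exactAt_succ_single_obj⟩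

end Res

/-- **Finite free resolution** of a finitely presented module flat over the base of a flat
finitely presented algebra. -/
theorem exists_finite_free_resolution (A B M : Type u) [CommRing A] [CommRing B] [Algebra A B]
    [Algebra.FinitePresentation A B] [Module.Flat A B] [AddCommGroup M] [Module B M] [Module A M]
    [IsScalarTower A B M] [Module.FinitePresentation B M] [Module.Flat A M] :
    ∃ P : ProjectiveResolution (ModuleCat.of B M),
      ∀ n : ℕ, Module.Finite B (P.complex.X n) ∧ Module.Free B (P.complex.X n) := by
  have hM : Good A B (ModuleCat.of B M) := by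
    refine ⟨inferInstanceAs (Module.FinitePresentation B M), ?_⟩
    exact (flatA_iff (A := A) (B := B) M).mpr inferInstance
  exact ⟨goodRes (ModuleCat.of B M) hM, fun n => resCx'_finite_free (ModuleCat.of B M) hM n⟩

end Groth.Agent.H76.FiniteFreeRes
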