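import Mathlib

/-!
# The adic topology seen through a finite injective extension (helper76)

`O` a Noetherian local ring, `O → A'` finite and injective.  The family of local homomorphisms
`O → A'_m` (`m` maximal in `A'`) defines the `m_O`-adic topology: for every `N` the intersection
of the contractions of suitable powers of the maximal ideals of the `A'_m` lies in `m_O ^ N`.
-/

set_option autoImplicit false
universe u

open IsLocalRing

namespace Groth.Agent.H76.FiniteInjTop

variable {O A' : Type u} [CommRing O] [IsLocalRing O] [CommRing A'] [Algebra O A']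
  [Module.Finite O A']

/-- Maximal ideals of a finite algebra over a local ring lie over the maximal ideal. -/
lemma comap_eq_maximalIdeal (m : Ideal A') [hm : m.IsMaximal] :
    m.comap (algebraMap O A') = maximalIdeal O :=
  IsLocalRing.eq_maximalIdeal (Ideal.isMaximal_comap_of_isIntegral_of_isMaximal m)

/-- A finite algebra over a local ring is semilocal. -/
lemma finite_maximalSpectrum (O : Type u) {A' : Type u} [CommRing O] [IsLocalRing O] [CommRing A']
    [Algebra O A'] [Module.Finite O A'] : Finite (MaximalSpectrum A') := by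
  have hfin : ((maximalIdeal O).primesOver A').Finite :=
    Algebra.QuasiFinite.finite_primesOver (maximalIdeal O)
  have := hfin.to_subtype
  let g : MaximalSpectrum A' → (maximalIdeal O).primesOver A' := fun m =>
    ⟨m.asIdeal, ⟨m.isMaximal.isPrime, ⟨by
      haveI := m.isMaximal
      exact (comap_eq_maximalIdeal (O := O) m.asIdeal).symm⟩⟩⟩
  refine Finite.of_injective g ?_
  intro m m' h
  ext1
  exact congrArg Subtype.val h

/-- The composite `O → A' → A'_m` is a local homomorphism. -/
lemma isLocalHom_comp (m : Ideal A') [hm : m.IsMaximal] :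
    IsLocalHom ((algebraMap A' (Localization.AtPrime m)).comp (algebraMap O A')) := by
  constructor
  intro a ha
  by_contra hna
  have h1 : a ∈ maximalIdeal O := (IsLocalRing.mem_maximalIdeal a).mpr hna
  rw [← comap_eq_maximalIdeal (O := O) m, Ideal.mem_comap] at h1
  have h2 : algebraMap A' (Localization.AtPrime m) (algebraMap O A' a) ∈
      maximalIdeal (Localization.AtPrime m) := by
    rw [← Localization.AtPrime.map_eq_maximalIdeal]
    exact Ideal.mem_map_of_mem _ h1
  exact (IsLocalRing.mem_maximalIdeal _).mp h2 ha

variable [IsNoetherianRing O]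

/-- A power of the maximal ideal of `A'_m` lies in `m_O A'_m`. -/
lemma exists_pow_maximalIdeal_le (m : Ideal A') [hm : m.IsMaximal] :
    ∃ e : ℕ, maximalIdeal (Localization.AtPrime m) ^ e ≤
      ((maximalIdeal O).map (algebraMap O A')).map (algebraMap A' (Localization.AtPrime m)) := by
  haveI : IsNoetherianRing A' := Algebra.FiniteType.isNoetherianRing O A'
  haveI : IsNoetherianRing (Localization.AtPrime m) :=
    IsLocalization.isNoetherianRing m.primeCompl _ inferInstance
  refine Ideal.exists_pow_le_of_le_radical_of_fg ?_ (isNoetherian_def.mp inferInstance _)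
  rw [Ideal.radical_eq_sInf]
  refine le_sInf ?_
  rintro P ⟨hbP, hPprime⟩
  have hp : (P.comap (algebraMap A' (Localization.AtPrime m))).IsPrime := Ideal.comap_isPrime _ P
  set p := P.comap (algebraMap A' (Localization.AtPrime m)) with hpdef
  have h1 : (maximalIdeal O).map (algebraMap O A') ≤ p := Ideal.map_le_iff_le_comap.mp hbP
  have h2 : p.comap (algebraMap O A') = maximalIdeal O := by
    refine le_antisymm (IsLocalRing.le_maximalIdeal ?_) (Ideal.map_le_iff_le_comap.mp h1)
    exact (Ideal.comap_isPrime _ p).ne_top
  have hpmax : p.IsMaximal := by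
    refine Ideal.isMaximal_of_isIntegral_of_isMaximal_comap (R := O) p ?_
    rw [h2]
    infer_instance
  have hple : p ≤ m := by
    have hP : P ≤ maximalIdeal (Localization.AtPrime m) := IsLocalRing.le_maximalIdeal hPprime.ne_top
    have := Ideal.comap_mono (f := algebraMap A' (Localization.AtPrime m)) hP
    exact this.trans (le_of_eq (Localization.AtPrime.under_maximalIdeal (I := m)))
  have hpm : p = m := hpmax.eq_of_le hm.ne_top hple
  have hmap : Ideal.map (algebraMap A' (Localization.AtPrime m)) m = P := by
    have := IsLocalization.map_under m.primeCompl (Localization.AtPrime m) P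
    have hpu : Ideal.under A' P = m := hpm
    rw [hpu] at this
    exact this
  rw [← Localization.AtPrime.map_eq_maximalIdeal, hmap]

/-- Artin–Rees for the image of `O` in `A'`. -/
lemma exists_artinRees (hinj : Function.Injective (algebraMap O A')) :
    ∃ c : ℕ, ∀ (k : ℕ) (a : O),
      algebraMap O A' a ∈ (maximalIdeal O ^ (k + c)).map (algebraMap O A') → a ∈ maximalIdeal O ^ k := by
  obtain ⟨c, hc⟩ := Ideal.exists_pow_inf_eq_pow_smul (maximalIdeal O)
    (LinearMap.range (Algebra.linearMap O A'))
  refine ⟨c, fun k a ha => ?_⟩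
  have h1 : algebraMap O A' a ∈ (maximalIdeal O ^ (k + c) • (⊤ : Submodule O A') ⊓
      LinearMap.range (Algebra.linearMap O A') : Submodule O A') := by
    refine ⟨?_, ⟨a, rfl⟩⟩
    rw [Ideal.smul_top_eq_map]
    exact ha
  rw [hc (k + c) (Nat.le_add_left c k), Nat.add_sub_cancel] at h1
  have h2 : algebraMap O A' a ∈ (maximalIdeal O ^ k • LinearMap.range (Algebra.linearMap O A') :
      Submodule O A') := Submodule.smul_mono le_rfl inf_le_right h1
  rw [LinearMap.range_eq_map, ← Submodule.map_smul'', Submodule.mem_map] at h2
  obtain ⟨b, hb, hba⟩ := h2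
  have hb' : b ∈ maximalIdeal O ^ k := by
    rw [smul_eq_mul, Ideal.mul_top] at hb
    exact hb
  have : b = a := hinj hba
  rwa [← this]

/-- **The family `O → A'_m` defines the adic topology of `O`.** -/
theorem exists_finset_iInf_comap_le (hinj : Function.Injective (algebraMap O A')) (N : ℕ) :
    ∃ s : Finset (MaximalSpectrum A' × ℕ),
      ⨅ p ∈ s, Ideal.comap ((algebraMap A' (Localization.AtPrime p.1.asIdeal)).comp (algebraMap O A'))
        (maximalIdeal (Localization.AtPrime p.1.asIdeal) ^ p.2) ≤ maximalIdeal O ^ N := by
  classical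
  haveI := finite_maximalSpectrum O (A' := A')
  haveI := Fintype.ofFinite (MaximalSpectrum A')
  obtain ⟨c, hc⟩ := exists_artinRees (O := O) (A' := A') hinj
  have he : ∀ m : MaximalSpectrum A', ∃ e : ℕ,
      maximalIdeal (Localization.AtPrime m.asIdeal) ^ e ≤
        ((maximalIdeal O).map (algebraMap O A')).map
          (algebraMap A' (Localization.AtPrime m.asIdeal)) := fun m => by
    haveI := m.isMaximal
    exact exists_pow_maximalIdeal_le m.asIdeal
  choose e he using he
  refine ⟨Finset.univ.image fun m => (m, e m * (N + c)), ?_⟩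
  intro a ha
  refine hc N a ?_
  refine Ideal.mem_of_localization_maximal fun P hP => ?_
  have hmem : ((⟨P, hP⟩ : MaximalSpectrum A'), e ⟨P, hP⟩ * (N + c)) ∈
      Finset.univ.image fun m : MaximalSpectrum A' => (m, e m * (N + c)) :=
    Finset.mem_image_of_mem _ (Finset.mem_univ _)
  have h1 := (Ideal.mem_iInf.mp ((Ideal.mem_iInf.mp ha) _)) hmem
  rw [Ideal.mem_comap, pow_mul] at h1
  have h2 := Ideal.pow_right_mono (he ⟨P, hP⟩) (N + c) h1
  rw [← Ideal.map_pow, ← Ideal.map_pow] at h2
  exact h2

end Groth.Agent.H76.FiniteInjTop
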