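import Mathlib

/-!
# Localizations at primes of a ring with finite spectrum are localizations away from an element
(helper76)
-/

set_option autoImplicit false
universe u

namespace Groth.Agent.H76.FiniteSpecLoc

/-- In a ring with finitely many primes, for every prime `P` there is `g ∉ P` such that every
element outside `P` divides a power of `g`. -/
theorem exists_dvd_pow {B : Type*} [CommRing B] [Finite (PrimeSpectrum B)] (P : Ideal B)
    [P.IsPrime] : ∃ g : B, g ∉ P ∧ ∀ s ∈ P.primeCompl, ∃ k : ℕ, s ∣ g ^ k := by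
  classical
  have hfin : {Q : PrimeSpectrum B | ¬ Q.asIdeal ≤ P}.Finite := Set.toFinite _
  have hex : ∀ Q : PrimeSpectrum B, ∃ a : B, a ∉ P ∧ (¬ Q.asIdeal ≤ P → a ∈ Q.asIdeal) := by
    intro Q
    by_cases h : Q.asIdeal ≤ P
    · exact ⟨1, fun h1 => ‹P.IsPrime›.ne_top ((Ideal.eq_top_iff_one P).mpr h1), fun h' => absurd h h'⟩
    · obtain ⟨a, haQ, haP⟩ := Set.not_subset.mp h
      exact ⟨a, haP, fun _ => haQ⟩
  choose a haP haQ using hex
  refine ⟨∏ Q ∈ hfin.toFinset, a Q, ?_, ?_⟩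
  · intro hmem
    obtain ⟨Q, -, hQ⟩ := (Ideal.IsPrime.prod_mem_iff (hp := ‹P.IsPrime›)).mp hmem
    exact haP Q hQ
  · intro s hs
    have hrad : (∏ Q ∈ hfin.toFinset, a Q) ∈ (Ideal.span {s}).radical := by
      rw [Ideal.radical_eq_sInf, Ideal.mem_sInf]
      rintro Q ⟨hsQ, hQ⟩
      have hsQ' : s ∈ Q := hsQ (Ideal.subset_span rfl)
      have hQP : ¬ Q ≤ P := fun hle => hs (hle hsQ')
      have hmem : (⟨Q, hQ⟩ : PrimeSpectrum B) ∈ hfin.toFinset := by
        rw [Set.Finite.mem_toFinset]; exact hQP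
      exact Ideal.mem_of_dvd _ (Finset.dvd_prod_of_mem a hmem) (haQ ⟨Q, hQ⟩ hQP)
    obtain ⟨k, hk⟩ := hrad
    exact ⟨k, Ideal.mem_span_singleton.mp hk⟩

/-- In a ring with finitely many primes, a localization at a prime is a localization away from an
element. -/
theorem exists_isLocalization_away {B : Type*} [CommRing B] [Finite (PrimeSpectrum B)]
    (P : Ideal B) [P.IsPrime] (S : Type*) [CommRing S] [Algebra B S] [IsLocalization.AtPrime S P] :
    ∃ g : B, g ∉ P ∧ IsLocalization.Away g S := by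
  obtain ⟨g, hgP, hg⟩ := exists_dvd_pow P
  refine ⟨g, hgP, ?_⟩
  refine (IsLocalization.iff_of_le_of_exists_dvd (M := Submonoid.powers g) (S := S) P.primeCompl
    ?_ ?_).mpr inferInstance
  · rintro _ ⟨k, rfl⟩
    exact P.primeCompl.pow_mem hgP k
  · intro s hs
    obtain ⟨k, hk⟩ := hg s hs
    exact ⟨g ^ k, ⟨k, rfl⟩, hk⟩

end Groth.Agent.H76.FiniteSpecLoc
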