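import Mathlib
import Groth.Agent.Lib.Helper16.FlatPull.BaseChange
import Groth.Agent.Lib.Helper23.FibreFlatCons

/-!
# Flatness over the base along a factorisation of the base-change morphism (helper76)

If `Y' ⟶ Y ⟶ S` and `F` on `X ⟶ S`, flatness of the pullback of `F` to `X ×_S Y` over `Y` at the
image of a point `x'` of `X ×_S Y'` gives flatness of the pullback of `F` to `X ×_S Y'` over `Y'`
at `x'`.
-/

set_option autoImplicit false
universe u

open CategoryTheory Limits AlgebraicGeometry

namespace Groth.Agent.H76.FlatBaseChangeFactor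

variable {X S Y Y' : Scheme.{u}} (f : X ⟶ S) (g : Y ⟶ S) (j : Y' ⟶ Y)

/-- The canonical map `X ×_S Y' ⟶ X ×_S Y`. -/
noncomputable def trans : pullback f (j ≫ g) ⟶ pullback f g :=
  pullback.lift (pullback.fst f (j ≫ g)) (pullback.snd f (j ≫ g) ≫ j)
    (by rw [Category.assoc]; exact pullback.condition)

@[reassoc (attr := simp)]
lemma trans_fst : trans f g j ≫ pullback.fst f g = pullback.fst f (j ≫ g) :=
  pullback.lift_fst _ _ _

@[reassoc (attr := simp)]
lemma trans_snd : trans f g j ≫ pullback.snd f g = pullback.snd f (j ≫ g) ≫ j :=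
  pullback.lift_snd _ _ _

lemma isPullback_trans :
    IsPullback (trans f g j) (pullback.snd f (j ≫ g)) (pullback.snd f g) j := by
  refine IsPullback.of_right ?_ (trans_snd f g j) (IsPullback.of_hasPullback f g)
  rw [trans_fst]
  exact IsPullback.of_hasPullback f (j ≫ g)

lemma trans_fst_apply (x' : ↥(pullback f (j ≫ g))) :
    pullback.fst f g (trans f g j x') = pullback.fst f (j ≫ g) x' := by
  rw [← Scheme.Hom.comp_apply, trans_fst]

/-- Base change of flatness along a factorisation `Y' ⟶ Y ⟶ S`. -/
theorem isFlatOverAt_of_factor (F : X.Modules) [F.IsQuasicoherent] (x' : ↥(pullback f (j ≫ g)))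
    (h : FlatMod.IsFlatOverAt (pullback.snd f g)
      ((Scheme.Modules.pullback (pullback.fst f g)).obj F) (trans f g j x')) :
    FlatMod.IsFlatOverAt (pullback.snd f (j ≫ g))
      ((Scheme.Modules.pullback (pullback.fst f (j ≫ g))).obj F) x' := by
  haveI := Groth.Agent.Lib.Helper16.FlatPull.isQuasicoherent_pullback (pullback.fst f g) F
  have h1 := Groth.Agent.Lib.Helper16.FlatPull.isFlatOverAt_baseChange (pullback.snd f g)
    (pullback.snd f (j ≫ g)) (trans f g j) j (isPullback_trans f g j)
    ((Scheme.Modules.pullback (pullback.fst f g)).obj F) x' h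
  refine Groth.Agent.Lib.Helper23.FibreFlatCons.isFlatOverAt_of_iso _ ?_ x' h1
  exact (Scheme.Modules.pullbackComp (trans f g j) (pullback.fst f g)).app F ≪≫
    (Scheme.Modules.pullbackCongr (trans_fst f g j)).app F

end Groth.Agent.H76.FlatBaseChangeFactor
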