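import Groth.Agent.H76.SquareFlat
import Groth.Agent.H76.LocalCrit2
import Mathlib.LinearAlgebra.Basis.VectorSpace
import Mathlib.RingTheory.Nakayama

/-!
# Descent of flatness along maps inducing the adic topology (helper76)

`flat_of_comap_pow`: `A → B` a local homomorphism of Noetherian local rings, `A → A'` a ring map,
`𝔯` an ideal of `A'` with `φ⁻¹(𝔯) = 𝔪_A` and such that the ideals `φ⁻¹(𝔯^N)` are cofinal with the
powers of `𝔪_A`.  If `A' ⊗_A B` is flat over `A'` then `B` is flat over `A`.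
-/

set_option autoImplicit false
universe u v

open TensorProduct

namespace Groth.Agent.H76.FlatDescent

open Groth.Agent.H76.FlatGlue Groth.Agent.H76.SquareFlat Groth.Agent.H76.LocalCrit IsLocalRing

variable {A B A' : Type u} [CommRing A] [CommRing B] [CommRing A']
  [IsNoetherianRing A] [IsLocalRing A] [IsNoetherianRing B] [IsLocalRing B]
  [Algebra A B] [IsLocalHom (algebraMap A B)] [Algebra A A']

theorem flat_comap_pow (M : Type u) [AddCommGroup M] [Module A M] [Module.Flat A' (A' ⊗[A] M)]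
    (𝔯 : Ideal A') (h0 : 𝔯.comap (algebraMap A A') = maximalIdeal A) (k : ℕ) :
    Module.Flat (A ⧸ (𝔯 ^ (2 ^ k)).comap (algebraMap A A'))
      ((A ⧸ (𝔯 ^ (2 ^ k)).comap (algebraMap A A')) ⊗[A] M) := by
  induction k with
  | zero =>
    have h1 : (𝔯 ^ (2 ^ 0)).comap (algebraMap A A') = maximalIdeal A := by
      rw [pow_zero, pow_one, h0]
    rw [h1]
    letI : Field (A ⧸ maximalIdeal A) := Ideal.Quotient.field _
    haveI : Module.Free (A ⧸ maximalIdeal A) ((A ⧸ maximalIdeal A) ⊗[A] M) :=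
      Module.Free.of_divisionRing _ _
    exact Module.Flat.of_free
  | succ k ih =>
    haveI := ih
    refine flat_quotient_comap ((𝔯 ^ (2 ^ k)).comap (algebraMap A A')) M (𝔯 ^ (2 ^ (k + 1))) ?_
    have h1 : ((𝔯 ^ (2 ^ k)).comap (algebraMap A A')).map (algebraMap A A') ≤ 𝔯 ^ (2 ^ k) :=
      Ideal.map_comap_le
    have h2 : 𝔯 ^ 2 ^ (k + 1) = (𝔯 ^ 2 ^ k) ^ 2 := by
      rw [← pow_mul, pow_succ]
    rw [h2]
    exact Ideal.pow_right_mono h1 2

theorem flat_of_comap_pow (𝔯 : Ideal A') (h0 : 𝔯.comap (algebraMap A A') = maximalIdeal A)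
    (htop : ∀ n : ℕ, ∃ N : ℕ, (𝔯 ^ N).comap (algebraMap A A') ≤ maximalIdeal A ^ n)
    [Module.Flat A' (A' ⊗[A] B)] : Module.Flat A B := by
  have hJ : (maximalIdeal A).map (algebraMap A B) ≠ ⊤ := by
    have hle : (maximalIdeal A).map (algebraMap A B) ≤ maximalIdeal B :=
      Ideal.map_le_iff_le_comap.mpr (fun x hx => map_nonunit (algebraMap A B) x hx)
    intro htop'
    rw [htop'] at hle
    exact (maximalIdeal.isMaximal B).ne_top (top_le_iff.mp hle)
  apply flat_of_adic (S := B) (maximalIdeal A) hJ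
  intro m P Q _ _ _ _ u hu hkill
  obtain ⟨N, hN⟩ := htop m
  haveI := flat_comap_pow (A' := A') B 𝔯 h0 N
  apply rTensor_injective_of_surjective_of_flat
    (S := A ⧸ (𝔯 ^ (2 ^ N)).comap (algebraMap A A')) Ideal.Quotient.mk_surjective B u hu
  intro r hr y
  have hr' : r ∈ (𝔯 ^ (2 ^ N)).comap (algebraMap A A') := Ideal.Quotient.eq_zero_iff_mem.mp hr
  have hle : (𝔯 ^ (2 ^ N)).comap (algebraMap A A') ≤ (𝔯 ^ N).comap (algebraMap A A') :=
    Ideal.comap_mono (Ideal.pow_le_pow_right (Nat.lt_two_pow_self).le)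
  exact hkill r (hN (hle hr')) y

section Finite

variable [Module.Finite A A']

theorem comap_map_maximalIdeal (hinj : Function.Injective (algebraMap A A')) :
    ((maximalIdeal A).map (algebraMap A A')).comap (algebraMap A A') = maximalIdeal A := by
  apply le_antisymm
  · apply IsLocalRing.le_maximalIdeal
    intro htop
    have h1 : (1 : A) ∈ ((maximalIdeal A).map (algebraMap A A')).comap (algebraMap A A') := by
      rw [htop]; exact Submodule.mem_top
    rw [Ideal.mem_comap, map_one] at h1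
    have h2 : (maximalIdeal A).map (algebraMap A A') = ⊤ := (Ideal.eq_top_iff_one _).mpr h1
    have h3 : (⊤ : Submodule A A') ≤ maximalIdeal A • (⊤ : Submodule A A') := by
      rw [Ideal.smul_top_eq_map, h2]
      intro x _
      exact Submodule.mem_top
    have h4 : (⊤ : Submodule A A') = ⊥ :=
      Submodule.eq_bot_of_le_smul_of_le_jacobson_bot (maximalIdeal A) ⊤ Module.Finite.fg_top h3
        (IsLocalRing.maximalIdeal_le_jacobson _)
    have h5 : (1 : A') = 0 := (Submodule.mem_bot A).mp (h4 ▸ Submodule.mem_top)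
    have h6 : (1 : A) = 0 := hinj (by rw [map_one, map_zero, h5])
    exact one_ne_zero h6
  · exact Ideal.le_comap_map

theorem exists_comap_pow_le (hinj : Function.Injective (algebraMap A A')) (n : ℕ) :
    ∃ N : ℕ, (((maximalIdeal A).map (algebraMap A A')) ^ N).comap (algebraMap A A') ≤
      maximalIdeal A ^ n := by
  obtain ⟨k, hk⟩ := Ideal.exists_pow_inf_eq_pow_smul (maximalIdeal A)
    (LinearMap.range (Algebra.linearMap A A'))
  refine ⟨n + k, ?_⟩
  intro x hx
  rw [Ideal.mem_comap, ← Ideal.map_pow] at hx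
  have h1 : algebraMap A A' x ∈ maximalIdeal A ^ (n + k) • (⊤ : Submodule A A') := by
    rw [Ideal.smul_top_eq_map]
    exact hx
  have h2 : algebraMap A A' x ∈
      maximalIdeal A ^ (n + k) • (⊤ : Submodule A A') ⊓ LinearMap.range (Algebra.linearMap A A') :=
    ⟨h1, ⟨x, rfl⟩⟩
  rw [hk (n + k) (Nat.le_add_left k n), Nat.add_sub_cancel] at h2
  have h3 : ∀ y ∈ maximalIdeal A ^ n •
      (maximalIdeal A ^ k • (⊤ : Submodule A A') ⊓ LinearMap.range (Algebra.linearMap A A')),
      ∃ z ∈ maximalIdeal A ^ n, algebraMap A A' z = y := by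
    intro y hy
    refine Submodule.smul_induction_on hy ?_ ?_
    · rintro a ha w ⟨_, ⟨w', rfl⟩⟩
      refine ⟨a * w', Ideal.mul_mem_right _ _ ha, ?_⟩
      rw [map_mul, Algebra.smul_def]
      rfl
    · rintro y₁ y₂ ⟨z₁, hz₁, rfl⟩ ⟨z₂, hz₂, rfl⟩
      exact ⟨z₁ + z₂, Ideal.add_mem _ hz₁ hz₂, map_add _ _ _⟩
  obtain ⟨z, hz, hzx⟩ := h3 _ h2
  rw [← hinj hzx]
  exact hz

/-- Descent of flatness along a finite injective map (Ferrand). -/
theorem flat_of_finite_injective (hinj : Function.Injective (algebraMap A A'))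
    [Module.Flat A' (A' ⊗[A] B)] : Module.Flat A B :=
  flat_of_comap_pow (A' := A') ((maximalIdeal A).map (algebraMap A A'))
    (comap_map_maximalIdeal hinj) (exists_comap_pow_le hinj)

end Finite

end Groth.Agent.H76.FlatDescent
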