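import Groth.Prelude.Def_EtMil
import Groth.Agent.H76.Milnor
import Mathlib.LinearAlgebra.TensorProduct.RightExactness
import Mathlib.LinearAlgebra.TensorProduct.Tower
import Mathlib.RingTheory.TensorProduct.Basic
import Mathlib.RingTheory.Ideal.Operations

/-!
# The glued module over a Milnor square (helper76)

For a fibre square `B' = B ×_A A'` with `A' → A` surjective, a `B`-module `N`, an `A'`-module `M'`
and `φ : A ⊗[B] N ≃ₗ[A] A ⊗[A'] M'`, the glued module `G = EtMil.glue B' φ` satisfies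
`B ⊗[B'] G ≃ N` and `A' ⊗[B'] G ≃ M'`.
-/

set_option autoImplicit false
universe u

open TensorProduct

namespace Groth.Agent.H76.Glue

section General

variable {R S M : Type*} [CommRing R] [CommRing S] [Algebra R S] [AddCommGroup M] [Module R M]

/-- If `R → S` is surjective, every element of `S ⊗[R] M` is of the form `1 ⊗ m`. -/
theorem exists_one_tmul (hs : Function.Surjective (algebraMap R S)) (z : S ⊗[R] M) :
    ∃ m : M, z = (1 : S) ⊗ₜ[R] m := by
  induction z with
  | zero => exact ⟨0, by simp⟩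
  | tmul s m =>
    obtain ⟨r, rfl⟩ := hs s
    refine ⟨r • m, ?_⟩
    rw [← TensorProduct.smul_tmul, Algebra.smul_def, mul_one]
  | add x y hx hy =>
    obtain ⟨a, rfl⟩ := hx
    obtain ⟨b, rfl⟩ := hy
    exact ⟨a + b, by rw [TensorProduct.tmul_add]⟩

/-- Elements of `ker • ⊤` die in `S ⊗[R] M`. -/
theorem one_tmul_eq_zero_of_mem_smul_top (e : M)
    (he : e ∈ (RingHom.ker (algebraMap R S)) • (⊤ : Submodule R M)) :
    ((1 : S) ⊗ₜ[R] e : S ⊗[R] M) = 0 := by
  refine Submodule.smul_induction_on he ?_ ?_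
  · intro i hi x _
    rw [← TensorProduct.smul_tmul, Algebra.smul_def, (RingHom.mem_ker).mp hi, zero_mul,
      TensorProduct.zero_tmul]
  · intro x y hx hy
    rw [TensorProduct.tmul_add, hx, hy, add_zero]

end General

variable {B' B A' A : Type u} [CommRing B'] [CommRing B] [CommRing A'] [CommRing A]
  [Algebra B' B] [Algebra B' A'] [Algebra B A] [Algebra A' A] [Algebra B' A]
  [IsScalarTower B' B A] [IsScalarTower B' A' A]
variable {N M' : Type u} [AddCommGroup N] [Module B N] [Module B' N] [IsScalarTower B' B N]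
  [AddCommGroup M'] [Module A' M'] [Module B' M'] [IsScalarTower B' A' M']
  (φ : A ⊗[B] N ≃ₗ[A] A ⊗[A'] M')

theorem mem_glue_iff (x : N × M') :
    x ∈ EtMil.glue B' φ ↔ φ ((1 : A) ⊗ₜ[B] x.1) = (1 : A) ⊗ₜ[A'] x.2 := Iff.rfl

theorem glue_spec (g : EtMil.glue B' φ) :
    φ ((1 : A) ⊗ₜ[B] (EtMil.glueFst B' φ g)) = (1 : A) ⊗ₜ[A'] (EtMil.glueSnd B' φ g) := g.2

theorem zero_mem_glue (e : M')
    (he : e ∈ (RingHom.ker (algebraMap A' A)) • (⊤ : Submodule A' M')) :
    ((0 : N), e) ∈ EtMil.glue B' φ := by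
  rw [mem_glue_iff]
  simp only [TensorProduct.tmul_zero, map_zero]
  exact (one_tmul_eq_zero_of_mem_smul_top e he).symm

include φ in
theorem glueFst_surjective (hsq : EtMil.IsFibreSquare B' B A' A) :
    Function.Surjective (EtMil.glueFst B' φ) := by
  intro n
  obtain ⟨m, hm⟩ := exists_one_tmul hsq.1 (φ ((1 : A) ⊗ₜ[B] n))
  exact ⟨⟨(n, m), hm⟩, rfl⟩

/-- The second projections generate `M'` over `A'`. -/
theorem span_range_glueSnd (hsq : EtMil.IsFibreSquare B' B A' A) :
    Submodule.span A' (Set.range (EtMil.glueSnd B' φ)) = ⊤ := by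
  set S := Submodule.span A' (Set.range (EtMil.glueSnd B' φ)) with hS
  have h1 : ∀ z : A ⊗[B] N, ∃ s ∈ S, φ z = (1 : A) ⊗ₜ[A'] s := by
    intro z
    induction z with
    | zero => exact ⟨0, S.zero_mem, by simp⟩
    | tmul a n =>
      obtain ⟨a', rfl⟩ := hsq.1 a
      obtain ⟨g, rfl⟩ := glueFst_surjective φ hsq n
      refine ⟨a' • EtMil.glueSnd B' φ g, S.smul_mem a' (Submodule.subset_span ⟨g, rfl⟩), ?_⟩
      have : (algebraMap A' A a' ⊗ₜ[B] (EtMil.glueFst B' φ g) : A ⊗[B] N) =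
          algebraMap A' A a' • ((1 : A) ⊗ₜ[B] (EtMil.glueFst B' φ g)) := by
        rw [TensorProduct.smul_tmul', smul_eq_mul, mul_one]
      rw [this, map_smul, glue_spec, TensorProduct.smul_tmul', smul_eq_mul, mul_one,
        Algebra.algebraMap_eq_smul_one, TensorProduct.smul_tmul]
    | add x y hx hy =>
      obtain ⟨a, ha, hxa⟩ := hx
      obtain ⟨b, hb, hyb⟩ := hy
      exact ⟨a + b, S.add_mem ha hb, by rw [map_add, hxa, hyb, TensorProduct.tmul_add]⟩
  rw [eq_top_iff]
  intro m' _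
  obtain ⟨s, hs, hs'⟩ := h1 (φ.symm ((1 : A) ⊗ₜ[A'] m'))
  rw [LinearEquiv.apply_symm_apply] at hs'
  have h2 : ((1 : A) ⊗ₜ[A'] (m' - s) : A ⊗[A'] M') = 0 := by
    rw [TensorProduct.tmul_sub, hs', sub_self]
  have h3 := Milnor.mem_smul_top_of_one_tmul_eq_zero hsq.1 _ h2
  have h4 : m' - s ∈ S :=
    Submodule.subset_span ⟨⟨((0 : N), m' - s), zero_mem_glue φ _ h3⟩, rfl⟩
  have : m' = (m' - s) + s := by abel
  rw [this]
  exact S.add_mem h4 hs

/-- The kernel of the first projection dies in `B ⊗[B'] glue`. -/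
theorem one_tmul_eq_zero_of_glueFst_eq_zero (hsq : EtMil.IsFibreSquare B' B A' A)
    (g : EtMil.glue B' φ) (hg : EtMil.glueFst B' φ g = 0) :
    ((1 : B) ⊗ₜ[B'] g : B ⊗[B'] (EtMil.glue B' φ)) = 0 := by
  let T : Submodule B' (EtMil.glue B' φ) :=
    LinearMap.ker (TensorProduct.mk B' B (EtMil.glue B' φ) 1)
  have h7a : ∀ j : B', algebraMap B' B j = 0 → ∀ g : EtMil.glue B' φ, j • g ∈ T := by
    intro j hj g
    show (TensorProduct.mk B' B (EtMil.glue B' φ) 1) (j • g) = 0
    rw [TensorProduct.mk_apply, ← TensorProduct.smul_tmul, Algebra.smul_def, hj, zero_mul,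
      TensorProduct.zero_tmul]
  have h7b : ∀ j : B', algebraMap B' B j = 0 → ∀ g : EtMil.glue B' φ,
      ((j • g : EtMil.glue B' φ) : N × M') = ((0 : N), algebraMap B' A' j • (g : N × M').2) := by
    intro j hj g
    ext
    · show j • (g : N × M').1 = 0
      rw [← IsScalarTower.algebraMap_smul B j, hj, zero_smul]
    · show j • (g : N × M').2 = algebraMap B' A' j • (g : N × M').2
      rw [IsScalarTower.algebraMap_smul]
  have h7c : ∀ m'' ∈ Submodule.span A' (Set.range (EtMil.glueSnd B' φ)),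
      ∀ i ∈ RingHom.ker (algebraMap A' A), ∃ t ∈ T,
        ((t : EtMil.glue B' φ) : N × M') = ((0 : N), i • m'') := by
    intro m'' hm''
    induction hm'' using Submodule.span_induction with
    | mem x hx =>
      obtain ⟨g, rfl⟩ := hx
      intro i hi
      have : algebraMap B A 0 = algebraMap A' A i := by
        rw [map_zero, (RingHom.mem_ker).mp hi]
      obtain ⟨j, ⟨hj1, hj2⟩, _⟩ := hsq.2 0 i this
      refine ⟨j • g, h7a j hj1 g, ?_⟩
      rw [h7b j hj1 g, hj2]
      rfl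
    | zero =>
      intro i _
      exact ⟨0, T.zero_mem, by rw [smul_zero]; rfl⟩
    | add x y _ _ hx hy =>
      intro i hi
      obtain ⟨t₁, ht₁, h₁⟩ := hx i hi
      obtain ⟨t₂, ht₂, h₂⟩ := hy i hi
      refine ⟨t₁ + t₂, T.add_mem ht₁ ht₂, ?_⟩
      rw [Submodule.coe_add, h₁, h₂, smul_add]
      simp
    | smul a x _ hx =>
      intro i hi
      obtain ⟨t, ht, h⟩ := hx (i * a) (Ideal.mul_mem_right a _ hi)
      exact ⟨t, ht, by rw [h, mul_smul]⟩
  have h7d : ∀ e ∈ (RingHom.ker (algebraMap A' A)) • (⊤ : Submodule A' M'),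
      ∃ t ∈ T, ((t : EtMil.glue B' φ) : N × M') = ((0 : N), e) := by
    intro e he
    refine Submodule.smul_induction_on he ?_ ?_
    · intro i hi m'' _
      exact h7c m'' (by rw [span_range_glueSnd φ hsq]; trivial) i hi
    · rintro x y ⟨t₁, ht₁, h₁⟩ ⟨t₂, ht₂, h₂⟩
      refine ⟨t₁ + t₂, T.add_mem ht₁ ht₂, ?_⟩
      rw [Submodule.coe_add, h₁, h₂]
      simp
  have hg1 : (g : N × M').1 = 0 := hg
  have hg2 : ((1 : A) ⊗ₜ[A'] (g : N × M').2 : A ⊗[A'] M') = 0 := by
    have := g.2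
    rw [mem_glue_iff, hg1] at this
    rw [← this]
    simp
  obtain ⟨t, ht, h⟩ := h7d _ (Milnor.mem_smul_top_of_one_tmul_eq_zero hsq.1 _ hg2)
  have htg : t = g := by
    apply Subtype.ext
    rw [h]
    ext
    · exact hg1.symm
    · rfl
  rw [← htg]
  exact ht

/-- `B ⊗[B'] glue → N` is bijective. -/
theorem liftBaseChange_glueFst_bijective (hsq : EtMil.IsFibreSquare B' B A' A) :
    Function.Bijective (LinearMap.liftBaseChange B (EtMil.glueFst B' φ)) := by
  constructor
  · rw [injective_iff_map_eq_zero]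
    intro z hz
    obtain ⟨g, rfl⟩ := exists_one_tmul (Milnor.surjective_left hsq) z
    rw [LinearMap.liftBaseChange_tmul, one_smul] at hz
    exact one_tmul_eq_zero_of_glueFst_eq_zero φ hsq g hz
  · intro n
    obtain ⟨g, rfl⟩ := glueFst_surjective φ hsq n
    exact ⟨(1 : B) ⊗ₜ[B'] g, by rw [LinearMap.liftBaseChange_tmul, one_smul]⟩

/-- The `B`-linear equivalence `B ⊗[B'] glue ≃ N`. -/
noncomputable def equivFst (hsq : EtMil.IsFibreSquare B' B A' A) :
    B ⊗[B'] (EtMil.glue B' φ) ≃ₗ[B] N :=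
  LinearEquiv.ofBijective _ (liftBaseChange_glueFst_bijective φ hsq)

theorem equivFst_tmul (hsq : EtMil.IsFibreSquare B' B A' A) (b : B) (g : EtMil.glue B' φ) :
    equivFst φ hsq (b ⊗ₜ[B'] g) = b • EtMil.glueFst B' φ g := rfl

/-- The additive equivalence `A ⊗[B'] glue ≃ A ⊗[A'] M'`. -/
noncomputable def equivA (hsq : EtMil.IsFibreSquare B' B A' A) :
    A ⊗[B'] (EtMil.glue B' φ) ≃+ A ⊗[A'] M' :=
  ((AlgebraTensorModule.cancelBaseChange B' B A A (EtMil.glue B' φ)).symm.toAddEquiv.trans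
    ((equivFst φ hsq).lTensor A).toAddEquiv).trans φ.toAddEquiv

theorem equivA_tmul (hsq : EtMil.IsFibreSquare B' B A' A) (a : A) (g : EtMil.glue B' φ) :
    equivA φ hsq (a ⊗ₜ[B'] g) = a ⊗ₜ[A'] (EtMil.glueSnd B' φ g) := by
  show φ (((equivFst φ hsq).lTensor A)
    ((AlgebraTensorModule.cancelBaseChange B' B A A (EtMil.glue B' φ)).symm (a ⊗ₜ[B'] g))) = _
  rw [AlgebraTensorModule.cancelBaseChange_symm_tmul, LinearEquiv.lTensor_tmul, equivFst_tmul,
    one_smul]
  have : (a ⊗ₜ[B] (EtMil.glueFst B' φ g) : A ⊗[B] N) =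
      a • ((1 : A) ⊗ₜ[B] (EtMil.glueFst B' φ g)) := by
    rw [TensorProduct.smul_tmul', smul_eq_mul, mul_one]
  rw [this, map_smul, glue_spec, TensorProduct.smul_tmul', smul_eq_mul, mul_one]

/-- `A' ⊗[B'] glue → M'` is bijective. -/
theorem liftBaseChange_glueSnd_bijective (hsq : EtMil.IsFibreSquare B' B A' A) :
    Function.Bijective (LinearMap.liftBaseChange A' (EtMil.glueSnd B' φ)) := by
  set Ψ := LinearMap.liftBaseChange A' (EtMil.glueSnd B' φ) with hΨ
  let q : A' →ₗ[B'] A := (IsScalarTower.toAlgHom B' A' A).toLinearMap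
  have hq : ∀ a', q a' = algebraMap A' A a' := fun _ => rfl
  have hqsurj : Function.Surjective q := hsq.1
  constructor
  · rw [injective_iff_map_eq_zero]
    intro w hw
    -- `E ((q ⊗ G) w) = 1 ⊗ Ψ w`
    have hE : ∀ w : A' ⊗[B'] (EtMil.glue B' φ),
        equivA φ hsq ((q.rTensor (EtMil.glue B' φ)) w) = (1 : A) ⊗ₜ[A'] (Ψ w) := by
      intro w
      induction w with
      | zero => simp
      | tmul a' g =>
        rw [LinearMap.rTensor_tmul, equivA_tmul, hΨ, LinearMap.liftBaseChange_tmul, hq,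
          Algebra.algebraMap_eq_smul_one, TensorProduct.smul_tmul]
      | add x y hx hy =>
        rw [map_add, map_add, hx, hy, map_add, TensorProduct.tmul_add]
    have h1 : (q.rTensor (EtMil.glue B' φ)) w = 0 := by
      apply (equivA φ hsq).injective
      rw [hE, hw, TensorProduct.tmul_zero, map_zero]
    have hex : Function.Exact ((LinearMap.ker q).subtype.rTensor (EtMil.glue B' φ))
        (q.rTensor (EtMil.glue B' φ)) :=
      rTensor_exact _ (LinearMap.exact_subtype_ker_map q) hqsurj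
    obtain ⟨t, rfl⟩ := (hex w).mp h1
    have h2 : ∀ t : (LinearMap.ker q) ⊗[B'] (EtMil.glue B' φ), ∃ z : EtMil.glue B' φ,
        EtMil.glueFst B' φ z = 0 ∧
          (LinearMap.ker q).subtype.rTensor (EtMil.glue B' φ) t = (1 : A') ⊗ₜ[B'] z := by
      intro t
      induction t with
      | zero => exact ⟨0, by simp, by simp⟩
      | tmul i g =>
        have hi : algebraMap A' A (i : A') = 0 := LinearMap.mem_ker.mp i.2
        have : algebraMap B A 0 = algebraMap A' A (i : A') := by rw [map_zero, hi]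
        obtain ⟨j, ⟨hj1, hj2⟩, _⟩ := hsq.2 0 (i : A') this
        refine ⟨j • g, ?_, ?_⟩
        · rw [map_smul, ← IsScalarTower.algebraMap_smul B j, hj1, zero_smul]
        · rw [LinearMap.rTensor_tmul, Submodule.subtype_apply, ← hj2,
            Algebra.algebraMap_eq_smul_one, TensorProduct.smul_tmul]
      | add x y hx hy =>
        obtain ⟨a, ha1, ha2⟩ := hx
        obtain ⟨b, hb1, hb2⟩ := hy
        refine ⟨a + b, by rw [map_add, ha1, hb1, add_zero], ?_⟩
        rw [map_add, ha2, hb2, TensorProduct.tmul_add]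
    obtain ⟨z, hz1, hz2⟩ := h2 t
    rw [hz2] at hw ⊢
    rw [hΨ, LinearMap.liftBaseChange_tmul, one_smul] at hw
    have hz : z = 0 := by
      apply Subtype.ext
      ext
      · exact hz1
      · exact hw
    rw [hz, TensorProduct.tmul_zero]
  · rw [← LinearMap.range_eq_top, eq_top_iff, ← span_range_glueSnd φ hsq, Submodule.span_le]
    rintro _ ⟨g, rfl⟩
    exact ⟨(1 : A') ⊗ₜ[B'] g, by rw [hΨ, LinearMap.liftBaseChange_tmul, one_smul]⟩

/-- The `A'`-linear equivalence `A' ⊗[B'] glue ≃ M'`. -/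
noncomputable def equivSnd (hsq : EtMil.IsFibreSquare B' B A' A) :
    A' ⊗[B'] (EtMil.glue B' φ) ≃ₗ[A'] M' :=
  LinearEquiv.ofBijective _ (liftBaseChange_glueSnd_bijective φ hsq)

end Groth.Agent.H76.Glue
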