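import Mathlib
import Groth.Agent.Lib.Helper20.GlueOpens

/-!
# Morphisms out of a scheme are determined near a point by a punctured neighbourhood and the
local scheme (helper76)
-/

set_option autoImplicit false
universe u
open CategoryTheory AlgebraicGeometry TopologicalSpace Opposite

namespace Groth.Agent.H76.GlueNearPoint

/-- Global sections equal on an open `U'` with `U' ∪ {z} = Z` and with equal image in the stalk at
`z` are equal. -/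
theorem appTop_ext {Z : Scheme.{u}} (z : Z) (U' : Z.Opens) (hU : ∀ y : Z, y = z ∨ y ∈ U')
    (t₁ t₂ : Γ(Z, ⊤)) (h1 : U'.ι.appTop t₁ = U'.ι.appTop t₂)
    (h2 : (Z.fromSpecStalk z).appTop t₁ = (Z.fromSpecStalk z).appTop t₂) : t₁ = t₂ := by
  have hg : Z.presheaf.germ ⊤ z trivial t₁ = Z.presheaf.germ ⊤ z trivial t₂ := by
    rw [Scheme.fromSpecStalk_appTop] at h2
    have i0 : IsIso (homOfLE le_top : (Z.fromSpecStalk z) ⁻¹ᵁ ⊤ ⟶ ⊤) :=
      ⟨⟨homOfLE (le_of_eq rfl), Subsingleton.elim _ _, Subsingleton.elim _ _⟩⟩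
    have i1 : IsIso (homOfLE le_top : (Z.fromSpecStalk z) ⁻¹ᵁ ⊤ ⟶ ⊤).op := inferInstance
    have i2 : IsIso ((Spec (Z.presheaf.stalk z)).presheaf.map
        (homOfLE le_top : (Z.fromSpecStalk z) ⁻¹ᵁ ⊤ ⟶ ⊤).op) := inferInstance
    let φ := (Scheme.ΓSpecIso (Z.presheaf.stalk z)).inv ≫
          (Spec (Z.presheaf.stalk z)).presheaf.map
            (homOfLE le_top : (Z.fromSpecStalk z) ⁻¹ᵁ ⊤ ⟶ ⊤).op
    have i3 : IsIso φ := inferInstance
    have hinj : Function.Injective φ := (ConcreteCategory.bijective_of_isIso φ).injective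
    apply hinj
    exact h2
  obtain ⟨N, hzN, i₁, i₂, hN⟩ := Z.presheaf.germ_eq (U := ⊤) (V := ⊤) z trivial trivial t₁ t₂ hg
  refine Z.sheaf.eq_of_locally_eq₂ (U₁ := U'.ι ''ᵁ ⊤) (U₂ := N) (homOfLE le_top) i₁ ?_ t₁ t₂ h1 ?_
  · intro y _
    rcases hU y with rfl | hy
    · exact Or.inr hzN
    · left; exact ⟨⟨y, hy⟩, trivial, rfl⟩
  · rw [Subsingleton.elim i₂ i₁] at hN; exact hN

/-- Morphisms to an affine scheme which agree on `U'` and on `Spec 𝒪_{Z,z}`, where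
`U' ∪ {z} = Z`, are equal. -/
theorem hom_ext_affine {Z Y₀ : Scheme.{u}} [IsAffine Y₀] (z : Z) (U' : Z.Opens)
    (hU : ∀ y : Z, y = z ∨ y ∈ U') (l₁ l₂ : Z ⟶ Y₀) (h1 : U'.ι ≫ l₁ = U'.ι ≫ l₂)
    (h2 : Z.fromSpecStalk z ≫ l₁ = Z.fromSpecStalk z ≫ l₂) : l₁ = l₂ := by
  apply ext_of_isAffine
  ext s
  apply appTop_ext z U' hU
  · have := congr($(h1).appTop s)
    simpa only [Scheme.Hom.comp_appTop, CommRingCat.comp_apply] using this
  · have := congr($(h2).appTop s)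
    simpa only [Scheme.Hom.comp_appTop, CommRingCat.comp_apply] using this

/-- Morphisms agreeing on two opens covering `X` are equal. -/
theorem hom_ext_of_cover {X Z : Scheme.{u}} (W U : X.Opens) (hWU : ∀ y : X, y ∈ W ∨ y ∈ U)
    (g₁ g₂ : X ⟶ Z) (hW : W.ι ≫ g₁ = W.ι ≫ g₂) (hU : U.ι ≫ g₁ = U.ι ≫ g₂) : g₁ = g₂ := by
  have hc : IsOpenCover (fun b : Bool => bif b then W else U) := by
    rw [IsOpenCover, eq_top_iff]
    intro y _
    rw [Opens.mem_iSup]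
    rcases hWU y with h | h
    · exact ⟨true, h⟩
    · exact ⟨false, h⟩
  apply (X.openCoverOfIsOpenCover _ hc).hom_ext
  rintro (_ | _)
  · exact hU
  · exact hW

/-- Gluing two morphisms defined on opens covering `X`. -/
theorem exists_glue_of_cover {X Y : Scheme.{u}} (W U : X.Opens) (hWU : ∀ y : X, y ∈ W ∨ y ∈ U)
    (f : (W : Scheme.{u}) ⟶ Y) (a : (U : Scheme.{u}) ⟶ Y)
    (hfa : X.homOfLE (inf_le_left : W ⊓ U ≤ W) ≫ f = X.homOfLE (inf_le_right : W ⊓ U ≤ U) ≫ a) :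
    ∃ g : X ⟶ Y, W.ι ≫ g = f ∧ U.ι ≫ g = a := by
  obtain ⟨W', hW, hU, k, hk1, hk2, -⟩ :=
    Groth.Agent.Lib.Helper20.GlueOpens.exists_glue₂ W U f a hfa
  obtain rfl : W' = ⊤ := by
    rw [eq_top_iff]
    intro y _
    rcases hWU y with h | h
    exacts [hW h, hU h]
  refine ⟨X.topIso.inv ≫ k, ?_, ?_⟩
  · rw [← hk1, ← Category.assoc]
    congr 1
    rw [← cancel_mono X.topIso.hom, Category.assoc, Iso.inv_hom_id, Category.comp_id,
      Scheme.topIso_hom, Scheme.homOfLE_ι]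
  · rw [← hk2, ← Category.assoc]
    congr 1
    rw [← cancel_mono X.topIso.hom, Category.assoc, Iso.inv_hom_id, Category.comp_id,
      Scheme.topIso_hom, Scheme.homOfLE_ι]

theorem fromSpecStalkOfMem_homOfLE {X : Scheme.{u}} {V W : X.Opens} (h : V ≤ W) (x : X)
    (hx : x ∈ V) :
    V.fromSpecStalkOfMem x hx ≫ X.homOfLE h = W.fromSpecStalkOfMem x (h hx) := by
  rw [← cancel_mono W.ι, Category.assoc, Scheme.homOfLE_ι, Scheme.Opens.fromSpecStalkOfMem_ι,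
    Scheme.Opens.fromSpecStalkOfMem_ι]

theorem fromSpecStalk_eq {X : Scheme.{u}} (V : X.Opens) (x : X) (hx : x ∈ V) :
    V.toScheme.fromSpecStalk ⟨x, hx⟩ =
      Spec.map (V.ι.stalkMap ⟨x, hx⟩) ≫ V.fromSpecStalkOfMem x hx := by
  simp only [Scheme.Opens.fromSpecStalkOfMem, Spec.map_inv]
  exact (IsIso.hom_inv_id_assoc _ _).symm

/-- Two morphisms `X ⟶ Y` which agree on an open `U` with `U ∪ {x} = X` and on `Spec 𝒪_{X,x}`
are equal. -/
theorem hom_ext_near_point {X Y : Scheme.{u}} (x : X) (U : X.Opens)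
    (hU : ∀ y : X, y = x ∨ y ∈ U) (g₁ g₂ : X ⟶ Y) (h1 : U.ι ≫ g₁ = U.ι ≫ g₂)
    (h2 : X.fromSpecStalk x ≫ g₁ = X.fromSpecStalk x ≫ g₂) : g₁ = g₂ := by
  have hx : g₁ x = g₂ x := by
    have := congr($h2 (IsLocalRing.closedPoint _))
    simpa using this
  obtain ⟨_, ⟨Y₀ : Y.Opens, hY₀, rfl⟩, hxY₀, -⟩ :=
    Y.isBasis_affineOpens.exists_subset_of_mem_open (Set.mem_univ (g₁ x)) isOpen_univ
  let W : X.Opens := g₁ ⁻¹ᵁ Y₀ ⊓ g₂ ⁻¹ᵁ Y₀
  have hxW : x ∈ W := ⟨hxY₀, by show g₂ x ∈ Y₀; rw [← hx]; exact hxY₀⟩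
  refine hom_ext_of_cover W U (fun y => (hU y).imp (fun h => by rw [h]; exact hxW) id) g₁ g₂ ?_ h1
  have hr₁ : Set.range (W.ι ≫ g₁) ⊆ Set.range Y₀.ι := by
    rw [Scheme.Opens.range_ι]; rintro _ ⟨w, rfl⟩; exact w.2.1
  have hr₂ : Set.range (W.ι ≫ g₂) ⊆ Set.range Y₀.ι := by
    rw [Scheme.Opens.range_ι]; rintro _ ⟨w, rfl⟩; exact w.2.2
  have : IsAffine Y₀ := hY₀
  let l₁ := IsOpenImmersion.lift Y₀.ι (W.ι ≫ g₁) hr₁
  let l₂ := IsOpenImmersion.lift Y₀.ι (W.ι ≫ g₂) hr₂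
  have hl₁ : l₁ ≫ Y₀.ι = W.ι ≫ g₁ := IsOpenImmersion.lift_fac _ _ _
  have hl₂ : l₂ ≫ Y₀.ι = W.ι ≫ g₂ := IsOpenImmersion.lift_fac _ _ _
  suffices l₁ = l₂ by rw [← hl₁, ← hl₂, this]
  apply hom_ext_affine (⟨x, hxW⟩ : W) (W.ι ⁻¹ᵁ U)
  · rintro ⟨y, hy⟩
    rcases hU y with rfl | h
    · left; rfl
    · right; exact h
  · rw [← cancel_mono Y₀.ι, Category.assoc, Category.assoc, hl₁, hl₂, ← morphismRestrict_ι_assoc,
      ← morphismRestrict_ι_assoc, h1]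
  · rw [← cancel_mono Y₀.ι, Category.assoc, Category.assoc, hl₁, hl₂,
      ← Scheme.SpecMap_stalkMap_fromSpecStalk_assoc, ← Scheme.SpecMap_stalkMap_fromSpecStalk_assoc]
    exact congrArg _ h2

end Groth.Agent.H76.GlueNearPoint
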