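import Groth.Agent.H76.SquareFlat

/-!
# Gluing flatness over `R/Iₐ` and `R/I_b` to `R/(Iₐ ∩ I_b)` (helper76)
-/

set_option autoImplicit false
universe u v

open TensorProduct

namespace Groth.Agent.H76.IdealGlue

open Groth.Agent.H76.FlatGlue Groth.Agent.H76.NilFlat Groth.Agent.H76.PowFlat
  Groth.Agent.H76.SquareFlat

/-- Absolute form: ideals `𝔞, 𝔟` with `𝔞 𝔟 = 0`, `N/𝔞N`, `N/𝔟N` flat, `𝔞 ⊗ N → N` and `𝔟 ⊗ N → N`
injective.  Then `N` is flat. -/
theorem flat_of_two_ideals {A : Type u} [CommRing A] (𝔞 𝔟 : Ideal A) (N : Type v) [AddCommGroup N]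
    [Module A N] [Module.Flat (A ⧸ 𝔞) ((A ⧸ 𝔞) ⊗[A] N)] [Module.Flat (A ⧸ 𝔟) ((A ⧸ 𝔟) ⊗[A] N)]
    (ha : Function.Injective (LinearMap.rTensor N 𝔞.subtype))
    (hb : Function.Injective (LinearMap.rTensor N 𝔟.subtype)) (hab : 𝔞 * 𝔟 = ⊥) :
    Module.Flat A N := by
  rw [Module.Flat.iff_rTensor_injective']
  intro 𝔠
  have hle : 𝔠 ≤ 𝔠 ⊔ 𝔞 := le_sup_left
  have h1 : Function.Injective ((Submodule.inclusion hle).rTensor N) := by
    apply tinj_of_smul_mem_range 𝔟 N hb _ (Submodule.inclusion_injective hle)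
    intro i hi q
    obtain ⟨c, hc, a, ha', hq⟩ := Submodule.mem_sup.mp q.2
    refine ⟨⟨i * c, 𝔠.mul_mem_left i hc⟩, ?_⟩
    apply Subtype.ext
    show i * c = i • (q : A)
    rw [← hq, smul_eq_mul, mul_add]
    have h0 : i * a = 0 := by
      have : a * i ∈ 𝔞 * 𝔟 := Ideal.mul_mem_mul ha' hi
      rw [hab] at this
      rw [mul_comm]
      exact (Submodule.mem_bot A).mp this
    rw [h0, add_zero]
  have h2 : Function.Injective ((𝔠 ⊔ 𝔞).subtype.rTensor N) := by
    apply tinj_of_smul_le 𝔞 N ha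
    intro i hi q
    exact Ideal.mem_sup_right (𝔞.mul_mem_right q hi)
  have h3 : 𝔠.subtype = (𝔠 ⊔ 𝔞).subtype ∘ₗ Submodule.inclusion hle := LinearMap.ext fun _ => rfl
  rw [h3]
  exact rTensor_injective_comp N _ _ h1 h2

section Relative

variable {R : Type u} [CommRing R] (M : Type u) [AddCommGroup M] [Module R M]

/-- `Iₐ(R/I) ⊗_R M → (R/I) ⊗_R M` is injective for `I = Iₐ ⊓ I_b`, if `M/I_b M` is flat. -/
theorem tinj_map_mk (Ia Ib : Ideal R) [Module.Flat (R ⧸ Ib) ((R ⧸ Ib) ⊗[R] M)] :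
    Function.Injective
      ((((Ia.map (Ideal.Quotient.mk (Ia ⊓ Ib))).subtype).restrictScalars R).rTensor M) := by
  set I : Ideal R := Ia ⊓ Ib with hI
  let ψ : (R ⧸ I) →ₗ[R] (R ⧸ Ib) := Submodule.liftQ I (Ib.mkQ) (by
    intro r hr
    rw [LinearMap.mem_ker, Submodule.mkQ_apply]
    exact (Submodule.Quotient.mk_eq_zero Ib).mpr hr.2)
  have hψmk : ∀ r : R, ψ (Ideal.Quotient.mk I r) = Ideal.Quotient.mk Ib r := fun r => rfl
  apply rTensor_injective_of_comp M _ ψ
  apply tinj_of_killed Ib M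
  · intro x y hxy
    apply Subtype.ext
    have hx := x.2
    have hy := y.2
    obtain ⟨i, hi, hix⟩ := (Ideal.mem_map_iff_of_surjective _ Ideal.Quotient.mk_surjective).mp hx
    obtain ⟨j, hj, hjy⟩ := (Ideal.mem_map_iff_of_surjective _ Ideal.Quotient.mk_surjective).mp hy
    have h1 : ψ (x : R ⧸ I) = ψ (y : R ⧸ I) := hxy
    rw [← hix, ← hjy, hψmk, hψmk, Ideal.Quotient.eq] at h1
    rw [← hix, ← hjy, Ideal.Quotient.eq]
    exact ⟨Ia.sub_mem hi hj, h1⟩
  · intro i hi y
    obtain ⟨r, rfl⟩ := Ideal.Quotient.mk_surjective y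
    rw [Algebra.smul_def]
    show Ideal.Quotient.mk Ib i * Ideal.Quotient.mk Ib r = 0
    rw [← map_mul, Ideal.Quotient.eq_zero_iff_mem]
    exact Ib.mul_mem_right r hi

/-- Relative two-ideal gluing. -/
theorem flat_quotient_inf (Ia Ib : Ideal R) [Module.Flat (R ⧸ Ia) ((R ⧸ Ia) ⊗[R] M)]
    [Module.Flat (R ⧸ Ib) ((R ⧸ Ib) ⊗[R] M)] :
    Module.Flat (R ⧸ (Ia ⊓ Ib)) ((R ⧸ (Ia ⊓ Ib)) ⊗[R] M) := by
  haveI := flat_residue Ia M (Ia ⊓ Ib)
  haveI := flat_residue Ib M (Ia ⊓ Ib)
  apply flat_of_two_ideals (Ia.map (Ideal.Quotient.mk (Ia ⊓ Ib)))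
    (Ib.map (Ideal.Quotient.mk (Ia ⊓ Ib)))
  · apply rTensor_baseChange_injective (R := R)
    exact tinj_map_mk M Ia Ib
  · apply rTensor_baseChange_injective (R := R)
    have := tinj_map_mk M Ib Ia
    rwa [inf_comm] at this
  · rw [← Ideal.map_mul, Ideal.map_eq_bot_iff_le_ker, Ideal.mk_ker]
    exact Ideal.mul_le_inf

end Relative

section Finite

variable {R : Type u} [CommRing R] (M : Type u) [AddCommGroup M] [Module R M]

theorem flat_of_subsingleton_ring {S : Type*} [CommRing S] [Subsingleton S] (N : Type*)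
    [AddCommGroup N] [Module S N] : Module.Flat S N := by
  rw [Module.Flat.iff_rTensor_injective']
  intro I
  haveI : Subsingleton (I ⊗[S] N) := Module.subsingleton S _
  exact Function.injective_of_subsingleton _

theorem flat_quotient_finset_inf {ι : Type*} (s : Finset ι) (K : ι → Ideal R)
    (h : ∀ i ∈ s, Module.Flat (R ⧸ K i) ((R ⧸ K i) ⊗[R] M)) :
    Module.Flat (R ⧸ s.inf K) ((R ⧸ s.inf K) ⊗[R] M) := by
  classical
  induction s using Finset.induction_on with
  | empty =>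
    rw [Finset.inf_empty]
    haveI : Subsingleton (R ⧸ (⊤ : Ideal R)) := Ideal.Quotient.subsingleton_iff.mpr rfl
    exact flat_of_subsingleton_ring _
  | insert a s ha ih =>
    rw [Finset.inf_insert]
    haveI := h a (Finset.mem_insert_self a s)
    haveI := ih (fun i hi => h i (Finset.mem_insert_of_mem hi))
    exact flat_quotient_inf M (K a) (s.inf K)

end Finite

section Ker

variable {R R' : Type u} [CommRing R] [CommRing R'] [Algebra R R'] (I : Ideal R)
  (M : Type u) [AddCommGroup M] [Module R M]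

/-- Version of Stacks 0520 without injectivity: `M/KM` is flat over `R/K` for `K = ker(R → R')`. -/
theorem flat_quotient_ker_of_nilpotent (hI : IsNilpotent I)
    [Module.Flat (R ⧸ I) ((R ⧸ I) ⊗[R] M)] [Module.Flat R' (R' ⊗[R] M)] :
    Module.Flat (R ⧸ RingHom.ker (algebraMap R R'))
      ((R ⧸ RingHom.ker (algebraMap R R')) ⊗[R] M) := by
  let Iseq : ℕ → Ideal R := iseq R' I
  have hflat : ∀ n, Module.Flat (R ⧸ Iseq n) ((R ⧸ Iseq n) ⊗[R] M) := by
    intro n
    induction n with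
    | zero =>
      show Module.Flat (R ⧸ I) ((R ⧸ I) ⊗[R] M)
      infer_instance
    | succ n ih =>
      haveI := ih
      exact flat_quotient_comap (Iseq n) M ((Iseq n ^ 2).map (algebraMap R R'))
        (by rw [Ideal.map_pow])
  have hle : ∀ n, (Iseq n).map (algebraMap R R') ≤ (I.map (algebraMap R R')) ^ (2 ^ n) := by
    intro n
    induction n with
    | zero =>
      show I.map (algebraMap R R') ≤ _
      rw [pow_zero, pow_one]
    | succ n ih =>
      have h1 : (Iseq (n + 1)).map (algebraMap R R') ≤ (Iseq n ^ 2).map (algebraMap R R') :=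
        Ideal.map_comap_le
      refine le_trans h1 ?_
      rw [Ideal.map_pow]
      have h2 : (I.map (algebraMap R R')) ^ 2 ^ (n + 1) =
          ((I.map (algebraMap R R')) ^ 2 ^ n) ^ 2 := by
        rw [← pow_mul, pow_succ]
      rw [h2]
      exact Ideal.pow_right_mono ih 2
  obtain ⟨N, hN⟩ := hI
  have hker : Iseq (N + 1) = RingHom.ker (algebraMap R R') := by
    apply le_antisymm
    · intro x hx
      have h1 : algebraMap R R' x ∈ (I.map (algebraMap R R')) ^ (2 ^ (N + 1)) :=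
        hle (N + 1) (Ideal.mem_map_of_mem _ hx)
      have h2 : (I.map (algebraMap R R')) ^ (2 ^ (N + 1)) ≤ (I.map (algebraMap R R')) ^ N :=
        Ideal.pow_le_pow_right (le_trans (Nat.le_succ N) (Nat.lt_two_pow_self).le)
      have h3 : (I.map (algebraMap R R')) ^ N = ⊥ := by
        rw [← Ideal.map_pow, hN]
        exact Ideal.map_bot
      have h4 := h2 h1
      rw [h3] at h4
      exact (RingHom.mem_ker).mpr ((Submodule.mem_bot R').mp h4)
    · intro x hx
      show x ∈ ((Iseq N ^ 2).map (algebraMap R R')).comap (algebraMap R R')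
      rw [Ideal.mem_comap, (RingHom.mem_ker).mp hx]
      exact Ideal.zero_mem _
  rw [← hker]
  exact hflat (N + 1)

end Ker

end Groth.Agent.H76.IdealGlue
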