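import Mathlib
import Groth.Agent.H76.LocalCritPow

/-!
# Flatness over infinitesimal neighbourhoods, scheme side (helper76)
-/

set_option autoImplicit false
universe u

open CategoryTheory Limits AlgebraicGeometry TensorProduct

namespace Groth.Agent.H76.InfFlat

/-- If the base change `X ×_S Z ⟶ Z` of `f` along an affine morphism `ι : Z ⟶ S` is flat, then for
affine opens `U ⊆ f⁻¹ V` the module `Γ(Z, ι⁻¹V) ⊗_{Γ(S,V)} Γ(X,U)` is flat over `Γ(Z, ι⁻¹V)`. -/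
theorem flat_tensor_of_flat_snd {X S Z : Scheme.{u}} (f : X ⟶ S) (ι : Z ⟶ S) [IsAffineHom ι]
    [Flat (pullback.snd f ι)] (V : S.Opens) (hV : IsAffineOpen V) (U : X.Opens)
    (hU : IsAffineOpen U) (hUV : U ≤ f ⁻¹ᵁ V) :
    letI := (f.appLE V U hUV).hom.toAlgebra
    letI := (ι.appLE V (ι ⁻¹ᵁ V) le_rfl).hom.toAlgebra
    Module.Flat Γ(Z, ι ⁻¹ᵁ V) (Γ(Z, ι ⁻¹ᵁ V) ⊗[Γ(S, V)] Γ(X, U)) := by
  have H := IsPullback.of_hasPullback f ι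
  have hUT : IsAffineOpen (ι ⁻¹ᵁ V) := hV.preimage ι
  set UY : (pullback f ι).Opens := pullback.fst f ι ⁻¹ᵁ U ⊓ pullback.snd f ι ⁻¹ᵁ (ι ⁻¹ᵁ V) with hUY
  have hiso := isIso_pushoutSection_of_isAffineOpen H (le_refl (ι ⁻¹ᵁ V)) hUV hUY hV hUT hU
  have hpo := (isIso_pushoutSection_iff H (le_refl (ι ⁻¹ᵁ V)) hUV hUY).mp hiso
  have hUYaff : IsAffineOpen UY := by
    have : IsAffine _ := hV
    have : IsAffine _ := hUT
    have : IsAffine _ := hU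
    exact .of_isIso (Scheme.Hom.isPullback_resLE H (le_refl (ι ⁻¹ᵁ V)) hUV hUY).isoPullback.hom
  have hle : UY ≤ pullback.snd f ι ⁻¹ᵁ (ι ⁻¹ᵁ V) := by rw [hUY]; exact inf_le_right
  have hflat : ((pullback.snd f ι).appLE (ι ⁻¹ᵁ V) UY hle).hom.Flat :=
    HasRingHomProperty.appLE (P := @Flat) (pullback.snd f ι) inferInstance ⟨_, hUT⟩ ⟨_, hUYaff⟩ hle
  letI algAC : Algebra Γ(S, V) Γ(X, U) := (f.appLE V U hUV).hom.toAlgebra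
  letI algAQ : Algebra Γ(S, V) Γ(Z, ι ⁻¹ᵁ V) := (ι.appLE V (ι ⁻¹ᵁ V) le_rfl).hom.toAlgebra
  have hle' : UY ≤ pullback.fst f ι ⁻¹ᵁ U := by rw [hUY]; exact inf_le_left
  letI algCD : Algebra Γ(X, U) Γ(pullback f ι, UY) :=
    ((pullback.fst f ι).appLE U UY hle').hom.toAlgebra
  letI algQD : Algebra Γ(Z, ι ⁻¹ᵁ V) Γ(pullback f ι, UY) :=
    ((pullback.snd f ι).appLE (ι ⁻¹ᵁ V) UY hle).hom.toAlgebra
  letI algAD : Algebra Γ(S, V) Γ(pullback f ι, UY) :=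
    ((algebraMap Γ(X, U) Γ(pullback f ι, UY)).comp (algebraMap Γ(S, V) Γ(X, U))).toAlgebra
  haveI : IsScalarTower Γ(S, V) Γ(X, U) Γ(pullback f ι, UY) := .of_algebraMap_eq (fun _ => rfl)
  haveI : IsScalarTower Γ(S, V) Γ(Z, ι ⁻¹ᵁ V) Γ(pullback f ι, UY) :=
    .of_algebraMap_eq (fun a => congr($(hpo.w).hom a))
  have hAP : Algebra.IsPushout Γ(S, V) Γ(X, U) Γ(Z, ι ⁻¹ᵁ V) Γ(pullback f ι, UY) :=
    CommRingCat.isPushout_iff_isPushout.mp hpo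
  have hAP' : Algebra.IsPushout Γ(S, V) Γ(Z, ι ⁻¹ᵁ V) Γ(X, U) Γ(pullback f ι, UY) := hAP.symm
  have hfl : Module.Flat Γ(Z, ι ⁻¹ᵁ V) Γ(pullback f ι, UY) := hflat
  exact Module.Flat.of_linearEquiv
    (Algebra.IsPushout.equiv Γ(S, V) Γ(Z, ι ⁻¹ᵁ V) Γ(X, U) Γ(pullback f ι, UY)).toLinearEquiv

end Groth.Agent.H76.InfFlat
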