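import Groth.Agent.H76.SquareFlat
import Groth.Agent.H76.IdealGlue
import Mathlib

/-!
# Flatness over an Artinian local base tested on a jointly injective family of local rings,
with flatness only required at the points over the closed point (EGA IV 11.4-style; helper76)

The ring-level core for S4856.
-/

set_option autoImplicit false
universe u

open TensorProduct

namespace Groth.Agent.H76.LocalFamilyFlat

open Groth.Agent.H76.FlatGlue Groth.Agent.H76.NilFlat Groth.Agent.H76.PowFlat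
  Groth.Agent.H76.SquareFlat

section Denominators

variable {S B' : Type*} [CommRing S] [CommRing B'] [Algebra S B']
  {M' : Type*} [AddCommGroup M'] [Module B' M'] [Module S M'] [IsScalarTower S B' M']

/-- `I • ⊤` (an `S`-submodule of a `B'`-module) is stable under `B'`. -/
theorem smul_mem_smul_top (I : Ideal S) (b : B') {m : M'}
    (hm : m ∈ I • (⊤ : Submodule S M')) : b • m ∈ I • (⊤ : Submodule S M') := by
  refine Submodule.smul_induction_on hm ?_ ?_
  · intro i hi n _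
    rw [smul_comm]
    exact Submodule.smul_mem_smul hi Submodule.mem_top
  · intro x y hx hy
    rw [smul_add]
    exact add_mem hx hy

/-- Clearing denominators: if `y/t ∈ I • M'_T` then `s • y ∈ I • M'` for some `s ∈ T`. -/
theorem exists_smul_mem_of_mk_mem (T : Submonoid B') (I : Ideal S) (y : M') (t : T)
    (h : LocalizedModule.mk y t ∈ I • (⊤ : Submodule S (LocalizedModule T M'))) :
    ∃ s ∈ T, s • y ∈ I • (⊤ : Submodule S M') := by
  have key : ∀ z ∈ I • (⊤ : Submodule S (LocalizedModule T M')),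
      ∃ m ∈ I • (⊤ : Submodule S M'), ∃ σ : T, z = LocalizedModule.mk m σ := by
    intro z hz
    refine Submodule.smul_induction_on hz ?_ ?_
    · intro i hi n _
      induction n using LocalizedModule.induction_on with
      | h m₀ σ =>
        refine ⟨i • m₀, Submodule.smul_mem_smul hi Submodule.mem_top, σ, ?_⟩
        rw [LocalizedModule.smul'_mk]
    · rintro x₁ x₂ ⟨m₁, hm₁, σ₁, rfl⟩ ⟨m₂, hm₂, σ₂, rfl⟩
      refine ⟨σ₂ • m₁ + σ₁ • m₂, add_mem ?_ ?_, σ₁ * σ₂, ?_⟩
      · exact smul_mem_smul_top I (σ₂ : B') hm₁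
      · exact smul_mem_smul_top I (σ₁ : B') hm₂
      · rw [LocalizedModule.mk_add_mk]
  obtain ⟨m, hm, σ, hσ⟩ := key _ h
  rw [LocalizedModule.mk_eq] at hσ
  obtain ⟨c, hc⟩ := hσ
  refine ⟨(c * σ : T), (c * σ).2, ?_⟩
  have : ((c * σ : T) : B') • y = (c : B') • (t : B') • m := by
    rw [Submonoid.coe_mul, mul_smul]
    exact hc
  rw [this]
  exact smul_mem_smul_top I _ (smul_mem_smul_top I _ hm)

end Denominators

section Colon

variable {S : Type*} [CommRing S] {N : Type*} [AddCommGroup N] [Module S N]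

theorem one_tmul_eq_zero_iff (I : Ideal S) (x : N) :
    (1 : S ⧸ I) ⊗ₜ[S] x = 0 ↔ x ∈ I • (⊤ : Submodule S N) := by
  rw [← (quotTensorEquivQuotSMul N I).map_eq_zero_iff, quotTensorEquivQuotSMul_mk_one_tmul,
    Submodule.Quotient.mk_eq_zero]

/-- For a flat module `N`: `w ν ∈ 𝔞' N` implies `ν ∈ (𝔞' : w) N`. -/
theorem mem_smul_top_of_smul_mem_of_flat [Module.Flat S N] (𝔞' I : Ideal S) (w : S)
    (hI : ∀ s, s * w ∈ 𝔞' → s ∈ I) (ν : N) (h : w • ν ∈ 𝔞' • (⊤ : Submodule S N)) :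
    ν ∈ I • (⊤ : Submodule S N) := by
  let φ : S →ₗ[S] S ⧸ 𝔞' := (Submodule.mkQ 𝔞') ∘ₗ (LinearMap.toSpanSingleton S S w)
  have hφ : ∀ s, φ s = Ideal.Quotient.mk 𝔞' (s * w) := fun s => rfl
  let J : Ideal S := LinearMap.ker φ
  have hJ : J ≤ I := fun s hs => hI s (by
    have : φ s = 0 := hs
    rw [hφ, Ideal.Quotient.eq_zero_iff_mem] at this
    exact this)
  let ψ : S ⧸ J →ₗ[S] S ⧸ 𝔞' := J.liftQ φ le_rfl
  have hψ : Function.Injective ψ := by
    rw [← LinearMap.ker_eq_bot]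
    exact Submodule.ker_liftQ_eq_bot _ _ _ le_rfl
  have h1 : Function.Injective (ψ.rTensor N) :=
    Module.Flat.rTensor_preserves_injective_linearMap ψ hψ
  have h2 : (1 : S ⧸ J) ⊗ₜ[S] ν = 0 := by
    apply h1
    rw [map_zero, LinearMap.rTensor_tmul]
    have : ψ 1 = w • (1 : S ⧸ 𝔞') := by
      show φ 1 = _
      rw [hφ, one_mul, Algebra.smul_def, mul_one]
      rfl
    rw [this, TensorProduct.smul_tmul, (one_tmul_eq_zero_iff 𝔞' _).mpr h]
  exact Submodule.smul_mono_left hJ ((one_tmul_eq_zero_iff J ν).mp h2)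

end Colon

section Avoid

variable {S B B' : Type*} [CommRing S] [IsLocalRing S] [CommRing B] [CommRing B'] [Algebra S B']
  [Algebra B B'] {M' : Type*} [AddCommGroup M'] [Module B' M']

/-- If `W ⊆ M'` contains `𝔪_S M'` and `𝔮^r M'` and for every prime `q'` of `B'` over `(𝔮, 𝔪_S)`
some `s ∉ q'` has `s y ∈ W`, then `σ y ∈ W` for some `σ ∈ B ∖ 𝔮`. -/
theorem exists_smul_mem_of_forall_prime (q : Ideal B) [hq : q.IsPrime] (W : Submodule B' M')
    (y : M') (r : ℕ)
    (hW1 : ∀ μ ∈ IsLocalRing.maximalIdeal S, ∀ m : M', (algebraMap S B' μ) • m ∈ W)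
    (hW2 : ∀ ν ∈ q ^ r, ∀ m : M', (algebraMap B B' ν) • m ∈ W)
    (hloc : ∀ (q' : Ideal B') [q'.IsPrime], q'.comap (algebraMap B B') = q →
      q'.comap (algebraMap S B') = IsLocalRing.maximalIdeal S → ∃ s ∉ q', s • y ∈ W) :
    ∃ σ ∉ q, (algebraMap B B' σ) • y ∈ W := by
  by_contra hcon
  push_neg at hcon
  have h1q : (1 : B) ∉ q := (Ideal.ne_top_iff_one q).mp hq.ne_top
  let 𝔄 : Ideal B' :=
    { carrier := {b | ∃ σ ∉ q, (algebraMap B B' σ * b) • y ∈ W}
      zero_mem' := ⟨1, h1q, by simp⟩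
      add_mem' := by
        rintro b₁ b₂ ⟨σ₁, h₁, hb₁⟩ ⟨σ₂, h₂, hb₂⟩
        refine ⟨σ₁ * σ₂, ?_, ?_⟩
        · exact fun h => (hq.mem_or_mem h).elim h₁ h₂
        · have : (algebraMap B B' (σ₁ * σ₂) * (b₁ + b₂)) • y =
              algebraMap B B' σ₂ • ((algebraMap B B' σ₁ * b₁) • y) +
              algebraMap B B' σ₁ • ((algebraMap B B' σ₂ * b₂) • y) := by
            simp only [map_mul, ← mul_smul, ← add_smul]
            congr 1
            ring
          rw [this]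
          exact add_mem (W.smul_mem _ hb₁) (W.smul_mem _ hb₂)
      smul_mem' := by
        rintro c b ⟨σ, h, hb⟩
        refine ⟨σ, h, ?_⟩
        have : (algebraMap B B' σ * (c • b)) • y = c • ((algebraMap B B' σ * b) • y) := by
          rw [smul_eq_mul, ← mul_smul]
          congr 1
          ring
        rw [this]
        exact W.smul_mem _ hb }
  have hmem𝔄 : ∀ b : B', b ∈ 𝔄 ↔ ∃ σ ∉ q, (algebraMap B B' σ * b) • y ∈ W := fun b => Iff.rfl
  have hdisj : Disjoint (𝔄 : Set B') (q.primeCompl.map (algebraMap B B') : Submonoid B') := by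
    rw [Set.disjoint_left]
    rintro _ hb ⟨σ₀, hσ₀, rfl⟩
    obtain ⟨σ, hσ, hb⟩ := (hmem𝔄 _).mp hb
    apply hcon (σ * σ₀) (fun h => (hq.mem_or_mem h).elim hσ hσ₀)
    rw [map_mul]
    exact hb
  obtain ⟨p, hp, hle, hpd⟩ := Ideal.exists_le_prime_disjoint 𝔄 _ hdisj
  have hmem : ∀ b : B', b • y ∈ W → b ∈ 𝔄 := fun b hb =>
    (hmem𝔄 b).mpr ⟨1, h1q, by simpa using hb⟩
  have h1 : p.comap (algebraMap B B') = q := by
    apply le_antisymm
    · intro b hb
      by_contra hbq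
      exact Set.disjoint_left.mp hpd hb ⟨b, hbq, rfl⟩
    · intro b hb
      have h3 : algebraMap B B' (b ^ r) ∈ 𝔄 :=
        hmem _ (hW2 (b ^ r) (Ideal.pow_mem_pow hb r) y)
      have h4 : (algebraMap B B' b) ^ r ∈ p := by
        rw [← map_pow]
        exact hle h3
      exact hp.mem_of_pow_mem r h4
  have h2 : p.comap (algebraMap S B') = IsLocalRing.maximalIdeal S := by
    haveI := hp
    have hne : p.comap (algebraMap S B') ≠ ⊤ := Ideal.IsPrime.ne_top inferInstance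
    refine ((IsLocalRing.maximalIdeal.isMaximal S).eq_of_le hne ?_).symm
    intro μ hμ
    exact hle (hmem _ (hW1 μ hμ y))
  haveI := hp
  obtain ⟨s, hs, hsy⟩ := hloc p h1 h2
  exact hs (hle (hmem s hsy))

end Avoid

section Krull

variable {R : Type*} [CommRing R] {A : Type*} [CommRing A] [Algebra R A]
  {P : Type*} [AddCommGroup P] [Module R P] [Module A P] [IsScalarTower R A P]
  {X : Type*} [AddCommGroup X] [Module R X]

theorem finite_tensor_left [Module.Finite A P] [Module.Finite R X] :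
    Module.Finite A (P ⊗[R] X) := by
  classical
  obtain ⟨n, f, hf⟩ := Module.Finite.exists_fin' R X
  let g : P ⊗[R] (Fin n → R) →ₗ[A] P ⊗[R] X := TensorProduct.AlgebraTensorModule.lTensor A P f
  have hg : Function.Surjective g := LinearMap.lTensor_surjective P hf
  haveI : Module.Finite A (P ⊗[R] (Fin n → R)) :=
    Module.Finite.equiv (TensorProduct.piScalarRight R A P (Fin n)).symm
  exact Module.Finite.of_surjective g hg

theorem tmul_mem_smul_top (I : Ideal A) {p : P} (hp : p ∈ I • (⊤ : Submodule A P)) (x : X) :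
    p ⊗ₜ[R] x ∈ I • (⊤ : Submodule A (P ⊗[R] X)) := by
  refine Submodule.smul_induction_on hp ?_ ?_
  · intro i hi n _
    rw [← TensorProduct.smul_tmul']
    exact Submodule.smul_mem_smul hi Submodule.mem_top
  · intro a b ha hb
    rw [TensorProduct.add_tmul]
    exact add_mem ha hb

/-- Krull's intersection theorem on `P ⊗[R] X`: an element dying in all `(P/𝔫^r P) ⊗ X` is zero. -/
theorem krull_tensor [IsNoetherianRing A] [IsLocalRing A] [Module.Finite A P] [Module.Finite R X]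
    (z : P ⊗[R] X)
    (h : ∀ r : ℕ, (LinearMap.rTensor X
      (((IsLocalRing.maximalIdeal A ^ r) • (⊤ : Submodule A P)).mkQ.restrictScalars R)) z = 0) :
    z = 0 := by
  haveI := finite_tensor_left (R := R) (A := A) (P := P) (X := X)
  have hK := Ideal.iInf_pow_smul_eq_bot_of_isLocalRing (M := P ⊗[R] X)
    (IsLocalRing.maximalIdeal A) (Ideal.IsPrime.ne_top inferInstance)
  rw [← Submodule.mem_bot A, ← hK, Submodule.mem_iInf]
  intro r
  set N := (IsLocalRing.maximalIdeal A ^ r) • (⊤ : Submodule A P) with hN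
  have hex : Function.Exact ((N.subtype.restrictScalars R).rTensor X)
      ((N.mkQ.restrictScalars R).rTensor X) :=
    rTensor_exact X (f := N.subtype.restrictScalars R) (g := N.mkQ.restrictScalars R)
      (LinearMap.exact_subtype_mkQ N) (Submodule.mkQ_surjective N)
  have key : ∀ v : N ⊗[R] X, ((N.subtype.restrictScalars R).rTensor X) v ∈
      (IsLocalRing.maximalIdeal A ^ r) • (⊤ : Submodule A (P ⊗[R] X)) := by
    intro v
    induction v with
    | zero => simp
    | tmul p x => exact tmul_mem_smul_top _ p.2 x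
    | add a b ha hb =>
      rw [map_add]
      exact add_mem ha hb
  obtain ⟨v, rfl⟩ := (hex z).mp (h r)
  exact key v

end Krull

section Maps

variable {R : Type u} [CommRing R] {S : Type u} [CommRing S] [IsLocalRing S] [Algebra R S]
  (𝔞' : Ideal S) (w : S)

/-- `J = 𝔞' + 𝔪_S w` -/
def idealJ : Ideal S := 𝔞' ⊔ IsLocalRing.maximalIdeal S * Ideal.span {w}

/-- the ideal `(𝔞' + wS)/J` of `S/J` -/
def idealY₀ : Ideal (S ⧸ idealJ 𝔞' w) :=
  (𝔞' ⊔ Ideal.span {w}).map (Ideal.Quotient.mk (idealJ 𝔞' w))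

variable (R) in
/-- the contraction of `𝔞'` -/
abbrev ideal𝔞 : Ideal R := 𝔞'.comap (algebraMap R S)

variable (R) in
/-- the contraction of `𝔞' + wS` -/
abbrev ideal𝔟 : Ideal R := (𝔞' ⊔ Ideal.span {w}).comap (algebraMap R S)

variable (R) in
/-- `𝔟/𝔞` as an ideal of `R/𝔞` -/
abbrev idealX : Ideal (R ⧸ ideal𝔞 R 𝔞') := (ideal𝔟 R 𝔞' w).map (Ideal.Quotient.mk (ideal𝔞 R 𝔞'))

theorem mul_w_mem (s : S) : s * w ∈ 𝔞' ⊔ Ideal.span {w} :=
  Ideal.mem_sup_right (Ideal.mem_span_singleton'.mpr ⟨s, rfl⟩)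

theorem mul_w_mem_J {μ : S} (hμ : μ ∈ IsLocalRing.maximalIdeal S) (s : S) :
    μ * s * w ∈ idealJ 𝔞' w := by
  apply Ideal.mem_sup_right
  rw [mul_assoc]
  exact Ideal.mul_mem_mul hμ (Ideal.mem_span_singleton'.mpr ⟨s, rfl⟩)

variable (R) in
/-- `s ↦ [s w]` -/
noncomputable def omega : S →ₗ[R] (idealY₀ 𝔞' w) where
  toFun s := ⟨Ideal.Quotient.mk _ (s * w), Ideal.mem_map_of_mem _ (mul_w_mem 𝔞' w s)⟩
  map_add' := by
    intro a b
    apply Subtype.ext
    simp [add_mul]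
  map_smul' := by
    intro r s
    apply Subtype.ext
    simp [Algebra.smul_def, mul_assoc]

theorem omega_val (s : S) : ((omega R 𝔞' w s : idealY₀ 𝔞' w) : S ⧸ idealJ 𝔞' w) =
    Ideal.Quotient.mk _ (s * w) := rfl

theorem omega_eq_zero {μ : S} (hμ : μ ∈ IsLocalRing.maximalIdeal S) (s : S) :
    omega R 𝔞' w (μ * s) = 0 := by
  apply Subtype.ext
  rw [omega_val]
  exact Ideal.Quotient.eq_zero_iff_mem.mpr (mul_w_mem_J 𝔞' w hμ s)

variable (R) in
/-- `R/𝔞 → S/J` -/
noncomputable def psi : (R ⧸ ideal𝔞 R 𝔞') →ₗ[R] (S ⧸ idealJ 𝔞' w) :=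
  Submodule.liftQ (ideal𝔞 R 𝔞')
    (((idealJ 𝔞' w).mkQ.restrictScalars R) ∘ₗ (Algebra.linearMap R S))
    (fun r hr => by
      show Ideal.Quotient.mk _ (algebraMap R S r) = 0
      rw [Ideal.Quotient.eq_zero_iff_mem]
      exact Ideal.mem_sup_left hr)

theorem psi_mk (r : R) : psi R 𝔞' w (Ideal.Quotient.mk _ r) =
    Ideal.Quotient.mk _ (algebraMap R S r) := rfl

theorem psi_mem (x : idealX R 𝔞' w) : psi R 𝔞' w x.1 ∈ idealY₀ 𝔞' w := by
  obtain ⟨t, ht, htx⟩ := (Ideal.mem_map_iff_of_surjective _ Ideal.Quotient.mk_surjective).mp x.2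
  rw [← htx, psi_mk]
  exact Ideal.mem_map_of_mem _ ht

variable (R) in
/-- `𝔟/𝔞 → (𝔞' + wS)/J` -/
noncomputable def cbar : (idealX R 𝔞' w) →ₗ[R] (idealY₀ 𝔞' w) where
  toFun x := ⟨psi R 𝔞' w x.1, psi_mem 𝔞' w x⟩
  map_add' := fun x y => by
    apply Subtype.ext
    simp
  map_smul' := fun r x => by
    apply Subtype.ext
    simp

theorem cbar_val (x : idealX R 𝔞' w) :
    ((cbar R 𝔞' w x : idealY₀ 𝔞' w) : S ⧸ idealJ 𝔞' w) = psi R 𝔞' w x.1 := rfl

variable (R) in
/-- `𝔟 → 𝔟/𝔞` -/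
noncomputable def pb : (ideal𝔟 R 𝔞' w) →ₗ[R] (idealX R 𝔞' w) where
  toFun t := ⟨Ideal.Quotient.mk _ t.1, Ideal.mem_map_of_mem _ t.2⟩
  map_add' := fun x y => by
    apply Subtype.ext
    simp
  map_smul' := fun r x => by
    apply Subtype.ext
    simp [Algebra.smul_def]

theorem pb_val (t : ideal𝔟 R 𝔞' w) :
    ((pb R 𝔞' w t : idealX R 𝔞' w) : R ⧸ ideal𝔞 R 𝔞') = Ideal.Quotient.mk _ t.1 := rfl

theorem pb_surjective : Function.Surjective (pb R 𝔞' w) := by
  intro x
  obtain ⟨t, ht, htx⟩ := (Ideal.mem_map_iff_of_surjective _ Ideal.Quotient.mk_surjective).mp x.2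
  exact ⟨⟨t, ht⟩, Subtype.ext htx⟩

theorem cbar_injective
    (F2 : ∀ t ∈ ideal𝔟 R 𝔞' w, algebraMap R S t ∈ idealJ 𝔞' w → t ∈ ideal𝔞 R 𝔞') :
    Function.Injective (cbar R 𝔞' w) := by
  rw [injective_iff_map_eq_zero]
  intro x hx
  obtain ⟨t, rfl⟩ := pb_surjective 𝔞' w x
  have h1 : psi R 𝔞' w (Ideal.Quotient.mk _ t.1) = 0 := congrArg Subtype.val hx
  rw [psi_mk, Ideal.Quotient.eq_zero_iff_mem] at h1
  apply Subtype.ext
  rw [pb_val]
  exact Ideal.Quotient.eq_zero_iff_mem.mpr (F2 t.1 t.2 h1)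

theorem cbar_pb_eq_omega (t : ideal𝔟 R 𝔞' w) (α c : S) (hα : α ∈ 𝔞')
    (h : algebraMap R S t.1 = α + c * w) : cbar R 𝔞' w (pb R 𝔞' w t) = omega R 𝔞' w c := by
  apply Subtype.ext
  rw [cbar_val, pb_val, psi_mk, omega_val, h, map_add, add_eq_right,
    Ideal.Quotient.eq_zero_iff_mem]
  exact Ideal.mem_sup_left hα

theorem smul_idealY₀_eq_zero {μ : R} (hμ : algebraMap R S μ ∈ IsLocalRing.maximalIdeal S)
    (y : idealY₀ 𝔞' w) : μ • y = 0 := by
  apply Subtype.ext
  obtain ⟨s, hs, hsy⟩ := (Ideal.mem_map_iff_of_surjective _ Ideal.Quotient.mk_surjective).mp y.2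
  show μ • (y : S ⧸ idealJ 𝔞' w) = 0
  rw [← hsy, Algebra.smul_def]
  show Ideal.Quotient.mk _ (algebraMap R S μ) * Ideal.Quotient.mk _ s = 0
  rw [← map_mul, Ideal.Quotient.eq_zero_iff_mem]
  obtain ⟨α, hα, β, hβ, rfl⟩ := Submodule.mem_sup.mp hs
  obtain ⟨c, rfl⟩ := Ideal.mem_span_singleton'.mp hβ
  rw [mul_add]
  apply add_mem
  · exact Ideal.mem_sup_left (Ideal.mul_mem_left _ _ hα)
  · rw [← mul_assoc]
    exact mul_w_mem_J 𝔞' w hμ c

end Maps

section Core

variable {R : Type u} [CommRing R] {S : Type u} [CommRing S] [IsLocalRing S] [Algebra R S]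
  {B : Type u} [CommRing B] [Algebra R B]
  {B' : Type u} [CommRing B'] [Algebra R B'] [Algebra S B'] [Algebra B B']
  [IsScalarTower R S B'] [IsScalarTower R B B']
  {M : Type u} [AddCommGroup M] [Module R M] [Module B M] [IsScalarTower R B M]
  {M' : Type u} [AddCommGroup M'] [Module R M'] [Module S M'] [Module B M'] [Module B' M']
  [IsScalarTower R S M'] [IsScalarTower R B M'] [IsScalarTower S B' M'] [IsScalarTower B B' M']
  [SMulCommClass B S M']
  (f : M →ₗ[B] M') (hf : IsBaseChange S (f.restrictScalars R))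
  {Q : Type u} [AddCommGroup Q] [Module R Q] [Module B Q] [IsScalarTower R B Q]
  (g : M →ₗ[B] Q) (𝔞' : Ideal S) (w : S)

theorem smul_comm_BS {S B : Type*} (B' : Type*) [CommRing S] [CommRing B] [CommRing B']
    [Algebra S B'] [Algebra B B'] {M' : Type*} [AddCommGroup M'] [Module S M'] [Module B M']
    [Module B' M'] [IsScalarTower S B' M'] [IsScalarTower B B' M']
    (b : B) (s : S) (m' : M') : b • s • m' = s • b • m' := by
  have h1 : ∀ (x : M'), b • x = algebraMap B B' b • x := fun x => (algebraMap_smul B' b x).symm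
  have h2 : ∀ (x : M'), s • x = algebraMap S B' s • x := fun x => (algebraMap_smul B' s x).symm
  rw [h1, h2, h2, h1, smul_smul, smul_smul, mul_comm]

/-- `Λ : M' = S ⊗ M → Q ⊗ Y₀`, `s • f m ↦ g m ⊗ [s w]`. -/
noncomputable def Lam : M' →ₗ[R] Q ⊗[R] (idealY₀ 𝔞' w) :=
  (TensorProduct.map (g.restrictScalars R) (omega R 𝔞' w)) ∘ₗ
    (TensorProduct.comm R S M).toLinearMap ∘ₗ (hf.equiv.symm.toLinearMap.restrictScalars R)

theorem Lam_smul (s : S) (m : M) : Lam f hf g 𝔞' w (s • f m) = g m ⊗ₜ omega R 𝔞' w s := by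
  have h1 : hf.equiv.symm (s • f m) = s ⊗ₜ[R] m := by
    rw [LinearEquiv.symm_apply_eq, IsBaseChange.equiv_tmul]
    rfl
  simp only [Lam, LinearMap.coe_comp, LinearEquiv.coe_coe, Function.comp_apply,
    LinearMap.coe_restrictScalars, h1, TensorProduct.comm_tmul, TensorProduct.map_tmul]

include hf in
theorem exists_sum_smul (m' : M') : ∃ T : Finset (S × M), m' = ∑ i ∈ T, i.1 • f i.2 := by
  obtain ⟨ξ, rfl⟩ := hf.equiv.surjective m'
  obtain ⟨T, rfl⟩ := TensorProduct.exists_finset ξ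
  refine ⟨T, ?_⟩
  rw [map_sum]
  refine Finset.sum_congr rfl fun i _ => ?_
  rw [IsBaseChange.equiv_tmul]
  rfl

theorem Lam_maxS {μ : S} (hμ : μ ∈ IsLocalRing.maximalIdeal S) (m' : M') :
    Lam f hf g 𝔞' w (μ • m') = 0 := by
  obtain ⟨T, rfl⟩ := exists_sum_smul f hf m'
  rw [Finset.smul_sum, map_sum]
  refine Finset.sum_eq_zero fun i _ => ?_
  rw [smul_smul, Lam_smul, omega_eq_zero 𝔞' w hμ, TensorProduct.tmul_zero]

theorem Lam_kill {ν : B} (hν : ∀ m, g (ν • m) = 0) (m' : M') :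
    Lam f hf g 𝔞' w (ν • m') = 0 := by
  obtain ⟨T, rfl⟩ := exists_sum_smul f hf m'
  rw [Finset.smul_sum, map_sum]
  refine Finset.sum_eq_zero fun i _ => ?_
  rw [smul_comm ν i.1, ← map_smul, Lam_smul, hν, TensorProduct.zero_tmul]

variable (B') in
/-- the largest `B'`-submodule of `M'` inside `ker Λ` -/
noncomputable def Wsub : Submodule B' M' where
  carrier := {m' | ∀ b : B', Lam f hf g 𝔞' w (b • m') = 0}
  zero_mem' := fun b => by rw [smul_zero, map_zero]
  add_mem' := fun {x y} hx hy b => by rw [smul_add, map_add, hx b, hy b, add_zero]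
  smul_mem' := fun c x hx b => by rw [smul_smul]; exact hx _

theorem mem_Wsub (m' : M') : m' ∈ Wsub B' f hf g 𝔞' w ↔ ∀ b : B', Lam f hf g 𝔞' w (b • m') = 0 :=
  Iff.rfl

theorem Wsub_maxS {μ : S} (hμ : μ ∈ IsLocalRing.maximalIdeal S) (m' : M') :
    (algebraMap S B' μ) • m' ∈ Wsub B' f hf g 𝔞' w := by
  intro b
  rw [smul_comm, algebraMap_smul]
  exact Lam_maxS f hf g 𝔞' w hμ _

theorem Wsub_kill {ν : B} (hν : ∀ m, g (ν • m) = 0) (m' : M') :
    (algebraMap B B' ν) • m' ∈ Wsub B' f hf g 𝔞' w := by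
  intro b
  rw [smul_comm, algebraMap_smul]
  exact Lam_kill f hf g 𝔞' w hν _

theorem maxS_smul_top_le_Wsub {x : M'}
    (hx : x ∈ (IsLocalRing.maximalIdeal S) • (⊤ : Submodule S M')) : x ∈ Wsub B' f hf g 𝔞' w := by
  refine Submodule.smul_induction_on hx ?_ ?_
  · intro μ hμ n _
    rw [← algebraMap_smul B' μ n]
    exact Wsub_maxS f hf g 𝔞' w hμ n
  · intro a b ha hb
    exact add_mem ha hb

omit [IsLocalRing S] [Algebra R B] [IsScalarTower R B M] [IsScalarTower R B M']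
  [SMulCommClass B S M'] [Module R M'] [IsScalarTower R S M'] in
theorem map_mem_smul_top {x : M}
    (hx : x ∈ (ideal𝔞 R 𝔞') • (⊤ : Submodule R M))
    (hfR : ∀ (a : R) (m : M), f (a • m) = algebraMap R S a • f m) :
    f x ∈ 𝔞' • (⊤ : Submodule S M') := by
  refine Submodule.smul_induction_on hx ?_ ?_
  · intro a ha n _
    rw [hfR]
    exact Submodule.smul_mem_smul ha Submodule.mem_top
  · intro a b ha hb
    rw [map_add]
    exact add_mem ha hb

theorem mk_mem_smul_top {S B' : Type*} [CommRing S] [CommRing B'] [Algebra S B']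
    {M' : Type*} [AddCommGroup M'] [Module B' M'] [Module S M'] [IsScalarTower S B' M']
    (T : Submonoid B') (I : Ideal S) {x : M'} (hx : x ∈ I • (⊤ : Submodule S M')) :
    LocalizedModule.mk x (1 : T) ∈ I • (⊤ : Submodule S (LocalizedModule T M')) := by
  refine Submodule.smul_induction_on hx ?_ ?_
  · intro a ha n _
    rw [← LocalizedModule.smul'_mk]
    exact Submodule.smul_mem_smul ha Submodule.mem_top
  · intro a b ha hb
    have : LocalizedModule.mk (a + b) (1 : T) =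
        LocalizedModule.mk a (1 : T) + LocalizedModule.mk b (1 : T) := by
      rw [LocalizedModule.mk_add_mk, one_smul, one_smul, one_mul]
    rw [this]
    exact add_mem ha hb

include hf in
/-- The core computation. -/
theorem core_claim (q : Ideal B) [q.IsPrime] (r : ℕ)
    (hq : ∀ ν ∈ q ^ r, ∀ m, g (ν • m) = 0)
    (hw : ∀ s, s * w ∈ 𝔞' → s ∈ IsLocalRing.maximalIdeal S)
    (hflat : ∀ (q' : Ideal B') [q'.IsPrime], q'.comap (algebraMap B B') = q →
      q'.comap (algebraMap S B') = IsLocalRing.maximalIdeal S →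
      Module.Flat S (LocalizedModule q'.primeCompl M'))
    (z₁ : M ⊗[R] idealX R 𝔞' w)
    (hz : (LinearMap.lTensor M ((idealX R 𝔞' w).subtype.restrictScalars R)) z₁ = 0) :
    ∃ σ ∉ q, σ • (TensorProduct.AlgebraTensorModule.map g (cbar R 𝔞' w) z₁) = 0 := by
  classical
  obtain ⟨z₂, rfl⟩ := LinearMap.lTensor_surjective M (pb_surjective (R := R) 𝔞' w) z₁
  obtain ⟨Sf, rfl⟩ := TensorProduct.exists_finset z₂
  have hdec : ∀ t : ideal𝔟 R 𝔞' w, ∃ α ∈ 𝔞', ∃ c : S, algebraMap R S t.1 = α + c * w := by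
    intro t
    obtain ⟨α, hα, β, hβ, h⟩ := Submodule.mem_sup.mp (Ideal.mem_comap.mp t.2)
    obtain ⟨c, rfl⟩ := Ideal.mem_span_singleton'.mp hβ
    exact ⟨α, hα, c, h.symm⟩
  choose α hα c hc using hdec
  have hfR : ∀ (a : R) (m : M), f (a • m) = algebraMap R S a • f m := by
    intro a m
    rw [algebraMap_smul, ← algebraMap_smul B a m, map_smul, algebraMap_smul]
  -- the relation in `M`
  have h1 : ∑ i ∈ Sf, (i.2 : R) • i.1 ∈ (ideal𝔞 R 𝔞') • (⊤ : Submodule R M) := by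
    have h := congrArg (tensorQuotEquivQuotSMul M (ideal𝔞 R 𝔞')) hz
    simp only [map_sum, LinearMap.lTensor_tmul, map_zero] at h
    rw [← Submodule.Quotient.mk_eq_zero, ← Submodule.mkQ_apply, map_sum, ← h]
    refine Finset.sum_congr rfl fun i _ => ?_
    show _ = tensorQuotEquivQuotSMul M (ideal𝔞 R 𝔞') (i.1 ⊗ₜ[R] Ideal.Quotient.mk _ (i.2 : R))
    rw [tensorQuotEquivQuotSMul_tmul_mk]
    rfl
  set y : M' := ∑ i ∈ Sf, c i.2 • f i.1 with hy
  have h2 : w • y ∈ 𝔞' • (⊤ : Submodule S M') := by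
    have h3 : f (∑ i ∈ Sf, (i.2 : R) • i.1) ∈ 𝔞' • (⊤ : Submodule S M') :=
      map_mem_smul_top f 𝔞' h1 hfR
    have h4 : f (∑ i ∈ Sf, (i.2 : R) • i.1) = ∑ i ∈ Sf, α i.2 • f i.1 + w • y := by
      rw [map_sum, hy, Finset.smul_sum, ← Finset.sum_add_distrib]
      refine Finset.sum_congr rfl fun i _ => ?_
      rw [hfR, hc, add_smul, smul_smul, mul_comm]
    have h5 : ∑ i ∈ Sf, α i.2 • f i.1 ∈ 𝔞' • (⊤ : Submodule S M') :=
      Submodule.sum_mem _ fun i _ => Submodule.smul_mem_smul (hα _) Submodule.mem_top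
    have h6 : w • y = f (∑ i ∈ Sf, (i.2 : R) • i.1) - ∑ i ∈ Sf, α i.2 • f i.1 := by
      rw [h4]
      abel
    rw [h6]
    exact sub_mem h3 h5
  have hloc : ∀ (q' : Ideal B') [q'.IsPrime], q'.comap (algebraMap B B') = q →
      q'.comap (algebraMap S B') = IsLocalRing.maximalIdeal S →
      ∃ s ∉ q', s • y ∈ Wsub B' f hf g 𝔞' w := by
    intro q' _ hq1 hq2
    haveI := hflat q' hq1 hq2
    have h6 : w • (LocalizedModule.mk y (1 : q'.primeCompl)) ∈
        𝔞' • (⊤ : Submodule S (LocalizedModule q'.primeCompl M')) := by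
      rw [LocalizedModule.smul'_mk]
      exact mk_mem_smul_top _ _ h2
    have h7 := mem_smul_top_of_smul_mem_of_flat 𝔞' (IsLocalRing.maximalIdeal S) w hw _ h6
    obtain ⟨s, hs, hsy⟩ := exists_smul_mem_of_mk_mem q'.primeCompl
      (IsLocalRing.maximalIdeal S) y 1 h7
    exact ⟨s, hs, maxS_smul_top_le_Wsub f hf g 𝔞' w hsy⟩
  obtain ⟨σ, hσ, hσy⟩ := exists_smul_mem_of_forall_prime q (Wsub B' f hf g 𝔞' w) y r
    (fun μ hμ m => Wsub_maxS f hf g 𝔞' w hμ m)
    (fun ν hν m => Wsub_kill f hf g 𝔞' w (hq ν hν) m) hloc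
  refine ⟨σ, hσ, ?_⟩
  have h8 : Lam f hf g 𝔞' w (algebraMap B B' σ • y) = 0 := by
    have := hσy 1
    rwa [one_smul] at this
  rw [← h8, algebraMap_smul, hy, Finset.smul_sum, map_sum, map_sum, map_sum, Finset.smul_sum]
  refine Finset.sum_congr rfl fun i _ => ?_
  rw [LinearMap.lTensor_tmul, TensorProduct.AlgebraTensorModule.map_tmul,
    cbar_pb_eq_omega 𝔞' w i.2 (α i.2) (c i.2) (hα _) (hc _), smul_comm σ (c i.2),
    ← map_smul, Lam_smul, TensorProduct.smul_tmul', map_smul]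

end Core

section Step

variable {R : Type u} [CommRing R] [IsLocalRing R] [IsNoetherianRing R]
  {S : Type u} [CommRing S] [IsLocalRing S] [Algebra R S]
  {B : Type u} [CommRing B] [Algebra R B]
  {B' : Type u} [CommRing B'] [Algebra R B'] [Algebra S B'] [Algebra B B']
  [IsScalarTower R S B'] [IsScalarTower R B B']
  {M : Type u} [AddCommGroup M] [Module R M] [Module B M] [IsScalarTower R B M]
  {M' : Type u} [AddCommGroup M'] [Module R M'] [Module S M'] [Module B M'] [Module B' M']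
  [IsScalarTower R S M'] [IsScalarTower R B M'] [IsScalarTower S B' M'] [IsScalarTower B B' M']
  [SMulCommClass B S M']
  (f : M →ₗ[B] M') (hf : IsBaseChange S (f.restrictScalars R))
  (q : Ideal B) [q.IsPrime]
  (𝔞' : Ideal S) (w : S)

include hf in
/-- The key injectivity: `(𝔟/𝔞) ⊗ P → (R/𝔞) ⊗ P` is injective. -/
theorem tinj_local
    (A : Type u) [CommRing A] [Algebra B A] [IsLocalization.AtPrime A q] [Algebra R A]
    [IsScalarTower R B A] [IsNoetherianRing A] [IsLocalRing A]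
    {P : Type u} [AddCommGroup P] [Module R P] [Module B P] [Module A P]
    [IsScalarTower R B P] [IsScalarTower B A P] [IsScalarTower R A P] [Module.Finite A P]
    (loc : M →ₗ[B] P) [IsLocalizedModule q.primeCompl loc]
    (hw : ∀ s, s * w ∈ 𝔞' → s ∈ IsLocalRing.maximalIdeal S)
    (hlocal : ∀ μ ∈ IsLocalRing.maximalIdeal R, algebraMap R S μ ∈ IsLocalRing.maximalIdeal S)
    (F2 : ∀ t ∈ ideal𝔟 R 𝔞' w, algebraMap R S t ∈ idealJ 𝔞' w → t ∈ ideal𝔞 R 𝔞')
    (hflat : ∀ (q' : Ideal B') [q'.IsPrime], q'.comap (algebraMap B B') = q →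
      q'.comap (algebraMap S B') = IsLocalRing.maximalIdeal S →
      Module.Flat S (LocalizedModule q'.primeCompl M')) :
    Function.Injective ((((idealX R 𝔞' w).subtype).restrictScalars R).rTensor P) := by
  rw [← LinearMap.lTensor_inj_iff_rTensor_inj, injective_iff_map_eq_zero]
  intro z' hz'
  set ι : (idealX R 𝔞' w) →ₗ[R] (R ⧸ ideal𝔞 R 𝔞') :=
    ((idealX R 𝔞' w).subtype).restrictScalars R with hι
  haveI : Module.Finite R (idealX R 𝔞' w) :=
    Module.Finite.of_surjective (pb R 𝔞' w) (pb_surjective 𝔞' w)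
  apply krull_tensor (A := A) z'
  intro r
  set Nr : Submodule A P := (IsLocalRing.maximalIdeal A ^ r) • (⊤ : Submodule A P) with hNr
  have hc : Function.Injective (LinearMap.lTensor (P ⧸ Nr) (cbar R 𝔞' w)) := by
    rw [LinearMap.lTensor_inj_iff_rTensor_inj]
    haveI : Module.Flat (R ⧸ IsLocalRing.maximalIdeal R)
        ((R ⧸ IsLocalRing.maximalIdeal R) ⊗[R] (P ⧸ Nr)) := by
      change Module.Flat (IsLocalRing.ResidueField R) ((IsLocalRing.ResidueField R) ⊗[R] (P ⧸ Nr))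
      infer_instance
    exact tinj_of_killed (IsLocalRing.maximalIdeal R) (P ⧸ Nr) (cbar R 𝔞' w)
      (cbar_injective 𝔞' w F2) (fun μ hμ y => smul_idealY₀_eq_zero 𝔞' w (hlocal μ hμ) y)
  apply hc
  rw [map_zero]
  -- the `B`-linear maps
  let πB : P →ₗ[B] P ⧸ Nr := Nr.mkQ.restrictScalars B
  let g : M →ₗ[B] P ⧸ Nr := πB ∘ₗ loc
  have hgoal : ∀ v : P ⊗[R] (idealX R 𝔞' w),
      (LinearMap.lTensor (P ⧸ Nr) (cbar R 𝔞' w))
        ((LinearMap.rTensor (idealX R 𝔞' w) (Nr.mkQ.restrictScalars R)) v) =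
      TensorProduct.AlgebraTensorModule.map πB (cbar R 𝔞' w) v := by
    intro v
    induction v with
    | zero => simp
    | tmul p x => rfl
    | add a b ha hb => rw [map_add, map_add, ha, hb, map_add]
  rw [hgoal]
  -- clear denominators
  obtain ⟨⟨z₀, σ⟩, hσ⟩ := IsLocalizedModule.surj q.primeCompl
    (TensorProduct.AlgebraTensorModule.rTensor R (idealX R 𝔞' w) loc) z'
  have hσ' : (σ : B) • z' =
      TensorProduct.AlgebraTensorModule.rTensor R (idealX R 𝔞' w) loc z₀ := hσ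
  have hcomm : ∀ v : M ⊗[R] (idealX R 𝔞' w),
      TensorProduct.AlgebraTensorModule.lTensor B P ι
        (TensorProduct.AlgebraTensorModule.rTensor R (idealX R 𝔞' w) loc v) =
      TensorProduct.AlgebraTensorModule.rTensor R (R ⧸ ideal𝔞 R 𝔞') loc
        (TensorProduct.AlgebraTensorModule.lTensor B M ι v) := by
    intro v
    induction v with
    | zero => simp
    | tmul p x => rfl
    | add a b ha hb => rw [map_add, map_add, ha, hb, map_add, map_add]
  have h0 : TensorProduct.AlgebraTensorModule.rTensor R (R ⧸ ideal𝔞 R 𝔞') loc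
      (TensorProduct.AlgebraTensorModule.lTensor B M ι z₀) =
      TensorProduct.AlgebraTensorModule.rTensor R (R ⧸ ideal𝔞 R 𝔞') loc 0 := by
    rw [← hcomm, ← hσ', map_smul, map_zero]
    have : TensorProduct.AlgebraTensorModule.lTensor B P ι z' = 0 := hz'
    rw [this, smul_zero]
  obtain ⟨σ', hσ'0⟩ := IsLocalizedModule.exists_of_eq (S := q.primeCompl) h0
  have hz₁ : (LinearMap.lTensor M ι) ((σ' : B) • z₀) = 0 := by
    have h1 : (σ' : B) • (TensorProduct.AlgebraTensorModule.lTensor B M ι z₀) = 0 := by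
      have := hσ'0
      rw [smul_zero] at this
      exact this
    rw [← map_smul] at h1
    exact h1
  have hq : ∀ ν ∈ q ^ r, ∀ m, g (ν • m) = 0 := by
    intro ν hν m
    show Nr.mkQ (loc (ν • m)) = 0
    rw [map_smul, Submodule.mkQ_apply, Submodule.Quotient.mk_eq_zero, hNr,
      ← algebraMap_smul A ν (loc m)]
    refine Submodule.smul_mem_smul ?_ Submodule.mem_top
    rw [← IsLocalization.AtPrime.map_eq_maximalIdeal q A, ← Ideal.map_pow]
    exact Ideal.mem_map_of_mem _ hν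
  obtain ⟨σ'', hσ''q, hσ''⟩ := core_claim f hf g 𝔞' w q r hq hw hflat _ hz₁
  -- assemble
  have hgz : TensorProduct.AlgebraTensorModule.map g (cbar R 𝔞' w) z₀ =
      (σ : B) • TensorProduct.AlgebraTensorModule.map πB (cbar R 𝔞' w) z' := by
    rw [← map_smul, hσ']
    generalize z₀ = v
    induction v with
    | zero => simp
    | tmul p x => rfl
    | add a b ha hb => rw [map_add, ha, hb, map_add, map_add]
  rw [map_smul, hgz, smul_smul, smul_smul] at hσ''
  have hmem : σ'' * (σ' : B) * (σ : B) ∈ q.primeCompl :=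
    mul_mem (mul_mem hσ''q σ'.2) σ.2
  have hunit : IsUnit (algebraMap B A (σ'' * (σ' : B) * (σ : B))) :=
    IsLocalization.map_units A (⟨_, hmem⟩ : q.primeCompl)
  rw [← algebraMap_smul A] at hσ''
  exact (IsUnit.smul_eq_zero hunit).mp hσ''

include hf in
/-- One step: flatness modulo `𝔟` gives flatness modulo `𝔞`. -/
theorem flat_step
    (A : Type u) [CommRing A] [Algebra B A] [IsLocalization.AtPrime A q] [Algebra R A]
    [IsScalarTower R B A] [IsNoetherianRing A] [IsLocalRing A]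
    {P : Type u} [AddCommGroup P] [Module R P] [Module B P] [Module A P]
    [IsScalarTower R B P] [IsScalarTower B A P] [IsScalarTower R A P] [Module.Finite A P]
    (loc : M →ₗ[B] P) [IsLocalizedModule q.primeCompl loc]
    (hw : ∀ s, s * w ∈ 𝔞' → s ∈ IsLocalRing.maximalIdeal S)
    (hlocal : ∀ μ ∈ IsLocalRing.maximalIdeal R, algebraMap R S μ ∈ IsLocalRing.maximalIdeal S)
    (F2 : ∀ t ∈ ideal𝔟 R 𝔞' w, algebraMap R S t ∈ idealJ 𝔞' w → t ∈ ideal𝔞 R 𝔞')
    (hflat : ∀ (q' : Ideal B') [q'.IsPrime], q'.comap (algebraMap B B') = q →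
      q'.comap (algebraMap S B') = IsLocalRing.maximalIdeal S →
      Module.Flat S (LocalizedModule q'.primeCompl M'))
    (h𝔟𝔪 : ideal𝔟 R 𝔞' w ≤ IsLocalRing.maximalIdeal R)
    [Module.Flat (R ⧸ ideal𝔟 R 𝔞' w) ((R ⧸ ideal𝔟 R 𝔞' w) ⊗[R] P)] :
    Module.Flat (R ⧸ ideal𝔞 R 𝔞') ((R ⧸ ideal𝔞 R 𝔞') ⊗[R] P) := by
  haveI := flat_residue (ideal𝔟 R 𝔞' w) P (ideal𝔞 R 𝔞')
  have hnil : IsNilpotent ((ideal𝔟 R 𝔞' w).map (Ideal.Quotient.mk (ideal𝔞 R 𝔞'))) := by
    refine ⟨2, ?_⟩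
    rw [← Ideal.map_pow, Ideal.zero_eq_bot, Ideal.map_eq_bot_iff_le_ker, Ideal.mk_ker, pow_two,
      Ideal.mul_le]
    intro a ha b hb
    apply F2 (a * b) (Ideal.mul_mem_left _ _ hb)
    obtain ⟨α, hα, β, hβ, h⟩ := Submodule.mem_sup.mp (Ideal.mem_comap.mp hb)
    obtain ⟨c, rfl⟩ := Ideal.mem_span_singleton'.mp hβ
    rw [map_mul, ← h, mul_add]
    apply add_mem
    · exact Ideal.mem_sup_left (Ideal.mul_mem_left _ _ hα)
    · rw [← mul_assoc]
      exact mul_w_mem_J 𝔞' w (hlocal a (h𝔟𝔪 ha)) c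
  apply flat_of_nilpotent ((ideal𝔟 R 𝔞' w).map (Ideal.Quotient.mk (ideal𝔞 R 𝔞')))
    ((R ⧸ ideal𝔞 R 𝔞') ⊗[R] P) _ hnil
  apply rTensor_baseChange_injective (R := R)
  exact tinj_local f hf q 𝔞' w A loc hw hlocal F2 hflat

end Step

section Induction

variable {R : Type u} [CommRing R] [IsLocalRing R] [IsArtinianRing R]
  {S : Type u} [CommRing S] [IsLocalRing S] [Algebra R S]
  {B : Type u} [CommRing B] [Algebra R B]
  {B' : Type u} [CommRing B'] [Algebra R B'] [Algebra S B'] [Algebra B B']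
  [IsScalarTower R S B'] [IsScalarTower R B B']
  {M : Type u} [AddCommGroup M] [Module R M] [Module B M] [IsScalarTower R B M]
  {M' : Type u} [AddCommGroup M'] [Module R M'] [Module S M'] [Module B M'] [Module B' M']
  [IsScalarTower R S M'] [IsScalarTower R B M'] [IsScalarTower S B' M'] [IsScalarTower B B' M']
  [SMulCommClass B S M']
  (f : M →ₗ[B] M') (hf : IsBaseChange S (f.restrictScalars R))
  (q : Ideal B) [q.IsPrime]

omit [IsArtinianRing R] in
theorem flat_quotient_maximalIdeal (P : Type u) [AddCommGroup P] [Module R P] :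
    Module.Flat (R ⧸ IsLocalRing.maximalIdeal R) ((R ⧸ IsLocalRing.maximalIdeal R) ⊗[R] P) := by
  change Module.Flat (IsLocalRing.ResidueField R) ((IsLocalRing.ResidueField R) ⊗[R] P)
  infer_instance

theorem exists_socle_element (𝔞 : Ideal R) (h1 : 𝔞 ≠ ⊤) :
    ∃ a, a ∉ 𝔞 ∧ ∀ μ ∈ IsLocalRing.maximalIdeal R, μ * a ∈ 𝔞 := by
  classical
  have hnil : IsNilpotent (IsLocalRing.maximalIdeal R) := by
    have := IsArtinianRing.isNilpotent_jacobson_bot (R := R)
    rwa [IsLocalRing.jacobson_eq_maximalIdeal ⊥ bot_ne_top] at this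
  obtain ⟨N, hN⟩ := hnil
  have hex : ∃ j, IsLocalRing.maximalIdeal R ^ j ≤ 𝔞 := ⟨N, by rw [hN]; exact bot_le⟩
  set j := Nat.find hex with hj
  have hjle : IsLocalRing.maximalIdeal R ^ j ≤ 𝔞 := Nat.find_spec hex
  have hj0 : j ≠ 0 := by
    intro h0
    rw [h0, pow_zero, Ideal.one_eq_top, top_le_iff] at hjle
    exact h1 hjle
  obtain ⟨k, hk⟩ := Nat.exists_eq_succ_of_ne_zero hj0
  have hk' : ¬ IsLocalRing.maximalIdeal R ^ k ≤ 𝔞 := Nat.find_min hex (by omega)
  obtain ⟨a, hak, ha⟩ := SetLike.not_le_iff_exists.mp hk'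
  refine ⟨a, ha, fun μ hμ => hjle ?_⟩
  rw [hk, pow_succ']
  exact Ideal.mul_mem_mul hμ hak

include hf in
/-- Flatness modulo every contracted ideal. -/
theorem flat_quotient_of_local
    (A : Type u) [CommRing A] [Algebra B A] [IsLocalization.AtPrime A q] [Algebra R A]
    [IsScalarTower R B A] [IsNoetherianRing A] [IsLocalRing A]
    {P : Type u} [AddCommGroup P] [Module R P] [Module B P] [Module A P]
    [IsScalarTower R B P] [IsScalarTower B A P] [IsScalarTower R A P] [Module.Finite A P]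
    (loc : M →ₗ[B] P) [IsLocalizedModule q.primeCompl loc]
    (hflat : ∀ (q' : Ideal B') [q'.IsPrime], q'.comap (algebraMap B B') = q →
      q'.comap (algebraMap S B') = IsLocalRing.maximalIdeal S →
      Module.Flat S (LocalizedModule q'.primeCompl M')) :
    ∀ (𝔞 : Ideal R) (𝔞' : Ideal S), 𝔞' ≠ ⊤ → 𝔞'.comap (algebraMap R S) = 𝔞 →
      Module.Flat (R ⧸ 𝔞) ((R ⧸ 𝔞) ⊗[R] P) := by
  intro 𝔞
  induction 𝔞 using IsNoetherian.induction with
  | hgt 𝔞 IH =>
  intro 𝔞' h𝔞' hcomap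
  have hlocal : ∀ μ ∈ IsLocalRing.maximalIdeal R,
      algebraMap R S μ ∈ IsLocalRing.maximalIdeal S := by
    intro μ hμ
    have hnil : IsNilpotent (IsLocalRing.maximalIdeal R) := by
      have := IsArtinianRing.isNilpotent_jacobson_bot (R := R)
      rwa [IsLocalRing.jacobson_eq_maximalIdeal ⊥ bot_ne_top] at this
    obtain ⟨N, hN⟩ := hnil
    have h1 : μ ^ N = 0 := by
      have : μ ^ N ∈ IsLocalRing.maximalIdeal R ^ N := Ideal.pow_mem_pow hμ N
      rw [hN] at this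
      exact this
    rw [IsLocalRing.mem_maximalIdeal, mem_nonunits_iff]
    intro hu
    have h2 : (algebraMap R S μ) ^ N = 0 := by rw [← map_pow, h1, map_zero]
    have h3 : IsUnit ((algebraMap R S μ) ^ N) := hu.pow N
    rw [h2] at h3
    exact not_isUnit_zero h3
  have h𝔞'le : 𝔞' ≤ IsLocalRing.maximalIdeal S := IsLocalRing.le_maximalIdeal h𝔞'
  have h𝔞ne : 𝔞 ≠ ⊤ := by
    intro h
    rw [← hcomap, Ideal.eq_top_iff_one, Ideal.mem_comap, map_one] at h
    exact h𝔞' ((Ideal.eq_top_iff_one _).mpr h)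
  have h𝔞le : 𝔞 ≤ IsLocalRing.maximalIdeal R := IsLocalRing.le_maximalIdeal h𝔞ne
  by_cases hmax : 𝔞 = IsLocalRing.maximalIdeal R
  · rw [hmax]
    exact flat_quotient_maximalIdeal P
  -- choose a socle element with minimal contraction
  let 𝒯 : Set (Ideal R) := {T | ∃ a, a ∉ 𝔞 ∧ (∀ μ ∈ IsLocalRing.maximalIdeal R, μ * a ∈ 𝔞) ∧
    T = ideal𝔟 R 𝔞' (algebraMap R S a)}
  have h𝒯 : 𝒯.Nonempty := by
    obtain ⟨a, ha, ha'⟩ := exists_socle_element 𝔞 h𝔞ne
    exact ⟨_, a, ha, ha', rfl⟩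
  obtain ⟨T₀, ⟨a, ha, ha', rfl⟩, hmin⟩ := WellFounded.has_min wellFounded_lt 𝒯 h𝒯
  set w := algebraMap R S a with hwdef
  have ha𝔪 : a ∈ IsLocalRing.maximalIdeal R := by
    by_contra hna
    have hu : IsUnit a := IsLocalRing.notMem_maximalIdeal.mp hna
    apply hmax
    refine le_antisymm h𝔞le fun μ hμ => ?_
    have := ha' μ hμ
    obtain ⟨v, rfl⟩ := hu
    have h2 : μ = (μ * (v : R)) * ((v⁻¹ : Rˣ) : R) := by
      rw [mul_assoc, Units.mul_inv, mul_one]
    rw [h2]
    exact Ideal.mul_mem_right _ _ this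
  have hw𝔪 : w ∈ IsLocalRing.maximalIdeal S := hlocal a ha𝔪
  have hwn : w ∉ 𝔞' := by
    intro h
    apply ha
    rw [← hcomap]
    exact h
  have hw : ∀ s, s * w ∈ 𝔞' → s ∈ IsLocalRing.maximalIdeal S := by
    intro s hs
    by_contra hns
    have hu : IsUnit s := IsLocalRing.notMem_maximalIdeal.mp hns
    apply hwn
    obtain ⟨v, rfl⟩ := hu
    have h2 : w = ((v⁻¹ : Sˣ) : S) * ((v : S) * w) := by
      rw [← mul_assoc, Units.inv_mul, one_mul]
    rw [h2]
    exact Ideal.mul_mem_left _ _ hs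
  have h𝔟' : 𝔞' ⊔ Ideal.span {w} ≠ ⊤ := by
    have hle : 𝔞' ⊔ Ideal.span {w} ≤ IsLocalRing.maximalIdeal S :=
      sup_le h𝔞'le ((Ideal.span_singleton_le_iff_mem _).mpr hw𝔪)
    intro h
    rw [h, top_le_iff] at hle
    exact (Ideal.IsPrime.ne_top inferInstance) hle
  have h𝔟ne : ideal𝔟 R 𝔞' w ≠ ⊤ := by
    intro h
    rw [Ideal.eq_top_iff_one, Ideal.mem_comap, map_one] at h
    exact h𝔟' ((Ideal.eq_top_iff_one _).mpr h)
  have h𝔟𝔪 : ideal𝔟 R 𝔞' w ≤ IsLocalRing.maximalIdeal R := IsLocalRing.le_maximalIdeal h𝔟ne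
  have h𝔞𝔟 : 𝔞 < ideal𝔟 R 𝔞' w := by
    refine lt_of_le_of_ne ?_ ?_
    · rw [← hcomap]
      exact Ideal.comap_mono le_sup_left
    · intro h
      apply ha
      rw [h]
      exact Ideal.mem_comap.mpr (Ideal.mem_sup_right (Ideal.mem_span_singleton_self w))
  haveI : Module.Flat (R ⧸ ideal𝔟 R 𝔞' w) ((R ⧸ ideal𝔟 R 𝔞' w) ⊗[R] P) :=
    IH (ideal𝔟 R 𝔞' w) h𝔞𝔟 (𝔞' ⊔ Ideal.span {w}) h𝔟' rfl
  subst hcomap
  -- Fact 1
  have fact1 : ∀ t ∈ ideal𝔟 R 𝔞' w, ∀ μ ∈ IsLocalRing.maximalIdeal R, μ * t ∈ ideal𝔞 R 𝔞' := by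
    intro t ht μ hμ
    obtain ⟨α, hα, β, hβ, h⟩ := Submodule.mem_sup.mp (Ideal.mem_comap.mp ht)
    obtain ⟨c, rfl⟩ := Ideal.mem_span_singleton'.mp hβ
    rw [Ideal.mem_comap, map_mul, ← h, mul_add]
    apply add_mem
    · exact Ideal.mul_mem_left _ _ hα
    · have : algebraMap R S μ * (c * w) = c * algebraMap R S (μ * a) := by
        rw [map_mul, hwdef]
        ring
      rw [this]
      exact Ideal.mul_mem_left _ _ (Ideal.mem_comap.mp (ha' μ hμ))
  -- Fact 2
  have F2 : ∀ t ∈ ideal𝔟 R 𝔞' w, algebraMap R S t ∈ idealJ 𝔞' w → t ∈ ideal𝔞 R 𝔞' := by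
    intro t ht htJ
    by_contra htn
    have hT : ideal𝔟 R 𝔞' (algebraMap R S t) ∈ 𝒯 :=
      ⟨t, htn, fun μ hμ => fact1 t ht μ hμ, rfl⟩
    have hle : ideal𝔟 R 𝔞' (algebraMap R S t) ≤ ideal𝔟 R 𝔞' w := by
      apply Ideal.comap_mono
      exact sup_le le_sup_left ((Ideal.span_singleton_le_iff_mem _).mpr (Ideal.mem_comap.mp ht))
    have heq : ideal𝔟 R 𝔞' (algebraMap R S t) = ideal𝔟 R 𝔞' w := by
      by_contra hne
      exact hmin _ hT (lt_of_le_of_ne hle hne)
    have ha_in : a ∈ ideal𝔟 R 𝔞' (algebraMap R S t) := by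
      rw [heq]
      exact Ideal.mem_comap.mpr (Ideal.mem_sup_right (Ideal.mem_span_singleton_self w))
    obtain ⟨α₁, hα₁, β₁, hβ₁, h1⟩ := Submodule.mem_sup.mp (Ideal.mem_comap.mp ha_in)
    obtain ⟨s, rfl⟩ := Ideal.mem_span_singleton'.mp hβ₁
    obtain ⟨α₂, hα₂, β₂, hβ₂, h2⟩ := Submodule.mem_sup.mp htJ
    obtain ⟨μ', hμ', rfl⟩ := Ideal.mem_mul_span_singleton.mp hβ₂
    apply hwn
    have h3 : (1 - s * μ') * w = α₁ + s * α₂ := by
      have : w = α₁ + s * (α₂ + μ' * w) := by rw [h2]; exact h1.symm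
      linear_combination this
    have hu : IsUnit (1 - s * μ') := by
      apply IsLocalRing.isUnit_one_sub_self_of_mem_nonunits
      rw [← IsLocalRing.mem_maximalIdeal]
      exact Ideal.mul_mem_left _ _ hμ'
    obtain ⟨v, hv⟩ := hu
    have h4 : w = ((v⁻¹ : Sˣ) : S) * ((1 - s * μ') * w) := by
      rw [← hv, ← mul_assoc, Units.inv_mul, one_mul]
    rw [h4, h3]
    exact Ideal.mul_mem_left _ _ (add_mem hα₁ (Ideal.mul_mem_left _ _ hα₂))
  exact flat_step f hf q 𝔞' w A loc hw hlocal F2 hflat h𝔟𝔪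

end Induction

section Main

variable {R : Type u} [CommRing R] [IsLocalRing R] [IsArtinianRing R]
  {S : Type u} [CommRing S] [IsLocalRing S] [Algebra R S]
  {B : Type u} [CommRing B] [Algebra R B] [IsNoetherianRing B]
  {B' : Type u} [CommRing B'] [Algebra R B'] [Algebra S B'] [Algebra B B']
  [IsScalarTower R S B'] [IsScalarTower R B B'] [Algebra.IsPushout R S B B']
  {M : Type u} [AddCommGroup M] [Module R M] [Module B M] [IsScalarTower R B M]
  [Module.Finite B M]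
  {M' : Type u} [AddCommGroup M'] [Module R M'] [Module S M'] [Module B M'] [Module B' M']
  [IsScalarTower R S M'] [IsScalarTower R B M'] [IsScalarTower S B' M'] [IsScalarTower B B' M']

/-- A base change along `B → B' = S ⊗_R B` is a base change along `R → S`. -/
theorem isBaseChange_restrictScalars (f : M →ₗ[B] M') (hf : IsBaseChange B' f) :
    IsBaseChange S (f.restrictScalars R) := by
  let e : S ⊗[R] M ≃ₗ[S] M' :=
    (Algebra.IsPushout.cancelBaseChange R S B B' M).symm ≪≫ₗ (hf.equiv.restrictScalars S)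
  refine IsBaseChange.of_equiv e fun x => ?_
  show hf.equiv ((Algebra.IsPushout.cancelBaseChange R S B B' M).symm (1 ⊗ₜ x)) = f x
  rw [Algebra.IsPushout.cancelBaseChange_symm_tmul, map_one, IsBaseChange.equiv_tmul, one_smul]

/-- **Ring-level core of S4856.**  `R` Artinian local, `S` a local `R`-algebra, `B` a Noetherian
`R`-algebra with a prime `q`, `M` a finite `B`-module, `B' = S ⊗_R B`, `M' = B' ⊗_B M`.  If `M'` is
`S`-flat at every prime of `B'` lying over `q` and over the maximal ideal of `S`, then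
`M_q / K M_q` is flat over `R / K`, `K = ker (R → S)`. -/
theorem flat_quotient_ker_of_local (q : Ideal B) [q.IsPrime] (f : M →ₗ[B] M')
    (hf : IsBaseChange B' f)
    (hflat : ∀ (q' : Ideal B') [q'.IsPrime], q'.comap (algebraMap B B') = q →
      q'.comap (algebraMap S B') = IsLocalRing.maximalIdeal S →
      Module.Flat S (LocalizedModule q'.primeCompl M')) :
    Module.Flat (R ⧸ RingHom.ker (algebraMap R S))
      ((R ⧸ RingHom.ker (algebraMap R S)) ⊗[R] LocalizedModule q.primeCompl M) := by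
  haveI : SMulCommClass B S M' := ⟨fun b s m' => smul_comm_BS B' b s m'⟩
  have hf' := isBaseChange_restrictScalars (R := R) (S := S) f hf
  haveI : IsNoetherianRing (Localization.AtPrime q) :=
    IsLocalization.isNoetherianRing q.primeCompl _ inferInstance
  haveI : Module.Finite (Localization.AtPrime q) (LocalizedModule q.primeCompl M) :=
    Module.Finite.of_isLocalizedModule q.primeCompl (LocalizedModule.mkLinearMap q.primeCompl M)
  exact flat_quotient_of_local f hf' q (Localization.AtPrime q)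
    (LocalizedModule.mkLinearMap q.primeCompl M) hflat (RingHom.ker (algebraMap R S)) ⊥
    bot_ne_top (RingHom.ker_eq_comap_bot _).symm

end Main

end Groth.Agent.H76.LocalFamilyFlat
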