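import Groth.Agent.H76.LocalFamilyFlat

/-!
# Noetherian local version of `LocalFamilyFlat` (helper76)

`R` Noetherian local, `S` a local `R`-algebra with local structure map: flatness modulo every
contracted ideal containing a power of the maximal ideal.
-/

set_option autoImplicit false
universe u

open TensorProduct

namespace Groth.Agent.H76.LocalFamilyFlatNoeth

open Groth.Agent.H76.FlatGlue Groth.Agent.H76.NilFlat Groth.Agent.H76.PowFlat
  Groth.Agent.H76.SquareFlat Groth.Agent.H76.LocalFamilyFlat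

section Prelim

variable {R : Type u} [CommRing R] [IsLocalRing R] [IsNoetherianRing R]

theorem isArtinianRing_quotient_of_pow_le (𝔞 : Ideal R) (h1 : 𝔞 ≠ ⊤)
    (hN : ∃ N, IsLocalRing.maximalIdeal R ^ N ≤ 𝔞) : IsArtinianRing (R ⧸ 𝔞) := by
  haveI : Nontrivial (R ⧸ 𝔞) := Ideal.Quotient.nontrivial_iff.mpr h1
  haveI : IsLocalRing (R ⧸ 𝔞) :=
    IsLocalRing.of_surjective' (Ideal.Quotient.mk 𝔞) Ideal.Quotient.mk_surjective
  rw [isArtinianRing_iff_isNilpotent_maximalIdeal]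
  obtain ⟨N, hN⟩ := hN
  refine ⟨N, ?_⟩
  have hle : IsLocalRing.maximalIdeal (R ⧸ 𝔞) ≤
      (IsLocalRing.maximalIdeal R).map (Ideal.Quotient.mk 𝔞) := by
    intro x hx
    obtain ⟨r, rfl⟩ := Ideal.Quotient.mk_surjective x
    apply Ideal.mem_map_of_mem
    by_contra hr
    have hu : IsUnit r := IsLocalRing.notMem_maximalIdeal.mp hr
    exact (IsLocalRing.mem_maximalIdeal _).mp hx (hu.map (Ideal.Quotient.mk 𝔞))
  rw [Ideal.zero_eq_bot, eq_bot_iff]
  refine (Ideal.pow_right_mono hle N).trans ?_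
  rw [← Ideal.map_pow, Ideal.map_le_iff_le_comap]
  refine hN.trans ?_
  intro x hx
  rw [Ideal.mem_comap]
  exact (Submodule.mem_bot _).mpr (Ideal.Quotient.eq_zero_iff_mem.mpr hx)

theorem exists_minimal_of_le (𝔞 : Ideal R) (h1 : 𝔞 ≠ ⊤)
    (hN : ∃ N, IsLocalRing.maximalIdeal R ^ N ≤ 𝔞) (𝒯 : Set (Ideal R)) (hne : 𝒯.Nonempty)
    (hle : ∀ T ∈ 𝒯, 𝔞 ≤ T) : ∃ T₀ ∈ 𝒯, ∀ T ∈ 𝒯, ¬ T < T₀ := by
  haveI := isArtinianRing_quotient_of_pow_le 𝔞 h1 hN
  obtain ⟨_, ⟨T₀, hT₀, rfl⟩, hmin⟩ := WellFounded.has_min (wellFounded_lt (α := Ideal (R ⧸ 𝔞)))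
    ((Ideal.map (Ideal.Quotient.mk 𝔞)) '' 𝒯) (hne.image _)
  refine ⟨T₀, hT₀, fun T hT hlt => ?_⟩
  apply hmin _ ⟨T, hT, rfl⟩
  refine lt_of_le_of_ne (Ideal.map_mono hlt.le) fun heq => ?_
  have h2 : ∀ T' ∈ 𝒯, (T'.map (Ideal.Quotient.mk 𝔞)).comap (Ideal.Quotient.mk 𝔞) = T' := by
    intro T' hT'
    rw [Ideal.comap_map_of_surjective _ Ideal.Quotient.mk_surjective, ← RingHom.ker_eq_comap_bot,
      Ideal.mk_ker, sup_eq_left]
    exact hle T' hT'
  have : T = T₀ := by rw [← h2 T hT, ← h2 T₀ hT₀, heq]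
  exact hlt.ne this

theorem exists_socle_element' (𝔞 : Ideal R) (h1 : 𝔞 ≠ ⊤)
    (hex : ∃ N, IsLocalRing.maximalIdeal R ^ N ≤ 𝔞) :
    ∃ a, a ∉ 𝔞 ∧ ∀ μ ∈ IsLocalRing.maximalIdeal R, μ * a ∈ 𝔞 := by
  classical
  set j := Nat.find hex with hj
  have hjle : IsLocalRing.maximalIdeal R ^ j ≤ 𝔞 := Nat.find_spec hex
  have hj0 : j ≠ 0 := by
    intro h0
    rw [h0, pow_zero, Ideal.one_eq_top, top_le_iff] at hjle
    exact h1 hjle
  obtain ⟨k, hk⟩ := Nat.exists_eq_succ_of_ne_zero hj0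
  have hk' : ¬ IsLocalRing.maximalIdeal R ^ k ≤ 𝔞 := Nat.find_min hex (by omega)
  obtain ⟨a, hak, ha⟩ := SetLike.not_le_iff_exists.mp hk'
  refine ⟨a, ha, fun μ hμ => hjle ?_⟩
  rw [hk, pow_succ']
  exact Ideal.mul_mem_mul hμ hak

end Prelim

section Induction

variable {R : Type u} [CommRing R] [IsLocalRing R] [IsNoetherianRing R]
  {S : Type u} [CommRing S] [IsLocalRing S] [Algebra R S]
  {B : Type u} [CommRing B] [Algebra R B]
  {B' : Type u} [CommRing B'] [Algebra R B'] [Algebra S B'] [Algebra B B']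
  [IsScalarTower R S B'] [IsScalarTower R B B']
  {M : Type u} [AddCommGroup M] [Module R M] [Module B M] [IsScalarTower R B M]
  {M' : Type u} [AddCommGroup M'] [Module R M'] [Module S M'] [Module B M'] [Module B' M']
  [IsScalarTower R S M'] [IsScalarTower R B M'] [IsScalarTower S B' M'] [IsScalarTower B B' M']
  [SMulCommClass B S M']
  (f : M →ₗ[B] M') (hf : IsBaseChange S (f.restrictScalars R))
  (q : Ideal B) [q.IsPrime]

include hf in
/-- Flatness modulo every contracted ideal containing a power of the maximal ideal. -/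
theorem flat_quotient_of_local_noeth
    (A : Type u) [CommRing A] [Algebra B A] [IsLocalization.AtPrime A q] [Algebra R A]
    [IsScalarTower R B A] [IsNoetherianRing A] [IsLocalRing A]
    {P : Type u} [AddCommGroup P] [Module R P] [Module B P] [Module A P]
    [IsScalarTower R B P] [IsScalarTower B A P] [IsScalarTower R A P] [Module.Finite A P]
    (loc : M →ₗ[B] P) [IsLocalizedModule q.primeCompl loc]
    (hlocal : ∀ μ ∈ IsLocalRing.maximalIdeal R,
      algebraMap R S μ ∈ IsLocalRing.maximalIdeal S)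
    (hflat : ∀ (q' : Ideal B') [q'.IsPrime], q'.comap (algebraMap B B') = q →
      q'.comap (algebraMap S B') = IsLocalRing.maximalIdeal S →
      Module.Flat S (LocalizedModule q'.primeCompl M')) :
    ∀ (𝔞 : Ideal R) (𝔞' : Ideal S), 𝔞' ≠ ⊤ → 𝔞'.comap (algebraMap R S) = 𝔞 →
      (∃ N, IsLocalRing.maximalIdeal R ^ N ≤ 𝔞) →
      Module.Flat (R ⧸ 𝔞) ((R ⧸ 𝔞) ⊗[R] P) := by
  intro 𝔞
  induction 𝔞 using IsNoetherian.induction with
  | hgt 𝔞 IH =>
  intro 𝔞' h𝔞' hcomap hN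
  have h𝔞'le : 𝔞' ≤ IsLocalRing.maximalIdeal S := IsLocalRing.le_maximalIdeal h𝔞'
  have h𝔞ne : 𝔞 ≠ ⊤ := by
    intro h
    rw [← hcomap, Ideal.eq_top_iff_one, Ideal.mem_comap, map_one] at h
    exact h𝔞' ((Ideal.eq_top_iff_one _).mpr h)
  have h𝔞le : 𝔞 ≤ IsLocalRing.maximalIdeal R := IsLocalRing.le_maximalIdeal h𝔞ne
  by_cases hmax : 𝔞 = IsLocalRing.maximalIdeal R
  · rw [hmax]
    exact flat_quotient_maximalIdeal P
  -- choose a socle element with minimal contraction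
  let 𝒯 : Set (Ideal R) := {T | ∃ a, a ∉ 𝔞 ∧ (∀ μ ∈ IsLocalRing.maximalIdeal R, μ * a ∈ 𝔞) ∧
    T = ideal𝔟 R 𝔞' (algebraMap R S a)}
  have h𝒯 : 𝒯.Nonempty := by
    obtain ⟨a, ha, ha'⟩ := exists_socle_element' 𝔞 h𝔞ne hN
    exact ⟨_, a, ha, ha', rfl⟩
  have h𝒯le : ∀ T ∈ 𝒯, 𝔞 ≤ T := by
    rintro T ⟨a, -, -, rfl⟩
    rw [← hcomap]
    exact Ideal.comap_mono le_sup_left
  obtain ⟨T₀, ⟨a, ha, ha', rfl⟩, hmin⟩ := exists_minimal_of_le 𝔞 h𝔞ne hN 𝒯 h𝒯 h𝒯le
  set w := algebraMap R S a with hwdef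
  have ha𝔪 : a ∈ IsLocalRing.maximalIdeal R := by
    by_contra hna
    have hu : IsUnit a := IsLocalRing.notMem_maximalIdeal.mp hna
    apply hmax
    refine le_antisymm h𝔞le fun μ hμ => ?_
    have := ha' μ hμ
    obtain ⟨v, rfl⟩ := hu
    have h2 : μ = (μ * (v : R)) * ((v⁻¹ : Rˣ) : R) := by
      rw [mul_assoc, Units.mul_inv, mul_one]
    rw [h2]
    exact Ideal.mul_mem_right _ _ this
  have hw𝔪 : w ∈ IsLocalRing.maximalIdeal S := hlocal a ha𝔪
  have hwn : w ∉ 𝔞' := by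
    intro h
    apply ha
    rw [← hcomap]
    exact h
  have hw : ∀ s, s * w ∈ 𝔞' → s ∈ IsLocalRing.maximalIdeal S := by
    intro s hs
    by_contra hns
    have hu : IsUnit s := IsLocalRing.notMem_maximalIdeal.mp hns
    apply hwn
    obtain ⟨v, rfl⟩ := hu
    have h2 : w = ((v⁻¹ : Sˣ) : S) * ((v : S) * w) := by
      rw [← mul_assoc, Units.inv_mul, one_mul]
    rw [h2]
    exact Ideal.mul_mem_left _ _ hs
  have h𝔟' : 𝔞' ⊔ Ideal.span {w} ≠ ⊤ := by
    have hle : 𝔞' ⊔ Ideal.span {w} ≤ IsLocalRing.maximalIdeal S :=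
      sup_le h𝔞'le ((Ideal.span_singleton_le_iff_mem _).mpr hw𝔪)
    intro h
    rw [h, top_le_iff] at hle
    exact (Ideal.IsPrime.ne_top inferInstance) hle
  have h𝔟ne : ideal𝔟 R 𝔞' w ≠ ⊤ := by
    intro h
    rw [Ideal.eq_top_iff_one, Ideal.mem_comap, map_one] at h
    exact h𝔟' ((Ideal.eq_top_iff_one _).mpr h)
  have h𝔟𝔪 : ideal𝔟 R 𝔞' w ≤ IsLocalRing.maximalIdeal R := IsLocalRing.le_maximalIdeal h𝔟ne
  have h𝔞𝔟 : 𝔞 < ideal𝔟 R 𝔞' w := by
    refine lt_of_le_of_ne ?_ ?_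
    · rw [← hcomap]
      exact Ideal.comap_mono le_sup_left
    · intro h
      apply ha
      rw [h]
      exact Ideal.mem_comap.mpr (Ideal.mem_sup_right (Ideal.mem_span_singleton_self w))
  haveI : Module.Flat (R ⧸ ideal𝔟 R 𝔞' w) ((R ⧸ ideal𝔟 R 𝔞' w) ⊗[R] P) :=
    IH (ideal𝔟 R 𝔞' w) h𝔞𝔟 (𝔞' ⊔ Ideal.span {w}) h𝔟' rfl
      (by obtain ⟨N, hN⟩ := hN; exact ⟨N, hN.trans h𝔞𝔟.le⟩)
  subst hcomap
  -- Fact 1
  have fact1 : ∀ t ∈ ideal𝔟 R 𝔞' w, ∀ μ ∈ IsLocalRing.maximalIdeal R, μ * t ∈ ideal𝔞 R 𝔞' := by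
    intro t ht μ hμ
    obtain ⟨α, hα, β, hβ, h⟩ := Submodule.mem_sup.mp (Ideal.mem_comap.mp ht)
    obtain ⟨c, rfl⟩ := Ideal.mem_span_singleton'.mp hβ
    rw [Ideal.mem_comap, map_mul, ← h, mul_add]
    apply add_mem
    · exact Ideal.mul_mem_left _ _ hα
    · have : algebraMap R S μ * (c * w) = c * algebraMap R S (μ * a) := by
        rw [map_mul, hwdef]
        ring
      rw [this]
      exact Ideal.mul_mem_left _ _ (Ideal.mem_comap.mp (ha' μ hμ))
  -- Fact 2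
  have F2 : ∀ t ∈ ideal𝔟 R 𝔞' w, algebraMap R S t ∈ idealJ 𝔞' w → t ∈ ideal𝔞 R 𝔞' := by
    intro t ht htJ
    by_contra htn
    have hT : ideal𝔟 R 𝔞' (algebraMap R S t) ∈ 𝒯 :=
      ⟨t, htn, fun μ hμ => fact1 t ht μ hμ, rfl⟩
    have hle : ideal𝔟 R 𝔞' (algebraMap R S t) ≤ ideal𝔟 R 𝔞' w := by
      apply Ideal.comap_mono
      exact sup_le le_sup_left ((Ideal.span_singleton_le_iff_mem _).mpr (Ideal.mem_comap.mp ht))
    have heq : ideal𝔟 R 𝔞' (algebraMap R S t) = ideal𝔟 R 𝔞' w := by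
      by_contra hne
      exact hmin _ hT (lt_of_le_of_ne hle hne)
    have ha_in : a ∈ ideal𝔟 R 𝔞' (algebraMap R S t) := by
      rw [heq]
      exact Ideal.mem_comap.mpr (Ideal.mem_sup_right (Ideal.mem_span_singleton_self w))
    obtain ⟨α₁, hα₁, β₁, hβ₁, h1⟩ := Submodule.mem_sup.mp (Ideal.mem_comap.mp ha_in)
    obtain ⟨s, rfl⟩ := Ideal.mem_span_singleton'.mp hβ₁
    obtain ⟨α₂, hα₂, β₂, hβ₂, h2⟩ := Submodule.mem_sup.mp htJ
    obtain ⟨μ', hμ', rfl⟩ := Ideal.mem_mul_span_singleton.mp hβ₂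
    apply hwn
    have h3 : (1 - s * μ') * w = α₁ + s * α₂ := by
      have : w = α₁ + s * (α₂ + μ' * w) := by rw [h2]; exact h1.symm
      linear_combination this
    have hu : IsUnit (1 - s * μ') := by
      apply IsLocalRing.isUnit_one_sub_self_of_mem_nonunits
      rw [← IsLocalRing.mem_maximalIdeal]
      exact Ideal.mul_mem_left _ _ hμ'
    obtain ⟨v, hv⟩ := hu
    have h4 : w = ((v⁻¹ : Sˣ) : S) * ((1 - s * μ') * w) := by
      rw [← hv, ← mul_assoc, Units.inv_mul, one_mul]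
    rw [h4, h3]
    exact Ideal.mul_mem_left _ _ (add_mem hα₁ (Ideal.mul_mem_left _ _ hα₂))
  exact flat_step f hf q 𝔞' w A loc hw hlocal F2 hflat h𝔟𝔪

end Induction

section BC

variable {R : Type u} [CommRing R] {S : Type u} [CommRing S] [Algebra R S]
  {B : Type u} [CommRing B] [Algebra R B]
  {B' : Type u} [CommRing B'] [Algebra R B'] [Algebra S B'] [Algebra B B']
  [IsScalarTower R S B'] [IsScalarTower R B B'] [Algebra.IsPushout R S B B']
  {M : Type u} [AddCommGroup M] [Module R M] [Module B M] [IsScalarTower R B M]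
  {M' : Type u} [AddCommGroup M'] [Module R M'] [Module S M'] [Module B M'] [Module B' M']
  [IsScalarTower R S M'] [IsScalarTower R B M'] [IsScalarTower S B' M'] [IsScalarTower B B' M']

/-- A base change along `B → B' = S ⊗_R B` is a base change along `R → S`. -/
theorem isBaseChange_restrictScalars' (f : M →ₗ[B] M') (hf : IsBaseChange B' f) :
    IsBaseChange S (f.restrictScalars R) := by
  let e : S ⊗[R] M ≃ₗ[S] M' :=
    (Algebra.IsPushout.cancelBaseChange R S B B' M).symm ≪≫ₗ (hf.equiv.restrictScalars S)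
  refine IsBaseChange.of_equiv e fun x => ?_
  show hf.equiv ((Algebra.IsPushout.cancelBaseChange R S B B' M).symm (1 ⊗ₜ x)) = f x
  rw [Algebra.IsPushout.cancelBaseChange_symm_tmul, map_one, IsBaseChange.equiv_tmul, one_smul]

end BC

section Main

variable {R : Type u} [CommRing R] [IsLocalRing R] [IsNoetherianRing R]
  {S : Type u} [CommRing S] [IsLocalRing S] [Algebra R S]
  {B : Type u} [CommRing B] [Algebra R B] [IsNoetherianRing B]
  {B' : Type u} [CommRing B'] [Algebra R B'] [Algebra S B'] [Algebra B B']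
  [IsScalarTower R S B'] [IsScalarTower R B B'] [Algebra.IsPushout R S B B']
  {M : Type u} [AddCommGroup M] [Module R M] [Module B M] [IsScalarTower R B M]
  [Module.Finite B M]
  {M' : Type u} [AddCommGroup M'] [Module R M'] [Module S M'] [Module B M'] [Module B' M']
  [IsScalarTower R S M'] [IsScalarTower R B M'] [IsScalarTower S B' M'] [IsScalarTower B B' M']

/-- **Noetherian local base.**  Flatness of `M_q / 𝔞 M_q` over `R / 𝔞` for every ideal `𝔞`
contracted from a proper ideal of `S` and containing a power of the maximal ideal. -/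
theorem flat_quotient_comap_of_local (q : Ideal B) [q.IsPrime] (f : M →ₗ[B] M')
    (hf : IsBaseChange B' f)
    (hlocal : ∀ μ ∈ IsLocalRing.maximalIdeal R,
      algebraMap R S μ ∈ IsLocalRing.maximalIdeal S)
    (hflat : ∀ (q' : Ideal B') [q'.IsPrime], q'.comap (algebraMap B B') = q →
      q'.comap (algebraMap S B') = IsLocalRing.maximalIdeal S →
      Module.Flat S (LocalizedModule q'.primeCompl M'))
    (𝔞' : Ideal S) (h𝔞' : 𝔞' ≠ ⊤)
    (hN : ∃ N, IsLocalRing.maximalIdeal R ^ N ≤ 𝔞'.comap (algebraMap R S)) :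
    Module.Flat (R ⧸ 𝔞'.comap (algebraMap R S))
      ((R ⧸ 𝔞'.comap (algebraMap R S)) ⊗[R] LocalizedModule q.primeCompl M) := by
  haveI : SMulCommClass B S M' := ⟨fun b s m' => smul_comm_BS B' b s m'⟩
  have hf' := isBaseChange_restrictScalars' (R := R) (S := S) f hf
  haveI : IsNoetherianRing (Localization.AtPrime q) :=
    IsLocalization.isNoetherianRing q.primeCompl _ inferInstance
  haveI : Module.Finite (Localization.AtPrime q) (LocalizedModule q.primeCompl M) :=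
    Module.Finite.of_isLocalizedModule q.primeCompl (LocalizedModule.mkLinearMap q.primeCompl M)
  exact flat_quotient_of_local_noeth f hf' q (Localization.AtPrime q)
    (LocalizedModule.mkLinearMap q.primeCompl M) hlocal hflat _ 𝔞' h𝔞' rfl hN

end Main

section Mono

variable {R : Type u} [CommRing R] (M : Type u) [AddCommGroup M] [Module R M]

/-- Flatness modulo a smaller ideal gives flatness modulo a larger one. -/
theorem flat_quotient_mono (𝔠 𝔫 : Ideal R) (h : 𝔠 ≤ 𝔫)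
    [Module.Flat (R ⧸ 𝔠) ((R ⧸ 𝔠) ⊗[R] M)] : Module.Flat (R ⧸ 𝔫) ((R ⧸ 𝔫) ⊗[R] M) := by
  rw [Module.Flat.iff_rTensor_injective']
  intro 𝔟
  apply rTensor_baseChange_injective (R := R)
  apply tinj_of_killed 𝔠 M
  · exact Subtype.val_injective
  · intro i hi y
    obtain ⟨r, rfl⟩ := Ideal.Quotient.mk_surjective y
    have h1 : i • (Ideal.Quotient.mk 𝔫) r = (Ideal.Quotient.mk 𝔫) (i * r) := by
      rw [Algebra.smul_def]
      rfl
    rw [h1, Ideal.Quotient.eq_zero_iff_mem]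
    exact 𝔫.mul_mem_right r (h hi)

end Mono

end Groth.Agent.H76.LocalFamilyFlatNoeth
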