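import Mathlib
import Groth.Agent.H76.LocalFamilyFlat
import Groth.Agent.H76.FlatLocusSheaf
import Groth.Agent.Lib.Helper16.FlatPull.BaseChange

/-!
# Scheme-level plumbing for S4856 (helper76)
-/

set_option linter.style.haveILetI false
set_option autoImplicit false
universe u

open CategoryTheory CategoryTheory.Limits AlgebraicGeometry TopologicalSpace Opposite TensorProduct

namespace Groth.Agent.H76.LocalFamilyFlatScheme

open Groth.Agent.Lib.Helper12.FlatOver Groth.Agent.Lib.Helper16.FlatPull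
  Groth.Agent.H76.FlatLocusSheaf Groth.Agent.H76.LocalFamilyFlat

/-- The image under `h` of the point of `W` attached to a prime `P` is the point of `U` attached
to the contraction of `P`. -/
theorem base_pointOfPrime {X Y : Scheme.{u}} (h : X ⟶ Y) {U : Y.Opens} (hU : IsAffineOpen U)
    {W : X.Opens} (hW : IsAffineOpen W) (e : W ≤ h ⁻¹ᵁ U) (P : PrimeSpectrum Γ(X, W)) :
    h.base (pointOfPrime hW P : X) =
      hU.fromSpec.base (PrimeSpectrum.comap (h.appLE U W e).hom P) := by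
  have h1 : (pointOfPrime hW P : X) = hW.fromSpec.base P := rfl
  rw [h1, ← Scheme.Hom.comp_apply, ← IsAffineOpen.SpecMap_appLE_fromSpec h hU hW e,
    Scheme.Hom.comp_apply]
  rfl

set_option backward.isDefEq.respectTransparency.types false in
/-- Per-index statement: flatness modulo the kernel of `Γ(S, V) → Γ(S', V₁)`. -/
theorem flat_quotient_ker_sections {X S X' S' : Scheme.{u}} (f : X ⟶ S) (f' : X' ⟶ S')
    (g' : X' ⟶ X) (g : S' ⟶ S) (hc : IsPullback g' f' f g) (F : X.Modules) [F.IsQuasicoherent]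
    {V : S.Opens} (hV : IsAffineOpen V) {V₁ : S'.Opens} (hV₁ : IsAffineOpen V₁)
    (eV₁ : V₁ ≤ g ⁻¹ᵁ V) {U : X.Opens} (hU : IsAffineOpen U) (eU : U ≤ f ⁻¹ᵁ V) (x : U)
    [IsLocalRing Γ(S, V)] [IsArtinianRing Γ(S, V)] [IsLocalRing Γ(S', V₁)]
    [IsNoetherianRing Γ(X, U)] [Module.Finite Γ(X, U) Γ(F, U)]
    (hflat : ∀ x' : X', g'.base x' = (x : X) →
      f'.base x' = hV₁.fromSpec.base (IsLocalRing.closedPoint Γ(S', V₁)) →
      FlatMod.IsFlatOverAt f' ((Scheme.Modules.pullback g').obj F) x') :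
    letI : Algebra Γ(S, V) Γ(X, U) := (f.appLE V U eU).hom.toAlgebra
    letI : Module Γ(S, V) Γ(F, U) := Module.compHom _ (f.appLE V U eU).hom
    haveI : IsScalarTower Γ(S, V) Γ(X, U) Γ(F, U) := IsScalarTower.of_compHom _ _ _
    Module.Flat (Γ(S, V) ⧸ RingHom.ker (g.appLE V V₁ eV₁).hom)
      ((Γ(S, V) ⧸ RingHom.ker (g.appLE V V₁ eV₁).hom) ⊗[Γ(S, V)]
        LocalizedModule (hU.primeIdealOf x).asIdeal.primeCompl Γ(F, U)) := by
  set W : X'.Opens := g' ⁻¹ᵁ U ⊓ f' ⁻¹ᵁ V₁ with hWdef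
  have e1 : W ≤ g' ⁻¹ᵁ U := inf_le_left
  have e2 : W ≤ f' ⁻¹ᵁ V₁ := inf_le_right
  have hiso := isIso_pushoutSection_of_isAffineOpen hc eV₁ eU hWdef hV hV₁ hU
  have hpush := (isIso_pushoutSection_iff hc eV₁ eU hWdef).mp hiso
  have hW : IsAffineOpen W := by
    have : IsAffine (Scheme.Opens.toScheme V) := hV
    have : IsAffine (Scheme.Opens.toScheme V₁) := hV₁
    have : IsAffine (Scheme.Opens.toScheme U) := hU
    exact .of_isIso (Scheme.Hom.isPullback_resLE hc eV₁ eU hWdef).isoPullback.hom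
  haveI hN : ((Scheme.Modules.pullback g').obj F).IsQuasicoherent := isQuasicoherent_pullback g' F
  -- algebras between section rings
  letI algRA : Algebra Γ(S, V) Γ(X, U) := (f.appLE V U eU).hom.toAlgebra
  letI algRR₁ : Algebra Γ(S, V) Γ(S', V₁) := (g.appLE V V₁ eV₁).hom.toAlgebra
  letI algAB : Algebra Γ(X, U) Γ(X', W) := (g'.appLE U W e1).hom.toAlgebra
  letI algR₁B : Algebra Γ(S', V₁) Γ(X', W) := (f'.appLE V₁ W e2).hom.toAlgebra
  letI algRB : Algebra Γ(S, V) Γ(X', W) :=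
    ((g'.appLE U W e1).hom.comp (f.appLE V U eU).hom).toAlgebra
  haveI tRAB : IsScalarTower Γ(S, V) Γ(X, U) Γ(X', W) := .of_algebraMap_eq' rfl
  haveI tRR₁B : IsScalarTower Γ(S, V) Γ(S', V₁) Γ(X', W) :=
    .of_algebraMap_eq' congr($(hpush.w).hom)
  have hP : Algebra.IsPushout Γ(S, V) Γ(X, U) Γ(S', V₁) Γ(X', W) :=
    CommRingCat.isPushout_iff_isPushout.mp hpush
  haveI hP' : Algebra.IsPushout Γ(S, V) Γ(S', V₁) Γ(X, U) Γ(X', W) := hP.symm
  -- modules
  letI modRM : Module Γ(S, V) Γ(F, U) := Module.compHom _ (f.appLE V U eU).hom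
  haveI tRAM : IsScalarTower Γ(S, V) Γ(X, U) Γ(F, U) := IsScalarTower.of_compHom _ _ _
  letI modAM' : Module Γ(X, U) Γ((Scheme.Modules.pullback g').obj F, W) :=
    Module.compHom _ (g'.appLE U W e1).hom
  haveI tABM' : IsScalarTower Γ(X, U) Γ(X', W) Γ((Scheme.Modules.pullback g').obj F, W) :=
    IsScalarTower.of_compHom _ _ _
  letI modR₁M' : Module Γ(S', V₁) Γ((Scheme.Modules.pullback g').obj F, W) :=
    Module.compHom _ (f'.appLE V₁ W e2).hom
  haveI tR₁BM' : IsScalarTower Γ(S', V₁) Γ(X', W) Γ((Scheme.Modules.pullback g').obj F, W) :=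
    IsScalarTower.of_compHom _ _ _
  letI modRM' : Module Γ(S, V) Γ((Scheme.Modules.pullback g').obj F, W) :=
    Module.compHom _ (algebraMap Γ(S, V) Γ(X', W))
  haveI tRBM' : IsScalarTower Γ(S, V) Γ(X', W) Γ((Scheme.Modules.pullback g').obj F, W) :=
    IsScalarTower.of_compHom _ _ _
  haveI tRAM' : IsScalarTower Γ(S, V) Γ(X, U) Γ((Scheme.Modules.pullback g').obj F, W) := by
    refine IsScalarTower.of_algebraMap_smul fun r m => ?_
    rw [← algebraMap_smul Γ(X', W) (algebraMap Γ(S, V) Γ(X, U) r) m,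
      ← IsScalarTower.algebraMap_apply, algebraMap_smul]
  haveI tRR₁M' : IsScalarTower Γ(S, V) Γ(S', V₁) Γ((Scheme.Modules.pullback g').obj F, W) := by
    refine IsScalarTower.of_algebraMap_smul fun r m => ?_
    rw [← algebraMap_smul Γ(X', W) (algebraMap Γ(S, V) Γ(S', V₁) r) m,
      ← IsScalarTower.algebraMap_apply, algebraMap_smul]
  obtain ⟨φ, hφ⟩ := exists_isBaseChange_sections g' hU hW e1 F
  have hker : RingHom.ker (g.appLE V V₁ eV₁).hom = RingHom.ker (algebraMap Γ(S, V) Γ(S', V₁)) :=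
    rfl
  rw [hker]
  refine flat_quotient_ker_of_local (hU.primeIdealOf x).asIdeal φ hφ ?_
  intro q' hq' hq1 hq2
  let P : PrimeSpectrum Γ(X', W) := ⟨q', hq'⟩
  have hx1 : g'.base (pointOfPrime hW P : X') = (x : X) := by
    rw [base_pointOfPrime g' hU hW e1 P]
    have : PrimeSpectrum.comap (g'.appLE U W e1).hom P = hU.primeIdealOf x :=
      PrimeSpectrum.ext hq1
    rw [this]
    exact hU.fromSpec_primeIdealOf x
  have hx2 : f'.base (pointOfPrime hW P : X') =
      hV₁.fromSpec.base (IsLocalRing.closedPoint Γ(S', V₁)) := by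
    rw [base_pointOfPrime f' hV₁ hW e2 P]
    have : PrimeSpectrum.comap (f'.appLE V₁ W e2).hom P = IsLocalRing.closedPoint Γ(S', V₁) :=
      PrimeSpectrum.ext hq2
    rw [this]
  have h3 := (isFlatOverAt_iff_flat_localizedModule f' ((Scheme.Modules.pullback g').obj F) hV₁ hW
    e2 (pointOfPrime hW P)).mp (hflat _ hx1 hx2)
  rw [primeIdealOf_pointOfPrime hW P] at h3
  exact h3

/-- In an Artinian ring, a family of ideals with zero intersection has a finite subfamily with zero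
intersection. -/
theorem exists_finset_inf_eq_bot {R : Type*} [CommRing R] [IsArtinianRing R] {ι : Type*}
    (K : ι → Ideal R) (hK : ∀ r : R, (∀ i, r ∈ K i) → r = 0) : ∃ s : Finset ι, s.inf K = ⊥ := by
  classical
  let 𝒯 : Set (Ideal R) := Set.range fun s : Finset ι => s.inf K
  obtain ⟨_, ⟨s₀, rfl⟩, hmin⟩ := WellFounded.has_min (wellFounded_lt (α := Ideal R)) 𝒯
    ⟨_, ⟨∅, rfl⟩⟩
  refine ⟨s₀, ?_⟩
  rw [eq_bot_iff]
  intro r hr
  rw [Submodule.mem_bot]
  apply hK
  intro i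
  have hle : (insert i s₀).inf K ≤ s₀.inf K := by
    rw [Finset.inf_insert]
    exact inf_le_right
  have heq : (insert i s₀).inf K = s₀.inf K := by
    by_contra hne
    exact hmin _ ⟨insert i s₀, rfl⟩ (lt_of_le_of_ne hle hne)
  have : r ∈ (insert i s₀).inf K := by
    rw [heq]
    exact hr
  rw [Finset.inf_insert] at this
  exact this.1

/-- The point of `Spec R` attached by `fromSpec` of the top open to the closed point of
`Γ(Spec R, ⊤)` is the closed point. -/
theorem fromSpec_top_closedPoint (R : CommRingCat.{u}) [IsLocalRing R]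
    [IsLocalRing Γ(Spec R, ⊤)] :
    (isAffineOpen_top (Spec R)).fromSpec.base (IsLocalRing.closedPoint Γ(Spec R, ⊤)) =
      IsLocalRing.closedPoint R := by
  rw [IsAffineOpen.fromSpec_top, Scheme.isoSpec_Spec_inv]
  haveI : IsLocalHom (Scheme.ΓSpecIso R).inv.hom := isLocalHom_of_iso (Scheme.ΓSpecIso R).symm
  exact IsLocalRing.comap_closedPoint (Scheme.ΓSpecIso R).inv.hom

end Groth.Agent.H76.LocalFamilyFlatScheme
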