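import Mathlib
import Groth.Agent.H76.LocalFamilyFlatNoeth
import Groth.Agent.H76.LocalFamilyFlatScheme
import Groth.Agent.H76.LocalCritPow
import Groth.Agent.Lib.Helper45.FiniteType

/-!
# Scheme-level plumbing for S4857 (helper76)
-/

set_option linter.style.haveILetI false
set_option autoImplicit false
universe u

open CategoryTheory CategoryTheory.Limits AlgebraicGeometry TopologicalSpace Opposite TensorProduct

namespace Groth.Agent.H76.LocalFamilyFlatNoethScheme

open Groth.Agent.Lib.Helper12.FlatOver Groth.Agent.Lib.Helper16.FlatPull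
  Groth.Agent.H76.FlatLocusSheaf Groth.Agent.H76.LocalFamilyFlat
  Groth.Agent.H76.LocalFamilyFlatNoeth Groth.Agent.H76.LocalFamilyFlatScheme

set_option backward.isDefEq.respectTransparency.types false in
/-- Per-index statement, Noetherian local base: flatness modulo a contracted ideal containing a
power of the maximal ideal. -/
theorem flat_quotient_comap_sections {X S X' S' : Scheme.{u}} (f : X ⟶ S) (f' : X' ⟶ S')
    (g' : X' ⟶ X) (g : S' ⟶ S) (hc : IsPullback g' f' f g) (F : X.Modules) [F.IsQuasicoherent]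
    {V : S.Opens} (hV : IsAffineOpen V) {V₁ : S'.Opens} (hV₁ : IsAffineOpen V₁)
    (eV₁ : V₁ ≤ g ⁻¹ᵁ V) {U : X.Opens} (hU : IsAffineOpen U) (eU : U ≤ f ⁻¹ᵁ V) (x : U)
    [IsLocalRing Γ(S, V)] [IsNoetherianRing Γ(S, V)] [IsLocalRing Γ(S', V₁)]
    [IsNoetherianRing Γ(X, U)] [Module.Finite Γ(X, U) Γ(F, U)]
    (hflat : ∀ x' : X', g'.base x' = (x : X) →
      f'.base x' = hV₁.fromSpec.base (IsLocalRing.closedPoint Γ(S', V₁)) →
      FlatMod.IsFlatOverAt f' ((Scheme.Modules.pullback g').obj F) x')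
    (hlocal : ∀ μ ∈ IsLocalRing.maximalIdeal Γ(S, V),
      (g.appLE V V₁ eV₁).hom μ ∈ IsLocalRing.maximalIdeal Γ(S', V₁))
    (𝔞' : Ideal Γ(S', V₁)) (h𝔞' : 𝔞' ≠ ⊤)
    (hpow : ∃ N, IsLocalRing.maximalIdeal Γ(S, V) ^ N ≤ 𝔞'.comap (g.appLE V V₁ eV₁).hom) :
    letI : Algebra Γ(S, V) Γ(X, U) := (f.appLE V U eU).hom.toAlgebra
    letI : Module Γ(S, V) Γ(F, U) := Module.compHom _ (f.appLE V U eU).hom
    haveI : IsScalarTower Γ(S, V) Γ(X, U) Γ(F, U) := IsScalarTower.of_compHom _ _ _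
    Module.Flat (Γ(S, V) ⧸ 𝔞'.comap (g.appLE V V₁ eV₁).hom)
      ((Γ(S, V) ⧸ 𝔞'.comap (g.appLE V V₁ eV₁).hom) ⊗[Γ(S, V)]
        LocalizedModule (hU.primeIdealOf x).asIdeal.primeCompl Γ(F, U)) := by
  set W : X'.Opens := g' ⁻¹ᵁ U ⊓ f' ⁻¹ᵁ V₁ with hWdef
  have e1 : W ≤ g' ⁻¹ᵁ U := inf_le_left
  have e2 : W ≤ f' ⁻¹ᵁ V₁ := inf_le_right
  have hiso := isIso_pushoutSection_of_isAffineOpen hc eV₁ eU hWdef hV hV₁ hU
  have hpush := (isIso_pushoutSection_iff hc eV₁ eU hWdef).mp hiso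
  have hW : IsAffineOpen W := by
    have : IsAffine (Scheme.Opens.toScheme V) := hV
    have : IsAffine (Scheme.Opens.toScheme V₁) := hV₁
    have : IsAffine (Scheme.Opens.toScheme U) := hU
    exact .of_isIso (Scheme.Hom.isPullback_resLE hc eV₁ eU hWdef).isoPullback.hom
  haveI hN : ((Scheme.Modules.pullback g').obj F).IsQuasicoherent := isQuasicoherent_pullback g' F
  -- algebras between section rings
  letI algRA : Algebra Γ(S, V) Γ(X, U) := (f.appLE V U eU).hom.toAlgebra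
  letI algRR₁ : Algebra Γ(S, V) Γ(S', V₁) := (g.appLE V V₁ eV₁).hom.toAlgebra
  letI algAB : Algebra Γ(X, U) Γ(X', W) := (g'.appLE U W e1).hom.toAlgebra
  letI algR₁B : Algebra Γ(S', V₁) Γ(X', W) := (f'.appLE V₁ W e2).hom.toAlgebra
  letI algRB : Algebra Γ(S, V) Γ(X', W) :=
    ((g'.appLE U W e1).hom.comp (f.appLE V U eU).hom).toAlgebra
  haveI tRAB : IsScalarTower Γ(S, V) Γ(X, U) Γ(X', W) := .of_algebraMap_eq' rfl
  haveI tRR₁B : IsScalarTower Γ(S, V) Γ(S', V₁) Γ(X', W) :=
    .of_algebraMap_eq' congr($(hpush.w).hom)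
  have hP : Algebra.IsPushout Γ(S, V) Γ(X, U) Γ(S', V₁) Γ(X', W) :=
    CommRingCat.isPushout_iff_isPushout.mp hpush
  haveI hP' : Algebra.IsPushout Γ(S, V) Γ(S', V₁) Γ(X, U) Γ(X', W) := hP.symm
  -- modules
  letI modRM : Module Γ(S, V) Γ(F, U) := Module.compHom _ (f.appLE V U eU).hom
  haveI tRAM : IsScalarTower Γ(S, V) Γ(X, U) Γ(F, U) := IsScalarTower.of_compHom _ _ _
  letI modAM' : Module Γ(X, U) Γ((Scheme.Modules.pullback g').obj F, W) :=
    Module.compHom _ (g'.appLE U W e1).hom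
  haveI tABM' : IsScalarTower Γ(X, U) Γ(X', W) Γ((Scheme.Modules.pullback g').obj F, W) :=
    IsScalarTower.of_compHom _ _ _
  letI modR₁M' : Module Γ(S', V₁) Γ((Scheme.Modules.pullback g').obj F, W) :=
    Module.compHom _ (f'.appLE V₁ W e2).hom
  haveI tR₁BM' : IsScalarTower Γ(S', V₁) Γ(X', W) Γ((Scheme.Modules.pullback g').obj F, W) :=
    IsScalarTower.of_compHom _ _ _
  letI modRM' : Module Γ(S, V) Γ((Scheme.Modules.pullback g').obj F, W) :=
    Module.compHom _ (algebraMap Γ(S, V) Γ(X', W))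
  haveI tRBM' : IsScalarTower Γ(S, V) Γ(X', W) Γ((Scheme.Modules.pullback g').obj F, W) :=
    IsScalarTower.of_compHom _ _ _
  haveI tRAM' : IsScalarTower Γ(S, V) Γ(X, U) Γ((Scheme.Modules.pullback g').obj F, W) := by
    refine IsScalarTower.of_algebraMap_smul fun r m => ?_
    rw [← algebraMap_smul Γ(X', W) (algebraMap Γ(S, V) Γ(X, U) r) m,
      ← IsScalarTower.algebraMap_apply, algebraMap_smul]
  haveI tRR₁M' : IsScalarTower Γ(S, V) Γ(S', V₁) Γ((Scheme.Modules.pullback g').obj F, W) := by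
    refine IsScalarTower.of_algebraMap_smul fun r m => ?_
    rw [← algebraMap_smul Γ(X', W) (algebraMap Γ(S, V) Γ(S', V₁) r) m,
      ← IsScalarTower.algebraMap_apply, algebraMap_smul]
  obtain ⟨φ, hφ⟩ := exists_isBaseChange_sections g' hU hW e1 F
  have hker : 𝔞'.comap (g.appLE V V₁ eV₁).hom = 𝔞'.comap (algebraMap Γ(S, V) Γ(S', V₁)) :=
    rfl
  rw [hker]
  refine flat_quotient_comap_of_local (hU.primeIdealOf x).asIdeal φ hφ hlocal ?_ 𝔞' h𝔞' hpow
  intro q' hq' hq1 hq2
  let P : PrimeSpectrum Γ(X', W) := ⟨q', hq'⟩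
  have hx1 : g'.base (pointOfPrime hW P : X') = (x : X) := by
    rw [base_pointOfPrime g' hU hW e1 P]
    have : PrimeSpectrum.comap (g'.appLE U W e1).hom P = hU.primeIdealOf x :=
      PrimeSpectrum.ext hq1
    rw [this]
    exact hU.fromSpec_primeIdealOf x
  have hx2 : f'.base (pointOfPrime hW P : X') =
      hV₁.fromSpec.base (IsLocalRing.closedPoint Γ(S', V₁)) := by
    rw [base_pointOfPrime f' hV₁ hW e2 P]
    have : PrimeSpectrum.comap (f'.appLE V₁ W e2).hom P = IsLocalRing.closedPoint Γ(S', V₁) :=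
      PrimeSpectrum.ext hq2
    rw [this]
  have h3 := (isFlatOverAt_iff_flat_localizedModule f' ((Scheme.Modules.pullback g').obj F) hV₁ hW
    e2 (pointOfPrime hW P)).mp (hflat _ hx1 hx2)
  rw [primeIdealOf_pointOfPrime hW P] at h3
  exact h3


/-- A ring isomorphism of local rings identifies the powers of the maximal ideals. -/
theorem comap_pow_maximalIdeal_equiv {R O : Type*} [CommRing R] [CommRing O] [IsLocalRing R]
    [IsLocalRing O] (e : R ≃+* O) (N : ℕ) :
    (IsLocalRing.maximalIdeal O ^ N).comap (e : R →+* O) = IsLocalRing.maximalIdeal R ^ N := by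
  have h1 : (IsLocalRing.maximalIdeal R).map (e : R →+* O) = IsLocalRing.maximalIdeal O := by
    apply le_antisymm
    · rw [Ideal.map_le_iff_le_comap]
      intro x hx
      rw [Ideal.mem_comap, IsLocalRing.mem_maximalIdeal, mem_nonunits_iff]
      intro hu
      apply (IsLocalRing.mem_maximalIdeal x).mp hx
      have := hu.map (e.symm : O →+* R)
      simpa using this
    · intro y hy
      have hy' : e.symm y ∈ IsLocalRing.maximalIdeal R := by
        rw [IsLocalRing.mem_maximalIdeal, mem_nonunits_iff]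
        intro hu
        apply (IsLocalRing.mem_maximalIdeal y).mp hy
        have := hu.map (e : R →+* O)
        simpa using this
      have := Ideal.mem_map_of_mem (e : R →+* O) hy'
      simpa using this
  rw [← h1, ← Ideal.map_pow]
  exact Ideal.comap_map_of_bijective _ e.bijective

/-- the closed point of `Γ(Spec O, ⊤)` corresponds to the point `x` over the closed point -/
theorem comap_primeIdealOf_eq_maximalIdeal {O : CommRingCat.{u}} [IsLocalRing O]
    [IsLocalRing Γ(Spec O, ⊤)] {X : Scheme.{u}} (f : X ⟶ Spec O) {U : X.Opens}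
    (hU : IsAffineOpen U) (eU : U ≤ f ⁻¹ᵁ ⊤) (x : U)
    (hx : f.base (x : X) = IsLocalRing.closedPoint O) :
    (hU.primeIdealOf x).asIdeal.comap (f.appLE ⊤ U eU).hom =
      IsLocalRing.maximalIdeal Γ(Spec O, ⊤) := by
  have h1 : f.base (x : X) = (isAffineOpen_top (Spec O)).fromSpec.base
      (PrimeSpectrum.comap (f.appLE ⊤ U eU).hom (hU.primeIdealOf x)) := by
    have h2 := base_pointOfPrime f (isAffineOpen_top (Spec O)) hU eU (hU.primeIdealOf x)
    have h3 : (pointOfPrime hU (hU.primeIdealOf x) : X) = (x : X) :=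
      hU.fromSpec_primeIdealOf x
    rw [h3] at h2
    exact h2
  rw [hx, ← fromSpec_top_closedPoint O] at h1
  have hinj : Function.Injective (isAffineOpen_top (Spec O)).fromSpec.base :=
    (isAffineOpen_top (Spec O)).fromSpec.isOpenEmbedding.injective
  have h4 := hinj h1
  exact (congrArg PrimeSpectrum.asIdeal h4).symm

open CategoryTheory.Limits in
set_option maxHeartbeats 800000 in
/-- **S4857 over the spectrum of a Noetherian local ring.** -/
theorem isFlatOverAt_of_local_family_spec {O : Type u} [CommRing O] [IsLocalRing O]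
    [IsNoetherianRing O] {X : Scheme.{u}} (f : X ⟶ Spec (CommRingCat.of O))
    [LocallyOfFiniteType f] (F : X.Modules) (hF : Coh.IsCoh F) (x : X)
    (hx : f.base x = IsLocalRing.closedPoint O)
    {ι : Type u} (A : ι → Type u) [∀ i, CommRing (A i)] [∀ i, IsLocalRing (A i)]
    (φ : ∀ i, O →+* A i) [∀ i, IsLocalHom (φ i)]
    (htop : ∀ N : ℕ, ∃ s : Finset (ι × ℕ),
      ⨅ p ∈ s, Ideal.comap (φ p.1) (IsLocalRing.maximalIdeal (A p.1) ^ p.2) ≤
        IsLocalRing.maximalIdeal O ^ N)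
    (hflat : ∀ (i : ι) (x' : ↥(pullback f (Spec.map (CommRingCat.ofHom (φ i))))),
      pullback.fst f (Spec.map (CommRingCat.ofHom (φ i))) x' = x →
      pullback.snd f (Spec.map (CommRingCat.ofHom (φ i))) x' = IsLocalRing.closedPoint (A i) →
      FlatMod.IsFlatOverAt (pullback.snd f (Spec.map (CommRingCat.ofHom (φ i))))
        ((Scheme.Modules.pullback (pullback.fst f (Spec.map (CommRingCat.ofHom (φ i))))).obj F)
        x') :
    FlatMod.IsFlatOverAt f F x := by
  classical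
  have hVtop : IsAffineOpen (⊤ : (Spec (CommRingCat.of O)).Opens) := isAffineOpen_top _
  obtain ⟨U, hU, hxU, -⟩ := TopologicalSpace.Opens.isBasis_iff_nbhd.mp X.isBasis_affineOpens
    (TopologicalSpace.Opens.mem_top x)
  have eU : U ≤ f ⁻¹ᵁ ⊤ := fun _ _ => trivial
  haveI hqc : F.IsQuasicoherent := hF.1
  let eO : Γ(Spec (CommRingCat.of O), ⊤) ≃+* O :=
    (Scheme.ΓSpecIso (CommRingCat.of O)).commRingCatIsoToRingEquiv
  haveI : IsLocalRing Γ(Spec (CommRingCat.of O), ⊤) := eO.symm.isLocalRing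
  haveI : IsNoetherianRing Γ(Spec (CommRingCat.of O), ⊤) :=
    isNoetherianRing_of_ringEquiv O eO.symm
  let eA : ∀ i, Γ(Spec (CommRingCat.of (A i)), ⊤) ≃+* A i := fun i =>
    (Scheme.ΓSpecIso (CommRingCat.of (A i))).commRingCatIsoToRingEquiv
  haveI : ∀ i, IsLocalRing Γ(Spec (CommRingCat.of (A i)), ⊤) := fun i =>
    (eA i).symm.isLocalRing
  have hft : (f.appLE ⊤ U eU).hom.FiniteType :=
    LocallyOfFiniteType.finiteType_appLE f hVtop hU eU
  haveI : IsNoetherianRing Γ(X, U) := by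
    letI := (f.appLE ⊤ U eU).hom.toAlgebra
    haveI : Algebra.FiniteType Γ(Spec (CommRingCat.of O), ⊤) Γ(X, U) := hft
    exact Algebra.FiniteType.isNoetherianRing Γ(Spec (CommRingCat.of O), ⊤) Γ(X, U)
  haveI : Module.Finite Γ(X, U) Γ(F, U) :=
    Groth.Agent.Lib.Helper45.finite_sections_of_isCoh hU F hF
  rw [isFlatOverAt_iff_flat_localizedModule f F hVtop hU eU ⟨x, hxU⟩]
  letI algRA : Algebra Γ(Spec (CommRingCat.of O), ⊤) Γ(X, U) := (f.appLE ⊤ U eU).hom.toAlgebra
  letI modRM : Module Γ(Spec (CommRingCat.of O), ⊤) Γ(F, U) :=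
    Module.compHom _ (f.appLE ⊤ U eU).hom
  haveI tRAM : IsScalarTower Γ(Spec (CommRingCat.of O), ⊤) Γ(X, U) Γ(F, U) :=
    IsScalarTower.of_compHom _ _ _
  set q : Ideal Γ(X, U) := (hU.primeIdealOf ⟨x, hxU⟩).asIdeal with hq
  -- the comparison maps
  let uu : ∀ i, Γ(Spec (CommRingCat.of O), ⊤) →+* Γ(Spec (CommRingCat.of (A i)), ⊤) := fun i =>
    ((Spec.map (CommRingCat.ofHom (φ i))).appLE ⊤ ⊤ (fun _ _ => trivial)).hom
  have hnat : ∀ i r, eA i (uu i r) = φ i (eO r) := by
    intro i r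
    have h2 := Scheme.ΓSpecIso_naturality (CommRingCat.ofHom (φ i))
    have h3 : ((Spec.map (CommRingCat.ofHom (φ i))).appLE ⊤ ⊤ (fun _ _ => trivial)) =
        (Spec.map (CommRingCat.ofHom (φ i))).appTop := by
      rw [Scheme.Hom.appTop, ← Scheme.Hom.appLE_eq_app]
      rfl
    have h4 := congrArg (fun ψ => ψ.hom r) h2
    simp only [CommRingCat.hom_comp, RingHom.coe_comp, Function.comp_apply] at h4
    show (Scheme.ΓSpecIso (CommRingCat.of (A i))).hom.hom
      (((Spec.map (CommRingCat.ofHom (φ i))).appLE ⊤ ⊤ (fun _ _ => trivial)).hom r) = _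
    rw [h3]
    exact h4
  have hmemO : ∀ (N : ℕ) (r : Γ(Spec (CommRingCat.of O), ⊤)),
      r ∈ IsLocalRing.maximalIdeal Γ(Spec (CommRingCat.of O), ⊤) ^ N ↔
        eO r ∈ IsLocalRing.maximalIdeal O ^ N := by
    intro N r
    rw [← comap_pow_maximalIdeal_equiv eO N]
    rfl
  have hmemA : ∀ (i : ι) (N : ℕ) (r : Γ(Spec (CommRingCat.of (A i)), ⊤)),
      r ∈ IsLocalRing.maximalIdeal Γ(Spec (CommRingCat.of (A i)), ⊤) ^ N ↔
        eA i r ∈ IsLocalRing.maximalIdeal (A i) ^ N := by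
    intro i N r
    rw [← comap_pow_maximalIdeal_equiv (eA i) N]
    rfl
  have hlocal : ∀ i, ∀ μ ∈ IsLocalRing.maximalIdeal Γ(Spec (CommRingCat.of O), ⊤),
      uu i μ ∈ IsLocalRing.maximalIdeal Γ(Spec (CommRingCat.of (A i)), ⊤) := by
    intro i μ hμ
    have h1 := (hmemO 1 μ).mp (by rwa [pow_one])
    rw [pow_one] at h1
    have h2 : φ i (eO μ) ∈ IsLocalRing.maximalIdeal (A i) := by
      rw [IsLocalRing.mem_maximalIdeal, mem_nonunits_iff] at h1 ⊢
      exact fun hu => h1 ((isUnit_map_iff (φ i) _).mp hu)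
    have h3 := (hmemA i 1 (uu i μ)).mpr (by rw [pow_one, hnat]; exact h2)
    rwa [pow_one] at h3
  -- the ideals
  let K : ι × ℕ → Ideal Γ(Spec (CommRingCat.of O), ⊤) := fun p =>
    (IsLocalRing.maximalIdeal Γ(Spec (CommRingCat.of (A p.1)), ⊤) ^ p.2).comap (uu p.1)
  have key : ∀ p : ι × ℕ, Module.Flat (Γ(Spec (CommRingCat.of O), ⊤) ⧸ K p)
      (TensorProduct Γ(Spec (CommRingCat.of O), ⊤) (Γ(Spec (CommRingCat.of O), ⊤) ⧸ K p)
        (LocalizedModule q.primeCompl Γ(F, U))) := by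
    rintro ⟨i, k⟩
    by_cases hk : k = 0
    · have hK : K (i, k) = ⊤ := by
        show Ideal.comap _ _ = ⊤
        rw [hk, pow_zero, Ideal.one_eq_top, Ideal.comap_top]
      haveI : Subsingleton (Γ(Spec (CommRingCat.of O), ⊤) ⧸ K (i, k)) :=
        Ideal.Quotient.subsingleton_iff.mpr hK
      exact Groth.Agent.H76.IdealGlue.flat_of_subsingleton_ring _
    · refine flat_quotient_comap_sections f
        (pullback.snd f (Spec.map (CommRingCat.ofHom (φ i))))
        (pullback.fst f (Spec.map (CommRingCat.ofHom (φ i))))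
        (Spec.map (CommRingCat.ofHom (φ i))) (IsPullback.of_hasPullback _ _) F hVtop
        (isAffineOpen_top (Spec (CommRingCat.of (A i)))) (fun _ _ => trivial) hU eU ⟨x, hxU⟩ ?_
        (hlocal i) (IsLocalRing.maximalIdeal Γ(Spec (CommRingCat.of (A i)), ⊤) ^ k) ?_ ?_
      · intro x' h1 h2
        refine hflat i x' h1 ?_
        rw [h2]
        exact fromSpec_top_closedPoint (CommRingCat.of (A i))
      · intro htop'
        have h1 : IsLocalRing.maximalIdeal Γ(Spec (CommRingCat.of (A i)), ⊤) ^ k ≤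
            IsLocalRing.maximalIdeal Γ(Spec (CommRingCat.of (A i)), ⊤) :=
          Ideal.pow_le_self hk
        rw [htop', top_le_iff] at h1
        exact (Ideal.IsPrime.ne_top inferInstance) h1
      · refine ⟨k, ?_⟩
        rw [← Ideal.map_le_iff_le_comap, Ideal.map_pow]
        apply Ideal.pow_right_mono
        rw [Ideal.map_le_iff_le_comap]
        exact fun μ hμ => hlocal i μ hμ
  -- local criterion
  haveI : IsNoetherianRing (Localization.AtPrime q) :=
    IsLocalization.isNoetherianRing q.primeCompl _ inferInstance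
  haveI : Module.Finite (Localization.AtPrime q) (LocalizedModule q.primeCompl Γ(F, U)) :=
    Module.Finite.of_isLocalizedModule q.primeCompl
      (LocalizedModule.mkLinearMap q.primeCompl Γ(F, U))
  have hqcomap : q.comap (algebraMap Γ(Spec (CommRingCat.of O), ⊤) Γ(X, U)) =
      IsLocalRing.maximalIdeal Γ(Spec (CommRingCat.of O), ⊤) :=
    comap_primeIdealOf_eq_maximalIdeal (O := CommRingCat.of O) f hU eU ⟨x, hxU⟩ hx
  have hIS : (IsLocalRing.maximalIdeal Γ(Spec (CommRingCat.of O), ⊤)).map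
      (algebraMap Γ(Spec (CommRingCat.of O), ⊤) (Localization.AtPrime q)) ≤ Ideal.jacobson ⊥ := by
    rw [IsLocalRing.jacobson_eq_maximalIdeal ⊥ bot_ne_top, Ideal.map_le_iff_le_comap]
    intro μ hμ
    rw [Ideal.mem_comap, IsScalarTower.algebraMap_apply Γ(Spec (CommRingCat.of O), ⊤) Γ(X, U)
      (Localization.AtPrime q), IsLocalization.AtPrime.to_map_mem_maximal_iff _ q]
    rw [← hqcomap] at hμ
    exact hμ
  apply Groth.Agent.H76.LocalCritPow.flat_of_flat_mod_pow (S := Localization.AtPrime q)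
    (IsLocalRing.maximalIdeal Γ(Spec (CommRingCat.of O), ⊤)) hIS
  intro n
  obtain ⟨s, hs⟩ := htop (n + 1)
  haveI := Groth.Agent.H76.IdealGlue.flat_quotient_finset_inf
    (LocalizedModule q.primeCompl Γ(F, U)) s K (fun p _ => key p)
  refine flat_quotient_mono (LocalizedModule q.primeCompl Γ(F, U)) (s.inf K) _ ?_
  intro r hr
  rw [hmemO]
  apply hs
  simp only [Ideal.mem_iInf, Ideal.mem_comap]
  intro p hp
  have h1 : r ∈ K p := (Finset.inf_le hp : s.inf K ≤ K p) hr
  have h2 : uu p.1 r ∈ IsLocalRing.maximalIdeal Γ(Spec (CommRingCat.of (A p.1)), ⊤) ^ p.2 := h1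
  rw [hmemA, hnat] at h2
  exact h2

end Groth.Agent.H76.LocalFamilyFlatNoethScheme
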