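import Mathlib
import Groth.Agent.S14949
import Groth.Agent.S14952
import Groth.Agent.H76.FlatKerFP
import Groth.Agent.Lib.Helper61.FlatUnram

/-!
# Étale algebras over a fibre product of rings (helper76)

Let `B' = B ×_A A'` be a Milnor square (`A' → A` surjective) and `C` a `B'`-algebra.  If
`B ⊗ C` is étale over `B` and `A' ⊗ C` is étale over `A'`, then `C` is étale over `B'`
(Stacks, More on Algebra, "Fibre products of rings, II").  Along the way: descent of finite type,
of finite presentation (for flat `C`) and of formal unramifiedness.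
-/

set_option autoImplicit false
universe u v w

open TensorProduct

namespace Groth.Agent.H76.MilnorEtale

section Generic

variable {R : Type*} {S : Type*} {C : Type*} [CommRing R] [CommRing S] [Algebra R S]
  [CommRing C] [Algebra R C]

theorem map_id_apply {P : Type*} [CommRing P] [Algebra R P] (g : P →ₐ[R] C) (x : S ⊗[R] P) :
    Algebra.TensorProduct.map (AlgHom.id S S) g x = g.toLinearMap.lTensor S x := by
  induction x with
  | zero => simp
  | tmul a b => simp
  | add x y hx hy => rw [map_add, map_add, hx, hy]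

/-- If `S ⊗ C` is of finite type over `S`, finitely many elements of `C` already generate it. -/
theorem exists_finset_surjective_of_finiteType [Algebra.FiniteType S (S ⊗[R] C)] :
    ∃ T : Finset C, ∀ {P : Type w} [CommRing P] [Algebra R P] (g : P →ₐ[R] C),
      ((T : Set C) ⊆ Set.range g) →
        Function.Surjective (g.toLinearMap.lTensor S) := by
  classical
  obtain ⟨s, hs⟩ := Algebra.FiniteType.out (R := S) (A := S ⊗[R] C)
  have (x : s) := TensorProduct.exists_sum_tmul_eq x.1
  choose k t m h using this
  refine ⟨Finset.univ.biUnion fun x : s => Finset.univ.image (m x), ?_⟩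
  intro P _ _ g hT
  have hsurj : Function.Surjective (Algebra.TensorProduct.map (AlgHom.id S S) g) := by
    rw [← AlgHom.range_eq_top, _root_.eq_top_iff, ← hs, Algebra.adjoin_le_iff]
    intro x hx
    let i : s := ⟨x, hx⟩
    have hy : ∀ j : Fin (k i), ∃ y : P, g y = m i j := by
      intro j
      apply hT
      simp only [Finset.coe_biUnion, Finset.coe_univ, Set.mem_univ, Set.iUnion_true,
        Finset.coe_image, Set.image_univ, Set.mem_iUnion, Set.mem_range]
      exact ⟨i, j, rfl⟩
    choose y hy using hy
    refine ⟨∑ j : Fin (k i), t i j ⊗ₜ y j, ?_⟩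
    change (Algebra.TensorProduct.map (AlgHom.id S S) g) (∑ j : Fin (k i), t i j ⊗ₜ y j) = x
    rw [map_sum]
    simp only [Algebra.TensorProduct.map_tmul, AlgHom.coe_id, id_eq, hy]
    exact (h i).symm
  intro z
  obtain ⟨w, hw⟩ := hsurj z
  exact ⟨w, by rw [← map_id_apply, hw]⟩

/-- If `f ⊗ S` is surjective, the base change of the cokernel of `f` vanishes. -/
theorem subsingleton_tensor_coker {P : Type*} [AddCommGroup P] [Module R P] (f : P →ₗ[R] C)
    (h : Function.Surjective (f.lTensor S)) :
    Subsingleton (S ⊗[R] (C ⧸ LinearMap.range f)) := by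
  refine subsingleton_of_forall_eq 0 fun z => ?_
  obtain ⟨w, rfl⟩ := LinearMap.lTensor_surjective S (LinearMap.range f).mkQ_surjective z
  obtain ⟨y, rfl⟩ := h w
  rw [← LinearMap.comp_apply, ← LinearMap.lTensor_comp, LinearMap.range_mkQ_comp,
    LinearMap.lTensor_zero, LinearMap.zero_apply]

end Generic

section KerFG

variable {R : Type*} {S : Type*} {C : Type*} {P : Type*} [CommRing R] [CommRing S] [Algebra R S]
  [CommRing C] [Algebra R C] [CommRing P] [Algebra R P]

/-- If `P → C` is a surjection from a finitely presented algebra and `S ⊗ C` is finitely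
presented over `S`, then finitely many elements of the kernel generate its extension to
`S ⊗ P`. -/
theorem exists_finset_map_eq [Algebra.FinitePresentation R P]
    [Algebra.FinitePresentation S (S ⊗[R] C)] (π : P →ₐ[R] C) (hπ : Function.Surjective π) :
    ∃ F : Finset P, (F : Set P) ⊆ (RingHom.ker π : Ideal P) ∧
      (Ideal.span (F : Set P)).map (Algebra.TensorProduct.includeRight : P →ₐ[R] S ⊗[R] P) =
        (RingHom.ker π).map (Algebra.TensorProduct.includeRight : P →ₐ[R] S ⊗[R] P) := by
  classical
  have hsurj : Function.Surjective (Algebra.TensorProduct.map (AlgHom.id S S) π) := by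
    intro z
    obtain ⟨w, hw⟩ := LinearMap.lTensor_surjective S (g := π.toLinearMap) hπ z
    exact ⟨w, by rw [map_id_apply, hw]⟩
  have hfg := Algebra.FinitePresentation.ker_fG_of_surjective
    (Algebra.TensorProduct.map (AlgHom.id S S) π) hsurj
  have hker : RingHom.ker (Algebra.TensorProduct.map (AlgHom.id S S) π).toRingHom =
      (RingHom.ker π).map (Algebra.TensorProduct.includeRight : P →ₐ[R] S ⊗[R] P) := by
    rw [← Algebra.TensorProduct.lTensor_ker π hπ]
    ext x
    simp only [RingHom.mem_ker]
    change Algebra.TensorProduct.map (AlgHom.id S S) π x = 0 ↔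
      Algebra.TensorProduct.map (AlgHom.id R S) π x = 0
    have : Algebra.TensorProduct.map (AlgHom.id R S) π x = π.toLinearMap.lTensor S x := by
      induction x with
      | zero => simp
      | tmul a b => simp
      | add x y hx hy => rw [map_add, map_add, hx, hy]
    rw [this, map_id_apply]
  rw [hker, Ideal.map, Ideal.span] at hfg
  have hfg' : (Submodule.span (S ⊗[R] P) ((Algebra.TensorProduct.includeRight :
      P →ₐ[R] S ⊗[R] P) '' (RingHom.ker π : Ideal P))).FG := hfg
  rw [Submodule.fg_span_iff_fg_span_finset_subset] at hfg'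
  obtain ⟨s', hs', he⟩ := hfg'
  obtain ⟨F, hF, rfl⟩ := Finset.subset_set_image_iff.mp hs'
  refine ⟨F, hF, ?_⟩
  rw [Ideal.map_span]
  change Ideal.span _ = Ideal.span _
  rw [Ideal.span, Ideal.span, he, Finset.coe_image]

/-- Key vanishing: if `N ≤ ker π` generates the same extension to `S ⊗ P` as `ker π` and `C` is
flat, then `S ⊗ (ker π / N) = 0`. -/
theorem subsingleton_tensor_ker_quot [Module.Flat R C] (π : P →ₐ[R] C)
    (hπ : Function.Surjective π) (N : Ideal P) (hNK : N ≤ RingHom.ker π)
    (e : N.map (Algebra.TensorProduct.includeRight : P →ₐ[R] S ⊗[R] P) =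
      (RingHom.ker π).map (Algebra.TensorProduct.includeRight : P →ₐ[R] S ⊗[R] P)) :
    Subsingleton (S ⊗[R] (↥((RingHom.ker π : Ideal P).restrictScalars R) ⧸
      (N.restrictScalars R).comap ((RingHom.ker π : Ideal P).restrictScalars R).subtype)) := by
  set K' : Submodule R P := (RingHom.ker π : Ideal P).restrictScalars R with hK'
  set N' : Submodule R P := N.restrictScalars R with hN'
  have hNK' : N' ≤ K' := hNK
  have hex : Function.Exact K'.subtype π.toLinearMap := by
    intro x
    constructor
    · intro hx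
      exact ⟨⟨x, (RingHom.mem_ker (f := π)).mpr hx⟩, rfl⟩
    · rintro ⟨y, rfl⟩
      exact (RingHom.mem_ker (f := π)).mp y.2
  have hinj : Function.Injective (K'.subtype.lTensor S) :=
    FlatKerFP.lTensor_injective_of_flat_coker K'.subtype π.toLinearMap Subtype.val_injective hex hπ S
  have hrange : LinearMap.range (K'.subtype.lTensor S) = LinearMap.range (N'.subtype.lTensor S) := by
    rw [hK', hN', ← Ideal.map_includeRight_eq, ← Ideal.map_includeRight_eq, e]
  refine subsingleton_of_forall_eq 0 fun z => ?_
  obtain ⟨w, rfl⟩ := LinearMap.lTensor_surjective S (N'.comap K'.subtype).mkQ_surjective z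
  have hw : K'.subtype.lTensor S w ∈ LinearMap.range (N'.subtype.lTensor S) := by
    rw [← hrange]; exact ⟨w, rfl⟩
  obtain ⟨y, hy⟩ := hw
  have hj : K'.subtype ∘ₗ Submodule.inclusion hNK' = N'.subtype := by
    ext; rfl
  have hw' : (Submodule.inclusion hNK').lTensor S y = w := by
    apply hinj
    rw [← LinearMap.comp_apply, ← LinearMap.lTensor_comp, hj, hy]
  have hq : (N'.comap K'.subtype).mkQ ∘ₗ Submodule.inclusion hNK' = 0 := by
    ext n
    simp only [LinearMap.comp_apply, Submodule.mkQ_apply, LinearMap.zero_apply,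
      Submodule.Quotient.mk_eq_zero, Submodule.mem_comap]
    exact n.2
  rw [← hw', ← LinearMap.comp_apply, ← LinearMap.lTensor_comp, hq, LinearMap.lTensor_zero,
    LinearMap.zero_apply]

end KerFG

section Unram

variable {R : Type*} {S : Type*} {C : Type*} [CommRing R] [CommRing S] [Algebra R S]
  [CommRing C] [Algebra R C]

attribute [local instance] Algebra.TensorProduct.rightAlgebra in
theorem subsingleton_tensor_kaehler [Algebra.FormallyUnramified S (S ⊗[R] C)] :
    Subsingleton (S ⊗[R] Ω[C⁄R]) := by
  have h1 : Subsingleton Ω[(S ⊗[R] C)⁄S] := (Algebra.formallyUnramified_iff _ _).mp inferInstance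
  have e₁ := KaehlerDifferential.tensorKaehlerEquiv R S C (S ⊗[R] C)
  have e₂ := Algebra.IsPushout.cancelBaseChange R S C (S ⊗[R] C) Ω[C⁄R]
  have h2 : Subsingleton ((S ⊗[R] C) ⊗[C] Ω[C⁄R]) := e₁.toEquiv.subsingleton
  exact e₂.symm.toEquiv.subsingleton

end Unram

section Main

variable {B' B A' A : Type u} [CommRing B'] [CommRing B] [CommRing A'] [CommRing A]
  [Algebra B' B] [Algebra B' A'] [Algebra B A] [Algebra A' A] [Algebra B' A]
  [IsScalarTower B' B A] [IsScalarTower B' A' A]

theorem finiteType_of_baseChangePair (hsq : EtMil.IsFibreSquare B' B A' A)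
    (C : Type u) [CommRing C] [Algebra B' C]
    [Algebra.FiniteType B (B ⊗[B'] C)] [Algebra.FiniteType A' (A' ⊗[B'] C)] :
    Algebra.FiniteType B' C := by
  classical
  obtain ⟨T₁, h₁⟩ := exists_finset_surjective_of_finiteType.{_, _, _, u} (R := B') (S := B) (C := C)
  obtain ⟨T₂, h₂⟩ := exists_finset_surjective_of_finiteType.{_, _, _, u} (R := B') (S := A') (C := C)
  let f : MvPolynomial (↥(T₁ ∪ T₂)) B' →ₐ[B'] C := MvPolynomial.aeval (fun t => (t : C))
  have hT : ((T₁ ∪ T₂ : Finset C) : Set C) ⊆ Set.range f := fun c hc =>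
    ⟨MvPolynomial.X ⟨c, hc⟩, by simp [f]⟩
  have hs₁ := h₁ f (subset_trans (by simp) hT)
  have hs₂ := h₂ f (subset_trans (by simp) hT)
  have : Subsingleton (B ⊗[B'] (C ⧸ LinearMap.range f.toLinearMap)) :=
    subsingleton_tensor_coker f.toLinearMap hs₁
  have : Subsingleton (A' ⊗[B'] (C ⧸ LinearMap.range f.toLinearMap)) :=
    subsingleton_tensor_coker f.toLinearMap hs₂
  have hsub := Groth.Agent.S14949.result B' B A' A hsq (C ⧸ LinearMap.range f.toLinearMap)
  have htop : LinearMap.range f.toLinearMap = ⊤ := Submodule.Quotient.subsingleton_iff.mp hsub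
  exact Algebra.FiniteType.of_surjective f (LinearMap.range_eq_top.mp htop)

theorem finitePresentation_of_baseChangePair (hsq : EtMil.IsFibreSquare B' B A' A)
    (C : Type u) [CommRing C] [Algebra B' C] [Module.Flat B' C]
    [Algebra.FinitePresentation B (B ⊗[B'] C)] [Algebra.FinitePresentation A' (A' ⊗[B'] C)] :
    Algebra.FinitePresentation B' C := by
  classical
  have hft : Algebra.FiniteType B' C := finiteType_of_baseChangePair hsq C
  obtain ⟨n, π, hπ⟩ := Algebra.FiniteType.iff_quotient_mvPolynomial''.mp hft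
  obtain ⟨F₁, hF₁, e₁⟩ := exists_finset_map_eq (S := B) π hπ
  obtain ⟨F₂, hF₂, e₂⟩ := exists_finset_map_eq (S := A') π hπ
  set N : Ideal (MvPolynomial (Fin n) B') := Ideal.span ((F₁ ∪ F₂ : Finset _) : Set _) with hN
  have hNK : N ≤ RingHom.ker π := by
    rw [hN, Ideal.span_le, Finset.coe_union]
    exact Set.union_subset hF₁ hF₂
  have hN₁ : Ideal.span (F₁ : Set (MvPolynomial (Fin n) B')) ≤ N := by
    rw [hN]; exact Ideal.span_mono (by simp)
  have hN₂ : Ideal.span (F₂ : Set (MvPolynomial (Fin n) B')) ≤ N := by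
    rw [hN]; exact Ideal.span_mono (by simp)
  have e₁' : N.map (Algebra.TensorProduct.includeRight :
      MvPolynomial (Fin n) B' →ₐ[B'] B ⊗[B'] MvPolynomial (Fin n) B') =
      (RingHom.ker π).map Algebra.TensorProduct.includeRight :=
    le_antisymm (Ideal.map_mono hNK) (e₁ ▸ Ideal.map_mono hN₁)
  have e₂' : N.map (Algebra.TensorProduct.includeRight :
      MvPolynomial (Fin n) B' →ₐ[B'] A' ⊗[B'] MvPolynomial (Fin n) B') =
      (RingHom.ker π).map Algebra.TensorProduct.includeRight :=
    le_antisymm (Ideal.map_mono hNK) (e₂ ▸ Ideal.map_mono hN₂)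
  have := subsingleton_tensor_ker_quot (S := B) π hπ N hNK e₁'
  have := subsingleton_tensor_ker_quot (S := A') π hπ N hNK e₂'
  have hsub := Groth.Agent.S14949.result B' B A' A hsq
    (↥((RingHom.ker π : Ideal _).restrictScalars B') ⧸
      (N.restrictScalars B').comap ((RingHom.ker π : Ideal _).restrictScalars B').subtype)
  have htop := Submodule.Quotient.subsingleton_iff.mp hsub
  have hKN : RingHom.ker π ≤ N := by
    intro x hx
    have : (⟨x, hx⟩ : ↥((RingHom.ker π : Ideal _).restrictScalars B')) ∈
        (N.restrictScalars B').comap ((RingHom.ker π : Ideal _).restrictScalars B').subtype := by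
      rw [htop]; trivial
    exact this
  refine Algebra.FinitePresentation.of_surjective hπ ?_
  have : RingHom.ker π.toRingHom = N := le_antisymm hKN hNK
  rw [this]
  exact ⟨F₁ ∪ F₂, rfl⟩

theorem formallyUnramified_of_baseChangePair (hsq : EtMil.IsFibreSquare B' B A' A)
    (C : Type u) [CommRing C] [Algebra B' C]
    [Algebra.FormallyUnramified B (B ⊗[B'] C)] [Algebra.FormallyUnramified A' (A' ⊗[B'] C)] :
    Algebra.FormallyUnramified B' C := by
  rw [Algebra.formallyUnramified_iff]
  have : Subsingleton (B ⊗[B'] Ω[C⁄B']) := subsingleton_tensor_kaehler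
  have : Subsingleton (A' ⊗[B'] Ω[C⁄B']) := subsingleton_tensor_kaehler
  exact Groth.Agent.S14949.result B' B A' A hsq Ω[C⁄B']

/-- **Étale algebras over a Milnor square.** -/
theorem etale_of_baseChangePair (hsq : EtMil.IsFibreSquare B' B A' A)
    (C : Type u) [CommRing C] [Algebra B' C]
    [Algebra.Etale B (B ⊗[B'] C)] [Algebra.Etale A' (A' ⊗[B'] C)] :
    Algebra.Etale B' C := by
  have : Module.Flat B' C := Groth.Agent.S14952.result B' B A' A hsq C
  have : Algebra.FinitePresentation B' C := finitePresentation_of_baseChangePair hsq C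
  have : Algebra.FormallyUnramified B' C := formallyUnramified_of_baseChangePair hsq C
  have : Algebra.FormallyEtale B' C :=
    Groth.Agent.Lib.Helper61.FlatUnram.formallyEtale_of_flat_of_formallyUnramified
  exact {}

/-- Pushout form of `etale_of_baseChangePair`. -/
theorem etale_of_isPushout_pair (hsq : EtMil.IsFibreSquare B' B A' A)
    (C D₁ D₂ : Type u) [CommRing C] [Algebra B' C]
    [CommRing D₁] [Algebra B' D₁] [Algebra B D₁] [Algebra C D₁] [IsScalarTower B' B D₁]
    [IsScalarTower B' C D₁] [Algebra.IsPushout B' B C D₁] [Algebra.Etale B D₁]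
    [CommRing D₂] [Algebra B' D₂] [Algebra A' D₂] [Algebra C D₂] [IsScalarTower B' A' D₂]
    [IsScalarTower B' C D₂] [Algebra.IsPushout B' A' C D₂] [Algebra.Etale A' D₂] :
    Algebra.Etale B' C := by
  have : Algebra.Etale B (B ⊗[B'] C) :=
    Algebra.Etale.of_equiv (Algebra.IsPushout.equiv B' B C D₁).symm
  have : Algebra.Etale A' (A' ⊗[B'] C) :=
    Algebra.Etale.of_equiv (Algebra.IsPushout.equiv B' A' C D₂).symm
  exact etale_of_baseChangePair hsq C

end Main

end Groth.Agent.H76.MilnorEtale
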