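import Groth.Prelude.Def_EtMil
import Mathlib.RingTheory.Spectrum.Prime.Topology
import Mathlib.RingTheory.Spectrum.Prime.RingHom

/-!
# The spectrum of a Milnor square (helper76)

For a fibre square `B' = B ×_A A'` with `A' → A` surjective, the set/topological facts needed to
show `Spec B' = Spec B ⨿_{Spec A} Spec A'`.
-/

set_option autoImplicit false
universe u

namespace Groth.Agent.H76.MilnorSpec

open PrimeSpectrum

variable {B' B A' A : Type u} [CommRing B'] [CommRing B] [CommRing A'] [CommRing A]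
  [Algebra B' B] [Algebra B' A'] [Algebra B A] [Algebra A' A] [Algebra B' A]
  [IsScalarTower B' B A] [IsScalarTower B' A' A]

theorem comm (x : B') :
    algebraMap B A (algebraMap B' B x) = algebraMap A' A (algebraMap B' A' x) := by
  rw [← IsScalarTower.algebraMap_apply, ← IsScalarTower.algebraMap_apply]

variable (hsq : EtMil.IsFibreSquare B' B A' A)
include hsq

theorem exists_lift {b : B} {a' : A'} (h : algebraMap B A b = algebraMap A' A a') :
    ∃ b' : B', algebraMap B' B b' = b ∧ algebraMap B' A' b' = a' :=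
  (hsq.2 b a' h).exists

theorem ext' {x y : B'} (h1 : algebraMap B' B x = algebraMap B' B y)
    (h2 : algebraMap B' A' x = algebraMap B' A' y) : x = y :=
  (hsq.2 _ _ (comm (B := B) (A' := A') y)).unique ⟨h1, h2⟩ ⟨rfl, rfl⟩

theorem p_surjective : Function.Surjective (algebraMap B' B) := fun b => by
  obtain ⟨a', ha'⟩ := hsq.1 (algebraMap B A b)
  obtain ⟨b', hb', -⟩ := exists_lift hsq ha'.symm
  exact ⟨b', hb'⟩

theorem exists_mu (f : B') (hf : algebraMap B' B f = 0) (a' : A') :
    ∃ b' : B', algebraMap B' B b' = 0 ∧ algebraMap B' A' b' = algebraMap B' A' f * a' := by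
  apply exists_lift hsq
  rw [map_zero, map_mul, ← comm (B := B) (A' := A'), hf, map_zero, zero_mul]

/-- "multiplication by `f`" `A' → B'` for `f ∈ ker (B' → B)`. -/
noncomputable def mu (f : B') (hf : algebraMap B' B f = 0) (a' : A') : B' :=
  (exists_mu hsq f hf a').choose

theorem p_mu (f : B') (hf : algebraMap B' B f = 0) (a' : A') :
    algebraMap B' B (mu hsq f hf a') = 0 :=
  (exists_mu hsq f hf a').choose_spec.1

theorem q_mu (f : B') (hf : algebraMap B' B f = 0) (a' : A') :
    algebraMap B' A' (mu hsq f hf a') = algebraMap B' A' f * a' :=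
  (exists_mu hsq f hf a').choose_spec.2

theorem mu_mul (f : B') (hf : algebraMap B' B f = 0) (c' a' : A') :
    mu hsq f hf c' * mu hsq f hf a' = f * mu hsq f hf (c' * a') := by
  apply ext' hsq
  · rw [map_mul, map_mul, p_mu, hf, zero_mul, zero_mul]
  · rw [map_mul, map_mul, q_mu, q_mu, q_mu]
    ring

theorem mu_q (f : B') (hf : algebraMap B' B f = 0) (b : B') :
    mu hsq f hf (algebraMap B' A' b) = f * b := by
  apply ext' hsq
  · rw [map_mul, p_mu, hf, zero_mul]
  · rw [map_mul, q_mu]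

theorem mu_add (f : B') (hf : algebraMap B' B f = 0) (c' a' : A') :
    mu hsq f hf (c' + a') = mu hsq f hf c' + mu hsq f hf a' := by
  apply ext' hsq
  · rw [map_add, p_mu, p_mu, p_mu, add_zero]
  · rw [map_add, q_mu, q_mu, q_mu, mul_add]

theorem mu_zero (f : B') (hf : algebraMap B' B f = 0) : mu hsq f hf 0 = 0 := by
  apply ext' hsq
  · rw [p_mu, map_zero]
  · rw [q_mu, mul_zero, map_zero]

theorem mu_one (f : B') (hf : algebraMap B' B f = 0) : mu hsq f hf 1 = f := by
  apply ext' hsq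
  · rw [p_mu, hf]
  · rw [q_mu, mul_one]

/-- The prime of `A'` over a prime `𝔮` of `B'` not containing `f ∈ ker (B' → B)`. -/
noncomputable def primeOf (𝔮 : Ideal B') [𝔮.IsPrime] (f : B') (hf : algebraMap B' B f = 0)
    (hf𝔮 : f ∉ 𝔮) : Ideal A' where
  carrier := {a' | mu hsq f hf a' ∈ 𝔮}
  add_mem' := by
    intro a b ha hb
    rw [Set.mem_ofPred_eq, mu_add]
    exact 𝔮.add_mem ha hb
  zero_mem' := by
    rw [Set.mem_ofPred_eq, mu_zero]
    exact 𝔮.zero_mem
  smul_mem' := by
    intro c' a' ha'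
    rw [Set.mem_ofPred_eq, smul_eq_mul]
    have h1 : f * mu hsq f hf (c' * a') ∈ 𝔮 := by
      rw [← mu_mul]
      exact 𝔮.mul_mem_left _ ha'
    exact (‹𝔮.IsPrime›.mem_or_mem h1).resolve_left hf𝔮

theorem mem_primeOf (𝔮 : Ideal B') [𝔮.IsPrime] (f : B') (hf : algebraMap B' B f = 0)
    (hf𝔮 : f ∉ 𝔮) (a' : A') : a' ∈ primeOf hsq 𝔮 f hf hf𝔮 ↔ mu hsq f hf a' ∈ 𝔮 := Iff.rfl

theorem primeOf_isPrime (𝔮 : Ideal B') [𝔮.IsPrime] (f : B') (hf : algebraMap B' B f = 0)
    (hf𝔮 : f ∉ 𝔮) : (primeOf hsq 𝔮 f hf hf𝔮).IsPrime := by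
  refine ⟨?_, ?_⟩
  · intro htop
    have h1 : (1 : A') ∈ primeOf hsq 𝔮 f hf hf𝔮 := by rw [htop]; exact Submodule.mem_top
    rw [mem_primeOf, mu_one] at h1
    exact hf𝔮 h1
  · intro c' a' hca
    rw [mem_primeOf] at hca
    have h1 : mu hsq f hf c' * mu hsq f hf a' ∈ 𝔮 := by
      rw [mu_mul]
      exact 𝔮.mul_mem_left _ hca
    exact ‹𝔮.IsPrime›.mem_or_mem h1

theorem comap_primeOf (𝔮 : Ideal B') [𝔮.IsPrime] (f : B') (hf : algebraMap B' B f = 0)
    (hf𝔮 : f ∉ 𝔮) : (primeOf hsq 𝔮 f hf hf𝔮).comap (algebraMap B' A') = 𝔮 := by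
  ext b
  rw [Ideal.mem_comap, mem_primeOf, mu_q]
  constructor
  · intro h
    exact (‹𝔮.IsPrime›.mem_or_mem h).resolve_left hf𝔮
  · intro h
    exact 𝔮.mul_mem_left _ h

/-- A prime of `A'` not containing `q f` is determined by its contraction to `B'`. -/
theorem eq_primeOf (x : Ideal A') [x.IsPrime] (f : B') (hf : algebraMap B' B f = 0)
    (hfx : algebraMap B' A' f ∉ x) (a' : A') :
    a' ∈ x ↔ mu hsq f hf a' ∈ x.comap (algebraMap B' A') := by
  rw [Ideal.mem_comap, q_mu]
  constructor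
  · intro h
    exact x.mul_mem_left _ h
  · intro h
    exact (‹x.IsPrime›.mem_or_mem h).resolve_left hfx

/-- Every prime of `B'` comes from `Spec B` or from `Spec A'`. -/
theorem exists_preimage (𝔮 : PrimeSpectrum B') :
    (∃ x₂ : PrimeSpectrum B, comap (algebraMap B' B) x₂ = 𝔮) ∨
      ∃ (x₃ : PrimeSpectrum A') (f : B'), algebraMap B' B f = 0 ∧ f ∉ 𝔮.asIdeal ∧
        comap (algebraMap B' A') x₃ = 𝔮 := by
  by_cases h : RingHom.ker (algebraMap B' B) ≤ 𝔮.asIdeal
  · left
    have h1 : 𝔮 ∈ Set.range (comap (algebraMap B' B)) := by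
      rw [range_comap_of_surjective _ _ (p_surjective hsq), mem_zeroLocus]
      exact h
    exact h1
  · right
    obtain ⟨f, hf, hf𝔮⟩ := SetLike.not_le_iff_exists.mp h
    have hf0 : algebraMap B' B f = 0 := hf
    haveI := primeOf_isPrime hsq 𝔮.asIdeal f hf0 hf𝔮
    refine ⟨⟨primeOf hsq 𝔮.asIdeal f hf0 hf𝔮, inferInstance⟩, f, hf0, hf𝔮, ?_⟩
    apply PrimeSpectrum.ext
    exact comap_primeOf hsq 𝔮.asIdeal f hf0 hf𝔮

/-- The square of spectra is a pullback of sets. -/
theorem exists_of_comap_eq (x₂ : PrimeSpectrum B) (x₃ : PrimeSpectrum A')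
    (h : comap (algebraMap B' B) x₂ = comap (algebraMap B' A') x₃) :
    ∃ x₁ : PrimeSpectrum A, comap (algebraMap B A) x₁ = x₂ ∧ comap (algebraMap A' A) x₁ = x₃ := by
  have hker : RingHom.ker (algebraMap A' A) ≤ x₃.asIdeal := by
    intro a' ha'
    have ha0 : algebraMap A' A a' = 0 := ha'
    obtain ⟨b', hb1, hb2⟩ := exists_lift hsq (b := 0) (a' := a') (by rw [map_zero, ha0])
    have h1 : b' ∈ (comap (algebraMap B' B) x₂).asIdeal := by
      show algebraMap B' B b' ∈ x₂.asIdeal
      rw [hb1]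
      exact x₂.asIdeal.zero_mem
    rw [h] at h1
    have h2 : algebraMap B' A' b' ∈ x₃.asIdeal := h1
    rwa [hb2] at h2
  have h1 : x₃ ∈ Set.range (comap (algebraMap A' A)) := by
    rw [range_comap_of_surjective _ _ hsq.1, mem_zeroLocus]
    exact hker
  obtain ⟨x₁, hx₁⟩ := h1
  refine ⟨x₁, ?_, hx₁⟩
  apply comap_injective_of_surjective _ (p_surjective hsq)
  rw [h, ← hx₁]
  apply PrimeSpectrum.ext
  ext b
  show algebraMap B A (algebraMap B' B b) ∈ x₁.asIdeal ↔
    algebraMap A' A (algebraMap B' A' b) ∈ x₁.asIdeal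
  rw [comm (B := B) (A' := A')]

/-- `Spec A' → Spec B'` is injective away from `Spec A`. -/
theorem comap_q_injOn (x₃ y₃ : PrimeSpectrum A') (f : B') (hf : algebraMap B' B f = 0)
    (hfx : f ∉ (comap (algebraMap B' A') x₃).asIdeal)
    (h : comap (algebraMap B' A') x₃ = comap (algebraMap B' A') y₃) : x₃ = y₃ := by
  have hfx' : algebraMap B' A' f ∉ x₃.asIdeal := hfx
  have hfy' : algebraMap B' A' f ∉ y₃.asIdeal := by
    rw [h] at hfx
    exact hfx
  apply PrimeSpectrum.ext
  ext a'
  rw [eq_primeOf hsq x₃.asIdeal f hf hfx' a', eq_primeOf hsq y₃.asIdeal f hf hfy' a']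
  have := congrArg PrimeSpectrum.asIdeal h
  change x₃.asIdeal.comap (algebraMap B' A') = y₃.asIdeal.comap (algebraMap B' A') at this
  rw [this]

/-- The topology of `Spec B'` is the quotient topology. -/
theorem isClosed_of_preimages (Z : Set (PrimeSpectrum B'))
    (h1 : IsClosed (comap (algebraMap B' B) ⁻¹' Z))
    (h2 : IsClosed (comap (algebraMap B' A') ⁻¹' Z)) : IsClosed Z := by
  obtain ⟨K, hK⟩ := (isClosed_iff_zeroLocus_ideal _).mp h1
  obtain ⟨J', hJ'⟩ := (isClosed_iff_zeroLocus_ideal _).mp h2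
  set K' : Ideal B' := K.comap (algebraMap B' B) ⊓ J'.comap (algebraMap B' A') with hK'
  suffices hZ : Z = zeroLocus (K' : Set B') by
    rw [hZ]
    exact isClosed_zeroLocus _
  apply Set.Subset.antisymm
  · intro z hz
    rw [mem_zeroLocus]
    rcases exists_preimage hsq z with ⟨x₂, rfl⟩ | ⟨x₃, f, -, -, rfl⟩
    · have hx : x₂ ∈ zeroLocus (K : Set B) := by rw [← hK]; exact hz
      rw [mem_zeroLocus] at hx
      intro b hb
      exact hx hb.1
    · have hx : x₃ ∈ zeroLocus (J' : Set A') := by rw [← hJ']; exact hz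
      rw [mem_zeroLocus] at hx
      intro b hb
      exact hx hb.2
  · intro z hz
    rw [mem_zeroLocus] at hz
    by_cases hker : RingHom.ker (algebraMap B' B) ≤ z.asIdeal
    · -- `z` comes from `Spec B`
      have hz1 : z ∈ Set.range (comap (algebraMap B' B)) := by
        rw [range_comap_of_surjective _ _ (p_surjective hsq), mem_zeroLocus]
        exact hker
      obtain ⟨x₂, rfl⟩ := hz1
      suffices hx : x₂ ∈ zeroLocus (K : Set B) by
        rw [← hK] at hx
        exact hx
      rw [mem_zeroLocus]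
      intro b₀ hb₀
      -- `β b₀` lies in the radical of `α(J')`
      have hrad : algebraMap B A b₀ ∈ (J'.map (algebraMap A' A)).radical := by
        rw [Ideal.radical_eq_sInf, Ideal.mem_sInf]
        rintro 𝔞 ⟨h𝔞, h𝔞p⟩
        haveI := h𝔞p
        let x₁ : PrimeSpectrum A := ⟨𝔞, h𝔞p⟩
        have hl : comap (algebraMap A' A) x₁ ∈ zeroLocus (J' : Set A') := by
          rw [mem_zeroLocus]
          intro a' ha'
          show algebraMap A' A a' ∈ 𝔞
          exact h𝔞 (Ideal.mem_map_of_mem _ ha')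
        rw [← hJ'] at hl
        have hl' : comap (algebraMap B' A') (comap (algebraMap A' A) x₁) ∈ Z := hl
        have heq : comap (algebraMap B' A') (comap (algebraMap A' A) x₁) =
            comap (algebraMap B' B) (comap (algebraMap B A) x₁) := by
          apply PrimeSpectrum.ext
          ext b
          show algebraMap A' A (algebraMap B' A' b) ∈ 𝔞 ↔ algebraMap B A (algebraMap B' B b) ∈ 𝔞
          rw [comm (B := B) (A' := A')]
        rw [heq] at hl'
        have ht : comap (algebraMap B A) x₁ ∈ zeroLocus (K : Set B) := by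
          rw [← hK]
          exact hl'
        rw [mem_zeroLocus] at ht
        exact ht hb₀
      obtain ⟨n, hn⟩ := hrad
      have hn1 : algebraMap B A (b₀ ^ (n + 1)) ∈ J'.map (algebraMap A' A) := by
        rw [map_pow, pow_succ]
        exact Ideal.mul_mem_right _ _ hn
      obtain ⟨j', hj', hj'eq⟩ := (Ideal.mem_map_iff_of_surjective _ hsq.1).mp hn1
      obtain ⟨b', hb1, hb2⟩ := exists_lift hsq (b := b₀ ^ (n + 1)) (a' := j') hj'eq.symm
      have hb'K' : b' ∈ K' := by
        refine ⟨?_, ?_⟩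
        · show algebraMap B' B b' ∈ K
          rw [hb1, pow_succ]
          exact K.mul_mem_left _ hb₀
        · show algebraMap B' A' b' ∈ J'
          rw [hb2]
          exact hj'
      have h3 : algebraMap B' B b' ∈ x₂.asIdeal := hz hb'K'
      rw [hb1] at h3
      exact x₂.isPrime.mem_of_pow_mem _ h3
    · -- `z` comes from `Spec A'`
      obtain ⟨f, hf, hfz⟩ := SetLike.not_le_iff_exists.mp hker
      have hf0 : algebraMap B' B f = 0 := hf
      haveI := primeOf_isPrime hsq z.asIdeal f hf0 hfz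
      let x₃ : PrimeSpectrum A' := ⟨primeOf hsq z.asIdeal f hf0 hfz, inferInstance⟩
      have hx₃ : comap (algebraMap B' A') x₃ = z :=
        PrimeSpectrum.ext (comap_primeOf hsq z.asIdeal f hf0 hfz)
      have hmem : x₃ ∈ zeroLocus (J' : Set A') := by
        rw [mem_zeroLocus]
        intro a' ha'
        show a' ∈ primeOf hsq z.asIdeal f hf0 hfz
        rw [mem_primeOf]
        apply hz
        refine ⟨?_, ?_⟩
        · show algebraMap B' B (mu hsq f hf0 a') ∈ K
          rw [p_mu]
          exact K.zero_mem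
        · show algebraMap B' A' (mu hsq f hf0 a') ∈ J'
          rw [q_mu]
          exact J'.mul_mem_left _ ha'
      rw [← hJ'] at hmem
      have : comap (algebraMap B' A') x₃ ∈ Z := hmem
      rwa [hx₃] at this

end Groth.Agent.H76.MilnorSpec
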