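import Mathlib
import Groth.Agent.H76.Milnor
import Groth.Agent.H76.MilnorSpec
import Groth.Agent.H76.MilnorEtale

/-!
# Glued algebras over a Milnor square (helper76)

Let `B' = B ×_A A'` and `D' = D ×_C C'` be fibre squares (`A' → A`, `C' → C` surjective), the second
one over the first, with `C = D ⊗_B A = C' ⊗_{A'} A`.  Then `D = B ⊗_{B'} D'` and
`C' = A' ⊗_{B'} D'` (no flatness needed).  Also: smoothness descends over Milnor squares.
-/

set_option autoImplicit false
universe u

open TensorProduct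

namespace Groth.Agent.H76.MilnorGlueRing

section Smooth

variable {B' B A' A : Type u} [CommRing B'] [CommRing B] [CommRing A'] [CommRing A]
  [Algebra B' B] [Algebra B' A'] [Algebra B A] [Algebra A' A] [Algebra B' A]
  [IsScalarTower B' B A] [IsScalarTower B' A' A]

/-- The fibre of `C` over `q` is smooth as soon as `S ⊗ C` is smooth over some `B'`-algebra `S`
having a prime over `q`. -/
theorem formallySmooth_fiber_of_smooth_baseChange {R : Type u} [CommRing R]
    (S : Type u) [CommRing S] [Algebra R S] (C : Type u) [CommRing C] [Algebra R C]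
    [Algebra.Smooth S (S ⊗[R] C)] (q : Ideal R) [q.IsPrime] (p : Ideal S) [p.IsPrime]
    (hpq : p.comap (algebraMap R S) = q) :
    Algebra.FormallySmooth q.ResidueField (q.Fiber C) := by
  have h1 : q ≤ RingHom.ker (algebraMap R p.ResidueField) := by
    intro x hx
    rw [RingHom.mem_ker, IsScalarTower.algebraMap_apply R S p.ResidueField]
    rw [← hpq] at hx
    exact (Ideal.algebraMap_residueField_eq_zero).mpr hx
  have h2 : q.primeCompl ≤ (IsUnit.submonoid p.ResidueField).comap (algebraMap R p.ResidueField) := by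
    intro x hx
    change IsUnit (algebraMap R p.ResidueField x)
    rw [isUnit_iff_ne_zero, IsScalarTower.algebraMap_apply R S p.ResidueField, Ne,
      Ideal.algebraMap_residueField_eq_zero]
    intro h
    apply hx
    rw [← hpq]; exact h
  letI algκL : Algebra q.ResidueField p.ResidueField :=
    (Ideal.ResidueField.lift q (algebraMap R p.ResidueField) h1 h2).toAlgebra
  haveI : IsScalarTower R q.ResidueField p.ResidueField := IsScalarTower.of_algebraMap_eq fun x =>
    (Ideal.ResidueField.lift_algebraMap q _ h1 h2 x).symm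
  let e₁ : p.ResidueField ⊗[q.ResidueField] (q.ResidueField ⊗[R] C) ≃ₐ[p.ResidueField]
      p.ResidueField ⊗[R] C :=
    Algebra.TensorProduct.cancelBaseChange R q.ResidueField p.ResidueField p.ResidueField C
  let e₂ : p.ResidueField ⊗[S] (S ⊗[R] C) ≃ₐ[p.ResidueField] p.ResidueField ⊗[R] C :=
    Algebra.TensorProduct.cancelBaseChange R S p.ResidueField p.ResidueField C
  haveI : Algebra.Smooth p.ResidueField (p.ResidueField ⊗[R] C) := Algebra.Smooth.of_equiv e₂
  haveI : Algebra.Smooth p.ResidueField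
      (p.ResidueField ⊗[q.ResidueField] (q.ResidueField ⊗[R] C)) := Algebra.Smooth.of_equiv e₁.symm
  have : Algebra.Smooth q.ResidueField (q.ResidueField ⊗[R] C) :=
    Algebra.Smooth.of_smooth_tensorProduct_of_faithfullyFlat p.ResidueField
  exact this.1

theorem smooth_of_baseChangePair (hsq : EtMil.IsFibreSquare B' B A' A)
    (C : Type u) [CommRing C] [Algebra B' C]
    [Algebra.Smooth B (B ⊗[B'] C)] [Algebra.Smooth A' (A' ⊗[B'] C)] :
    Algebra.Smooth B' C := by
  haveI : Module.Flat B' C := Groth.Agent.S14952.result B' B A' A hsq C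
  haveI : Algebra.FinitePresentation B' C := MilnorEtale.finitePresentation_of_baseChangePair hsq C
  refine Algebra.Smooth.of_formallySmooth_fiber fun q hq => ?_
  rcases MilnorSpec.exists_preimage hsq ⟨q, hq⟩ with ⟨x₂, hx₂⟩ | ⟨x₃, f, -, -, hx₃⟩
  · exact formallySmooth_fiber_of_smooth_baseChange B C q x₂.asIdeal
      (congrArg PrimeSpectrum.asIdeal hx₂)
  · exact formallySmooth_fiber_of_smooth_baseChange A' C q x₃.asIdeal
      (congrArg PrimeSpectrum.asIdeal hx₃)

end Smooth

section Glue

variable {B' B A' A : Type u} [CommRing B'] [CommRing B] [CommRing A'] [CommRing A]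
  [Algebra B' B] [Algebra B' A'] [Algebra B A] [Algebra A' A] [Algebra B' A]
  [IsScalarTower B' B A] [IsScalarTower B' A' A]
  {D' D C' C : Type u} [CommRing D'] [CommRing D] [CommRing C'] [CommRing C]
  [Algebra D' D] [Algebra D' C'] [Algebra D C] [Algebra C' C] [Algebra D' C]
  [IsScalarTower D' D C] [IsScalarTower D' C' C]
  [Algebra B' D'] [Algebra B D] [Algebra A' C'] [Algebra A C]
  [Algebra B' D] [IsScalarTower B' B D] [IsScalarTower B' D' D]
  [Algebra B' C'] [IsScalarTower B' A' C'] [IsScalarTower B' D' C']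
  [Algebra B C] [IsScalarTower B A C] [IsScalarTower B D C]
  [Algebra A' C] [IsScalarTower A' A C] [IsScalarTower A' C' C]

/-- the comparison map `A' ⊗ D' → C'` -/
noncomputable def mu : A' ⊗[B'] D' →ₐ[A'] C' :=
  Algebra.TensorProduct.lift (Algebra.ofId A' C') (IsScalarTower.toAlgHom B' D' C')
    (fun _ _ => Commute.all _ _)

theorem mu_tmul (a' : A') (δ : D') :
    mu (B' := B') (a' ⊗ₜ δ) = algebraMap A' C' a' * algebraMap D' C' δ := by
  simp [mu, Algebra.ofId_apply]

/-- the comparison map `B ⊗ D' → D` -/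
noncomputable def nu : B ⊗[B'] D' →ₐ[B] D :=
  Algebra.TensorProduct.lift (Algebra.ofId B D) (IsScalarTower.toAlgHom B' D' D)
    (fun _ _ => Commute.all _ _)

theorem nu_tmul (b : B) (δ : D') :
    nu (B' := B') (b ⊗ₜ δ) = algebraMap B D b * algebraMap D' D δ := by
  simp [nu, Algebra.ofId_apply]

variable (hsq : EtMil.IsFibreSquare B' B A' A) (hsq' : EtMil.IsFibreSquare D' D C' C)

include hsq in
theorem exists_ker_lift (ι : A') (hι : algebraMap A' A ι = 0) :
    ∃ j : B', algebraMap B' B j = 0 ∧ algebraMap B' A' j = ι := by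
  obtain ⟨j, hj, -⟩ := hsq.2 0 ι (by rw [map_zero, hι])
  exact ⟨j, hj⟩

/-- `J = I' D'` maps to zero in `D`. -/
theorem algebraMap_eq_zero_of_mem_map (e : D')
    (he : e ∈ Ideal.map (algebraMap B' D') (RingHom.ker (algebraMap B' B))) :
    algebraMap D' D e = 0 := by
  have : Ideal.map (algebraMap B' D') (RingHom.ker (algebraMap B' B)) ≤
      RingHom.ker (algebraMap D' D) := by
    rw [Ideal.map_le_iff_le_comap]
    intro j hj
    rw [Ideal.mem_comap, RingHom.mem_ker, ← IsScalarTower.algebraMap_apply,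
      IsScalarTower.algebraMap_apply B' B D, (RingHom.mem_ker).mp hj, map_zero]
  exact this he

include hsq in
/-- `ι • t = 1 ⊗ e` with `e ∈ I' D'`, for `ι ∈ I`. -/
theorem exists_smul_eq_one_tmul (ι : A') (hι : algebraMap A' A ι = 0) (t : A' ⊗[B'] D') :
    ∃ e ∈ Ideal.map (algebraMap B' D') (RingHom.ker (algebraMap B' B)),
      ι • t = (1 : A') ⊗ₜ[B'] e := by
  induction t with
  | zero => exact ⟨0, zero_mem _, by simp⟩
  | tmul a' δ =>
    obtain ⟨j, hj0, hj⟩ := exists_ker_lift hsq (ι * a') (by rw [map_mul, hι, zero_mul])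
    refine ⟨algebraMap B' D' j * δ, Ideal.mul_mem_right _ _
      (Ideal.mem_map_of_mem _ ((RingHom.mem_ker).mpr hj0)), ?_⟩
    rw [TensorProduct.smul_tmul', smul_eq_mul, ← hj, Algebra.algebraMap_eq_smul_one,
      TensorProduct.smul_tmul, Algebra.smul_def]
  | add x y hx hy =>
    obtain ⟨e₁, he₁, h₁⟩ := hx
    obtain ⟨e₂, he₂, h₂⟩ := hy
    exact ⟨e₁ + e₂, add_mem he₁ he₂, by rw [smul_add, h₁, h₂, TensorProduct.tmul_add]⟩

variable [Algebra.IsPushout B D A C] [Algebra.IsPushout A' C' A C]

include hsq hsq' in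
theorem mu_surjective : Function.Surjective (mu (B' := B') (A' := A') (D' := D') (C' := C')) := by
  intro c'
  -- first modulo the kernel of `C' → C`
  have key : ∀ s : D ⊗[B] A, ∃ t : A' ⊗[B'] D',
      algebraMap C' C (mu (B' := B') t) = Algebra.IsPushout.equiv B D A C s := by
    intro s
    induction s with
    | zero => exact ⟨0, by simp⟩
    | tmul d a =>
      obtain ⟨δ, rfl⟩ := Milnor.surjective_left hsq' d
      obtain ⟨a', rfl⟩ := hsq.1 a
      refine ⟨a' ⊗ₜ δ, ?_⟩
      rw [mu_tmul, map_mul, Algebra.IsPushout.equiv_tmul, ← IsScalarTower.algebraMap_apply A' C' C,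
        ← IsScalarTower.algebraMap_apply D' C' C, ← IsScalarTower.algebraMap_apply D' D C,
        ← IsScalarTower.algebraMap_apply A' A C, mul_comm]
    | add x y hx hy =>
      obtain ⟨t₁, h₁⟩ := hx
      obtain ⟨t₂, h₂⟩ := hy
      exact ⟨t₁ + t₂, by rw [map_add, map_add, h₁, h₂, map_add]⟩
  obtain ⟨t, ht⟩ := key ((Algebra.IsPushout.equiv B D A C).symm (algebraMap C' C c'))
  rw [AlgEquiv.apply_symm_apply] at ht
  have hker : algebraMap C' C (c' - mu (B' := B') t) = 0 := by rw [map_sub, ht, sub_self]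
  obtain ⟨δ₀, ⟨-, hδ₀⟩, -⟩ := hsq'.2 0 (c' - mu (B' := B') t) (by rw [map_zero, hker])
  refine ⟨t + 1 ⊗ₜ δ₀, ?_⟩
  rw [map_add, mu_tmul, map_one, one_mul, hδ₀]; ring

include hsq hsq' in
/-- `ker (D' → D) = I' D'`. -/
theorem mem_map_of_algebraMap_eq_zero (d' : D') (hd' : algebraMap D' D d' = 0) :
    d' ∈ Ideal.map (algebraMap B' D') (RingHom.ker (algebraMap B' B)) := by
  have hc : algebraMap C' C (algebraMap D' C' d') = 0 := by
    rw [← IsScalarTower.algebraMap_apply, IsScalarTower.algebraMap_apply D' D C, hd', map_zero]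
  -- `algebraMap D' C' d' ∈ I • ⊤`
  haveI : Algebra.IsPushout A' A C' C := Algebra.IsPushout.symm inferInstance
  have h1 : ((1 : A) ⊗ₜ[A'] (algebraMap D' C' d') : A ⊗[A'] C') = 0 := by
    apply (Algebra.IsPushout.equiv A' A C' C).injective
    rw [Algebra.IsPushout.equiv_tmul, map_one, one_mul, hc, map_zero]
  have h2 := Milnor.mem_smul_top_of_one_tmul_eq_zero hsq.1 _ h1
  have key : ∀ x ∈ (RingHom.ker (algebraMap A' A) • ⊤ : Submodule A' C'),
      ∃ e ∈ Ideal.map (algebraMap B' D') (RingHom.ker (algebraMap B' B)),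
      algebraMap D' C' e = x := by
    intro x hx
    refine Submodule.smul_induction_on hx (fun ι hι c' _ => ?_) (fun x y hx hy => ?_)
    · obtain ⟨t, rfl⟩ := mu_surjective (B' := B') hsq hsq' c'
      obtain ⟨e, he, h⟩ := exists_smul_eq_one_tmul hsq ι ((RingHom.mem_ker).mp hι) t
      refine ⟨e, he, ?_⟩
      rw [← map_smul, h, mu_tmul, map_one, one_mul]
    · obtain ⟨e₁, he₁, h₁⟩ := hx
      obtain ⟨e₂, he₂, h₂⟩ := hy
      exact ⟨e₁ + e₂, add_mem he₁ he₂, by rw [map_add, h₁, h₂]⟩
  obtain ⟨e, he, hec⟩ := key _ h2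
  have : d' = e := by
    apply Milnor.eq_of_maps_eq hsq'
    · rw [hd', algebraMap_eq_zero_of_mem_map (B := B) e he]
    · exact hec.symm
  rw [this]; exact he

include hsq in
/-- every element of `B ⊗[B'] D'` is `1 ⊗ δ`. -/
theorem exists_eq_one_tmul (t : B ⊗[B'] D') : ∃ δ : D', t = (1 : B) ⊗ₜ[B'] δ := by
  induction t with
  | zero => exact ⟨0, by simp⟩
  | tmul b δ =>
    obtain ⟨b', rfl⟩ := Milnor.surjective_left hsq b
    refine ⟨b' • δ, ?_⟩
    rw [Algebra.algebraMap_eq_smul_one, TensorProduct.smul_tmul]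
  | add x y hx hy =>
    obtain ⟨e₁, h₁⟩ := hx
    obtain ⟨e₂, h₂⟩ := hy
    exact ⟨e₁ + e₂, by rw [h₁, h₂, TensorProduct.tmul_add]⟩

/-- `1 ⊗ e = 0` in `B ⊗[B'] D'` for `e ∈ I' D'`. -/
theorem one_tmul_eq_zero_of_mem_map (e : D')
    (he : e ∈ Ideal.map (algebraMap B' D') (RingHom.ker (algebraMap B' B))) :
    ((1 : B) ⊗ₜ[B'] e : B ⊗[B'] D') = 0 := by
  have : Ideal.map (algebraMap B' D') (RingHom.ker (algebraMap B' B)) ≤
      RingHom.ker (Algebra.TensorProduct.includeRight : D' →ₐ[B'] B ⊗[B'] D').toRingHom := by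
    rw [Ideal.map_le_iff_le_comap]
    intro j hj
    rw [Ideal.mem_comap, RingHom.mem_ker]
    change ((1 : B) ⊗ₜ[B'] (algebraMap B' D' j) : B ⊗[B'] D') = 0
    rw [Algebra.algebraMap_eq_smul_one, ← TensorProduct.smul_tmul, ← Algebra.algebraMap_eq_smul_one,
      (RingHom.mem_ker).mp hj, TensorProduct.zero_tmul]
  exact this he

include hsq hsq' in
theorem nu_bijective : Function.Bijective (nu (B' := B') (B := B) (D' := D') (D := D)) := by
  constructor
  · rw [injective_iff_map_eq_zero]
    intro t ht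
    obtain ⟨δ, rfl⟩ := exists_eq_one_tmul hsq t
    rw [nu_tmul, map_one, one_mul] at ht
    exact one_tmul_eq_zero_of_mem_map δ
      (mem_map_of_algebraMap_eq_zero (A := A) (C' := C') (C := C) hsq hsq' δ ht)
  · intro d
    obtain ⟨δ, rfl⟩ := Milnor.surjective_left hsq' d
    exact ⟨1 ⊗ₜ δ, by rw [nu_tmul, map_one, one_mul]⟩

include hsq hsq' in
/-- `D = B ⊗[B'] D'`. -/
theorem isPushout_left : Algebra.IsPushout B' B D' D := by
  rw [Algebra.isPushout_iff]
  refine IsBaseChange.of_equiv (LinearEquiv.ofBijective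
    (nu (B' := B') (B := B) (D' := D') (D := D)).toLinearMap
    (nu_bijective (A' := A') (A := A) (C' := C') (C := C) hsq hsq')) fun x => ?_
  change nu (B' := B') ((1 : B) ⊗ₜ[B'] x) = algebraMap D' D x
  rw [nu_tmul, map_one, one_mul]

variable [Algebra B' C] [IsScalarTower B' D' C] [IsScalarTower B' A C] [IsScalarTower B' D C]

include hsq hsq' in
/-- `C = A ⊗[B'] D'`. -/
theorem isPushout_diag : Algebra.IsPushout B' A D' C := by
  haveI : Algebra.IsPushout B' B D' D :=
    isPushout_left (A' := A') (A := A) (C' := C') (C := C) hsq hsq'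
  haveI : Algebra.IsPushout B A D C := Algebra.IsPushout.symm inferInstance
  exact (Algebra.IsPushout.comp_iff B' B D' D (T := A) (T' := C)).mpr inferInstance

include hsq hsq' in
theorem mu_injective : Function.Injective (mu (B' := B') (A' := A') (D' := D') (C' := C')) := by
  rw [injective_iff_map_eq_zero]
  intro x hx
  haveI : Algebra.IsPushout B' A D' C :=
    isPushout_diag (B := B) (A' := A') (D := D) (C' := C') hsq hsq'
  -- the image of `x` in `A ⊗[B'] D'` vanishes
  let π : A' →ₗ[B'] A := (IsScalarTower.toAlgHom B' A' A).toLinearMap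
  have hπ : Function.Surjective π := hsq.1
  have h0 : π.rTensor D' x = 0 := by
    apply (Algebra.IsPushout.equiv B' A D' C).injective
    rw [map_zero]
    have : ∀ t : A' ⊗[B'] D', Algebra.IsPushout.equiv B' A D' C (π.rTensor D' t) =
        algebraMap C' C (mu (B' := B') t) := by
      intro t
      induction t with
      | zero => simp
      | tmul a' δ =>
        rw [LinearMap.rTensor_tmul, Algebra.IsPushout.equiv_tmul, mu_tmul, map_mul,
          ← IsScalarTower.algebraMap_apply A' C' C, ← IsScalarTower.algebraMap_apply D' C' C,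
          IsScalarTower.algebraMap_apply A' A C]
        rfl
      | add x y hx hy => rw [map_add, map_add, hx, hy, map_add, map_add]
    rw [this, hx, map_zero]
  -- so `x` comes from `I ⊗ D'`
  have hex : Function.Exact (LinearMap.ker π).subtype π := LinearMap.exact_subtype_ker_map π
  have hx' : x ∈ LinearMap.range ((LinearMap.ker π).subtype.rTensor D') :=
    (rTensor_exact D' hex hπ x).mp h0
  obtain ⟨y, rfl⟩ := hx'
  -- elements coming from `I ⊗ D'` are of the form `1 ⊗ e`
  have key : ∀ y : (LinearMap.ker π) ⊗[B'] D',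
      ∃ e ∈ Ideal.map (algebraMap B' D') (RingHom.ker (algebraMap B' B)),
        (LinearMap.ker π).subtype.rTensor D' y = (1 : A') ⊗ₜ[B'] e := by
    intro y
    induction y with
    | zero => exact ⟨0, zero_mem _, by simp⟩
    | tmul ι δ =>
      obtain ⟨e, he, h⟩ := exists_smul_eq_one_tmul (D' := D') hsq (ι : A')
        (LinearMap.mem_ker.mp ι.2) ((1 : A') ⊗ₜ[B'] δ)
      refine ⟨e, he, ?_⟩
      rw [LinearMap.rTensor_tmul, ← h, TensorProduct.smul_tmul', smul_eq_mul, mul_one]
      rfl
    | add x y hx hy =>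
      obtain ⟨e₁, he₁, h₁⟩ := hx
      obtain ⟨e₂, he₂, h₂⟩ := hy
      exact ⟨e₁ + e₂, add_mem he₁ he₂, by rw [map_add, h₁, h₂, TensorProduct.tmul_add]⟩
  obtain ⟨e, he, h⟩ := key y
  rw [h] at hx ⊢
  rw [mu_tmul, map_one, one_mul] at hx
  have : e = 0 := by
    apply Milnor.eq_of_maps_eq hsq'
    · rw [algebraMap_eq_zero_of_mem_map (B := B) e he, map_zero]
    · rw [hx, map_zero]
  rw [this, TensorProduct.tmul_zero]

include hsq hsq' in
/-- `C' = A' ⊗[B'] D'`. -/
theorem isPushout_right : Algebra.IsPushout B' A' D' C' := by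
  rw [Algebra.isPushout_iff]
  refine IsBaseChange.of_equiv (LinearEquiv.ofBijective
    (mu (B' := B') (A' := A') (D' := D') (C' := C')).toLinearMap
    ⟨mu_injective (B := B) (A := A) (D := D) (C := C) hsq hsq',
      mu_surjective (B := B) (A := A) (D := D) (C := C) hsq hsq'⟩) fun x => ?_
  change mu (B' := B') ((1 : A') ⊗ₜ[B'] x) = algebraMap D' C' x
  rw [mu_tmul, map_one, one_mul]

end Glue

end Groth.Agent.H76.MilnorGlueRing
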