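import Groth.Agent.H76.Milnor
import Groth.Agent.H76.InjFlat
import Groth.Agent.S6916

/-!
# Conservativity of base change for Milnor squares (helper76)

For a fibre square `B' = B ×_A A'` with `A' → A` surjective: a flat `B'`-module embeds into the
product of its base changes to `B` and `A'`, and a linear map between flat `B'`-modules is
bijective as soon as both base changes are.
-/

set_option autoImplicit false
universe u

open TensorProduct

namespace Groth.Agent.H76.MilnorIso

open Groth.Agent.H76 Groth.Agent.H76.InjFlat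

variable {B' B A' A : Type u} [CommRing B'] [CommRing B] [CommRing A'] [CommRing A]
  [Algebra B' B] [Algebra B' A'] [Algebra B A] [Algebra A' A] [Algebra B' A]
  [IsScalarTower B' B A] [IsScalarTower B' A' A]

/-- A flat `B'`-module embeds into `(B ⊗ P) × (A' ⊗ P)`. -/
theorem eq_zero_of_one_tmul_eq_zero (hsq : EtMil.IsFibreSquare B' B A' A)
    {P : Type u} [AddCommGroup P] [Module B' P] [Module.Flat B' P] (x : P)
    (h1 : ((1 : B) ⊗ₜ[B'] x : B ⊗[B'] P) = 0) (h2 : ((1 : A') ⊗ₜ[B'] x : A' ⊗[B'] P) = 0) :
    x = 0 := by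
  have hx : x ∈ (RingHom.ker (algebraMap B' B)) • (⊤ : Submodule B' P) :=
    Milnor.mem_smul_top_of_one_tmul_eq_zero (Milnor.surjective_left hsq) x h1
  obtain ⟨t, rfl⟩ := exists_mu_eq hx
  let v : (RingHom.ker (algebraMap B' B)) →ₗ[B'] A' :=
    (Algebra.linearMap B' A') ∘ₗ (RingHom.ker (algebraMap B' B)).subtype
  have hv : Function.Injective v := by
    intro k k' hkk'
    apply Subtype.ext
    apply Milnor.eq_of_maps_eq hsq
    · rw [(RingHom.mem_ker).mp k.2, (RingHom.mem_ker).mp k'.2]
    · exact hkk'
  have hvP : Function.Injective (v.rTensor P) :=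
    Module.Flat.rTensor_preserves_injective_linearMap v hv
  have hcomp : ∀ t : (RingHom.ker (algebraMap B' B)) ⊗[B'] P,
      (v.rTensor P) t = (1 : A') ⊗ₜ[B'] (mu (RingHom.ker (algebraMap B' B)) P t) := by
    intro t
    induction t with
    | zero => simp
    | tmul k p =>
      rw [LinearMap.rTensor_tmul, mu_tmul, TensorProduct.tmul_smul, TensorProduct.smul_tmul']
      congr 1
      show algebraMap B' A' (k : B') = (k : B') • (1 : A')
      rw [Algebra.smul_def, mul_one]
    | add a b ha hb => rw [map_add, map_add, TensorProduct.tmul_add, ha, hb]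
  have ht : t = 0 := by
    apply hvP
    rw [hcomp, h2, map_zero]
  rw [ht, map_zero]

section Bij

variable {P Q : Type u} [AddCommGroup P] [Module B' P] [AddCommGroup Q] [Module B' Q]

theorem lTensor_bijective_of_baseChange_bijective (f : P →ₗ[B'] Q)
    (hA' : Function.Bijective (f.baseChange A')) : Function.Bijective (f.lTensor A) := by
  let e := LinearEquiv.ofBijective (f.baseChange A') hA'
  have h1 : Function.Bijective (LinearMap.lTensor A (f.baseChange A')) :=
    (e.lTensor A).bijective
  have hcomm : ∀ x, AlgebraTensorModule.cancelBaseChange B' A' A' A Q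
      (LinearMap.lTensor A (f.baseChange A') x) =
      LinearMap.lTensor A f (AlgebraTensorModule.cancelBaseChange B' A' A' A P x) :=
    fun x => cancelBaseChange_lTensor f x
  constructor
  · intro x y hxy
    obtain ⟨x', rfl⟩ := (AlgebraTensorModule.cancelBaseChange B' A' A' A P).surjective x
    obtain ⟨y', rfl⟩ := (AlgebraTensorModule.cancelBaseChange B' A' A' A P).surjective y
    rw [← hcomm, ← hcomm] at hxy
    rw [h1.1 ((AlgebraTensorModule.cancelBaseChange B' A' A' A Q).injective hxy)]
  · intro y
    obtain ⟨y', rfl⟩ := (AlgebraTensorModule.cancelBaseChange B' A' A' A Q).surjective y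
    obtain ⟨x', rfl⟩ := h1.2 y'
    exact ⟨_, (hcomm x').symm⟩

theorem bijective_of_baseChange_bijective (hsq : EtMil.IsFibreSquare B' B A' A)
    [Module.Flat B' P] [Module.Flat B' Q] (f : P →ₗ[B'] Q)
    (hB : Function.Bijective (f.baseChange B)) (hA' : Function.Bijective (f.baseChange A')) :
    Function.Bijective f := by
  have hinj : Function.Injective f := by
    rw [injective_iff_map_eq_zero]
    intro x hx
    apply eq_zero_of_one_tmul_eq_zero hsq x
    · apply hB.1
      rw [LinearMap.baseChange_tmul, hx, TensorProduct.tmul_zero, map_zero]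
    · apply hA'.1
      rw [LinearMap.baseChange_tmul, hx, TensorProduct.tmul_zero, map_zero]
  refine ⟨hinj, ?_⟩
  intro y
  obtain ⟨xB, hxB⟩ := hB.2 ((1 : B) ⊗ₜ[B'] y)
  obtain ⟨xA', hxA'⟩ := hA'.2 ((1 : A') ⊗ₜ[B'] y)
  have hA := lTensor_bijective_of_baseChange_bijective (A := A) f hA'
  have hxy : (IsScalarTower.toAlgHom B' B A).toLinearMap.rTensor P xB =
      (IsScalarTower.toAlgHom B' A' A).toLinearMap.rTensor P xA' := by
    apply hA.1
    have e1 : (f.lTensor A) ((IsScalarTower.toAlgHom B' B A).toLinearMap.rTensor P xB) =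
        (IsScalarTower.toAlgHom B' B A).toLinearMap.rTensor Q ((f.lTensor B) xB) := by
      rw [← LinearMap.comp_apply, ← LinearMap.comp_apply, LinearMap.lTensor_comp_rTensor,
        LinearMap.rTensor_comp_lTensor]
    have e2 : (f.lTensor A) ((IsScalarTower.toAlgHom B' A' A).toLinearMap.rTensor P xA') =
        (IsScalarTower.toAlgHom B' A' A).toLinearMap.rTensor Q ((f.lTensor A') xA') := by
      rw [← LinearMap.comp_apply, ← LinearMap.comp_apply, LinearMap.lTensor_comp_rTensor,
        LinearMap.rTensor_comp_lTensor]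
    have e3 : (f.lTensor B) xB = (1 : B) ⊗ₜ[B'] y := hxB
    have e4 : (f.lTensor A') xA' = (1 : A') ⊗ₜ[B'] y := hxA'
    rw [e1, e2, e3, e4, LinearMap.rTensor_tmul, LinearMap.rTensor_tmul]
    simp
  obtain ⟨l, hl1, hl2⟩ := Groth.Agent.S6916.result B' B A' A hsq P xB xA' hxy
  refine ⟨l, ?_⟩
  have h0 : f l - y = 0 := by
    apply eq_zero_of_one_tmul_eq_zero hsq
    · rw [TensorProduct.tmul_sub, ← LinearMap.baseChange_tmul, hl1, hxB, sub_self]
    · rw [TensorProduct.tmul_sub, ← LinearMap.baseChange_tmul, hl2, hxA', sub_self]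
  exact sub_eq_zero.mp h0

end Bij

end Groth.Agent.H76.MilnorIso
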