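import Groth.Agent.H76.MilnorIso
import Groth.Agent.S14952
import Groth.Agent.S6916

/-!
# Projectivity over a Milnor square (helper76)

`projective_of_baseChange_projective`: for a fibre square `B' = B ×_A A'` (`A' → A` surjective), a
`B'`-module `P` is projective as soon as `B ⊗ P` and `A' ⊗ P` are projective (no finiteness).
-/

set_option autoImplicit false
set_option linter.style.haveILetI false
universe u

open TensorProduct

namespace Groth.Agent.H76.MilnorProj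

variable {B' B A' A : Type u} [CommRing B'] [CommRing B] [CommRing A'] [CommRing A]
  [Algebra B' B] [Algebra B' A'] [Algebra B A] [Algebra A' A] [Algebra B' A]
  [IsScalarTower B' B A] [IsScalarTower B' A' A]

section Rho

variable (B' B A' A)

/-- reduction `B ⊗ X → A ⊗ X`. -/
noncomputable abbrev rhoB (X : Type u) [AddCommGroup X] [Module B' X] :
    B ⊗[B'] X →ₗ[B'] A ⊗[B'] X :=
  (IsScalarTower.toAlgHom B' B A).toLinearMap.rTensor X

/-- reduction `A' ⊗ X → A ⊗ X`. -/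
noncomputable abbrev rhoA' (X : Type u) [AddCommGroup X] [Module B' X] :
    A' ⊗[B'] X →ₗ[B'] A ⊗[B'] X :=
  (IsScalarTower.toAlgHom B' A' A).toLinearMap.rTensor X

variable {B' B A' A}

theorem rhoA'_eq_cancel (X : Type u) [AddCommGroup X] [Module B' X] (w : A' ⊗[B'] X) :
    rhoA' B' A' A X w =
      AlgebraTensorModule.cancelBaseChange B' A' A A X ((1 : A) ⊗ₜ[A'] w) := by
  induction w using TensorProduct.induction_on with
  | zero => simp
  | tmul a x =>
    rw [LinearMap.rTensor_tmul, AlgebraTensorModule.cancelBaseChange_tmul]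
    congr 1
    show algebraMap A' A a = a • (1 : A)
    rw [Algebra.smul_def, mul_one]
  | add w₁ w₂ h₁ h₂ => rw [map_add, h₁, h₂, TensorProduct.tmul_add, map_add]

theorem rhoA'_map_eq_zero {X Y : Type u} [AddCommGroup X] [Module B' X] [AddCommGroup Y]
    [Module B' Y] (u : A' ⊗[B'] X →ₗ[A'] A' ⊗[B'] Y) (w : A' ⊗[B'] X)
    (hw : rhoA' B' A' A X w = 0) : rhoA' B' A' A Y (u w) = 0 := by
  have h1 : ((1 : A) ⊗ₜ[A'] w : A ⊗[A'] (A' ⊗[B'] X)) = 0 := by
    apply (AlgebraTensorModule.cancelBaseChange B' A' A A X).injective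
    rw [← rhoA'_eq_cancel, hw, map_zero]
  rw [rhoA'_eq_cancel, ← LinearMap.baseChange_tmul, h1, map_zero, map_zero]

theorem rhoB_one_tmul (X : Type u) [AddCommGroup X] [Module B' X] (x : X) :
    rhoB B' B A X ((1 : B) ⊗ₜ[B'] x) = (1 : A) ⊗ₜ[B'] x := by
  rw [LinearMap.rTensor_tmul]
  congr 1
  exact map_one (algebraMap B A)

theorem rhoA'_one_tmul (X : Type u) [AddCommGroup X] [Module B' X] (x : X) :
    rhoA' B' A' A X ((1 : A') ⊗ₜ[B'] x) = (1 : A) ⊗ₜ[B'] x := by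
  rw [LinearMap.rTensor_tmul]
  congr 1
  exact map_one (algebraMap A' A)

theorem rhoB_lTensor {X Y : Type u} [AddCommGroup X] [Module B' X] [AddCommGroup Y]
    [Module B' Y] (g : X →ₗ[B'] Y) (w : B ⊗[B'] X) :
    rhoB B' B A Y (g.lTensor B w) = g.lTensor A (rhoB B' B A X w) := by
  rw [← LinearMap.comp_apply, ← LinearMap.comp_apply, LinearMap.rTensor_comp_lTensor,
    LinearMap.lTensor_comp_rTensor]

theorem rhoA'_lTensor {X Y : Type u} [AddCommGroup X] [Module B' X] [AddCommGroup Y]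
    [Module B' Y] (g : X →ₗ[B'] Y) (w : A' ⊗[B'] X) :
    rhoA' B' A' A Y (g.lTensor A' w) = g.lTensor A (rhoA' B' A' A X w) := by
  rw [← LinearMap.comp_apply, ← LinearMap.comp_apply, LinearMap.rTensor_comp_lTensor,
    LinearMap.lTensor_comp_rTensor]

end Rho

section Main

/-- **Milnor patching for projectivity.** -/
theorem projective_of_baseChange_projective (hsq : EtMil.IsFibreSquare B' B A' A)
    (P : Type u) [AddCommGroup P] [Module B' P]
    [Module.Projective B (B ⊗[B'] P)] [Module.Projective A' (A' ⊗[B'] P)] :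
    Module.Projective B' P := by
  haveI : Module.Flat B' P := Groth.Agent.S14952.result B' B A' A hsq P
  -- a free cover
  let F := P →₀ B'
  let π : F →ₗ[B'] P := Finsupp.linearCombination B' id
  have hπ : Function.Surjective π := Finsupp.linearCombination_id_surjective B' P
  let πB : B ⊗[B'] F →ₗ[B] B ⊗[B'] P := π.baseChange B
  let πA' : A' ⊗[B'] F →ₗ[A'] A' ⊗[B'] P := π.baseChange A'
  have hπB : Function.Surjective πB := LinearMap.lTensor_surjective B hπ
  have hπA' : Function.Surjective πA' := LinearMap.lTensor_surjective A' hπ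
  have hπBl : ∀ w, πB w = π.lTensor B w := fun w => rfl
  have hπA'l : ∀ w, πA' w = π.lTensor A' w := fun w => rfl
  obtain ⟨s₁, hs₁⟩ := Module.projective_lifting_property πB LinearMap.id hπB
  obtain ⟨s₂, hs₂⟩ := Module.projective_lifting_property πA' LinearMap.id hπA'
  have hs₁' : ∀ w, πB (s₁ w) = w := fun w => LinearMap.congr_fun hs₁ w
  have hs₂' : ∀ w, πA' (s₂ w) = w := fun w => LinearMap.congr_fun hs₂ w
  -- the discrepancy
  let δ₀ : P →ₗ[B'] A ⊗[B'] F :=
    rhoB B' B A F ∘ₗ (s₁.restrictScalars B') ∘ₗ (TensorProduct.mk B' B P 1) -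
      rhoA' B' A' A F ∘ₗ (s₂.restrictScalars B') ∘ₗ (TensorProduct.mk B' A' P 1)
  have hδ₀ : ∀ p, δ₀ p = rhoB B' B A F (s₁ ((1 : B) ⊗ₜ[B'] p)) -
      rhoA' B' A' A F (s₂ ((1 : A') ⊗ₜ[B'] p)) := fun p => rfl
  let ρ' : A' ⊗[B'] F →ₗ[A'] A ⊗[B'] F :=
    AlgebraTensorModule.map (Algebra.linearMap A' A) (LinearMap.id : F →ₗ[B'] F)
  have hρ' : ∀ w, ρ' w = rhoA' B' A' A F w := by
    intro w
    induction w using TensorProduct.induction_on with
    | zero => simp
    | tmul a x =>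
      rw [AlgebraTensorModule.map_tmul, LinearMap.rTensor_tmul]
      rfl
    | add w₁ w₂ h₁ h₂ => rw [map_add, map_add, h₁, h₂]
  have hρ'surj : Function.Surjective ρ' := by
    intro z
    have hq : Function.Surjective ((IsScalarTower.toAlgHom B' A' A).toLinearMap) := hsq.1
    obtain ⟨w, hw⟩ := LinearMap.rTensor_surjective F hq z
    exact ⟨w, by rw [hρ', ← hw]⟩
  obtain ⟨δ'', hδ''⟩ :=
    Module.projective_lifting_property ρ' (LinearMap.liftBaseChange A' δ₀) hρ'surj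
  have hδ''p : ∀ p, rhoA' B' A' A F (δ'' ((1 : A') ⊗ₜ[B'] p)) = δ₀ p := by
    intro p
    rw [← hρ', ← LinearMap.comp_apply, hδ'', LinearMap.liftBaseChange_tmul, one_smul]
  -- corrected section
  let s₂' : A' ⊗[B'] P →ₗ[A'] A' ⊗[B'] F := s₂ + (LinearMap.id - s₂ ∘ₗ πA') ∘ₗ δ''
  have hs₂'apply : ∀ w, s₂' w = s₂ w + (δ'' w - s₂ (πA' (δ'' w))) := fun w => rfl
  have hs₂'π : ∀ w, πA' (s₂' w) = w := by
    intro w
    rw [hs₂'apply, map_add, map_sub, hs₂', hs₂', sub_self, add_zero]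
  have hcompat : ∀ p, rhoB B' B A F (s₁ ((1 : B) ⊗ₜ[B'] p)) =
      rhoA' B' A' A F (s₂' ((1 : A') ⊗ₜ[B'] p)) := by
    intro p
    have h0 : rhoA' B' A' A P (πA' (δ'' ((1 : A') ⊗ₜ[B'] p))) = 0 := by
      rw [hπA'l, rhoA'_lTensor, hδ''p, hδ₀, map_sub, ← rhoB_lTensor, ← rhoA'_lTensor, ← hπBl,
        ← hπA'l, hs₁', hs₂', rhoB_one_tmul, rhoA'_one_tmul, sub_self]
    have h1 := rhoA'_map_eq_zero (B' := B') (A' := A') (A := A) s₂ _ h0
    rw [hs₂'apply, map_add, map_sub, h1, sub_zero, hδ''p, hδ₀]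
    abel
  -- the section of `π`
  let ι : F →ₗ[B'] (B ⊗[B'] F) × (A' ⊗[B'] F) :=
    (TensorProduct.mk B' B F 1).prod (TensorProduct.mk B' A' F 1)
  have hι : Function.Injective ι := by
    rw [injective_iff_map_eq_zero]
    intro l hl
    have h1 : ((1 : B) ⊗ₜ[B'] l : B ⊗[B'] F) = 0 := congrArg Prod.fst hl
    have h2 : ((1 : A') ⊗ₜ[B'] l : A' ⊗[B'] F) = 0 := congrArg Prod.snd hl
    exact MilnorIso.eq_zero_of_one_tmul_eq_zero hsq l h1 h2
  let T : P →ₗ[B'] (B ⊗[B'] F) × (A' ⊗[B'] F) :=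
    ((s₁.restrictScalars B') ∘ₗ (TensorProduct.mk B' B P 1)).prod
      ((s₂'.restrictScalars B') ∘ₗ (TensorProduct.mk B' A' P 1))
  have hT : ∀ p, T p ∈ LinearMap.range ι := by
    intro p
    obtain ⟨l, hl1, hl2⟩ := Groth.Agent.S6916.result B' B A' A hsq F
      (s₁ ((1 : B) ⊗ₜ[B'] p)) (s₂' ((1 : A') ⊗ₜ[B'] p)) (hcompat p)
    exact ⟨l, Prod.ext hl1 hl2⟩
  let s : P →ₗ[B'] F :=
    (LinearEquiv.ofInjective ι hι).symm.toLinearMap ∘ₗ T.codRestrict (LinearMap.range ι) hT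
  have hιs : ∀ p, ι (s p) = T p := by
    intro p
    have := (LinearEquiv.ofInjective ι hι).apply_symm_apply (T.codRestrict (LinearMap.range ι) hT p)
    exact congrArg Subtype.val this
  have hπs : π ∘ₗ s = LinearMap.id := by
    apply LinearMap.ext
    intro p
    rw [LinearMap.comp_apply, LinearMap.id_apply, ← sub_eq_zero]
    have e1 : ((1 : B) ⊗ₜ[B'] (s p) : B ⊗[B'] F) = s₁ ((1 : B) ⊗ₜ[B'] p) :=
      congrArg Prod.fst (hιs p)
    have e2 : ((1 : A') ⊗ₜ[B'] (s p) : A' ⊗[B'] F) = s₂' ((1 : A') ⊗ₜ[B'] p) :=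
      congrArg Prod.snd (hιs p)
    apply MilnorIso.eq_zero_of_one_tmul_eq_zero hsq
    · have : ((1 : B) ⊗ₜ[B'] π (s p) : B ⊗[B'] P) = πB ((1 : B) ⊗ₜ[B'] (s p)) := rfl
      rw [TensorProduct.tmul_sub, this, e1, hs₁', sub_self]
    · have : ((1 : A') ⊗ₜ[B'] π (s p) : A' ⊗[B'] P) = πA' ((1 : A') ⊗ₜ[B'] (s p)) := rfl
      rw [TensorProduct.tmul_sub, this, e2, hs₂'π, sub_self]
  exact Module.Projective.of_split s π hπs

end Main

end Groth.Agent.H76.MilnorProj
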