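import Groth.Prelude.Def_EtMil
import Groth.Agent.S14422
import Groth.Agent.H76.Milnor
import Mathlib

/-!
# Tor criterion for the unit of the glueing adjunction on a Milnor square (helper76)
-/

set_option autoImplicit false
set_option linter.style.haveILetI false
universe u v w v' u'
open TensorProduct CategoryTheory Limits MonoidalCategory

namespace Groth.Agent.H76.MilnorTor

section Additive

variable {C : Type w} [Category.{v} C] [Abelian C] [HasProjectiveResolutions C]
  {D : Type u'} [Category.{v'} D] [Abelian D]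

theorem leftDerived_map_add (F : C ⥤ D) [F.Additive] (n : ℕ) {X Y : C} (f g : X ⟶ Y) :
    (F.leftDerived n).map (f + g) = (F.leftDerived n).map f + (F.leftDerived n).map g := by
  let P := projectiveResolution X
  let Q := projectiveResolution Y
  let φf := ProjectiveResolution.lift f P Q
  let φg := ProjectiveResolution.lift g P Q
  have wf : φf ≫ Q.π = P.π ≫ (ChainComplex.single₀ C).map f :=
    ProjectiveResolution.lift_commutes f P Q
  have wg : φg ≫ Q.π = P.π ≫ (ChainComplex.single₀ C).map g :=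
    ProjectiveResolution.lift_commutes g P Q
  have wfg : (φf + φg) ≫ Q.π = P.π ≫ (ChainComplex.single₀ C).map (f + g) := by
    rw [Preadditive.add_comp, wf, wg, Functor.map_add, Preadditive.comp_add]
  rw [Functor.leftDerived_map_eq F n (f + g) (φf + φg) wfg, Functor.leftDerived_map_eq F n f φf wf,
    Functor.leftDerived_map_eq F n g φg wg, Functor.map_add, Preadditive.add_comp,
    Preadditive.comp_add]

instance leftDerived_additive (F : C ⥤ D) [F.Additive] (n : ℕ) : (F.leftDerived n).Additive where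
  map_add := leftDerived_map_add F n _ _


end Additive

section Cat


variable {R : Type u} [CommRing R]

/-- For a short exact sequence `S` of `R`-modules, `Tor₁(L, X₂) → Tor₁(L, X₃)` is an epimorphism
iff `L ⊗ X₁ → L ⊗ X₂` is injective. -/
theorem epi_tor_one_iff (L : ModuleCat.{u} R) (S : ShortComplex (ModuleCat.{u} R))
    (hS : S.ShortExact) :
    Epi (((Tor (ModuleCat.{u} R) 1).obj L).map S.g) ↔
      Function.Injective (S.f.hom.lTensor L) := by
  obtain ⟨-, -, δ, w₁, w₂, ex₁, ex₂⟩ := Groth.Agent.S14422.result R L S hS 0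
  have hF : PreservesFiniteColimits ((tensoringLeft (ModuleCat.{u} R)).obj L) := by
    change PreservesFiniteColimits (tensorLeft L)
    infer_instance
  let e := ((tensoringLeft (ModuleCat.{u} R)).obj L).leftDerivedZeroIsoSelf
  have hnat := e.hom.naturality S.f
  have h1 : Epi (((Tor (ModuleCat.{u} R) 1).obj L).map S.g) ↔ δ = 0 := by
    constructor
    · intro h
      rw [← cancel_epi (((Tor (ModuleCat.{u} R) 1).obj L).map S.g), w₁, comp_zero]
    · intro h
      exact (ShortComplex.exact_iff_epi _ h).mp ex₁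
  have h2 : δ = 0 ↔ Mono (((Tor (ModuleCat.{u} R) 0).obj L).map S.f) := by
    constructor
    · intro h
      exact (ShortComplex.exact_iff_mono _ h).mp ex₂
    · intro h
      rw [← cancel_mono (((Tor (ModuleCat.{u} R) 0).obj L).map S.f), w₂, zero_comp]
  have hb : ((tensoringLeft (ModuleCat.{u} R)).obj L).map S.f =
      e.inv.app S.X₁ ≫ (((tensoringLeft (ModuleCat.{u} R)).obj L).leftDerived 0).map S.f ≫
        e.hom.app S.X₂ := by
    rw [hnat, Iso.inv_hom_id_app_assoc]
  have ha : (((tensoringLeft (ModuleCat.{u} R)).obj L).leftDerived 0).map S.f =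
      e.hom.app S.X₁ ≫ ((tensoringLeft (ModuleCat.{u} R)).obj L).map S.f ≫ e.inv.app S.X₂ := by
    rw [← Category.assoc, ← hnat, Category.assoc, Iso.hom_inv_id_app, Category.comp_id]
  have h3 : Mono (((Tor (ModuleCat.{u} R) 0).obj L).map S.f) ↔
      Mono (((tensoringLeft (ModuleCat.{u} R)).obj L).map S.f) := by
    constructor
    · intro h
      change Mono ((((tensoringLeft (ModuleCat.{u} R)).obj L).leftDerived 0).map S.f) at h
      rw [hb]
      haveI := h
      haveI m1 : Mono (e.hom.app S.X₂) := IsIso.mono_of_iso _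
      haveI m2 : Mono (e.inv.app S.X₁) := IsIso.mono_of_iso _
      haveI m3 : Mono ((((tensoringLeft (ModuleCat.{u} R)).obj L).leftDerived 0).map S.f ≫
          e.hom.app S.X₂) := mono_comp _ _
      exact mono_comp _ _
    · intro h
      change Mono ((((tensoringLeft (ModuleCat.{u} R)).obj L).leftDerived 0).map S.f)
      rw [ha]
      haveI := h
      haveI m1 : Mono (e.inv.app S.X₂) := IsIso.mono_of_iso _
      haveI m2 : Mono (e.hom.app S.X₁) := IsIso.mono_of_iso _
      haveI m3 : Mono (((tensoringLeft (ModuleCat.{u} R)).obj L).map S.f ≫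
          e.inv.app S.X₂) := mono_comp _ _
      exact mono_comp _ _
  rw [h1, h2, h3, ModuleCat.mono_iff_injective]
  rfl



variable {R : Type u} [CommRing R]

/-- additive functor and the concrete product. -/
theorem epi_desc_iff (T : ModuleCat.{u} R ⥤ ModuleCat.{u} R) [T.Additive]
    {X Y Z : Type u} [AddCommGroup X] [Module R X] [AddCommGroup Y] [Module R Y]
    [AddCommGroup Z] [Module R Z] (β : X →ₗ[R] Z) (α : Y →ₗ[R] Z) :
    Epi (biprod.desc (T.map (ModuleCat.ofHom β)) (T.map (ModuleCat.ofHom α))) ↔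
      Epi (T.map (ModuleCat.ofHom (β.coprod α))) := by
  let i₁ : ModuleCat.of R X ⟶ ModuleCat.of R (X × Y) := ModuleCat.ofHom (LinearMap.inl R X Y)
  let i₂ : ModuleCat.of R Y ⟶ ModuleCat.of R (X × Y) := ModuleCat.ofHom (LinearMap.inr R X Y)
  let p₁ : ModuleCat.of R (X × Y) ⟶ ModuleCat.of R X := ModuleCat.ofHom (LinearMap.fst R X Y)
  let p₂ : ModuleCat.of R (X × Y) ⟶ ModuleCat.of R Y := ModuleCat.ofHom (LinearMap.snd R X Y)
  let g : ModuleCat.of R (X × Y) ⟶ ModuleCat.of R Z := ModuleCat.ofHom (β.coprod α)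
  have h1 : i₁ ≫ g = ModuleCat.ofHom β := by
    ext x; simp [i₁, g]
  have h2 : i₂ ≫ g = ModuleCat.ofHom α := by
    ext x; simp [i₂, g]
  have h3 : p₁ ≫ i₁ + p₂ ≫ i₂ = 𝟙 _ := by
    ext x <;> simp [i₁, i₂, p₁, p₂]
  let c : T.obj (ModuleCat.of R X) ⊞ T.obj (ModuleCat.of R Y) ⟶ T.obj (ModuleCat.of R (X × Y)) :=
    biprod.desc (T.map i₁) (T.map i₂)
  let d : T.obj (ModuleCat.of R (X × Y)) ⟶ T.obj (ModuleCat.of R X) ⊞ T.obj (ModuleCat.of R Y) :=
    biprod.lift (T.map p₁) (T.map p₂)
  have hdc : d ≫ c = 𝟙 _ := by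
    rw [biprod.lift_desc, ← T.map_comp, ← T.map_comp, ← T.map_add, h3, T.map_id]
  have hc : c ≫ T.map g = biprod.desc (T.map (ModuleCat.ofHom β)) (T.map (ModuleCat.ofHom α)) := by
    apply biprod.hom_ext'
    · rw [biprod.inl_desc_assoc, biprod.inl_desc, ← T.map_comp, h1]
    · rw [biprod.inr_desc_assoc, biprod.inr_desc, ← T.map_comp, h2]
  rw [← hc]
  constructor
  · intro h
    exact epi_of_epi c (T.map g)
  · intro h
    haveI : Epi c := by
      haveI : Epi (d ≫ c) := by rw [hdc]; infer_instance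
      exact epi_of_epi d c
    exact epi_comp c (T.map g)


end Cat

section Square


variable (B' B A' : Type u) [CommRing B'] [CommRing B] [CommRing A']
    [Algebra B' B] [Algebra B' A']

/-- `b' ↦ (b', -b')`. -/
noncomputable def fL : B' →ₗ[B'] B × A' :=
  (Algebra.linearMap B' B).prod (-(Algebra.linearMap B' A'))

theorem fL_apply (x : B') : fL B' B A' x = (algebraMap B' B x, -(algebraMap B' A' x)) := rfl

theorem inj_iff (L' : Type u) [AddCommGroup L'] [Module B' L'] :
    (∀ l : L', ((1 : B) ⊗ₜ[B'] l : B ⊗[B'] L') = 0 → ((1 : A') ⊗ₜ[B'] l : A' ⊗[B'] L') = 0 →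
      l = 0) ↔ Function.Injective ((fL B' B A').lTensor L') := by
  have hfst : ∀ l : L', ((LinearMap.fst B' B A').lTensor L') (((fL B' B A').lTensor L')
      (l ⊗ₜ[B'] (1 : B'))) = l ⊗ₜ[B'] (1 : B) := by
    intro l
    rw [LinearMap.lTensor_tmul, LinearMap.lTensor_tmul, fL_apply, map_one]
    rfl
  have hsnd : ∀ l : L', ((LinearMap.snd B' B A').lTensor L') (((fL B' B A').lTensor L')
      (l ⊗ₜ[B'] (1 : B'))) = -(l ⊗ₜ[B'] (1 : A')) := by
    intro l
    rw [LinearMap.lTensor_tmul, LinearMap.lTensor_tmul, fL_apply, ← TensorProduct.tmul_neg,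
      LinearMap.snd_apply]
    show l ⊗ₜ[B'] (-(algebraMap B' A') 1) = _
    rw [map_one]
  have hdec : ∀ l : L', ((fL B' B A').lTensor L') (l ⊗ₜ[B'] (1 : B')) =
      ((LinearMap.inl B' B A').lTensor L') (l ⊗ₜ[B'] (1 : B)) -
        ((LinearMap.inr B' B A').lTensor L') (l ⊗ₜ[B'] (1 : A')) := by
    intro l
    rw [LinearMap.lTensor_tmul, LinearMap.lTensor_tmul, LinearMap.lTensor_tmul, fL_apply, map_one,
      map_one, ← TensorProduct.tmul_sub]
    congr 1
    ext <;> simp
  constructor
  · intro h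
    rw [injective_iff_map_eq_zero]
    intro z hz
    obtain ⟨l, rfl⟩ : ∃ l : L', z = l ⊗ₜ[B'] (1 : B') :=
      ⟨TensorProduct.rid B' L' z, by
        rw [← TensorProduct.rid_symm_apply, LinearEquiv.symm_apply_apply]⟩
    have h1 : l ⊗ₜ[B'] (1 : B) = 0 := by rw [← hfst, hz, map_zero]
    have h2 : l ⊗ₜ[B'] (1 : A') = 0 := by
      have := hsnd l
      rw [hz, map_zero] at this
      exact neg_eq_zero.mp this.symm
    have h1' : ((1 : B) ⊗ₜ[B'] l : B ⊗[B'] L') = 0 := by
      have := congrArg (TensorProduct.comm B' L' B) h1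
      rwa [TensorProduct.comm_tmul, map_zero] at this
    have h2' : ((1 : A') ⊗ₜ[B'] l : A' ⊗[B'] L') = 0 := by
      have := congrArg (TensorProduct.comm B' L' A') h2
      rwa [TensorProduct.comm_tmul, map_zero] at this
    rw [h l h1' h2', TensorProduct.zero_tmul]
  · intro h l h1 h2
    have h1' : l ⊗ₜ[B'] (1 : B) = 0 := by
      have := congrArg (TensorProduct.comm B' B L') h1
      rwa [TensorProduct.comm_tmul, map_zero] at this
    have h2' : l ⊗ₜ[B'] (1 : A') = 0 := by
      have := congrArg (TensorProduct.comm B' A' L') h2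
      rwa [TensorProduct.comm_tmul, map_zero] at this
    have hz : ((fL B' B A').lTensor L') (l ⊗ₜ[B'] (1 : B')) = 0 := by
      rw [hdec, h1', h2', map_zero, map_zero, sub_zero]
    have := h (by rw [hz, map_zero] : ((fL B' B A').lTensor L') (l ⊗ₜ[B'] (1 : B')) =
      ((fL B' B A').lTensor L') 0)
    have h3 := congrArg (TensorProduct.rid B' L') this
    rwa [TensorProduct.rid_tmul, one_smul, map_zero] at h3


end Square

section Square2


variable (B' B A' A : Type u) [CommRing B'] [CommRing B] [CommRing A'] [CommRing A]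
    [Algebra B' B] [Algebra B' A'] [Algebra B A] [Algebra A' A] [Algebra B' A] [IsScalarTower B' B A] [IsScalarTower B' A' A]

/-- `(b, a') ↦ b + a'` in `A`. -/
noncomputable def gL : B × A' →ₗ[B'] A :=
  ((IsScalarTower.toAlgHom B' B A).toLinearMap).coprod ((IsScalarTower.toAlgHom B' A' A).toLinearMap)

theorem gL_apply (x : B × A') : gL B' B A' A x = algebraMap B A x.1 + algebraMap A' A x.2 := rfl

theorem gL_comp_fL : (gL B' B A' A).comp (fL B' B A') = 0 := by
  ext
  simp [gL_apply, fL_apply]

variable {B' B A' A}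

theorem exact_fL_gL (hsq : EtMil.IsFibreSquare B' B A' A) :
    Function.Exact (fL B' B A') (gL B' B A' A) := by
  rintro ⟨b, a'⟩
  constructor
  · intro h
    rw [gL_apply] at h
    have h2 : algebraMap B A b = algebraMap A' A (-a') := by
      rw [map_neg]; exact eq_neg_of_add_eq_zero_left h
    obtain ⟨b', ⟨hb1, hb2⟩, _⟩ := hsq.2 b (-a') h2
    refine ⟨b', ?_⟩
    rw [fL_apply, hb1, hb2, neg_neg]
  · rintro ⟨b', hb'⟩
    rw [fL_apply] at hb'
    obtain ⟨rfl, rfl⟩ := Prod.mk.inj hb'
    rw [gL_apply]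
    show algebraMap B A (algebraMap B' B b') + algebraMap A' A (-(algebraMap B' A' b')) = 0
    rw [map_neg, ← IsScalarTower.algebraMap_apply, ← IsScalarTower.algebraMap_apply, add_neg_cancel]

theorem fL_injective (hsq : EtMil.IsFibreSquare B' B A' A) : Function.Injective (fL B' B A') := by
  intro x y hxy
  rw [fL_apply, fL_apply] at hxy
  obtain ⟨h1, h2⟩ := Prod.mk.inj hxy
  exact Groth.Agent.H76.Milnor.eq_of_maps_eq hsq h1 (neg_injective h2)

theorem gL_surjective (hsq : EtMil.IsFibreSquare B' B A' A) : Function.Surjective (gL B' B A' A) := by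
  intro a
  obtain ⟨a', rfl⟩ := hsq.1 a
  exact ⟨(0, a'), by rw [gL_apply, map_zero, zero_add]⟩

variable (B' B A' A)

/-- the short complex `0 → B' → B × A' → A → 0`. -/
noncomputable def SC : ShortComplex (ModuleCat.{u} B') :=
  ShortComplex.moduleCatMk (fL B' B A') (gL B' B A' A) (gL_comp_fL B' B A' A)

variable {B' B A' A}

theorem SC_shortExact (hsq : EtMil.IsFibreSquare B' B A' A) : (SC B' B A' A).ShortExact := by
  have h1 : Function.Exact (fL B' B A') (gL B' B A' A) := exact_fL_gL hsq
  have h2 : Function.Injective (fL B' B A') := fL_injective hsq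
  have h3 : Function.Surjective (gL B' B A' A) := gL_surjective hsq
  exact ModuleCat.shortComplex_shortExact (SC B' B A' A) h1 h2 h3


end Square2

end Groth.Agent.H76.MilnorTor
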