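import Mathlib.RingTheory.Flat.Basic
import Mathlib.RingTheory.Flat.Stability
import Mathlib.RingTheory.Flat.Tensor
import Mathlib.LinearAlgebra.TensorProduct.Tower

/-!
# Mixed flatness of a tensor product (helper76)

`flat_tensor_of_flat`: for `R → S → S'` with `S'` flat over `S` and an `S`-module `M` flat over
`R`, the module `S' ⊗[S] M` is flat over `R`.
-/

set_option autoImplicit false

open TensorProduct

namespace Groth.Agent.H76.MixedFlat

variable {R S S' M : Type*} [CommRing R] [CommRing S] [CommRing S'] [Algebra R S] [Algebra S S']
  [Algebra R S'] [IsScalarTower R S S'] [AddCommGroup M] [Module R M] [Module S M]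
  [IsScalarTower R S M]

theorem flat_tensor_of_flat [Module.Flat R M] [Module.Flat S S'] :
    Module.Flat R (S' ⊗[S] M) := by
  rw [Module.Flat.iff_lTensor_injective']
  intro I
  have h1 : Function.Injective (AlgebraTensorModule.lTensor S M I.subtype) :=
    Module.Flat.lTensor_preserves_injective_linearMap (M := M) I.subtype I.injective_subtype
  have h2 : Function.Injective
      (LinearMap.lTensor S' (AlgebraTensorModule.lTensor S M I.subtype)) :=
    Module.Flat.lTensor_preserves_injective_linearMap _ h1
  have hcomm : ∀ z : (S' ⊗[S] M) ⊗[R] I,
      AlgebraTensorModule.assoc R S S' S' M R (LinearMap.lTensor (S' ⊗[S] M) I.subtype z) =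
      LinearMap.lTensor S' (AlgebraTensorModule.lTensor S M I.subtype)
        (AlgebraTensorModule.assoc R S S' S' M I z) := by
    intro z
    induction z with
    | zero => simp
    | tmul w a =>
      induction w with
      | zero => simp
      | tmul s x => simp
      | add a b ha hb => simp only [add_tmul, map_add, ha, hb]
    | add a b ha hb => simp only [map_add, ha, hb]
  intro z₁ z₂ h
  have := congrArg (AlgebraTensorModule.assoc R S S' S' M R) h
  rw [hcomm, hcomm] at this
  exact (AlgebraTensorModule.assoc R S S' S' M I).injective (h2 this)

end Groth.Agent.H76.MixedFlat
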