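import Groth.Agent.H76.NthCount
import Mathlib.Data.Set.Card
import Mathlib.Order.Interval.Finset.Nat

/-!
# Enumeration of a cofinite subset of `ℕ` with a conductor (helper76)
-/

set_option autoImplicit false

namespace Groth.Agent.H76.NthConductor

open Groth.Agent.H76.NthCount

theorem count_add_count_not (p : ℕ → Prop) [DecidablePred p] (x : ℕ) :
    Nat.count p x + Nat.count (fun m => ¬ p m) x = x := by
  induction x with
  | zero => simp
  | succ x ih =>
    rw [Nat.count_succ, Nat.count_succ]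
    by_cases h : p x
    · simp [h]; omega
    · simp [h]; omega

theorem count_eq_ncard (p : ℕ → Prop) [DecidablePred p] (x : ℕ) :
    Nat.count p x = ({m | p m} ∩ Set.Iio x).ncard := by
  rw [Nat.count_eq_card_filter_range, ← Set.ncard_coe_finset]
  congr 1
  ext m
  simp [and_comm]

variable (S : Set ℕ) (cS : ℕ)

theorem infinite_of_conductor (hcS : ∀ n : ℕ, cS ≤ n → n ∈ S) :
    (Set.ofPred (fun m => m ∈ S)).Infinite := by
  refine Set.infinite_of_not_bddAbove ?_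
  rintro ⟨B, hB⟩
  have := hB (hcS (max B cS + 1) (by omega))
  omega

theorem compl_subset_Iio (hcS : ∀ n : ℕ, cS ≤ n → n ∈ S) : Sᶜ ⊆ Set.Iio cS := by
  intro n hn
  by_contra h
  exact hn (hcS n (not_lt.mp h))

theorem compl_finite (hcS : ∀ n : ℕ, cS ≤ n → n ∈ S) : Sᶜ.Finite :=
  (Set.finite_Iio cS).subset (compl_subset_Iio S cS hcS)

theorem count_not_le [DecidablePred (fun m => m ∈ S)] (hcS : ∀ n : ℕ, cS ≤ n → n ∈ S) (x : ℕ) :
    Nat.count (fun m => ¬ m ∈ S) x ≤ Sᶜ.ncard := by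
  rw [count_eq_ncard]
  exact Set.ncard_le_ncard Set.inter_subset_left (compl_finite S cS hcS)

theorem count_not_eq [DecidablePred (fun m => m ∈ S)] (hcS : ∀ n : ℕ, cS ≤ n → n ∈ S) (x : ℕ)
    (hx : cS ≤ x) : Nat.count (fun m => ¬ m ∈ S) x = Sᶜ.ncard := by
  rw [count_eq_ncard]
  congr 1
  apply Set.inter_eq_left.mpr
  intro n hn
  exact lt_of_lt_of_le (compl_subset_Iio S cS hcS hn) hx

theorem count_not_lt [DecidablePred (fun m => m ∈ S)] (hcS : ∀ n : ℕ, cS ≤ n → n ∈ S)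
    (hcS1 : cS - 1 ∉ S) (x : ℕ) (hx : x ≤ cS - 1) :
    Nat.count (fun m => ¬ m ∈ S) x + 1 ≤ Sᶜ.ncard := by
  rw [count_eq_ncard]
  have hfin := compl_finite S cS hcS
  have hnot : cS - 1 ∉ ({m | ¬ m ∈ S} ∩ Set.Iio x) := by
    rintro ⟨_, h2⟩
    rw [Set.mem_Iio] at h2
    omega
  have hsub : insert (cS - 1) ({m | ¬ m ∈ S} ∩ Set.Iio x) ⊆ Sᶜ := by
    intro n hn
    rcases Set.mem_insert_iff.mp hn with rfl | hn
    · exact hcS1
    · exact hn.1
  have := Set.ncard_le_ncard hsub hfin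
  rwa [Set.ncard_insert_of_notMem hnot (hfin.subset (fun n hn => hn.1))] at this

/-- `nth S i = i + #(gaps below it)`. -/
theorem nth_eq_add_count_not [DecidablePred (fun m => m ∈ S)]
    (hcS : ∀ n : ℕ, cS ≤ n → n ∈ S) (i : ℕ) :
    Nat.nth (fun m => m ∈ S) i = i + Nat.count (fun m => ¬ m ∈ S) (Nat.nth (fun m => m ∈ S) i) := by
  have h1 := count_add_count_not (fun m => m ∈ S) (Nat.nth (fun m => m ∈ S) i)
  rw [Nat.count_nth_of_infinite (infinite_of_conductor S cS hcS)] at h1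
  exact h1.symm

theorem nth_le_add_ncard (hcS : ∀ n : ℕ, cS ≤ n → n ∈ S) (i : ℕ) :
    Nat.nth (fun m => m ∈ S) i ≤ i + Sᶜ.ncard := by
  classical
  rw [nth_eq_add_count_not S cS hcS i]
  exact Nat.add_le_add_left (count_not_le S cS hcS _) i

theorem nth_eq_add_ncard (hcS : ∀ n : ℕ, cS ≤ n → n ∈ S) (i : ℕ)
    (hi : (S ∩ Set.Iio cS).ncard ≤ i) :
    Nat.nth (fun m => m ∈ S) i = i + Sᶜ.ncard := by
  classical
  have hinf := infinite_of_conductor S cS hcS
  have h1 : cS ≤ Nat.nth (fun m => m ∈ S) i := by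
    rw [← Nat.count_le_iff_le_nth hinf, count_eq_ncard]
    exact hi
  rw [nth_eq_add_count_not S cS hcS i, count_not_eq S cS hcS _ h1]

theorem nth_lt_add_ncard (hcS : ∀ n : ℕ, cS ≤ n → n ∈ S) (hcS1 : cS - 1 ∉ S) (i : ℕ)
    (hi : i < (S ∩ Set.Iio cS).ncard) :
    Nat.nth (fun m => m ∈ S) i + 1 ≤ i + Sᶜ.ncard := by
  classical
  have hinf := infinite_of_conductor S cS hcS
  have h1 : Nat.nth (fun m => m ∈ S) i < cS := by
    rw [← Nat.lt_nth_iff_count_lt hinf, count_eq_ncard]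
    exact hi
  have h2 : Nat.nth (fun m => m ∈ S) i ≤ cS - 1 := by omega
  rw [nth_eq_add_count_not S cS hcS i]
  have := count_not_lt S cS hcS hcS1 _ h2
  omega

end Groth.Agent.H76.NthConductor
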