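import Mathlib.Data.Nat.Nth
import Mathlib.Data.Set.Card

/-!
# `Nat.nth` versus `Nat.count` (helper76)
-/

set_option autoImplicit false

namespace Groth.Agent.H76.NthCount

/-- `nth p i ≤ y` iff more than `i` elements satisfying `p` are `≤ y`. -/
theorem nth_le_iff_lt_count {p : ℕ → Prop} [DecidablePred p] (hp : (Set.ofPred p).Infinite)
    (i y : ℕ) : Nat.nth p i ≤ y ↔ i < Nat.count p (y + 1) := by
  rw [Nat.lt_nth_iff_count_lt hp, Nat.lt_succ_iff]

/-- Termwise comparison `nth pA i ≤ nth pB i + 1` in terms of counting functions. -/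
theorem forall_nth_le_nth_add_one_iff {pA pB : ℕ → Prop} [DecidablePred pA] [DecidablePred pB]
    (hA : (Set.ofPred pA).Infinite) (hB : (Set.ofPred pB).Infinite) :
    (∀ i, Nat.nth pA i ≤ Nat.nth pB i + 1) ↔
      ∀ b, pB b → Nat.count pB (b + 1) ≤ Nat.count pA (b + 2) := by
  constructor
  · intro h b hb
    have h1 := h (Nat.count pB b)
    rw [Nat.nth_count hb, nth_le_iff_lt_count hA] at h1
    rw [Nat.count_succ, if_pos hb]
    exact h1
  · intro h i
    have hb := Nat.nth_mem_of_infinite hB i
    have h1 := h _ hb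
    rw [Nat.count_succ, if_pos hb, Nat.count_nth_of_infinite hB] at h1
    rw [nth_le_iff_lt_count hA]
    exact h1

end Groth.Agent.H76.NthCount
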