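import Mathlib
import Groth.Agent.S14952
import Groth.Agent.S14954

/-!
# Pinching squares of rings are Milnor squares (helper76)

`R → S`, `R → T` with `R → T` surjective with kernel `I`, `ker (R → S) ⊓ I = ⊥` and `I S = image of I`:
then `R = T ×_{S/IS} S`; flatness and finite presentation of `R`-modules descend from `S` and `T`.
-/

set_option autoImplicit false
universe u

open TensorProduct

namespace Groth.Agent.H76.PinchAlg

variable {R S T : Type u} [CommRing R] [CommRing S] [CommRing T] [Algebra R S] [Algebra R T]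

/-- The map `T → S / I S` induced by `R → S` where `I = ker (R → T)`. -/
noncomputable def psi (hsurj : Function.Surjective (algebraMap R T)) :
    T →+* S ⧸ Ideal.map (algebraMap R S) (RingHom.ker (algebraMap R T)) :=
  (algebraMap R T).liftOfSurjective hsurj
    ⟨(Ideal.Quotient.mk _).comp (algebraMap R S), by
      intro x hx
      rw [RingHom.mem_ker] at hx
      rw [RingHom.mem_ker, RingHom.comp_apply, Ideal.Quotient.eq_zero_iff_mem]
      exact Ideal.mem_map_of_mem _ ((RingHom.mem_ker).mpr hx)⟩

theorem psi_algebraMap (hsurj : Function.Surjective (algebraMap R T)) (r : R) :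
    psi (S := S) hsurj (algebraMap R T r) = Ideal.Quotient.mk _ (algebraMap R S r) := by
  rw [psi, RingHom.liftOfSurjective_comp_apply]
  rfl

section

variable (h1 : RingHom.ker (algebraMap R S) ⊓ RingHom.ker (algebraMap R T) = ⊥)
  (h2 : ∀ a ∈ Ideal.map (algebraMap R S) (RingHom.ker (algebraMap R T)),
    ∃ i ∈ RingHom.ker (algebraMap R T), algebraMap R S i = a)
  (hsurj : Function.Surjective (algebraMap R T))

include h1 h2 in
theorem isFibreSquare :
    letI : Algebra T (S ⧸ Ideal.map (algebraMap R S) (RingHom.ker (algebraMap R T))) :=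
      (psi (S := S) hsurj).toAlgebra
    haveI : IsScalarTower R T (S ⧸ Ideal.map (algebraMap R S) (RingHom.ker (algebraMap R T))) :=
      IsScalarTower.of_algebraMap_eq fun r => by
        rw [RingHom.algebraMap_toAlgebra, psi_algebraMap, IsScalarTower.algebraMap_apply R S,
          Ideal.Quotient.algebraMap_eq]
    EtMil.IsFibreSquare R T S (S ⧸ Ideal.map (algebraMap R S) (RingHom.ker (algebraMap R T))) := by
  letI : Algebra T (S ⧸ Ideal.map (algebraMap R S) (RingHom.ker (algebraMap R T))) :=
    (psi (S := S) hsurj).toAlgebra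
  haveI : IsScalarTower R T (S ⧸ Ideal.map (algebraMap R S) (RingHom.ker (algebraMap R T))) :=
    IsScalarTower.of_algebraMap_eq fun r => by
      rw [RingHom.algebraMap_toAlgebra, psi_algebraMap, IsScalarTower.algebraMap_apply R S,
        Ideal.Quotient.algebraMap_eq]
  refine ⟨Ideal.Quotient.mk_surjective, ?_⟩
  intro t s hts
  obtain ⟨r₀, rfl⟩ := hsurj t
  rw [RingHom.algebraMap_toAlgebra, psi_algebraMap, Ideal.Quotient.algebraMap_eq,
    Ideal.Quotient.eq] at hts
  obtain ⟨i, hi, hi'⟩ := h2 _ hts
  refine ⟨r₀ - i, ⟨?_, ?_⟩, ?_⟩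
  · rw [map_sub, (RingHom.mem_ker).mp hi, sub_zero]
  · rw [map_sub, hi']; ring
  · rintro r ⟨hr1, hr2⟩
    have hmem : r - (r₀ - i) ∈ RingHom.ker (algebraMap R S) ⊓ RingHom.ker (algebraMap R T) := by
      refine ⟨?_, ?_⟩
      · change r - (r₀ - i) ∈ RingHom.ker (algebraMap R S)
        rw [RingHom.mem_ker, map_sub, hr2, map_sub, hi']; ring
      · change r - (r₀ - i) ∈ RingHom.ker (algebraMap R T)
        rw [RingHom.mem_ker, map_sub, hr1, map_sub, (RingHom.mem_ker).mp hi, sub_zero, sub_self]
    rw [h1] at hmem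
    exact sub_eq_zero.mp hmem

include h1 h2 hsurj in
theorem flat_of_pinch (M : Type u) [AddCommGroup M] [Module R M]
    [Module.Flat T (T ⊗[R] M)] [Module.Flat S (S ⊗[R] M)] : Module.Flat R M := by
  letI : Algebra T (S ⧸ Ideal.map (algebraMap R S) (RingHom.ker (algebraMap R T))) :=
    (psi (S := S) hsurj).toAlgebra
  haveI : IsScalarTower R T (S ⧸ Ideal.map (algebraMap R S) (RingHom.ker (algebraMap R T))) :=
    IsScalarTower.of_algebraMap_eq fun r => by
      rw [RingHom.algebraMap_toAlgebra, psi_algebraMap, IsScalarTower.algebraMap_apply R S,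
        Ideal.Quotient.algebraMap_eq]
  exact Groth.Agent.S14952.result R T S _ (isFibreSquare h1 h2 hsurj) M

include h1 h2 hsurj in
theorem finitePresentation_of_pinch (M : Type u) [AddCommGroup M] [Module R M]
    [Module.Flat T (T ⊗[R] M)] [Module.FinitePresentation T (T ⊗[R] M)]
    [Module.Flat S (S ⊗[R] M)] [Module.FinitePresentation S (S ⊗[R] M)] :
    Module.FinitePresentation R M := by
  letI : Algebra T (S ⧸ Ideal.map (algebraMap R S) (RingHom.ker (algebraMap R T))) :=
    (psi (S := S) hsurj).toAlgebra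
  haveI : IsScalarTower R T (S ⧸ Ideal.map (algebraMap R S) (RingHom.ker (algebraMap R T))) :=
    IsScalarTower.of_algebraMap_eq fun r => by
      rw [RingHom.algebraMap_toAlgebra, psi_algebraMap, IsScalarTower.algebraMap_apply R S,
        Ideal.Quotient.algebraMap_eq]
  exact Groth.Agent.S14954.result R T S _ (isFibreSquare h1 h2 hsurj) M

end

end Groth.Agent.H76.PinchAlg
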