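import Groth.Agent.H76.InjFlat
import Mathlib

/-!
# Projectivity of a cokernel and base change of kernels to residue fields (helper76)
-/

set_option autoImplicit false
set_option linter.style.haveILetI false
universe u v w

open TensorProduct

namespace Groth.Agent.H76.ProjCoker

variable {R : Type u} [CommRing R] {M : Type v} {N : Type w} [AddCommGroup M] [Module R M]
  [AddCommGroup N] [Module R N] (d : M →ₗ[R] N)

section AB

variable (κ : Type*) [CommRing κ] [Algebra R κ]

/-- (A) ⟺ (B): the kernel condition is equivalent to injectivity of `κ ⊗ im d → κ ⊗ N`. -/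
theorem ker_le_range_iff :
    LinearMap.ker (d.baseChange κ) ≤ LinearMap.range ((LinearMap.ker d).subtype.baseChange κ) ↔
      Function.Injective ((LinearMap.range d).subtype.baseChange κ) := by
  have hd : d = (LinearMap.range d).subtype ∘ₗ d.rangeRestrict := LinearMap.ext fun _ => rfl
  have hdb : d.baseChange κ =
      (LinearMap.range d).subtype.baseChange κ ∘ₗ d.rangeRestrict.baseChange κ := by
    conv_lhs => rw [hd]
    rw [LinearMap.baseChange_comp]
  have hex : Function.Exact ((LinearMap.ker d).subtype.baseChange κ)
      (d.rangeRestrict.baseChange κ) := by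
    have h0 : Function.Exact (LinearMap.ker d).subtype d.rangeRestrict := by
      intro x
      constructor
      · intro hx
        have hx' : d x = 0 := congrArg Subtype.val hx
        exact ⟨⟨x, hx'⟩, rfl⟩
      · rintro ⟨z, rfl⟩
        exact Subtype.ext z.2
    exact lTensor_exact κ h0 (LinearMap.surjective_rangeRestrict d)
  have hsurj : Function.Surjective (d.rangeRestrict.baseChange κ) :=
    LinearMap.lTensor_surjective κ (LinearMap.surjective_rangeRestrict d)
  constructor
  · intro hA
    rw [injective_iff_map_eq_zero]
    intro y hy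
    obtain ⟨x, rfl⟩ := hsurj y
    have hx : x ∈ LinearMap.ker (d.baseChange κ) := by
      rw [LinearMap.mem_ker, hdb, LinearMap.comp_apply, hy]
    obtain ⟨z, rfl⟩ := hA hx
    exact (hex _).mpr ⟨z, rfl⟩
  · intro hB x hx
    rw [LinearMap.mem_ker, hdb, LinearMap.comp_apply] at hx
    have h1 : d.rangeRestrict.baseChange κ x = 0 := hB (by rw [hx, map_zero])
    exact (hex x).mp h1

end AB

section Proj

variable (A : Type u) [CommRing A] [Algebra R A] [Module.Flat R A]
  (k : Type u) [CommRing k] [Algebra R k] [Algebra A k] [IsScalarTower R A k]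

/-- If `A ⊗ coker d` is projective over a flat `R`-algebra `A`, then `k ⊗ im d → k ⊗ N` is injective for
every `A`-algebra `k`. -/
theorem injective_baseChange_of_projective
    (hproj : Module.Projective A (A ⊗[R] (N ⧸ LinearMap.range d))) :
    Function.Injective ((LinearMap.range d).subtype.baseChange k) := by
  set I := LinearMap.range d with hI
  let l' : A ⊗[R] I →ₗ[A] A ⊗[R] N := I.subtype.baseChange A
  let q' : A ⊗[R] N →ₗ[A] A ⊗[R] (N ⧸ I) := I.mkQ.baseChange A
  have hl' : Function.Injective l' :=
    Module.Flat.lTensor_preserves_injective_linearMap I.subtype Subtype.val_injective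
  have hq' : Function.Surjective q' := LinearMap.lTensor_surjective A I.mkQ_surjective
  have hex : Function.Exact l' q' :=
    lTensor_exact A (LinearMap.exact_subtype_mkQ I) I.mkQ_surjective
  obtain ⟨σ, hσ⟩ := Module.projective_lifting_property q' LinearMap.id hq'
  -- retraction
  let τ : A ⊗[R] N →ₗ[A] A ⊗[R] N := LinearMap.id - σ ∘ₗ q'
  have hτ : ∀ n, τ n = n - σ (q' n) := fun n => rfl
  have hσ' : ∀ c, q' (σ c) = c := fun c => LinearMap.congr_fun hσ c
  have hmem : ∀ n, τ n ∈ LinearMap.range l' := by
    intro n
    apply (hex _).mp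
    rw [hτ, map_sub, hσ', sub_self]
  let ρ : A ⊗[R] N →ₗ[A] A ⊗[R] I :=
    (LinearEquiv.ofInjective l' hl').symm.toLinearMap ∘ₗ
      τ.codRestrict (LinearMap.range l') hmem
  have hρ : ρ ∘ₗ l' = LinearMap.id := by
    apply LinearMap.ext
    intro x
    apply hl'
    have h1 : l' (ρ (l' x)) = τ (l' x) := by
      have := (LinearEquiv.ofInjective l' hl').apply_symm_apply
        (τ.codRestrict (LinearMap.range l') hmem (l' x))
      exact congrArg Subtype.val this
    rw [LinearMap.comp_apply, LinearMap.id_apply, h1, hτ, (hex _).mpr ⟨x, rfl⟩, map_zero,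
      sub_zero]
  have hinj' : Function.Injective (l'.lTensor k) := by
    apply Function.HasLeftInverse.injective
    refine ⟨ρ.lTensor k, fun z => ?_⟩
    rw [← LinearMap.comp_apply, ← LinearMap.lTensor_comp, hρ, LinearMap.lTensor_id,
      LinearMap.id_apply]
  rw [injective_iff_map_eq_zero]
  intro y hy
  have hy' : (I.subtype.lTensor k) y = 0 := hy
  obtain ⟨x, rfl⟩ := (AlgebraTensorModule.cancelBaseChange R A A k I).surjective y
  rw [← InjFlat.cancelBaseChange_lTensor] at hy'
  have h2 : (l'.lTensor k) x = 0 :=
    (AlgebraTensorModule.cancelBaseChange R A A k N).injective (by rw [hy', map_zero])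
  rw [hinj' (by rw [h2, map_zero] : (l'.lTensor k) x = (l'.lTensor k) 0), map_zero]

end Proj

section Free

variable [Module.Finite R M] [Module.Finite R N] [Module.Projective R N]

/-- (B) at a prime implies that the localized cokernel is free. -/
theorem free_of_injective_baseChange (p : Ideal R) [p.IsPrime]
    (hB : Function.Injective ((LinearMap.range d).subtype.baseChange p.ResidueField)) :
    Module.Free (Localization.AtPrime p)
      ((Localization.AtPrime p) ⊗[R] (N ⧸ LinearMap.range d)) := by
  set I := LinearMap.range d with hI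
  let Rp := Localization.AtPrime p
  let l' : Rp ⊗[R] I →ₗ[Rp] Rp ⊗[R] N := I.subtype.baseChange Rp
  let q' : Rp ⊗[R] N →ₗ[Rp] Rp ⊗[R] (N ⧸ I) := I.mkQ.baseChange Rp
  have hq' : Function.Surjective q' := LinearMap.lTensor_surjective Rp I.mkQ_surjective
  have hex : Function.Exact l' q' :=
    lTensor_exact Rp (LinearMap.exact_subtype_mkQ I) I.mkQ_surjective
  haveI : Module.Finite R I := Module.Finite.range d
  haveI : Module.Free Rp (Rp ⊗[R] N) := Module.free_of_flat_of_isLocalRing
  have hinj : Function.Injective (l'.lTensor (IsLocalRing.ResidueField Rp)) := by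
    rw [injective_iff_map_eq_zero]
    intro x hx
    have h1 := InjFlat.cancelBaseChange_lTensor (R := R) (S := Rp) (V := p.ResidueField)
      I.subtype x
    rw [hx, map_zero] at h1
    have h2 : (AlgebraTensorModule.cancelBaseChange R Rp Rp p.ResidueField I) x = 0 :=
      hB (by rw [map_zero]; exact h1.symm)
    exact (AlgebraTensorModule.cancelBaseChange R Rp Rp p.ResidueField I).injective
      (by rw [h2, map_zero])
  exact Module.free_of_lTensor_residueField_injective l' q' hq' hex hinj

end Free

end Groth.Agent.H76.ProjCoker
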