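import Mathlib
import Groth.Agent.Lib.Helper38.KASub

/-!
# Extending valuation subrings along field extensions; discrete valuation subrings (helper76)

* `valuation_lt_one_iff'`: `V.valuation x < 1 ↔ x = 0 ∨ x⁻¹ ∉ V`.
* `exists_comap_eq`: every valuation subring `V` of `L` is `W ∩ L` for a valuation subring `W` of an
  extension field `M`.
* `valuation_comap_lt_one_iff`: the valuation of `W ∩ L` is `< 1` exactly when that of `W` is.
* `isDiscreteValuationRing_of_finite_separable`: a valuation subring of a finite separable extension
  `L` of the fraction field of a Dedekind domain `A`, containing `A` and not equal to `L`, is a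
  discrete valuation ring (integral closure + Krull–Akizuki).
-/

set_option autoImplicit false
universe u

namespace Groth.Agent.H76.ValExt

section Basic

variable {L M : Type*} [Field L] [Field M]

theorem valuation_lt_one_iff' (V : ValuationSubring L) (x : L) :
    V.valuation x < 1 ↔ x = 0 ∨ x⁻¹ ∉ V := by
  by_cases hx : x = 0
  · subst hx; simp
  · have h0 : V.valuation x ≠ 0 := (Valuation.ne_zero_iff _).mpr hx
    rw [← V.valuation_le_one_iff x⁻¹, map_inv₀, not_le, one_lt_inv₀ (zero_lt_iff.mpr h0)]
    simp [hx]

theorem valuation_comap_lt_one_iff (f : L →+* M) (W : ValuationSubring M) (x : L) :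
    (W.comap f).valuation x < 1 ↔ W.valuation (f x) < 1 := by
  rw [valuation_lt_one_iff', valuation_lt_one_iff', map_eq_zero, ← map_inv₀,
    ValuationSubring.mem_comap]

/-- Every valuation subring of `L` is the trace on `L` of a valuation subring of an extension
field. -/
theorem exists_comap_eq (f : L →+* M) (V : ValuationSubring L) :
    ∃ W : ValuationSubring M, W.comap f = V := by
  obtain ⟨W, h, hloc⟩ := IsLocalRing.exists_factor_valuationRing (f.comp V.subtype)
  refine ⟨W, ?_⟩
  ext y
  rw [ValuationSubring.mem_comap]
  constructor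
  · intro hy
    by_contra hyV
    have hy0 : y ≠ 0 := fun h0 => hyV (h0 ▸ zero_mem V)
    have hinv : y⁻¹ ∈ V := (V.mem_or_inv_mem y).resolve_left hyV
    have hunit : IsUnit ((f.comp V.subtype).codRestrict W.toSubring h ⟨y⁻¹, hinv⟩) := by
      refine IsUnit.of_mul_eq_one (⟨f y, hy⟩ : W.toSubring) ?_
      apply Subtype.ext
      show f y⁻¹ * f y = 1
      rw [← map_mul, inv_mul_cancel₀ hy0, map_one]
    have h2 : IsUnit (⟨y⁻¹, hinv⟩ : V) := hloc.map_nonunit _ hunit
    obtain ⟨z, hz⟩ := h2.exists_right_inv
    have h3 : y⁻¹ * (z : L) = 1 := congrArg Subtype.val hz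
    have h4 : (z : L) = y := by
      field_simp at h3
      exact h3
    exact hyV (h4 ▸ z.2)
  · intro hy
    exact h ⟨y, hy⟩

end Basic

section DVR

/-- A valuation subring `V ≠ L` of a finite separable extension `L` of the fraction field of a
Dedekind domain `A`, containing the image of `A`, is a discrete valuation ring. -/
theorem isDiscreteValuationRing_of_finite_separable
    (A K L : Type*) [CommRing A] [IsDedekindDomain A] [Field K] [Algebra A K]
    [IsFractionRing A K] [Field L] [Algebra K L] [Algebra A L] [IsScalarTower A K L]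
    [FiniteDimensional K L] [Algebra.IsSeparable K L] (V : ValuationSubring L)
    (h1 : ∀ a : A, algebraMap A L a ∈ V) (h2 : ∃ x : L, x ∉ V) : IsDiscreteValuationRing V := by
  classical
  have : IsDedekindDomain (integralClosure A L) := integralClosure.isDedekindDomain A K L
  have : IsFractionRing (integralClosure A L) L :=
    integralClosure.isFractionRing_of_finite_extension K L
  have hint : V.valuation.Integers V :=
    ⟨Subtype.val_injective, fun x => (V.valuation_le_one_iff _).mpr x.2,
      fun {r} hr => ⟨⟨r, (V.valuation_le_one_iff _).mp hr⟩, rfl⟩⟩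
  have hCV : ∀ c : integralClosure A L, (c : L) ∈ V := by
    intro c
    let _ : Algebra A V := (RingHom.codRestrict (algebraMap A L) V h1).toAlgebra
    have : IsScalarTower A V L := IsScalarTower.of_algebraMap_eq (fun _ => rfl)
    have hc : IsIntegral A (c : L) := c.2
    have hc' : IsIntegral V (c : L) := hc.tower_top
    have := hint.mem_of_integral hc'
    exact (V.valuation_le_one_iff _).mp this
  let f : integralClosure A L →+* V :=
    RingHom.codRestrict (algebraMap (integralClosure A L) L) V hCV
  have hKA := Groth.Agent.Lib.Helper38.KrullAkizuki.of_ringHom f V.subtype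
    Subtype.val_injective (by ext; rfl)
  have hNoeth : IsNoetherianRing V := hKA.1
  have hPID : IsPrincipalIdealRing V := ((IsBezout.TFAE (R := V)).out 0 1).mp hNoeth
  refine { not_a_field' := ?_ }
  obtain ⟨x, hx⟩ := h2
  have hx0 : x ≠ 0 := fun h0 => hx (h0 ▸ zero_mem V)
  have hinv : x⁻¹ ∈ V := (V.mem_or_inv_mem x).resolve_left hx
  intro hbot
  have hmem : (⟨x⁻¹, hinv⟩ : V) ∈ IsLocalRing.maximalIdeal V := by
    rw [ValuationSubring.valuation_lt_one_iff, valuation_lt_one_iff']
    right
    simpa using hx
  rw [hbot, Ideal.mem_bot] at hmem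
  have : x⁻¹ = 0 := congrArg Subtype.val hmem
  exact hx0 (inv_eq_zero.mp this)

end DVR

end Groth.Agent.H76.ValExt
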