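import Mathlib
import Groth.Prelude.Def_EtRam
import Groth.Agent.H76.ValExt

/-!
# Tame / unramified extensions of a discrete valuation ring in towers (helper76)
-/

set_option autoImplicit false
universe u

namespace Groth.Agent.H76.RamTower

open Groth.Agent.H76.ValExt EtRam IsLocalRing

section Dominates

variable {A : Type u} [CommRing A] [IsLocalRing A] {L M : Type u} [Field L] [Field M]
  (f : L →+* M) (g : A →+* L)

theorem dominates_comap_iff (W : ValuationSubring M) :
    Dominates A g (W.comap f) ↔ Dominates A (f.comp g) W := by
  unfold Dominates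
  simp only [ValuationSubring.mem_comap, valuation_comap_lt_one_iff, RingHom.comp_apply]

theorem dominates_subtype (W : ValuationSubring M) :
    Dominates (W.comap f) (f.comp (W.comap f).subtype) W := by
  refine ⟨fun v => v.2, fun v hv => ?_⟩
  rw [RingHom.comp_apply, ← valuation_comap_lt_one_iff]
  exact ((W.comap f).valuation_lt_one_iff v).mp hv

/-- Domination makes the structure map a local homomorphism. -/
theorem isLocalHom_of_dominates (V : ValuationSubring L) (hV : Dominates A g V) :
    IsLocalHom (RingHom.codRestrict g V hV.1) := by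
  constructor
  intro a ha
  by_contra hna
  have hm : a ∈ maximalIdeal A := hna
  have h1 := hV.2 a hm
  have h2 : (RingHom.codRestrict g V hV.1 a) ∈ maximalIdeal V :=
    (V.valuation_lt_one_iff _).mpr h1
  exact h2 ha

end Dominates

section Tower

variable {A : Type u} [CommRing A] [IsDomain A] [IsDiscreteValuationRing A] {L M : Type u}
  [Field L] [Field M] (f : L →+* M) (g : A →+* L)

/-- Weak unramifiedness descends from `W` to `W ∩ L`. -/
theorem weaklyUnramified_comap (hg : Function.Injective g) (W : ValuationSubring M)
    (hV : Dominates A g (W.comap f)) (hW : Dominates A (f.comp g) W)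
    (hwu : (maximalIdeal A).map (RingHom.codRestrict (f.comp g) W hW.1) = maximalIdeal W) :
    (maximalIdeal A).map (RingHom.codRestrict g (W.comap f) hV.1) = maximalIdeal (W.comap f) := by
  have hloc := isLocalHom_of_dominates g (W.comap f) hV
  apply le_antisymm
  · exact ((local_hom_TFAE (RingHom.codRestrict g (W.comap f) hV.1)).out 0 2).mp hloc
  · intro x hx
    obtain ⟨π, hπ⟩ := IsDiscreteValuationRing.exists_irreducible A
    have hmax : maximalIdeal A = Ideal.span {π} := hπ.maximalIdeal_eq
    have hx' : (⟨f x, x.2⟩ : W) ∈ maximalIdeal W := by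
      rw [ValuationSubring.valuation_lt_one_iff]
      show W.valuation (f (x : L)) < 1
      rw [← valuation_comap_lt_one_iff]
      exact ((W.comap f).valuation_lt_one_iff x).mp hx
    have hspan : maximalIdeal W = Ideal.span {RingHom.codRestrict (f.comp g) W hW.1 π} := by
      rw [← hwu]
      refine (congrArg (Ideal.map (RingHom.codRestrict (f.comp g) W hW.1)) hmax).trans ?_
      rw [Ideal.map_span, Set.image_singleton]
    rw [hspan, Ideal.mem_span_singleton'] at hx'
    obtain ⟨w, hw⟩ := hx'
    have hw' : (w : M) * f (g π) = f x := congrArg Subtype.val hw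
    have hπ0 : g π ≠ 0 := fun h0 => hπ.ne_zero (hg (by rw [h0, map_zero]))
    have hfπ0 : f (g π) ≠ 0 := fun h0 => hπ0 ((map_eq_zero f).mp h0)
    have hmem : (x : L) / g π ∈ W.comap f := by
      rw [ValuationSubring.mem_comap, map_div₀]
      have : f x / f (g π) = w := by
        rw [← hw']; field_simp
      rw [this]; exact w.2
    have hxeq : x = (⟨(x : L) / g π, hmem⟩ : W.comap f) *
        RingHom.codRestrict g (W.comap f) hV.1 π := by
      apply Subtype.ext
      show (x : L) = (x : L) / g π * g π
      field_simp
    rw [hxeq]
    refine Ideal.mul_mem_left _ _ (Ideal.mem_map_of_mem _ ?_)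
    rw [hmax]; exact Ideal.mem_span_singleton_self π

/-- Unramifiedness passes to sub-extensions. -/
theorem isUnramifiedExt_of_comp (hg : Function.Injective g)
    (h : IsUnramifiedExt A (f.comp g)) : IsUnramifiedExt A g := by
  intro V hV
  obtain ⟨W, rfl⟩ := exists_comap_eq f V
  have hW : Dominates A (f.comp g) W := (dominates_comap_iff f g W).mp hV
  have hVW := dominates_subtype f W
  letI iAV : Algebra A (W.comap f) := (RingHom.codRestrict g (W.comap f) hV.1).toAlgebra
  letI iAW : Algebra A W := (RingHom.codRestrict (f.comp g) W hW.1).toAlgebra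
  letI iVW : Algebra (W.comap f) W :=
    (RingHom.codRestrict (f.comp (W.comap f).subtype) W hVW.1).toAlgebra
  haveI : IsScalarTower A (W.comap f) W := IsScalarTower.of_algebraMap_eq (fun a => rfl)
  intro hlocAV
  haveI hlocAW : IsLocalHom (algebraMap A W) := isLocalHom_of_dominates (f.comp g) W hW
  haveI hlocVW : IsLocalHom (algebraMap (W.comap f) W) := isLocalHom_of_dominates _ W hVW
  obtain ⟨hwu, hsep⟩ := h W hW
  refine ⟨weaklyUnramified_comap f g hg W hV hW hwu, ?_⟩
  exact Algebra.isSeparable_tower_bot_of_isSeparable (ResidueField A)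
    (ResidueField (W.comap f)) (ResidueField W)

/-- Multiplicativity of the ramification index in the tower `A → W ∩ L → W`. -/
theorem ramificationIdx'_tower (hg : Function.Injective g) (W : ValuationSubring M)
    (hV : Dominates A g (W.comap f)) (hW : Dominates A (f.comp g) W)
    [IsDiscreteValuationRing (W.comap f)] [IsDiscreteValuationRing W] :
    letI iAV : Algebra A (W.comap f) := (RingHom.codRestrict g (W.comap f) hV.1).toAlgebra
    letI iAW : Algebra A W := (RingHom.codRestrict (f.comp g) W hW.1).toAlgebra
    letI iVW : Algebra (W.comap f) W :=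
      (RingHom.codRestrict (f.comp (W.comap f).subtype) W (dominates_subtype f W).1).toAlgebra
    Ideal.ramificationIdx' (maximalIdeal A) (maximalIdeal W) =
      Ideal.ramificationIdx' (maximalIdeal A) (maximalIdeal (W.comap f)) *
        Ideal.ramificationIdx' (maximalIdeal (W.comap f)) (maximalIdeal W) := by
  have hVW := dominates_subtype f W
  letI iAV : Algebra A (W.comap f) := (RingHom.codRestrict g (W.comap f) hV.1).toAlgebra
  letI iAW : Algebra A W := (RingHom.codRestrict (f.comp g) W hW.1).toAlgebra
  letI iVW : Algebra (W.comap f) W :=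
    (RingHom.codRestrict (f.comp (W.comap f).subtype) W hVW.1).toAlgebra
  haveI : IsScalarTower A (W.comap f) W := IsScalarTower.of_algebraMap_eq (fun a => rfl)
  have hlocVW : IsLocalHom (algebraMap (W.comap f) W) := isLocalHom_of_dominates _ W hVW
  have hinjVW : Function.Injective (algebraMap (W.comap f) W) := by
    intro x y hxy
    apply Subtype.ext
    exact f.injective (congrArg Subtype.val hxy)
  have hinjAW : Function.Injective (algebraMap A W) := by
    intro x y hxy
    exact hg (f.injective (congrArg Subtype.val hxy))
  apply Ideal.ramificationIdx'_algebra_tower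
  · rw [Ne, Ideal.map_eq_bot_iff_of_injective hinjVW]
    exact IsDiscreteValuationRing.not_a_field _
  · rw [Ne, Ideal.map_eq_bot_iff_of_injective hinjAW]
    exact IsDiscreteValuationRing.not_a_field _
  · exact ((local_hom_TFAE (algebraMap (W.comap f) W)).out 0 2).mp hlocVW

/-- Tame ramification passes to sub-extensions. -/
theorem isTamelyRamified_of_comp (hg : Function.Injective g)
    (hDL : ∀ V : ValuationSubring L, Dominates A g V → IsDiscreteValuationRing V)
    (hDM : ∀ W : ValuationSubring M, Dominates A (f.comp g) W → IsDiscreteValuationRing W)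
    (h : IsTamelyRamified A (f.comp g)) : IsTamelyRamified A g := by
  intro V hV
  obtain ⟨W, rfl⟩ := exists_comap_eq f V
  have hW : Dominates A (f.comp g) W := (dominates_comap_iff f g W).mp hV
  have hVW := dominates_subtype f W
  letI iAV : Algebra A (W.comap f) := (RingHom.codRestrict g (W.comap f) hV.1).toAlgebra
  letI iAW : Algebra A W := (RingHom.codRestrict (f.comp g) W hW.1).toAlgebra
  letI iVW : Algebra (W.comap f) W :=
    (RingHom.codRestrict (f.comp (W.comap f).subtype) W hVW.1).toAlgebra
  haveI : IsScalarTower A (W.comap f) W := IsScalarTower.of_algebraMap_eq (fun a => rfl)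
  intro hlocAV
  haveI hlocAW : IsLocalHom (algebraMap A W) := isLocalHom_of_dominates (f.comp g) W hW
  haveI hlocVW : IsLocalHom (algebraMap (W.comap f) W) := isLocalHom_of_dominates _ W hVW
  obtain ⟨hsep, hram⟩ := h W hW
  haveI := hDL _ hV
  haveI := hDM _ hW
  refine ⟨Algebra.isSeparable_tower_bot_of_isSeparable (ResidueField A)
    (ResidueField (W.comap f)) (ResidueField W), fun p hp hchar hdvd => hram p hp hchar ?_⟩
  rw [ramificationIdx'_tower f g hg W hV hW]
  exact Dvd.dvd.mul_right hdvd _

/-- Unramifiedness is transitive. -/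
theorem isUnramifiedExt_comp
    (h1 : IsUnramifiedExt A g)
    (h2 : ∀ V : ValuationSubring L, Dominates A g V → IsUnramifiedExt V (f.comp V.subtype)) :
    IsUnramifiedExt A (f.comp g) := by
  intro W hW
  have hV : Dominates A g (W.comap f) := (dominates_comap_iff f g W).mpr hW
  have hVW := dominates_subtype f W
  letI iAV : Algebra A (W.comap f) := (RingHom.codRestrict g (W.comap f) hV.1).toAlgebra
  letI iAW : Algebra A W := (RingHom.codRestrict (f.comp g) W hW.1).toAlgebra
  letI iVW : Algebra (W.comap f) W :=
    (RingHom.codRestrict (f.comp (W.comap f).subtype) W hVW.1).toAlgebra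
  haveI : IsScalarTower A (W.comap f) W := IsScalarTower.of_algebraMap_eq (fun a => rfl)
  intro hlocAW
  haveI hlocAV : IsLocalHom (algebraMap A (W.comap f)) := isLocalHom_of_dominates g _ hV
  haveI hlocVW : IsLocalHom (algebraMap (W.comap f) W) := isLocalHom_of_dominates _ W hVW
  obtain ⟨hwu1, hsep1⟩ := h1 (W.comap f) hV
  obtain ⟨hwu2, hsep2⟩ := h2 (W.comap f) hV W hVW
  refine ⟨?_, Algebra.IsSeparable.trans (ResidueField A) (ResidueField (W.comap f))
    (ResidueField W)⟩
  unfold IsWeaklyUnramified at hwu1 hwu2 ⊢
  rw [IsScalarTower.algebraMap_eq A (W.comap f) W, ← Ideal.map_map, hwu1, hwu2]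

/-- Tame ramification is transitive. -/
theorem isTamelyRamified_comp (hg : Function.Injective g)
    (hDL : ∀ V : ValuationSubring L, Dominates A g V → IsDiscreteValuationRing V)
    (hDM : ∀ W : ValuationSubring M, Dominates A (f.comp g) W → IsDiscreteValuationRing W)
    (h1 : IsTamelyRamified A g)
    (h2 : ∀ V : ValuationSubring L, Dominates A g V → IsTamelyRamified V (f.comp V.subtype)) :
    IsTamelyRamified A (f.comp g) := by
  intro W hW
  have hV : Dominates A g (W.comap f) := (dominates_comap_iff f g W).mpr hW
  have hVW := dominates_subtype f W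
  letI iAV : Algebra A (W.comap f) := (RingHom.codRestrict g (W.comap f) hV.1).toAlgebra
  letI iAW : Algebra A W := (RingHom.codRestrict (f.comp g) W hW.1).toAlgebra
  letI iVW : Algebra (W.comap f) W :=
    (RingHom.codRestrict (f.comp (W.comap f).subtype) W hVW.1).toAlgebra
  haveI : IsScalarTower A (W.comap f) W := IsScalarTower.of_algebraMap_eq (fun a => rfl)
  intro hlocAW
  haveI hlocAV : IsLocalHom (algebraMap A (W.comap f)) := isLocalHom_of_dominates g _ hV
  haveI hlocVW : IsLocalHom (algebraMap (W.comap f) W) := isLocalHom_of_dominates _ W hVW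
  obtain ⟨hsep1, hram1⟩ := h1 (W.comap f) hV
  obtain ⟨hsep2, hram2⟩ := h2 (W.comap f) hV W hVW
  haveI := hDL _ hV
  haveI := hDM _ hW
  refine ⟨Algebra.IsSeparable.trans (ResidueField A) (ResidueField (W.comap f))
    (ResidueField W), fun p hp hchar hdvd => ?_⟩
  rw [ramificationIdx'_tower f g hg W hV hW] at hdvd
  rcases (Nat.Prime.dvd_mul hp).mp hdvd with h | h
  · exact hram1 p hp hchar h
  · refine hram2 p hp ?_ h
    exact charP_of_injective_algebraMap
      (algebraMap (ResidueField A) (ResidueField (W.comap f))).injective p

end Tower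

section DVR

/-- A valuation subring of a finite separable extension of `Frac A` dominating the discrete
valuation ring `A` is a discrete valuation ring. -/
theorem isDiscreteValuationRing_of_dominates (A K L : Type u) [CommRing A] [IsDomain A]
    [IsDiscreteValuationRing A] [Field K] [Algebra A K] [IsFractionRing A K] [Field L]
    [Algebra K L] [FiniteDimensional K L] [Algebra.IsSeparable K L] (V : ValuationSubring L)
    (hV : Dominates A ((algebraMap K L).comp (algebraMap A K)) V) :
    IsDiscreteValuationRing V := by
  letI : Algebra A L := ((algebraMap K L).comp (algebraMap A K)).toAlgebra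
  haveI : IsScalarTower A K L := IsScalarTower.of_algebraMap_eq (fun _ => rfl)
  refine isDiscreteValuationRing_of_finite_separable A K L V hV.1 ?_
  obtain ⟨π, hπ⟩ := IsDiscreteValuationRing.exists_irreducible A
  have hπm : π ∈ maximalIdeal A := by
    rw [hπ.maximalIdeal_eq]; exact Ideal.mem_span_singleton_self π
  have h1 := hV.2 π hπm
  rw [valuation_lt_one_iff'] at h1
  rcases h1 with h0 | h1
  · exfalso
    apply hπ.ne_zero
    have hinj : Function.Injective ((algebraMap K L).comp (algebraMap A K)) :=
      (algebraMap K L).injective.comp (IsFractionRing.injective A K)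
    exact hinj (by rw [h0, map_zero])
  · exact ⟨_, h1⟩

end DVR

end Groth.Agent.H76.RamTower
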