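import Groth.Agent.H76.FlatGlue
import Mathlib.RingTheory.Flat.Localization
import Mathlib.RingTheory.Localization.BaseChange
import Mathlib.RingTheory.Ideal.Quotient.Operations

/-!
# Flatness from a regular element (helper76), universe-polymorphic version of S0399

`flat_of_regular`: `f` regular on `A` and `M`, `M_f` flat over `A_f`, `M/fM` flat over `A/f`
⇒ `M` flat over `A`.
-/

set_option autoImplicit false
universe u v

namespace Groth.Agent.H76.RegFlat


open TensorProduct Groth.Agent.H76.FlatGlue

variable {A : Type u} {M : Type v} [CommRing A] [AddCommGroup M] [Module A M] (f : A)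

/-- Elements of the kernel of `u ⊗ M` are `f`-power torsion when `M_f` is flat. -/
theorem exists_pow_smul_eq_zero
    [Module.Flat (Localization.Away f) (LocalizedModule (Submonoid.powers f) M)]
    {X Y : Type*} [AddCommGroup X] [Module A X] [AddCommGroup Y] [Module A Y]
    (u : X →ₗ[A] Y) (hu : Function.Injective u) (z : X ⊗[A] M) (hz : u.rTensor M z = 0) :
    ∃ n : ℕ, f ^ n • z = 0 := by
  let Mf := LocalizedModule (Submonoid.powers f) M
  let ℓ : M →ₗ[A] Mf := LocalizedModule.mkLinearMap (Submonoid.powers f) M
  haveI : Module.Flat A Mf :=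
    (Module.flat_iff_of_isLocalization (Localization.Away f) (Submonoid.powers f) Mf).mp
      inferInstance
  have h1 : Function.Injective (u.rTensor Mf) :=
    Module.Flat.rTensor_preserves_injective_linearMap u hu
  have h2 : (u.rTensor Mf) ((ℓ.lTensor X) z) = (ℓ.lTensor Y) ((u.rTensor M) z) := by
    rw [← LinearMap.comp_apply, ← LinearMap.comp_apply, LinearMap.rTensor_comp_lTensor,
      LinearMap.lTensor_comp_rTensor]
  have h3 : (ℓ.lTensor X) z = 0 := h1 (by rw [h2, hz, map_zero, map_zero])
  haveI : IsLocalizedModule (Submonoid.powers f) (AlgebraTensorModule.rTensor A X ℓ) :=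
    inferInstance
  have hcomm : ∀ z : X ⊗[A] M, (AlgebraTensorModule.rTensor A X ℓ) (TensorProduct.comm A X M z) =
      TensorProduct.comm A X Mf ((ℓ.lTensor X) z) := by
    intro z
    induction z with
    | zero => simp
    | tmul x m => rfl
    | add a b ha hb => simp only [map_add, ha, hb]
  have h4 : (AlgebraTensorModule.rTensor A X ℓ) (TensorProduct.comm A X M z) = 0 := by
    rw [hcomm, h3, map_zero]
  obtain ⟨s, hs⟩ := (IsLocalizedModule.eq_zero_iff (Submonoid.powers f) _).mp h4
  obtain ⟨n, hn⟩ := s.2
  refine ⟨n, ?_⟩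
  have hn' : f ^ n = (s : A) := hn
  have h5 : TensorProduct.comm A X M (f ^ n • z) = 0 := by
    rw [map_smul, hn']
    exact hs
  exact (TensorProduct.comm A X M).injective (by rw [h5, map_zero])

section

variable [Module.Flat (A ⧸ Ideal.span {f}) ((A ⧸ Ideal.span {f}) ⊗[A] M)]

/-- An injective map into a module killed by `f` stays injective after `⊗ M`. -/
theorem tinj_of_killed {X Y : Type*} [AddCommGroup X] [Module A X] [AddCommGroup Y] [Module A Y]
    (u : X →ₗ[A] Y) (hu : Function.Injective u) (hY : ∀ y : Y, f • y = 0) :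
    Function.Injective (u.rTensor M) := by
  apply rTensor_injective_of_surjective_of_flat (S := A ⧸ Ideal.span {f})
    Ideal.Quotient.mk_surjective M u hu
  intro r hr y
  have : r ∈ Ideal.span {f} := Ideal.Quotient.eq_zero_iff_mem.mp hr
  obtain ⟨a, rfl⟩ := Ideal.mem_span_singleton'.mp this
  rw [mul_smul, hY, smul_zero]

/-- For a flat module `F` on which `f` is regular and a submodule `K ⊇ fF`, the inclusion
`K ↪ F` stays injective after `⊗ M` (vanishing of `Tor₁(F/K, M)`). -/
theorem tinj_of_flat (hM : IsSMulRegular M f) {F : Type*} [AddCommGroup F] [Module A F]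
    [Module.Flat A F] (hF : IsSMulRegular F f) (K : Submodule A F) (hK : ∀ x : F, f • x ∈ K) :
    Function.Injective (K.subtype.rTensor M) := by
  let μ : F →ₗ[A] F := f • LinearMap.id
  let P : Submodule A F := LinearMap.range μ
  apply rTensor_injective_of_chase M K.subtype P.mkQ
  · -- (a)
    have hmem : ∀ x : F, (⟨f • x, hK x⟩ : K) ∈ LinearMap.ker (P.mkQ ∘ₗ K.subtype) := by
      intro x
      rw [LinearMap.mem_ker]
      show P.mkQ (f • x) = 0
      exact (Submodule.Quotient.mk_eq_zero P).mpr ⟨x, rfl⟩
    let e : F →ₗ[A] LinearMap.ker (P.mkQ ∘ₗ K.subtype) :=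
      { toFun := fun x => ⟨⟨f • x, hK x⟩, hmem x⟩
        map_add' := fun x y => Subtype.ext (Subtype.ext (smul_add f x y))
        map_smul' := fun r x => Subtype.ext (Subtype.ext (smul_comm f r x)) }
    have hes : Function.Surjective e := by
      intro k
      have hk : (P.mkQ ∘ₗ K.subtype) (k : K) = 0 := LinearMap.mem_ker.mp k.2
      have hk' : ((k : K) : F) ∈ P := (Submodule.Quotient.mk_eq_zero P).mp hk
      obtain ⟨x, hx⟩ := hk'
      exact ⟨x, Subtype.ext (Subtype.ext hx)⟩
    apply rTensor_injective_of_comp_surjective M e _ hes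
    have hcomp : (K.subtype ∘ₗ (LinearMap.ker (P.mkQ ∘ₗ K.subtype)).subtype) ∘ₗ e = μ :=
      LinearMap.ext fun _ => rfl
    rw [hcomp]
    have hμ : μ.rTensor M = (f • (LinearMap.id : M →ₗ[A] M)).lTensor F := by
      rw [LinearMap.rTensor_smul, LinearMap.lTensor_smul, LinearMap.rTensor_id, LinearMap.lTensor_id]
    rw [hμ]
    apply Module.Flat.lTensor_preserves_injective_linearMap
    exact hM
  · -- (b)
    apply tinj_of_killed f
    · rw [← LinearMap.ker_eq_bot]
      exact Submodule.ker_liftQ_eq_bot _ _ _ le_rfl
    · intro y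
      obtain ⟨x, rfl⟩ := P.mkQ_surjective y
      rw [← map_smul]
      exact (Submodule.Quotient.mk_eq_zero P).mpr ⟨x, rfl⟩

/-- For any module `Q` on which `f` is regular, `f` is regular on `Q ⊗ M`. -/
theorem smul_injective_tensor (hA : f ∈ nonZeroDivisors A) (hM : IsSMulRegular M f)
    {Q : Type*} [AddCommGroup Q] [Module A Q] (hQ : IsSMulRegular Q f) (z : Q ⊗[A] M)
    (hz : f • z = 0) : z = 0 := by
  let μ : Q →ₗ[A] Q := f • LinearMap.id
  let P : Submodule A Q := LinearMap.range μ
  let F := Q →₀ A
  let p : F →ₗ[A] Q := Finsupp.linearCombination A id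
  have hp : Function.Surjective p := Finsupp.linearCombination_surjective A Function.surjective_id
  have hF : IsSMulRegular F f := by
    intro x y hxy
    ext q
    have h0 : (f • x) q = (f • y) q := congrArg (fun g : F => g q) hxy
    rw [Finsupp.smul_apply, Finsupp.smul_apply, smul_eq_mul, smul_eq_mul] at h0
    exact (mul_cancel_left_mem_nonZeroDivisors hA).mp h0
  have h1 : Function.Injective ((P.comap p).subtype.rTensor M) := by
    apply tinj_of_flat f hM hF
    intro x
    rw [Submodule.mem_comap, map_smul]
    exact ⟨p x, rfl⟩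
  have h2 : Function.Injective (P.subtype.rTensor M) :=
    rTensor_injective_of_presentation M p hp P h1
  let e : Q →ₗ[A] P := μ.rangeRestrict
  have h3 : P.subtype ∘ₗ e = μ := LinearMap.ext fun _ => rfl
  have h4 : (μ.rTensor M) z = 0 := by
    rw [LinearMap.rTensor_smul, LinearMap.rTensor_id]
    exact hz
  rw [← h3, LinearMap.rTensor_comp, LinearMap.comp_apply] at h4
  have h5 : (e.rTensor M) z = 0 := (injective_iff_map_eq_zero _).mp h2 _ h4
  have he : Function.Bijective e := by
    constructor
    · intro x y hxy
      exact hQ (congrArg Subtype.val hxy)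
    · exact LinearMap.surjective_rangeRestrict μ
  exact (injective_iff_map_eq_zero _).mp (rTensor_injective_of_bijective M e he) z h5

end

theorem flat_of_regular {A : Type u} {M : Type v} [CommRing A] [AddCommGroup M] [Module A M] (f : A) (hA : f ∈ nonZeroDivisors A) (hM : IsSMulRegular M f)
    [Module.Flat (Localization.Away f) (LocalizedModule (Submonoid.powers f) M)]
    [Module.Flat (A ⧸ Ideal.span {f}) ((A ⧸ Ideal.span {f}) ⊗[A] M)] : Module.Flat A M := by
  rw [Module.Flat.iff_rTensor_injective']
  intro I
  rw [injective_iff_map_eq_zero]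
  intro z hz
  obtain ⟨n, hn⟩ := exists_pow_smul_eq_zero f I.subtype I.injective_subtype z hz
  have hI : IsSMulRegular I f := by
    intro x y hxy
    apply Subtype.ext
    have h0 : ((f • x : I) : A) = ((f • y : I) : A) := congrArg Subtype.val hxy
    rw [Submodule.coe_smul, Submodule.coe_smul, smul_eq_mul, smul_eq_mul] at h0
    exact (mul_cancel_left_mem_nonZeroDivisors hA).mp h0
  induction n with
  | zero => simpa using hn
  | succ n ih =>
    apply ih
    apply smul_injective_tensor f hA hM hI
    rw [← mul_smul, ← pow_succ']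
    exact hn

end Groth.Agent.H76.RegFlat
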