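import Groth.Agent.H76.LocalCrit
import Mathlib.RingTheory.Flat.Stability
import Mathlib.RingTheory.TensorProduct.Finite
import Mathlib.RingTheory.Nakayama
import Mathlib.LinearAlgebra.TensorProduct.Pi
import Mathlib.LinearAlgebra.Basis.VectorSpace

/-!
# Flatness from a regular element of the big ring (helper76)

`flat_of_regular_quotient_flat`: `A → B` local homomorphism of Noetherian local rings, `M` a finite
`B`-module, `f ∈ 𝔪_B` regular on `M`, and `M/fM` flat over `A`; then `M` is flat over `A`.
-/

set_option autoImplicit false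
universe u

open TensorProduct IsLocalRing

namespace Groth.Agent.H76.RegQuotFlat

theorem flat_of_regular_quotient_flat
    {A B : Type u} [CommRing A] [CommRing B] [IsLocalRing A] [IsLocalRing B]
    [IsNoetherianRing A] [IsNoetherianRing B] [Algebra A B] [IsLocalHom (algebraMap A B)]
    {M P : Type u} [AddCommGroup M] [Module B M] [Module A M] [IsScalarTower A B M]
    [Module.Finite B M]
    [AddCommGroup P] [Module B P] [Module A P] [IsScalarTower A B P]
    (f : B) (hf : f ∈ maximalIdeal B) (hreg : IsSMulRegular M f)
    (π : M →ₗ[B] P) (hπ : Function.Surjective π) (hker : ∀ x, π x = 0 ↔ ∃ y, x = f • y)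
    [Module.Flat A P] : Module.Flat A M := by
  let φ : M ⊗[A] (maximalIdeal A) →ₗ[B] M :=
    (AlgebraTensorModule.rid A B M).toLinearMap ∘ₗ AlgebraTensorModule.lTensor B M (maximalIdeal A).subtype
  have hφ : ∀ z, φ z = (TensorProduct.rid A M) (LinearMap.lTensor M (maximalIdeal A).subtype z) := fun z => rfl
  let K : Submodule B (M ⊗[A] (maximalIdeal A)) := LinearMap.ker φ
  let πA : M →ₗ[A] P := π.restrictScalars A
  let mulf : M →ₗ[A] M := (LinearMap.lsmul B M f).restrictScalars A
  have hex : Function.Exact mulf πA := by
    intro x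
    constructor
    · intro h0
      obtain ⟨y, rfl⟩ := (hker x).mp h0
      exact ⟨y, rfl⟩
    · rintro ⟨y, rfl⟩
      exact (hker _).mpr ⟨y, rfl⟩
  have hex2 : Function.Exact (mulf.rTensor (maximalIdeal A)) (πA.rTensor (maximalIdeal A)) := rTensor_exact (maximalIdeal A) hex hπ
  have hmulf : ∀ z : M ⊗[A] (maximalIdeal A), (mulf.rTensor (maximalIdeal A)) z = f • z := by
    intro z
    induction z with
    | zero => simp
    | tmul m a => rfl
    | add a b ha hb => simp only [map_add, smul_add, ha, hb]
  have hPinj : Function.Injective (LinearMap.lTensor P (maximalIdeal A).subtype) :=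
    Module.Flat.lTensor_preserves_injective_linearMap _ Subtype.val_injective
  have hKle : K ≤ (maximalIdeal B) • K := by
    intro z hz
    have hz0 : φ z = 0 := hz
    have h1 : (LinearMap.lTensor M (maximalIdeal A).subtype) z = 0 := by
      rw [hφ] at hz0
      exact (TensorProduct.rid A M).injective (by rw [hz0, map_zero])
    have h2 : (πA.rTensor (maximalIdeal A)) z = 0 := by
      apply hPinj
      rw [map_zero, ← LinearMap.comp_apply, LinearMap.lTensor_comp_rTensor,
        ← LinearMap.rTensor_comp_lTensor, LinearMap.comp_apply, h1, map_zero]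
    obtain ⟨z₁, hz₁⟩ := (hex2 z).mp h2
    rw [hmulf] at hz₁
    have hz₁K : z₁ ∈ K := by
      show φ z₁ = 0
      apply hreg
      show f • φ z₁ = f • 0
      rw [← map_smul, hz₁, hz0, smul_zero]
    rw [← hz₁]
    exact Submodule.smul_mem_smul hf hz₁K
  have hKfg : K.FG := by
    haveI : Module.Finite A (maximalIdeal A) := Module.IsNoetherian.finite A _
    obtain ⟨k, g, hg⟩ := Module.Finite.exists_fin' A (maximalIdeal A)
    haveI : Module.Finite B (M ⊗[A] (maximalIdeal A)) := by
      let e := TensorProduct.piScalarRight A B M (Fin k)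
      let g' : M ⊗[A] (Fin k → A) →ₗ[B] M ⊗[A] (maximalIdeal A) :=
        AlgebraTensorModule.lTensor B M g
      have hg' : Function.Surjective g' := LinearMap.lTensor_surjective M hg
      exact Module.Finite.of_surjective (g' ∘ₗ e.symm.toLinearMap)
        (hg'.comp e.symm.surjective)
    haveI : IsNoetherian B (M ⊗[A] (maximalIdeal A)) :=
      isNoetherian_of_isNoetherianRing_of_finite B _
    exact IsNoetherian.noetherian K
  have hK : K = ⊥ :=
    Submodule.eq_bot_of_le_smul_of_le_jacobson_bot (maximalIdeal B) K hKfg hKle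
      (IsLocalRing.maximalIdeal_le_jacobson ⊥)
  have hinjl : Function.Injective (LinearMap.lTensor M (maximalIdeal A).subtype) := by
    rw [injective_iff_map_eq_zero]
    intro z hz
    have : z ∈ K := by
      show φ z = 0
      rw [hφ, hz, map_zero]
    rw [hK] at this
    exact (Submodule.mem_bot B).mp this
  have hinjr : Function.Injective (LinearMap.rTensor M (maximalIdeal A).subtype) :=
    (LinearMap.lTensor_inj_iff_rTensor_inj M (maximalIdeal A).subtype).mp hinjl
  haveI : Module.Flat (A ⧸ maximalIdeal A) ((A ⧸ maximalIdeal A) ⊗[A] M) := by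
    letI : Field (A ⧸ maximalIdeal A) := Ideal.Quotient.field _
    haveI : Module.Free (A ⧸ maximalIdeal A) ((A ⧸ maximalIdeal A) ⊗[A] M) :=
      Module.Free.of_divisionRing _ _
    exact Module.Flat.of_free
  exact Groth.Agent.H76.LocalCrit.flat_of_local (R := A) (S := B) (maximalIdeal A)
    (IsLocalRing.maximalIdeal.isMaximal A).ne_top hinjr

end Groth.Agent.H76.RegQuotFlat
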