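import Groth.Agent.H76.InjFlat
import Mathlib.RingTheory.Regular.RegularSequence

/-!
# Vanishing of `Tor₁(R/(fs), M)` for an `M`-weakly-regular sequence (helper76)

`mu_injective_of_isWeaklyRegular`: if `fs` is a weakly regular sequence on `M` then the
multiplication map `(fs) ⊗ M → M` is injective (no hypothesis on `R`).
-/

set_option autoImplicit false

open TensorProduct

namespace Groth.Agent.H76.RegTor

open Groth.Agent.H76.InjFlat

variable {R : Type*} [CommRing R] {M : Type*} [AddCommGroup M] [Module R M]

/-- One step: adding an element regular on `M/J'M`. -/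
theorem mu_injective_sup_span (J' : Ideal R) (f : R)
    (h : Function.Injective (mu J' M))
    (hf : IsSMulRegular (M ⧸ (J' • (⊤ : Submodule R M))) f) :
    Function.Injective (mu (J' ⊔ Ideal.span {f}) M) := by
  set J : Ideal R := J' ⊔ Ideal.span {f} with hJ
  have hfJ : f ∈ J := Ideal.mem_sup_right (Ideal.subset_span rfl)
  let incl : J' →ₗ[R] J := Submodule.inclusion le_sup_left
  let ι : J' ⊗[R] M →ₗ[R] J ⊗[R] M := incl.rTensor M
  have hμι : ∀ t : J' ⊗[R] M, mu J M (ι t) = mu J' M t := fun t =>
    mu_map M incl (fun _ => rfl) t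
  -- (b) decomposition
  have hdec : ∀ z : J ⊗[R] M, ∃ (z' : J' ⊗[R] M) (m : M), z = ι z' + (⟨f, hfJ⟩ : J) ⊗ₜ[R] m := by
    intro z
    induction z with
    | zero => exact ⟨0, 0, by simp⟩
    | tmul j m =>
      obtain ⟨j', hj', y, hy, hjy⟩ := Submodule.mem_sup.mp j.2
      obtain ⟨a, rfl⟩ := Ideal.mem_span_singleton'.mp hy
      refine ⟨(⟨j', hj'⟩ : J') ⊗ₜ[R] m, a • m, ?_⟩
      have hj : j = incl ⟨j', hj'⟩ + a • (⟨f, hfJ⟩ : J) := by
        apply Subtype.ext
        simp only [Submodule.coe_add, Submodule.coe_smul, smul_eq_mul]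
        exact hjy.symm
      rw [hj, add_tmul, smul_tmul]
      rfl
    | add a b ha hb =>
      obtain ⟨za, ma, rfl⟩ := ha
      obtain ⟨zb, mb, rfl⟩ := hb
      refine ⟨za + zb, ma + mb, ?_⟩
      rw [map_add, tmul_add]
      abel
  -- (e) key identity
  have hkey : ∀ t : J' ⊗[R] M, (⟨f, hfJ⟩ : J) ⊗ₜ[R] (mu J' M t) = ι (f • t) := by
    intro t
    induction t with
    | zero => simp
    | tmul j n =>
      rw [mu_tmul, smul_tmul']
      show (⟨f, hfJ⟩ : J) ⊗ₜ[R] ((j : R) • n) = (incl (f • j)) ⊗ₜ[R] n
      rw [← smul_tmul]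
      congr 1
      apply Subtype.ext
      show (j : R) * f = f * (j : R)
      rw [mul_comm]
    | add a b ha hb => simp only [map_add, tmul_add, smul_add, ha, hb]
  rw [injective_iff_map_eq_zero]
  intro z hz
  obtain ⟨z', m, rfl⟩ := hdec z
  rw [map_add, hμι, mu_tmul] at hz
  have hfm : f • m ∈ J' • (⊤ : Submodule R M) := by
    have h1 : f • m = - mu J' M z' := by
      have : mu J' M z' + f • m = 0 := hz
      exact eq_neg_of_add_eq_zero_right this
    rw [h1]
    exact Submodule.neg_mem _ (mu_mem J' M z')
  have hm : m ∈ J' • (⊤ : Submodule R M) := by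
    have h2 : f • (Submodule.Quotient.mk m : M ⧸ (J' • (⊤ : Submodule R M))) = f • 0 := by
      rw [smul_zero, ← Submodule.Quotient.mk_smul]
      exact (Submodule.Quotient.mk_eq_zero _).mpr hfm
    exact (Submodule.Quotient.mk_eq_zero _).mp (hf h2)
  obtain ⟨t'', rfl⟩ := exists_mu_eq hm
  rw [hkey, ← map_add]
  have h3 : mu J' M (z' + f • t'') = 0 := by
    rw [map_add, map_smul]
    exact hz
  rw [(injective_iff_map_eq_zero _).mp h _ h3, map_zero]

theorem mu_injective_bot : Function.Injective (mu (⊥ : Ideal R) M) := by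
  intro a b _
  have hsub : Subsingleton ((⊥ : Ideal R) ⊗[R] M) := by
    refine ⟨fun x y => ?_⟩
    have h0 : ∀ z : (⊥ : Ideal R) ⊗[R] M, z = 0 := by
      intro z
      induction z with
      | zero => rfl
      | tmul j m =>
        have : j = 0 := Subtype.ext ((Submodule.mem_bot R).mp j.2)
        rw [this, zero_tmul]
      | add a b ha hb => rw [ha, hb, add_zero]
    rw [h0 x, h0 y]
  exact Subsingleton.elim a b

/-- If `fs` is weakly regular on `M`, the multiplication `(fs) ⊗ M → M` is injective. -/
theorem mu_injective_of_isWeaklyRegular (fs : List R)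
    (h : RingTheory.Sequence.IsWeaklyRegular M fs) :
    Function.Injective (mu (Ideal.ofList fs) M) := by
  have key : ∀ n : ℕ, n ≤ fs.length → Function.Injective (mu (Ideal.ofList (fs.take n)) M) := by
    intro n
    induction n with
    | zero =>
      intro _
      rw [List.take_zero, Ideal.ofList_nil]
      exact mu_injective_bot
    | succ n ih =>
      intro hn
      have hn' : n < fs.length := hn
      rw [List.take_succ_eq_append_getElem hn', Ideal.ofList_append, Ideal.ofList_singleton]
      exact mu_injective_sup_span _ _ (ih hn'.le) (h.regular_mod_prev n hn')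
  have := key fs.length le_rfl
  rwa [List.take_length] at this

theorem rTensor_injective_of_isWeaklyRegular (fs : List R)
    (h : RingTheory.Sequence.IsWeaklyRegular M fs) :
    Function.Injective (LinearMap.rTensor M (Submodule.subtype (Ideal.ofList fs))) := by
  have h1 := mu_injective_of_isWeaklyRegular fs h
  intro a b hab
  apply h1
  show (TensorProduct.lid R M) ((Submodule.subtype (Ideal.ofList fs)).rTensor M a) =
    (TensorProduct.lid R M) ((Submodule.subtype (Ideal.ofList fs)).rTensor M b)
  rw [hab]

end Groth.Agent.H76.RegTor
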