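import Mathlib
import Groth.Prelude
import Groth.Agent.H76.RelAssChart
import Groth.Agent.H76.RelAssMin

/-!
# Chart-level: generic points of fibres of the closure of a point of the relative assassin
-/

set_option autoImplicit false
universe u
open AlgebraicGeometry CategoryTheory TensorProduct IsLocalRing TopologicalSpace

namespace Groth.Agent.H76.RelAss
open Groth.Agent.Lib.Helper45

variable {X S : Scheme.{u}} (f : X ⟶ S) {V : S.Opens} {W : X.Opens} (e : W ≤ f ⁻¹ᵁ V)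
  (hV : IsAffineOpen V) (hW : IsAffineOpen W) (F : X.Modules) [F.IsQuasicoherent]

include hV hW in
theorem chart_generic_minimal (hft : (f.appLE V W e).hom.FiniteType)
    [Module.Finite Γ(X, W) Γ(F, W)] (z₀ : W) (hz₀ : (z₀ : X) ∈ MoreMor.relAss f F) :
    ∃ a : Γ(S, V), a ∉ (hV.primeIdealOf ⟨f (z₀ : X), e z₀.2⟩).asIdeal ∧
      ∀ z : W, (z₀ : X) ⤳ (z : X) → a ∉ (hV.primeIdealOf ⟨f (z : X), e z.2⟩).asIdeal →
        (∀ z' : W, (z₀ : X) ⤳ (z' : X) → (z' : X) ⤳ (z : X) → f (z' : X) = f (z : X) → z' = z) →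
        (z : X) ∈ MoreMor.relAss f F := by
  letI : Algebra Γ(S, V) Γ(X, W) := (f.appLE V W e).hom.toAlgebra
  letI : Module Γ(S, V) Γ(F, W) := Module.compHom _ (f.appLE V W e).hom
  haveI : IsScalarTower Γ(S, V) Γ(X, W) Γ(F, W) := IsScalarTower.of_compHom _ _ _
  haveI : Algebra.FiniteType Γ(S, V) Γ(X, W) := hft
  set q₀ := (hW.primeIdealOf z₀).asIdeal with hq₀
  set p₀ := (hV.primeIdealOf ⟨f (z₀ : X), e z₀.2⟩).asIdeal with hp₀
  haveI : q₀.IsPrime := (hW.primeIdealOf z₀).2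
  haveI : p₀.IsPrime := (hV.primeIdealOf ⟨f (z₀ : X), e z₀.2⟩).2
  have hcomap : ∀ z : W, (hW.primeIdealOf z).asIdeal.comap (f.appLE V W e).hom =
      (hV.primeIdealOf ⟨f (z : X), e z.2⟩).asIdeal := fun z =>
    (Groth.Agent.Lib.Helper55.primeIdealOf_comap f e (z : X) z.2 hW hV).symm
  have hq₀p₀ : q₀.comap (algebraMap Γ(S, V) Γ(X, W)) = p₀ := hcomap z₀
  have hass : IsFibAss (algebraMap Γ(S, V) Γ(X, W)) q₀ Γ(F, W) :=
    isFibAss_of_mem_relAss f e hV hW F hft z₀ hz₀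
  obtain ⟨a, ha, key⟩ := generic_fibAss_of_minimal p₀ q₀ hq₀p₀ hass
  refine ⟨a, ha, fun z hz haz hmin => ?_⟩
  set q := (hW.primeIdealOf z).asIdeal with hq
  set p := (hV.primeIdealOf ⟨f (z : X), e z.2⟩).asIdeal with hp
  have hqp : q.comap (algebraMap Γ(S, V) Γ(X, W)) = p := hcomap z
  have hq₀q : q₀ ≤ q :=
    (Groth.Agent.Lib.Helper55.primeIdealOf_le_iff_specializes hW (z₀ : X) (z : X) z₀.2 z.2).mpr hz
  have hle : p₀ ≤ p := by
    rw [← hq₀p₀, ← hqp]; exact Ideal.comap_mono hq₀q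
  have hpq : p.map (algebraMap Γ(S, V) Γ(X, W)) ≤ q := by
    rw [Ideal.map_le_iff_le_comap, hqp]
  refine mem_relAss_of_isFibAss f e hV hW F z ?_
  refine key p (hV.primeIdealOf ⟨f (z : X), e z.2⟩).2 hle haz q (hW.primeIdealOf z).2 hqp ?_
  refine ⟨⟨(hW.primeIdealOf z).2, sup_le hq₀q hpq⟩, ?_⟩
  rintro q' ⟨hq'prime, hq'le⟩ hq'q
  obtain ⟨z', hz'W, hz'⟩ := Groth.Agent.Lib.Helper55.exists_primeIdealOf_eq hW ⟨q', hq'prime⟩
  have hz'q : (hW.primeIdealOf ⟨z', hz'W⟩).asIdeal = q' := by rw [hz']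
  have h1 : (z₀ : X) ⤳ z' := by
    rw [← Groth.Agent.Lib.Helper55.primeIdealOf_le_iff_specializes hW (z₀ : X) z' z₀.2 hz'W, hz'q]
    exact le_trans le_sup_left hq'le
  have h2 : z' ⤳ (z : X) := by
    rw [← Groth.Agent.Lib.Helper55.primeIdealOf_le_iff_specializes hW z' (z : X) hz'W z.2, hz'q]
    exact hq'q
  have h3 : f z' = f (z : X) := by
    have hc' : q'.comap (algebraMap Γ(S, V) Γ(X, W)) = p := by
      apply le_antisymm
      · rw [← hqp]; exact Ideal.comap_mono hq'q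
      · rw [← Ideal.map_le_iff_le_comap]; exact le_trans le_sup_right hq'le
    have h4 : (hV.primeIdealOf ⟨f z', e hz'W⟩).asIdeal = p := by
      rw [← hcomap ⟨z', hz'W⟩, hz'q]; exact hc'
    exact Groth.Agent.Lib.Helper55.primeIdealOf_injective hV (f z') (f (z : X)) (e hz'W) (e z.2)
      (PrimeSpectrum.ext h4)
  have h5 := hmin ⟨z', hz'W⟩ h1 h2 h3
  rw [← hz'q, h5]

end Groth.Agent.H76.RelAss
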