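/-
helper76: Noetherian model of a scheme of finite presentation over an affine base together with a
finitely presented quasi-coherent module and a quasi-compact open subset.
-/
import Mathlib
import Groth.Agent.Lib.Helper23.ConsLocusMod
import Groth.Agent.Lib.Helper23.FpDescentOpen

set_option autoImplicit false
universe u
open CategoryTheory Limits AlgebraicGeometry Topology

namespace Groth.Agent.H76.RelAssModel

open Groth.Agent.Lib.Helper23 Groth.Agent.Lib.Helper23.ConsLocusMod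

variable {S : Scheme.{u}} [IsAffine S]

/-- **Noetherian model** of a scheme of finite presentation over an affine scheme together with a
finitely presented quasi-coherent module and a quasi-compact open subset. -/
theorem exists_noetherian_model_mod_open {X : Scheme.{u}} (u : X ⟶ S)
    [LocallyOfFinitePresentation u] [QuasiCompact u] [QuasiSeparated u]
    (F : X.Modules) [F.IsQuasicoherent]
    (hF : SheafOfModules.IsFinitePresentation (R := X.ringCatSheaf) F)
    (O : X.Opens) (hO : IsCompact (O : Set X)) :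
    ∃ (A₀ : CommRingCat.{u}) (_ : IsNoetherianRing A₀) (π : S ⟶ Spec A₀) (X₀ : Scheme.{u})
      (u₀ : X₀ ⟶ Spec A₀) (qX : X ⟶ X₀) (F₀ : X₀.Modules) (O₀ : X₀.Opens),
      LocallyOfFinitePresentation u₀ ∧ QuasiCompact u₀ ∧ QuasiSeparated u₀ ∧
      IsPullback qX u u₀ π ∧ F₀.IsQuasicoherent ∧
      SheafOfModules.IsFinitePresentation (R := X₀.ringCatSheaf) F₀ ∧
      Nonempty ((Scheme.Modules.pullback qX).obj F₀ ≅ F) ∧ qX ⁻¹ᵁ O₀ = O := by
  obtain ⟨i₁, X₁, u₁, q₁, a1, a2, a3, h₁⟩ := descends_noeth u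
  have hcs : CompactSpace ↥X₁ := QuasiCompact.compactSpace_of_compactSpace u₁
  have hqs : QuasiSeparatedSpace ↥X₁ := quasiSeparatedSpace_of_quasiSeparated u₁
  obtain ⟨j₁, φ₁, Fj, hFjq, hFjfp, ⟨hiso⟩⟩ :=
    exists_module_descend (noethDiagram S) (noethCone S) (isLimitNoethCone S) h₁ F hF
  obtain ⟨j₂, φ₂, Oj, -, hOj⟩ :=
    exists_opens_descend (noethDiagram S) (noethCone S) (isLimitNoethCone S) h₁ O hO
  obtain ⟨k, ψ₁, ψ₂, hψ⟩ := IsCofiltered.cospan φ₁ φ₂
  obtain ⟨t₁, ht₁⟩ := exists_stage_transition (noethDiagram S) (noethCone S) h₁ φ₁ ψ₁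
    (ψ₁ ≫ φ₁) rfl
  obtain ⟨t₂, ht₂⟩ := exists_stage_transition (noethDiagram S) (noethCone S) h₁ φ₂ ψ₂
    (ψ₁ ≫ φ₁) hψ.symm
  have c1 : LocallyOfFinitePresentation (pullback.snd u₁ ((noethDiagram S).map (ψ₁ ≫ φ₁))) :=
    inferInstance
  have c2 : QuasiCompact (pullback.snd u₁ ((noethDiagram S).map (ψ₁ ≫ φ₁))) := inferInstance
  have c3 : QuasiSeparated (pullback.snd u₁ ((noethDiagram S).map (ψ₁ ≫ φ₁))) := inferInstance
  haveI := hFjq
  refine ⟨noethRing S k, isNoetherianRing_noethRing S k, (noethCone S).π.app k,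
    pullback u₁ ((noethDiagram S).map (ψ₁ ≫ φ₁)),
    pullback.snd u₁ ((noethDiagram S).map (ψ₁ ≫ φ₁)),
    toStage (noethDiagram S) (noethCone S) h₁ (ψ₁ ≫ φ₁),
    (Scheme.Modules.pullback t₁).obj Fj, t₂ ⁻¹ᵁ Oj, c1, c2, c3,
    isPullback_toStage (noethDiagram S) (noethCone S) h₁ (ψ₁ ≫ φ₁),
    isQCoh_pullback t₁ Fj, isFP_pullback t₁ Fj hFjfp, ⟨?_⟩, ?_⟩
  · exact pbComp _ t₁ Fj ≪≫ pbCongr ht₁ Fj ≪≫ hiso
  · rw [← Scheme.Hom.comp_preimage, ht₂, hOj]

end Groth.Agent.H76.RelAssModel
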