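/-
helper76: local constructibility of the locus of points of the base over which the relative
assassin of a finitely presented module lies in a given quasi-compact open (EGA IV 9.8.3).
-/
import Mathlib
import Groth.Agent.H76.RelAssModel
import Groth.Agent.Lib.Helper97.RelAssBC2
import Groth.Agent.S1368
import Groth.Agent.S1369

set_option autoImplicit false
universe u
open CategoryTheory Limits AlgebraicGeometry Topology

namespace Groth.Agent.H76.RelAssCons

open Groth.Agent.Lib.Helper23 Groth.Agent.Lib.Helper23.ConsLocusMod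
  Groth.Agent.Lib.Helper97.AssFibre Groth.Agent.H76.RelAssModel

/-- The relative assassin only depends on the isomorphism class of the module. -/
theorem relAss_congr {X Y : Scheme.{u}} (f : X ⟶ Y) [LocallyOfFiniteType f] {F F' : X.Modules}
    [F.IsQuasicoherent] [F'.IsQuasicoherent] (e : F ≅ F') :
    MoreMor.relAss f F = MoreMor.relAss f F' := by
  ext x
  obtain ⟨z, hz⟩ := exists_fiberι_eq f (f x) x rfl
  haveI := isLocallyNoetherian_fiber_of_locallyOfFiniteType f (f x)
  haveI := isQCoh_pullback (f.fiberι (f x)) F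
  haveI := isQCoh_pullback (f.fiberι (f x)) F'
  rw [← hz, ← isAssPoint_fiber_iff_mem_relAss f F, ← isAssPoint_fiber_iff_mem_relAss f F',
    isAssPoint_congr ((Scheme.Modules.pullback (f.fiberι (f x))).mapIso e)]

/-- The locus of points of the base over which the relative assassin lies in `U`. -/
def locus {X Y : Scheme.{u}} (f : X ⟶ Y) (F : X.Modules) (U : X.Opens) : Set Y :=
  {y | ∀ x ∈ MoreMor.relAss f F, f x = y → x ∈ U}

theorem locus_congr {X Y : Scheme.{u}} (f : X ⟶ Y) [LocallyOfFiniteType f] {F F' : X.Modules}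
    [F.IsQuasicoherent] [F'.IsQuasicoherent] (e : F ≅ F') (U : X.Opens) :
    locus f F U = locus f F' U := by
  unfold locus
  rw [relAss_congr f e]

theorem locus_baseChange {X S X' S' : Scheme.{u}} {f : X ⟶ S} {g : S' ⟶ S} {f' : X' ⟶ S'}
    {g' : X' ⟶ X} (hc : IsPullback g' f' f g) [LocallyOfFiniteType f] (F : X.Modules)
    [F.IsQuasicoherent] (U : X.Opens) :
    g ⁻¹' locus f F U = locus f' ((Scheme.Modules.pullback g').obj F) (g' ⁻¹ᵁ U) := by
  ext s'
  have key := relAss_fibre_subset_iff hc F U s'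
  constructor
  · intro h x' hx' hs
    exact key.mp (fun x hx => h x hx.1 hx.2) ⟨hx', hs⟩
  · intro h x hx hs
    exact key.mpr (fun x' hx' => h x' hx'.1 hx'.2) ⟨hx, hs⟩

/-- Generic dichotomy over an irreducible base. -/
theorem locus_generic {X T : Scheme.{u}} (f : X ⟶ T) [IrreducibleSpace ↑T] [LocallyOfFiniteType f]
    [QuasiCompact f] (F : X.Modules) (hF : Coh.IsCoh F) (U : X.Opens) :
    (interior (locus f F U)).Nonempty ∨ (interior (locus f F U)ᶜ).Nonempty := by
  by_cases h : ∀ x ∈ MoreMor.relAss f F, f x = genericPoint ↑T → x ∈ U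
  · left
    obtain ⟨V, hVne, hV⟩ := Groth.Agent.S1368.result f F hF U h
    refine hVne.mono (interior_maximal ?_ V.2)
    intro y hy x hx hxy
    exact hV x hx (by rw [hxy]; exact hy)
  · right
    push Not at h
    obtain ⟨x₀, hx₀, hx₀g, hx₀U⟩ := h
    obtain ⟨V, hVne, hV⟩ := Groth.Agent.S1369.result f F hF U ⟨x₀, hx₀, hx₀g, hx₀U⟩
    refine hVne.mono (interior_maximal ?_ V.2)
    intro y hy hyl
    obtain ⟨x, hx, hxy, hxU⟩ := hV y hy
    exact hxU (hyl x hx hxy)

theorem isCompact_restrict {X Y : Scheme.{u}} (f : X ⟶ Y) (U : X.Opens) [QuasiCompact (U.ι ≫ f)]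
    (V : Y.Opens) (hV : IsCompact (V : Set Y)) :
    IsCompact (((f ⁻¹ᵁ V).ι ⁻¹ᵁ U : (f ⁻¹ᵁ V).toScheme.Opens) : Set ↥(f ⁻¹ᵁ V).toScheme) := by
  have h1 : IsCompact ((U.ι ≫ f) ⁻¹' (V : Set Y)) :=
    QuasiCompact.isCompact_preimage (f := U.ι ≫ f) _ V.2 hV
  have h2 : IsCompact (U.ι '' ((U.ι ≫ f) ⁻¹' (V : Set Y))) := h1.image U.ι.continuous
  rw [(f ⁻¹ᵁ V).ι.isOpenEmbedding.isInducing.isCompact_iff]
  convert h2 using 1
  ext x
  constructor
  · rintro ⟨y, hy, rfl⟩
    refine ⟨⟨(f ⁻¹ᵁ V).ι y, hy⟩, ?_, rfl⟩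
    exact y.2
  · rintro ⟨y, hy, rfl⟩
    exact ⟨⟨U.ι y, hy⟩, y.2, rfl⟩

/-- **EGA IV 9.8.3**: the locus is locally constructible. -/
theorem isLocallyConstructible_locus {X Y : Scheme.{u}} (f : X ⟶ Y)
    [LocallyOfFinitePresentation f] [QuasiCompact f] [QuasiSeparated f]
    (F : X.Modules) [F.IsQuasicoherent]
    (hFp : SheafOfModules.IsFinitePresentation (R := X.ringCatSheaf) F) (U : X.Opens)
    [QuasiCompact (U.ι ≫ f)] :
    IsLocallyConstructible (locus f F U) := by
  apply isLocallyConstructible_of_affine_models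
  intro V hV
  haveI : IsAffine V.toScheme := hV
  have hpb : IsPullback (f ⁻¹ᵁ V).ι (f ∣_ V) f V.ι := (isPullback_morphismRestrict f V).flip
  haveI := isQCoh_pullback (f ⁻¹ᵁ V).ι F
  have hfp := isFP_pullback (f ⁻¹ᵁ V).ι F hFp
  have e1 := locus_baseChange hpb F U
  obtain ⟨A₀, hA₀, π, X₀, u₀, qX, F₀, O₀, a1, a2, a3, hX, hF₀q, hF₀fp, ⟨iso⟩, hO₀⟩ :=
    exists_noetherian_model_mod_open (f ∣_ V) _ hfp _ (isCompact_restrict f U V hV.isCompact)
  haveI := hF₀q
  haveI := isQCoh_pullback qX F₀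
  have e2 := locus_baseChange hX F₀ O₀
  refine ⟨A₀, hA₀, π, locus u₀ F₀ O₀, ?_, ?_⟩
  · rw [e1, e2, hO₀, locus_congr _ iso]
  · intro p hp
    have e3 := locus_baseChange (IsPullback.of_hasPullback u₀ (primeIncl A₀ p)) F₀ O₀
    rw [e3]
    exact locus_generic _ _ (isCoh_pullback _ F₀ hF₀fp) _

end Groth.Agent.H76.RelAssCons
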