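import Mathlib
import Groth.Agent.H76.Milnor
import Groth.Agent.H76.Glue
import Groth.Agent.H76.TensorFinite
import Groth.Agent.H76.FlatKerFP
import Groth.Agent.S14949
import Groth.Agent.S14952

/-!
# Relative Milnor squares: finiteness and finite presentation (helper76)

`B' = B ×_A A'` a fibre square with `A' → A` surjective, `B' → D'` any ring map,
`D = B ⊗_{B'} D'`, `C' = A' ⊗_{B'} D'`.  A `D'`-module whose base changes to `D` and `C'` are
finite is finite; if it is moreover `B'`-flat and the base changes are finitely presented, it is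
finitely presented.
-/

set_option autoImplicit false
universe u

open TensorProduct

namespace Groth.Agent.H76.RelMilnor

section Ker

/-- If `P` is `B'`-flat, `F` finite over `D'`, `g : F → P` surjective and `R ⊗ P` finitely presented
over `R = S ⊗_{B'} D'`, then `R ⊗ ker g` is finite over `R`. -/
theorem finite_baseChange_ker {B' : Type u} (S : Type u) {D' R : Type u}
    [CommRing B'] [CommRing S] [CommRing D'] [CommRing R]
    [Algebra B' S] [Algebra B' D'] [Algebra S R] [Algebra D' R] [Algebra B' R]
    [IsScalarTower B' S R] [IsScalarTower B' D' R] [Algebra.IsPushout B' S D' R]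
    {F P : Type u} [AddCommGroup F] [Module D' F] [Module B' F] [IsScalarTower B' D' F]
    [AddCommGroup P] [Module D' P] [Module B' P] [IsScalarTower B' D' P]
    [Module.Flat B' P] [Module.Finite D' F]
    [Module.FinitePresentation R (R ⊗[D'] P)] (g : F →ₗ[D'] P) (hg : Function.Surjective g) :
    Module.Finite R (R ⊗[D'] (LinearMap.ker g)) := by
  set i : (LinearMap.ker g) →ₗ[D'] F := (LinearMap.ker g).subtype with hi
  have hexact : Function.Exact i g := LinearMap.exact_subtype_ker_map g
  have hex : Function.Exact (i.baseChange R) (g.baseChange R) := lTensor_exact R hexact hg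
  have hsurj : Function.Surjective (g.baseChange R) := LinearMap.lTensor_surjective R hg
  have hinj : Function.Injective (i.baseChange R) := by
    let eK := Algebra.IsPushout.cancelBaseChange B' S D' R (LinearMap.ker g)
    let eF := Algebra.IsPushout.cancelBaseChange B' S D' R F
    have h0 : Function.Injective ((i.restrictScalars B').lTensor S) :=
      FlatKerFP.lTensor_injective_of_flat_coker (i.restrictScalars B') (g.restrictScalars B')
        (LinearMap.ker g).injective_subtype hexact hg S
    have comm : ∀ x, eF.symm ((i.restrictScalars B').lTensor S x) = i.baseChange R (eK.symm x) := by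
      intro x
      induction x with
      | zero => simp
      | tmul s k =>
        simp only [LinearMap.lTensor_tmul, eF, eK, Algebra.IsPushout.cancelBaseChange_symm_tmul,
          LinearMap.baseChange_tmul, LinearMap.restrictScalars_apply]
      | add x y hx hy => rw [map_add, map_add, hx, hy, map_add, map_add]
    intro y₁ y₂ h
    have h1 : i.baseChange R (eK.symm (eK y₁)) = i.baseChange R (eK.symm (eK y₂)) := by
      rw [LinearEquiv.symm_apply_apply, LinearEquiv.symm_apply_apply, h]
    rw [← comm, ← comm] at h1
    exact eK.injective (h0 (eF.symm.injective h1))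
  have hfg : (LinearMap.ker (g.baseChange R)).FG :=
    Module.FinitePresentation.fg_ker (g.baseChange R) hsurj
  have hrange : LinearMap.range (i.baseChange R) = LinearMap.ker (g.baseChange R) :=
    (LinearMap.exact_iff.mp hex).symm
  haveI : Module.Finite R (LinearMap.range (i.baseChange R)) := by
    rw [hrange]; exact Module.Finite.iff_fg.mpr hfg
  exact Module.Finite.equiv (LinearEquiv.ofInjective (i.baseChange R) hinj).symm

end Ker

section Main

variable {B' B A' A : Type u} [CommRing B'] [CommRing B] [CommRing A'] [CommRing A]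
  [Algebra B' B] [Algebra B' A'] [Algebra B A] [Algebra A' A] [Algebra B' A]
  [IsScalarTower B' B A] [IsScalarTower B' A' A]
  (hsq : EtMil.IsFibreSquare B' B A' A)
  {D' D C' : Type u} [CommRing D'] [CommRing D] [CommRing C']
  [Algebra B' D'] [Algebra B D] [Algebra A' C']
  [Algebra D' D] [Algebra B' D] [IsScalarTower B' B D] [IsScalarTower B' D' D]
  [Algebra.IsPushout B' B D' D]
  [Algebra D' C'] [Algebra B' C'] [IsScalarTower B' A' C'] [IsScalarTower B' D' C']
  [Algebra.IsPushout B' A' D' C']

include hsq in
/-- A `D'`-module with finite base changes to `D = B ⊗ D'` and `C' = A' ⊗ D'` is finite. -/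
theorem finite_of_finite_baseChange (L' : Type u) [AddCommGroup L'] [Module D' L'] [Module B' L']
    [IsScalarTower B' D' L'] [Module.Finite D (D ⊗[D'] L')] [Module.Finite C' (C' ⊗[D'] L')] :
    Module.Finite D' L' := by
  obtain ⟨N₁, hN₁, h₁⟩ :=
    TensorFinite.exists_fg_tensor_quotient_subsingleton (R := D') (S := D) (M := L')
  obtain ⟨N₂, hN₂, h₂⟩ :=
    TensorFinite.exists_fg_tensor_quotient_subsingleton (R := D') (S := C') (M := L')
  have s₁ := h₁ (N₁ ⊔ N₂) le_sup_left
  have s₂ := h₂ (N₁ ⊔ N₂) le_sup_right
  haveI : Subsingleton (B ⊗[B'] (L' ⧸ (N₁ ⊔ N₂))) :=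
    (Algebra.IsPushout.cancelBaseChange B' B D' D (L' ⧸ (N₁ ⊔ N₂))).symm.toEquiv.subsingleton
  haveI : Subsingleton (A' ⊗[B'] (L' ⧸ (N₁ ⊔ N₂))) :=
    (Algebra.IsPushout.cancelBaseChange B' A' D' C' (L' ⧸ (N₁ ⊔ N₂))).symm.toEquiv.subsingleton
  have hsub := Groth.Agent.S14949.result B' B A' A hsq (L' ⧸ (N₁ ⊔ N₂))
  have htop : N₁ ⊔ N₂ = ⊤ := Submodule.Quotient.subsingleton_iff.mp hsub
  exact Module.finite_def.mpr (htop ▸ hN₁.sup hN₂)

include hsq in
/-- A `B'`-flat `D'`-module with finitely presented base changes to `D = B ⊗ D'` and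
`C' = A' ⊗ D'` is finitely presented. -/
theorem finitePresentation_of_baseChange (P' : Type u) [AddCommGroup P'] [Module D' P']
    [Module B' P'] [IsScalarTower B' D' P'] [Module.Flat B' P']
    [Module.FinitePresentation D (D ⊗[D'] P')] [Module.FinitePresentation C' (C' ⊗[D'] P')] :
    Module.FinitePresentation D' P' := by
  haveI : Module.Finite D' P' := finite_of_finite_baseChange (A := A) (D := D) (C' := C') hsq P'
  obtain ⟨m, g, hg⟩ := Module.Finite.exists_fin' D' P'
  haveI : Module.Finite D (D ⊗[D'] (LinearMap.ker g)) := finite_baseChange_ker (B' := B') B g hg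
  haveI : Module.Finite C' (C' ⊗[D'] (LinearMap.ker g)) := finite_baseChange_ker (B' := B') A' g hg
  haveI : Module.Finite D' (LinearMap.ker g) :=
    finite_of_finite_baseChange (A := A) (D := D) (C' := C') hsq (LinearMap.ker g)
  exact Module.finitePresentation_of_surjective g hg (Module.Finite.iff_fg.mp inferInstance)

end Main

end Groth.Agent.H76.RelMilnor
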