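import Mathlib

/-!
# Shrinking neighbourhoods of a point relative to a quasi-compact open (helper76)

`PrimeSpectrum` version: if `O` is a quasi-compact open of `Spec R`, `N` an open containing all
generizations of `𝔭` lying in `O`, then `D(s) ∩ O ⊆ N` for some `s ∉ 𝔭`.
Scheme version: `exists_opens_inf_le`.
-/

set_option autoImplicit false
universe u

namespace Groth.Agent.H76.ShrinkNhd

open PrimeSpectrum

theorem exists_basicOpen_inter_subset {R : Type*} [CommRing R] (𝔭 : PrimeSpectrum R)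
    (O N : Set (PrimeSpectrum R)) (hO : IsCompact O) (hO' : IsOpen O) (hN : IsOpen N)
    (h : ∀ 𝔮 ∈ O, 𝔮 ⤳ 𝔭 → 𝔮 ∈ N) :
    ∃ s : R, s ∉ 𝔭.asIdeal ∧ (PrimeSpectrum.basicOpen s : Set (PrimeSpectrum R)) ∩ O ⊆ N := by
  classical
  obtain ⟨t, ht⟩ := PrimeSpectrum.isCompact_isOpen_iff.mp ⟨hO, hO'⟩
  obtain ⟨J, hJ⟩ := (PrimeSpectrum.isClosed_iff_zeroLocus_ideal _).mp hN.isClosed_compl
  have key : ∀ k ∈ t, ∃ (s : R) (n : ℕ), s ∉ 𝔭.asIdeal ∧ s * k ^ n ∈ J := by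
    intro k hk
    by_contra hcon
    push Not at hcon
    have hdisj : Disjoint (J : Set R) (𝔭.asIdeal.primeCompl ⊔ Submonoid.powers k : Submonoid R) := by
      rw [Set.disjoint_left]
      intro r hrJ hrM
      obtain ⟨y, hy, z, ⟨n, rfl⟩, rfl⟩ := Submonoid.mem_sup.mp hrM
      exact hcon y n hy hrJ
    obtain ⟨𝔮, h𝔮, hJ𝔮, hd𝔮⟩ := Ideal.exists_le_prime_disjoint J _ hdisj
    have hle : 𝔮 ≤ 𝔭.asIdeal := by
      intro r hr
      by_contra hr𝔭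
      exact Set.disjoint_left.mp hd𝔮 hr (Submonoid.mem_sup_left hr𝔭)
    have hk𝔮 : k ∉ 𝔮 := fun hk𝔮 =>
      Set.disjoint_left.mp hd𝔮 hk𝔮 (Submonoid.mem_sup_right (Submonoid.mem_powers k))
    let Q : PrimeSpectrum R := ⟨𝔮, h𝔮⟩
    have hQO : Q ∈ O := by
      rw [← ht, Set.mem_compl_iff, PrimeSpectrum.mem_zeroLocus]
      intro hsub
      exact hk𝔮 (hsub hk)
    have hQN : Q ∈ N := h Q hQO ((PrimeSpectrum.le_iff_specializes Q 𝔭).mp hle)
    have : Q ∈ Nᶜ := by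
      rw [hJ, PrimeSpectrum.mem_zeroLocus]
      exact hJ𝔮
    exact this hQN
  choose! s n hs hsn using key
  refine ⟨∏ k ∈ t, s k, ?_, ?_⟩
  · intro hmem
    obtain ⟨k, hk, hk𝔭⟩ := (Ideal.IsPrime.prod_mem_iff (hp := 𝔭.isPrime)).mp hmem
    exact hs k hk hk𝔭
  · rintro Q ⟨hQs, hQO⟩
    by_contra hQN
    have hJQ : (J : Set R) ⊆ Q.asIdeal := by
      have : Q ∈ Nᶜ := hQN
      rwa [hJ, PrimeSpectrum.mem_zeroLocus] at this
    rw [← ht, Set.mem_compl_iff, PrimeSpectrum.mem_zeroLocus, Set.not_subset] at hQO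
    obtain ⟨k, hk, hkQ⟩ := hQO
    have h1 : s k * k ^ n k ∈ Q.asIdeal := hJQ (hsn k hk)
    rcases Q.isPrime.mem_or_mem h1 with h2 | h2
    · apply hQs
      show (∏ k ∈ t, s k) ∈ Q.asIdeal
      exact Ideal.mem_of_dvd _ (Finset.dvd_prod_of_mem s hk) h2
    · exact hkQ (Q.isPrime.mem_of_pow_mem _ h2)

open AlgebraicGeometry CategoryTheory

/-- If `U` is a retrocompact open of a scheme and `N` an open containing every generization of `x`
lying in `U`, then `W ∩ U ⊆ N` for some open neighbourhood `W` of `x`. -/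
theorem exists_opens_inf_le {X : Scheme.{u}} (x : X) (U N : X.Opens) [QuasiCompact U.ι]
    (h : ∀ u ∈ U, u ⤳ x → u ∈ N) : ∃ W : X.Opens, x ∈ W ∧ W ⊓ U ≤ N := by
  obtain ⟨_, ⟨W₁, hW₁, rfl⟩, hxW₁, -⟩ :=
    X.isBasis_affineOpens.exists_subset_of_mem_open (Set.mem_univ x) isOpen_univ
  have hxW₁' : x ∈ W₁ := hxW₁
  set φ := hW₁.fromSpec with hφ
  set 𝔭 := hW₁.primeIdealOf ⟨x, hxW₁'⟩ with h𝔭def
  have h𝔭 : φ 𝔭 = x := hW₁.fromSpec_primeIdealOf ⟨x, hxW₁'⟩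
  have hrange : Set.range φ = W₁ := hW₁.range_fromSpec
  -- compactness
  have hc1 : IsCompact (U.ι ⁻¹' (W₁ : Set X)) :=
    QuasiCompact.isCompact_preimage (f := U.ι) _ W₁.isOpen hW₁.isCompact
  have hc2 : IsCompact ((W₁ : Set X) ∩ U) := by
    have := hc1.image U.ι.continuous
    rwa [Set.image_preimage_eq_inter_range, Scheme.Opens.range_ι] at this
  have hpre : φ ⁻¹' ((W₁ : Set X) ∩ U) = φ ⁻¹' (U : Set X) := by
    ext y
    simp only [Set.mem_preimage, Set.mem_inter_iff, and_iff_right_iff_imp]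
    intro _
    rw [← hrange]; exact Set.mem_range_self y
  have hOc : IsCompact (φ ⁻¹' (U : Set X)) := by
    rw [← hpre]
    refine (φ.isOpenEmbedding.isInducing.isCompact_preimage_iff ?_).mpr hc2
    rw [hrange]; exact Set.inter_subset_left
  obtain ⟨s, hs, hsub⟩ := exists_basicOpen_inter_subset 𝔭 (φ ⁻¹' (U : Set X))
    (φ ⁻¹' (N : Set X)) hOc (U.isOpen.preimage φ.continuous) (N.isOpen.preimage φ.continuous)
    (by
      intro 𝔮 h𝔮 hspec
      have h1 : φ 𝔮 ⤳ x := h𝔭 ▸ hspec.map φ.continuous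
      exact h (φ 𝔮) h𝔮 h1)
  refine ⟨X.basicOpen s, ?_, ?_⟩
  · have h1 : 𝔭 ∈ φ ⁻¹ᵁ X.basicOpen s := by
      rw [hW₁.fromSpec_preimage_basicOpen]
      exact hs
    rw [← h𝔭]; exact h1
  · rintro y ⟨hyW, hyU⟩
    have hyW₁ : y ∈ (W₁ : Set X) := X.basicOpen_le s hyW
    rw [← hrange] at hyW₁
    obtain ⟨𝔮, rfl⟩ := hyW₁
    have h1 : 𝔮 ∈ (PrimeSpectrum.basicOpen s : Set (PrimeSpectrum Γ(X, W₁))) := by
      have : 𝔮 ∈ φ ⁻¹ᵁ X.basicOpen s := hyW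
      rwa [hW₁.fromSpec_preimage_basicOpen] at this
    exact hsub ⟨h1, hyU⟩

end Groth.Agent.H76.ShrinkNhd
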