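import Mathlib

/-!
# Support of a torsion-free module over a valuation ring (helper76)

If `M` is a `B`-module which is flat over a valuation ring `R`, then the reduced quotient
`B ⧸ √(Ann M)` (the coordinate ring of the support with its reduced structure) is flat over `R`.
-/

set_option autoImplicit false

namespace Groth.Agent.H76.SuppDim

/-- The reduced structure on the support of an `R`-flat module is `R`-flat, `R` a valuation ring. -/
theorem flat_quotient_radical_annihilator {R B M : Type*} [CommRing R] [IsDomain R]
    [ValuationRing R] [CommRing B] [Algebra R B] [AddCommGroup M] [Module B M] [Module R M]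
    [IsScalarTower R B M] [Module.Flat R M] :
    Module.Flat R (B ⧸ (Module.annihilator B M).radical) := by
  rw [Module.Flat.flat_iff_torsion_eq_bot_of_isBezout, _root_.eq_bot_iff]
  rintro x ⟨⟨a, ha⟩, hax⟩
  have hax' : a • x = 0 := hax
  obtain ⟨b, rfl⟩ := Ideal.Quotient.mk_surjective x
  have ha0 : a ≠ 0 := nonZeroDivisors.ne_zero ha
  rw [Submodule.mem_bot, Ideal.Quotient.eq_zero_iff_mem]
  have h1 : algebraMap R B a * b ∈ (Module.annihilator B M).radical := by
    rw [← Ideal.Quotient.eq_zero_iff_mem, map_mul]
    rw [Algebra.smul_def] at hax'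
    exact hax'
  obtain ⟨n, hn⟩ := h1
  refine ⟨n, ?_⟩
  rw [Module.mem_annihilator] at hn ⊢
  intro m
  have h2 := hn m
  rw [mul_pow, mul_smul, ← map_pow, algebraMap_smul] at h2
  have hreg : IsSMulRegular M (a ^ n) :=
    Module.Flat.isSMulRegular_of_isRegular (IsRegular.of_ne_zero (pow_ne_zero n ha0))
  apply hreg
  simp only [smul_zero]
  exact h2

end Groth.Agent.H76.SuppDim
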