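import Mathlib
import Groth.Prelude
import Groth.Agent.H76.SuppDimRing
import Groth.Agent.Lib.Helper97.SuppFlat
import Groth.Agent.Lib.Helper12.FlatOverSections
import Groth.Agent.Lib.Helper23.FlatGenericScheme
import Groth.Agent.Lib.Helper55.ChevalleyBound

/-!
# Flatness of the reduced support over a valuation ring, fibre dimension (helper76)

* `topologicalKrullDim_fiber_comp`: the fibre of `ι ≫ f` for an embedding `ι`.
* `topologicalKrullDim_fiber_le_generic_of_flat`: for a flat morphism locally of finite type to an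
  irreducible scheme, `dim X_s ≤ dim X_η` (from helper23's generization lemma).
* `flat_support_subscheme`: over a valuation ring, the reduced support of a coherent module flat
  over the base is flat over the base.
-/

set_option autoImplicit false
set_option linter.style.haveILetI false
universe u
open AlgebraicGeometry CategoryTheory Limits Topology

namespace Groth.Agent.H76.SuppDim

/-- The fibre of `ι ≫ f` over `t`, for a topological embedding `ι`, is the subspace
`f ⁻¹' {t} ∩ range ι`. -/
theorem topologicalKrullDim_fiber_comp {Z X S : Scheme.{u}} (ι : Z ⟶ X) (hι : IsEmbedding ι)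
    (f : X ⟶ S) (t : S) :
    topologicalKrullDim ↥((ι ≫ f).fiber t) =
      topologicalKrullDim ↥(f ⁻¹' {t} ∩ Set.range ι) := by
  rw [IsHomeomorph.topologicalKrullDim_eq _ ((ι ≫ f).fiberHomeo t).isHomeomorph]
  have he : IsEmbedding (fun z : ↥((ι ≫ f) ⁻¹' {t}) => ι z.1) :=
    hι.comp IsEmbedding.subtypeVal
  rw [IsHomeomorph.topologicalKrullDim_eq _ he.toHomeomorph.isHomeomorph]
  have hset : Set.range (fun z : ↥((ι ≫ f) ⁻¹' {t}) => ι z.1) = f ⁻¹' {t} ∩ Set.range ι := by
    ext x
    constructor
    · rintro ⟨⟨z, hz⟩, rfl⟩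
      exact ⟨hz, z, rfl⟩
    · rintro ⟨hx, z, rfl⟩
      exact ⟨⟨z, hx⟩, rfl⟩
  rw [hset]

/-- For a flat morphism locally of finite type to an irreducible scheme, every fibre has dimension
at most that of the generic fibre. -/
theorem topologicalKrullDim_fiber_le_generic_of_flat {Z S : Scheme.{u}} (h : Z ⟶ S) [Flat h]
    [LocallyOfFiniteType h] [IrreducibleSpace ↑S] (s : S) :
    topologicalKrullDim ↥(h.fiber s) ≤ topologicalKrullDim ↥(h.fiber (genericPoint ↑S)) := by
  rw [Groth.Agent.Lib.Helper55.topologicalKrullDim_fiber_le_iff]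
  intro x hx
  obtain ⟨x', hx', -, hle⟩ :=
    Groth.Agent.Lib.Helper23.FlatGenericScheme.exists_generization_fibreDimAt_ge h x
      (genericPoint ↑S) (genericPoint_specializes _)
  refine hle.trans ?_
  exact (Groth.Agent.Lib.Helper55.topologicalKrullDim_fiber_le_iff h (genericPoint ↑S) _).mp
    le_rfl x' hx'

/-- Unbundled form: for `φ : R →+* B`, `M` a `B`-module flat over `R` through `φ`, the composite
`R → B → B ⧸ √(Ann M)` is flat. -/
theorem flat_comp_mk_radical_annihilator {R B M : Type*} [CommRing R] [IsDomain R]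
    [ValuationRing R] [CommRing B] (φ : R →+* B) [AddCommGroup M] [Module B M]
    (hM : letI : Module R M := Module.compHom M φ; Module.Flat R M)
    (J : Ideal B) (hJ : J = (Module.annihilator B M).radical) :
    ((Ideal.Quotient.mk J).comp φ).Flat := by
  subst hJ
  letI : Algebra R B := φ.toAlgebra
  letI : Module R M := Module.compHom M φ
  haveI : IsScalarTower R B M := IsScalarTower.of_compHom _ _ _
  haveI : Module.Flat R M := hM
  have key : Module.Flat R (B ⧸ (Module.annihilator B M).radical) :=
    flat_quotient_radical_annihilator (M := M)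
  have halg : (Ideal.Quotient.mk (Module.annihilator B M).radical).comp φ =
      algebraMap R (B ⧸ (Module.annihilator B M).radical) := rfl
  rw [halg]
  exact RingHom.flat_algebraMap_iff.mpr key

/-- The vanishing ideal of the support of a coherent module on an affine open is the radical of
the annihilator of the sections. -/
theorem vanishingIdeal_support_ideal {Y : Scheme.{u}} (G : Y.Modules) (hG : Coh.IsCoh G)
    (C : TopologicalSpace.Closeds Y) (hC : (C : Set Y) = CohB1.support G) (U : Y.affineOpens) :
    (Scheme.IdealSheafData.vanishingIdeal C).ideal U =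
      (Module.annihilator Γ(Y, U.1) Γ(G, U.1)).radical := by
  have hU : IsAffineOpen U.1 := U.2
  have hvi : (Scheme.IdealSheafData.vanishingIdeal C).ideal U =
      PrimeSpectrum.vanishingIdeal (hU.fromSpec ⁻¹' (C : Set Y)) :=
    Scheme.IdealSheafData.vanishingIdeal_ideal C U
  rw [hvi, ← PrimeSpectrum.vanishingIdeal_zeroLocus_eq_radical]
  congr 1
  ext P
  have hP : hU.fromSpec P ∈ U.1 := by
    have : hU.fromSpec P ∈ Set.range hU.fromSpec := ⟨P, rfl⟩
    rwa [hU.range_fromSpec] at this
  have h1 := Groth.Agent.Lib.Helper97.SuppFlat.mem_support_iff_annihilator_le G hG hU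
    ⟨hU.fromSpec P, hP⟩
  have h2 : hU.primeIdealOf ⟨hU.fromSpec P, hP⟩ = P := by
    apply hU.fromSpec.isOpenEmbedding.injective
    exact hU.fromSpec_primeIdealOf ⟨hU.fromSpec P, hP⟩
  rw [h2] at h1
  constructor
  · intro hmem
    have hmem' : hU.fromSpec P ∈ CohB1.support G := by
      rw [← hC]; exact hmem
    exact (PrimeSpectrum.mem_zeroLocus _ _).mpr (SetLike.coe_subset_coe.mpr (h1.mp hmem'))
  · intro hz
    have h3 := h1.mpr (SetLike.coe_subset_coe.mp ((PrimeSpectrum.mem_zeroLocus _ _).mp hz))
    change hU.fromSpec P ∈ (C : Set Y)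
    rw [hC]
    exact h3

/-- Over a valuation ring, the support (with its reduced structure) of a coherent module flat
over the base is flat over the base. -/
theorem flat_support_subscheme {A : Type u} [CommRing A] [IsDomain A] [ValuationRing A]
    {Y : Scheme.{u}} (q : Y ⟶ Spec (CommRingCat.of A)) (G : Y.Modules) (hG : Coh.IsCoh G)
    (hfl : FlatMod.IsFlatOver q G) (C : TopologicalSpace.Closeds Y)
    (hC : (C : Set Y) = CohB1.support G) :
    Flat ((Scheme.IdealSheafData.vanishingIdeal C).subschemeι ≫ q) := by
  haveI : G.IsQuasicoherent := hG.1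
  set I := Scheme.IdealSheafData.vanishingIdeal C with hI
  rw [IsZariskiLocalAtSource.iff_of_openCover (P := @Flat) I.subschemeCover.openCover]
  intro (U : Y.affineOpens)
  have hU : IsAffineOpen U.1 := U.2
  have hcomp : I.subschemeCover.openCover.f U ≫ I.subschemeι ≫ q =
      Spec.map (CommRingCat.ofHom (Ideal.Quotient.mk (I.ideal U))) ≫ hU.fromSpec ≫ q := by
    have h1 : I.subschemeCover.f U ≫ I.subschemeι =
        Spec.map (CommRingCat.ofHom (Ideal.Quotient.mk (I.ideal U))) ≫ hU.fromSpec :=
      (I.subschemeCover_map_subschemeι U).trans (I.glueDataObjι_ι U)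
    exact (Category.assoc _ _ _).symm.trans ((congrArg (· ≫ q) h1).trans (Category.assoc _ _ _))
  rw [hcomp]
  have hV : IsAffineOpen (⊤ : (Spec (CommRingCat.of A)).Opens) := isAffineOpen_top _
  have e : U.1 ≤ q ⁻¹ᵁ ⊤ := le_top
  rw [← IsAffineOpen.SpecMap_appLE_fromSpec q hV hU e, ← Category.assoc, ← Spec.map_comp]
  have hflat : Flat (Spec.map (q.appLE ⊤ U.1 e ≫
      CommRingCat.ofHom (Ideal.Quotient.mk (I.ideal U)))) := by
    rw [HasRingHomProperty.Spec_iff (P := @Flat)]
    let eA : Γ(Spec (CommRingCat.of A), ⊤) ≃+* A :=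
      (Scheme.ΓSpecIso (CommRingCat.of A)).commRingCatIsoToRingEquiv
    haveI : IsDomain Γ(Spec (CommRingCat.of A), ⊤) := eA.injective.isDomain eA.toRingHom
    haveI : ValuationRing Γ(Spec (CommRingCat.of A), ⊤) :=
      Function.Surjective.valuationRing (R := A) eA.symm.toRingHom eA.symm.surjective
    have hM := Groth.Agent.Lib.Helper12.FlatOver.flat_sections_of_isFlatOverAt q G hV hU e
      (fun x => hfl x)
    exact flat_comp_mk_radical_annihilator (M := Γ(G, U.1)) (q.appLE ⊤ U.1 e).hom hM
      (I.ideal U) (vanishingIdeal_support_ideal G hG C hC U)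
  haveI : IsOpenImmersion hV.fromSpec := hV.isOpenImmersion_fromSpec
  haveI : Flat hV.fromSpec := inferInstance
  exact MorphismProperty.comp_mem _ _ _ hflat inferInstance

end Groth.Agent.H76.SuppDim
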