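import Mathlib
import Groth.Prelude
import Groth.Agent.H76.SuppDimFlat
import Groth.Agent.Lib.Helper55.ValuationSpecialize
import Groth.Agent.Lib.Helper55.OpenAtBaseChange
import Groth.Agent.Lib.Helper16.FlatPull.BaseChange
import Groth.Agent.Lib.Helper49.SupportPullback
import Groth.Agent.Lib.Helper1.SupportClosed
import Groth.Agent.Lib.Helper11.SupportTensor

/-!
# Dimension of the support in the fibres of a flat coherent module (helper76)

`dim_support_fiber_le`: for `f : X ⟶ S` locally of finite type, `S` irreducible, `F` quasi-coherent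
of finite type and flat over `S`: `dim (Supp F ∩ X_s) ≤ dim (Supp F ∩ X_η)`.  Proof: base change to a
valuation ring through `η ⤳ s` (helper55), where the reduced support is flat over the base
(`flat_support_subscheme`), then helper23's generization of fibre dimension for flat morphisms.
-/

set_option autoImplicit false
set_option linter.style.haveILetI false
universe u
open AlgebraicGeometry CategoryTheory Limits Topology

namespace Groth.Agent.H76.SuppDim

/-- The reduced closed subscheme on the support of a coherent module. -/
theorem range_subschemeι_vanishingIdeal {X : Scheme.{u}} (C : TopologicalSpace.Closeds X) :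
    Set.range (Scheme.IdealSheafData.vanishingIdeal C).subschemeι = (C : Set X) := by
  rw [Scheme.IdealSheafData.range_subschemeι, Scheme.IdealSheafData.coe_support_vanishingIdeal]

/-- For `F` coherent and flat over the irreducible base `S`, the dimension of the support of `F`
in a fibre is at most the dimension of its support in the generic fibre. -/
theorem dim_support_fiber_le {X S : Scheme.{u}} (f : X ⟶ S) [LocallyOfFiniteType f]
    [IrreducibleSpace ↑S] (F : X.Modules) (hF : Coh.IsCoh F) (hfl : FlatMod.IsFlatOver f F)
    (s : S) :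
    topologicalKrullDim ↑(f ⁻¹' {s} ∩ CohB1.support F) ≤
      topologicalKrullDim ↑(f ⁻¹' {genericPoint ↑S} ∩ CohB1.support F) := by
  haveI : F.IsQuasicoherent := hF.1
  have hcl : IsClosed (CohB1.support F) :=
    Groth.Agent.Lib.Helper1.isClosed_support_of_isFiniteType F hF.2
  set C : TopologicalSpace.Closeds X := ⟨CohB1.support F, hcl⟩ with hC
  set I := Scheme.IdealSheafData.vanishingIdeal C with hI
  set ι := I.subschemeι with hι
  have hrange : Set.range ι = CohB1.support F := range_subschemeι_vanishingIdeal C
  have e1 : ∀ t : S, topologicalKrullDim ↥((ι ≫ f).fiber t) =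
      topologicalKrullDim ↥(f ⁻¹' {t} ∩ CohB1.support F) := fun t => by
    rw [topologicalKrullDim_fiber_comp ι ι.isEmbedding f t, hrange]
  rw [← e1 s, ← e1 (genericPoint ↑S)]
  -- the valuation ring
  obtain ⟨A, _, _, _, g, hgc, hgη⟩ :=
    Groth.Agent.Lib.Helper55.exists_valuationRing_of_specializes
      (genericPoint_specializes s : genericPoint ↑S ⤳ s)
  -- base change of the module
  set p := pullback.fst f g with hp
  set fA := pullback.snd f g with hfA
  set FA := (Scheme.Modules.pullback p).obj F with hFAdef
  haveI hqA : FA.IsQuasicoherent := Groth.Agent.Lib.Helper16.FlatPull.isQuasicoherent_pullback p F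
  have hFA : Coh.IsCoh FA :=
    ⟨hqA, Groth.Agent.Lib.Helper11.SupportTensor.isFiniteType_pullback_of_isFiniteType p F hF.2⟩
  have hflA : FlatMod.IsFlatOver fA FA := fun x' =>
    Groth.Agent.Lib.Helper16.FlatPull.isFlatOverAt_baseChange f fA p g
      (IsPullback.of_hasPullback f g) F x' (hfl _)
  have hsuppA : CohB1.support FA = p ⁻¹' CohB1.support F :=
    Groth.Agent.Lib.Helper49.SupportPullback.support_pullback p F hF.2
  have hclA : IsClosed (CohB1.support FA) :=
    Groth.Agent.Lib.Helper1.isClosed_support_of_isFiniteType FA hFA.2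
  set CA : TopologicalSpace.Closeds ↥(pullback f g) := ⟨CohB1.support FA, hclA⟩ with hCA
  set IA := Scheme.IdealSheafData.vanishingIdeal CA with hIA
  set j := IA.subschemeι with hj
  have hrangeA : Set.range j = CohB1.support FA := range_subschemeι_vanishingIdeal CA
  haveI : Flat (j ≫ fA) := flat_support_subscheme fA FA hFA hflA CA rfl
  haveI : LocallyOfFiniteType fA := MorphismProperty.pullback_snd (P := @LocallyOfFiniteType) _ _ ‹_›
  haveI : LocallyOfFiniteType (j ≫ fA) := inferInstance
  have hle := topologicalKrullDim_fiber_le_generic_of_flat (j ≫ fA) (IsLocalRing.closedPoint A)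
  -- the pullback of the support
  set ιA := pullback.snd ι p with hιA
  have hpb : IsPullback (pullback.fst ι p) (ιA ≫ fA) (ι ≫ f) g :=
    (IsPullback.of_hasPullback ι p).paste_vert (IsPullback.of_hasPullback f g)
  have hrangeιA : Set.range ιA = CohB1.support FA := by
    rw [hsuppA, ← hrange]
    exact Scheme.Pullback.range_snd ι p
  have e2 : ∀ a, topologicalKrullDim ↥((ιA ≫ fA).fiber a) =
      topologicalKrullDim ↥((ι ≫ f).fiber (g a)) := fun a =>
    Groth.Agent.Lib.Helper55.topologicalKrullDim_fiber_eq_of_isPullback (ι ≫ f) g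
      (pullback.fst ι p) (ιA ≫ fA) hpb a
  have e3 : ∀ a, topologicalKrullDim ↥((ιA ≫ fA).fiber a) =
      topologicalKrullDim ↥((j ≫ fA).fiber a) := fun a => by
    rw [topologicalKrullDim_fiber_comp ιA ιA.isEmbedding fA a,
      topologicalKrullDim_fiber_comp j j.isEmbedding fA a, hrangeιA, hrangeA]
  calc topologicalKrullDim ↥((ι ≫ f).fiber s)
      = topologicalKrullDim ↥((ι ≫ f).fiber (g (IsLocalRing.closedPoint A))) := by rw [hgc]
    _ = topologicalKrullDim ↥((ιA ≫ fA).fiber (IsLocalRing.closedPoint A)) := (e2 _).symm
    _ = topologicalKrullDim ↥((j ≫ fA).fiber (IsLocalRing.closedPoint A)) := e3 _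
    _ ≤ topologicalKrullDim ↥((j ≫ fA).fiber (genericPoint ↥(Spec (CommRingCat.of A)))) := hle
    _ = topologicalKrullDim ↥((ιA ≫ fA).fiber (genericPoint ↥(Spec (CommRingCat.of A)))) :=
        (e3 _).symm
    _ = topologicalKrullDim ↥((ι ≫ f).fiber (g (genericPoint ↥(Spec (CommRingCat.of A))))) := e2 _
    _ = topologicalKrullDim ↥((ι ≫ f).fiber (genericPoint ↑S)) := by rw [hgη]

end Groth.Agent.H76.SuppDim
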