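/-
helper76: on a locally integral locally Noetherian scheme, a quasi-coherent module is torsion-free
iff all its associated points are maximal points.
-/
import Mathlib
import Groth.Prelude
import Groth.Agent.Lib.Helper80.AssSpecialize
import Groth.Agent.Lib.Helper55.ChartResidue

set_option autoImplicit false
universe u
open AlgebraicGeometry CategoryTheory TopologicalSpace

namespace Groth.Agent.H76.AssGen

open Groth.Agent.Lib.Helper45

attribute [local instance] stalkModuleSections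

variable {Y : Scheme.{u}} [IsLocallyNoetherian Y] (G : Y.Modules) [G.IsQuasicoherent]

theorem ass_maximal_of_torsion_eq_bot (hint : ∀ x : Y, IsDomain (Y.presheaf.stalk x))
    (h : ∀ x : Y, Submodule.torsion (Y.presheaf.stalk x) (G.presheaf.stalk x) = ⊥) :
    ∀ z ∈ AssSch.Ass G, ∀ y : Y, y ⤳ z → y = z := by
  intro z hz y hyz
  haveI := hint z
  obtain ⟨-, m, hm⟩ := (hz : Curv2.IsAssPoint G z)
  have hmax : IsLocalRing.maximalIdeal (Y.presheaf.stalk z) = ⊥ := by
    rw [eq_bot_iff]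
    intro r hr
    rw [Submodule.mem_bot]
    by_contra hr0
    have hr' := hr
    rw [hm] at hr'
    obtain ⟨k, hk⟩ := hr'
    rw [Submodule.mem_colon_singleton, Submodule.mem_bot] at hk
    have hrk : r ^ k ∈ nonZeroDivisors (Y.presheaf.stalk z) :=
      mem_nonZeroDivisors_of_ne_zero (pow_ne_zero k hr0)
    have hmt : m ∈ Submodule.torsion (Y.presheaf.stalk z) (G.presheaf.stalk z) :=
      (Submodule.mem_torsion_iff m).mpr ⟨⟨r ^ k, hrk⟩, hk⟩
    rw [h z, Submodule.mem_bot] at hmt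
    have htop : IsLocalRing.maximalIdeal (Y.presheaf.stalk z) = ⊤ := by
      rw [hm, hmt, Ideal.radical_eq_top]
      rw [Ideal.eq_top_iff_one, Submodule.mem_colon_singleton, smul_zero]
      exact Submodule.zero_mem _
    exact (IsLocalRing.maximalIdeal.isMaximal _).ne_top htop
  have hfield : IsField (Y.presheaf.stalk z) := IsLocalRing.isField_iff_maximalIdeal_eq.mpr hmax
  have hy : y ∈ Set.range (Y.fromSpecStalk z) := by
    rw [Scheme.range_fromSpecStalk]
    exact hyz
  obtain ⟨p, rfl⟩ := hy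
  letI := hfield.toField
  haveI : Subsingleton ↥(Spec (Y.presheaf.stalk z)) :=
    (inferInstance : Subsingleton (PrimeSpectrum (Y.presheaf.stalk z)))
  rw [Subsingleton.elim p (IsLocalRing.closedPoint _)]
  exact Scheme.fromSpecStalk_closedPoint

theorem torsion_eq_bot_of_ass_maximal (hint : ∀ x : Y, IsDomain (Y.presheaf.stalk x))
    (h : ∀ z ∈ AssSch.Ass G, ∀ y : Y, y ⤳ z → y = z) (x : Y) :
    Submodule.torsion (Y.presheaf.stalk x) (G.presheaf.stalk x) = ⊥ := by
  haveI := hint x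
  rw [eq_bot_iff]
  intro m hm
  rw [Submodule.mem_bot]
  by_contra hne
  obtain ⟨a, ha⟩ := (Submodule.mem_torsion_iff m).mp hm
  haveI : IsNoetherianRing (Y.presheaf.stalk x) := inferInstance
  obtain ⟨P, hP, hle⟩ := exists_le_isAssociatedPrime_of_isNoetherianRing
    (R := Y.presheaf.stalk x) m hne
  have haP : (a : Y.presheaf.stalk x) ∈ P := by
    apply hle
    rw [Submodule.mem_colon_singleton, Submodule.mem_bot]
    exact ha
  obtain ⟨_, ⟨W, hW : IsAffineOpen W, rfl⟩, hxW, -⟩ :=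
    Y.isBasis_affineOpens.exists_subset_of_mem_open (Set.mem_univ x) isOpen_univ
  have : IsNoetherianRing Γ(Y, W) := IsLocallyNoetherian.component_noetherian ⟨W, hW⟩
  obtain ⟨x', rfl⟩ : ∃ x' : W, (x' : Y) = x := ⟨⟨x, hxW⟩, rfl⟩
  have l3 := hW.isLocalization_stalk x'
  have l4 := isLocalizedModule_germₗ hW G x'
  haveI hPprime : P.IsPrime := hP.1
  have h1 : P.comap (algebraMap Γ(Y, W) (Y.presheaf.stalk (x' : Y))) ∈
      associatedPrimes Γ(Y, W) Γ(G, W) :=
    Module.associatedPrimes.comap_mem_associatedPrimes_of_mem_associatedPrimes_of_isLocalizedModule_of_fg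
      (hW.primeIdealOf x').asIdeal.primeCompl (germₗ G x') _ hP
      ((isNoetherianRing_iff_ideal_fg Γ(Y, W)).mp inferInstance _)
  set P' := P.comap (algebraMap Γ(Y, W) (Y.presheaf.stalk (x' : Y))) with hP'
  haveI hP'prime : P'.IsPrime := Ideal.comap_isPrime _ _
  obtain ⟨z, hzW, hz⟩ := Groth.Agent.Lib.Helper55.exists_primeIdealOf_eq hW ⟨P', hP'prime⟩
  have hzP' : (hW.primeIdealOf ⟨z, hzW⟩).asIdeal = P' := by rw [hz]
  -- `z` is an associated point
  obtain ⟨z', rfl⟩ : ∃ z' : W, (z' : Y) = z := ⟨⟨z, hzW⟩, rfl⟩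
  have l1 := hW.isLocalization_stalk z'
  have l2 := isLocalizedModule_germₗ hW G z'
  have hcm : (IsLocalRing.maximalIdeal (Y.presheaf.stalk (z' : Y))).comap
      (algebraMap Γ(Y, W) (Y.presheaf.stalk (z' : Y))) = (hW.primeIdealOf z').asIdeal :=
    IsLocalization.AtPrime.comap_maximalIdeal (Y.presheaf.stalk (z' : Y))
      (hW.primeIdealOf z').asIdeal
  have hzass : (z' : Y) ∈ AssSch.Ass G := by
    have h2 : (IsLocalRing.maximalIdeal (Y.presheaf.stalk (z' : Y))).comap
        (algebraMap Γ(Y, W) (Y.presheaf.stalk (z' : Y))) ∈ associatedPrimes Γ(Y, W) Γ(G, W) := by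
      rw [hcm, hzP']
      exact h1
    exact Module.associatedPrimes.mem_associatedPrimes_of_comap_mem_associatedPrimes_of_isLocalizedModule
      (hW.primeIdealOf z').asIdeal.primeCompl (germₗ G z') _ h2
  -- the generic point of the local ring
  set Q₀ := (⊥ : Ideal (Y.presheaf.stalk (x' : Y))).comap
    (algebraMap Γ(Y, W) (Y.presheaf.stalk (x' : Y))) with hQ₀
  haveI hQ₀prime : Q₀.IsPrime := Ideal.comap_isPrime _ _
  obtain ⟨y, hyW, hy⟩ := Groth.Agent.Lib.Helper55.exists_primeIdealOf_eq hW ⟨Q₀, hQ₀prime⟩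
  have hyQ₀ : (hW.primeIdealOf ⟨y, hyW⟩).asIdeal = Q₀ := by rw [hy]
  have hQP : Q₀ ≤ P' := Ideal.comap_mono bot_le
  have hyz : y ⤳ (z' : Y) := by
    rw [← Groth.Agent.Lib.Helper55.primeIdealOf_le_iff_specializes hW y (z' : Y) hyW z'.2, hyQ₀]
    exact hQP.trans (le_of_eq hzP'.symm)
  have hyz' : y = (z' : Y) := h _ hzass y hyz
  have hQP' : Q₀ = P' := by
    rw [← hyQ₀, ← hzP']
    congr 3
  have e1 := IsLocalization.map_under (hW.primeIdealOf x').asIdeal.primeCompl
    (Y.presheaf.stalk (x' : Y)) P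
  have e2 := IsLocalization.map_under (hW.primeIdealOf x').asIdeal.primeCompl
    (Y.presheaf.stalk (x' : Y)) (⊥ : Ideal (Y.presheaf.stalk (x' : Y)))
  have e3 : Ideal.under Γ(Y, W) P =
      Ideal.under Γ(Y, W) (⊥ : Ideal (Y.presheaf.stalk (x' : Y))) := hQP'.symm
  have hPbot : P = ⊥ := by
    rw [← e1, e3, e2]
  rw [hPbot, Submodule.mem_bot] at haP
  exact nonZeroDivisors.ne_zero a.2 haP

end Groth.Agent.H76.AssGen
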