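/-
helper76: the property "every associated point is a maximal point" is invariant under extension
of the base field.
-/
import Mathlib
import Groth.Prelude
import Groth.Agent.H76.AssDimField2

set_option autoImplicit false
universe u
open AlgebraicGeometry CategoryTheory TopologicalSpace Limits

namespace Groth.Agent.H76.AssGen

open Groth.Agent.Lib.Helper97.AssFibre Groth.Agent.Lib.Helper23

section Field

variable {Y Y' T T' : Scheme.{u}} (g : Y ⟶ T) (g' : Y' ⟶ T') (e : Y' ⟶ Y) (h : T' ⟶ T)
  [IsIntegral T] [Subsingleton T] [IsIntegral T'] [Subsingleton T'] [LocallyOfFiniteType g]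

include g g' h in
/-- "Every associated point is a maximal point" is invariant under extension of the base
field. -/
theorem assMax_iff_of_isPullback_field (hpb : IsPullback e g' g h) (F : Y.Modules)
    [F.IsQuasicoherent] :
    (∀ z ∈ AssSch.Ass F, ∀ y : Y, y ⤳ z → y = z) ↔
      (∀ z' ∈ AssSch.Ass ((Scheme.Modules.pullback e).obj F), ∀ y' : Y', y' ⤳ z' → y' = z') := by
  obtain ⟨hY, hY', hfl, hsurj, hfib, -⟩ := field_core g g' e h hpb
  constructor
  · intro H z' hz' y' hy'
    obtain ⟨h1, h2⟩ := (isAssPoint_pullback_iff_of_flat e F z').mp hz'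
    have h3 : e y' = e z' := H (e z') h1 (e y') (hy'.map e.continuous)
    exact eq_of_specializes_of_fibAssRingAt e hfib z' h2 y' hy' h3
  · intro H z hz y hy
    obtain ⟨w₁, rfl⟩ := e.surjective z
    obtain ⟨w₀, hw₀, -, hπ⟩ := exists_fibAssRingAt_specializes e w₁
    have hw₀ass : w₀ ∈ AssSch.Ass ((Scheme.Modules.pullback e).obj F) :=
      (isAssPoint_pullback_iff_of_flat e F w₀).mpr ⟨by rw [hπ]; exact hz, hw₀⟩
    rw [← hπ] at hy ⊢
    obtain ⟨y', hy'w₀, hey'⟩ := (Flat.generalizingMap e) hy
    rw [← hey', H w₀ hw₀ass y' hy'w₀]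

end Field

end Groth.Agent.H76.AssGen
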