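/-
helper76: generic dichotomy for the property "every associated point of the fibre is a maximal
point of the fibre".
-/
import Mathlib
import Groth.Prelude
import Groth.Agent.H76.AssMax
import Groth.Agent.H76.AssDimSch
import Groth.Agent.H76.AssGenFib

set_option autoImplicit false
universe u
open AlgebraicGeometry CategoryTheory TopologicalSpace

namespace Groth.Agent.H76.AssGen

open Groth.Agent.Lib.Helper97.AssFibre

/-- Every point of the relative assassin over `s` is a maximal point of the fibre over `s`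
(expressed on the total space). -/
def AssMaxFib {X S : Scheme.{u}} (f : X ⟶ S) (F : X.Modules) (s : S) : Prop :=
  ∀ z ∈ MoreMor.relAss f F, f z = s → ∀ y : X, y ⤳ z → f y = s → y = z

theorem assMaxFib_iff {X S : Scheme.{u}} (f : X ⟶ S) (F : X.Modules) [F.IsQuasicoherent] (s : S) :
    (∀ z ∈ AssSch.Ass ((Scheme.Modules.pullback (f.fiberι s)).obj F),
        ∀ y : ↥(f.fiber s), y ⤳ z → y = z) ↔ AssMaxFib f F s := by
  constructor
  · intro H z hz hfz y hyz hfy
    obtain ⟨z₀, rfl⟩ := exists_fiberι_eq f s z hfz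
    obtain ⟨y₀, rfl⟩ := exists_fiberι_eq f s y hfy
    have h1 : y₀ ⤳ z₀ := (f.fiberι s).isEmbedding.isInducing.specializes_iff.mp hyz
    rw [H z₀ ((isAssPoint_fiber_iff_mem_relAss f F s z₀).mpr hz) y₀ h1]
  · intro H z hz y hyz
    have h1 := H (f.fiberι s z) ((isAssPoint_fiber_iff_mem_relAss f F s z).mp hz)
      (apply_fiberι' f s z) (f.fiberι s y) (hyz.map (f.fiberι s).continuous) (apply_fiberι' f s y)
    exact (f.fiberι s).isEmbedding.injective h1

section Global

variable {X S : Scheme.{u}} [IsIntegral S] [IsNoetherian S] (f : X ⟶ S) [LocallyOfFiniteType f]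
  [QuasiCompact f] (F : X.Modules) [F.IsQuasicoherent]

/-- Near the generic point, "every associated point of the fibre is a maximal point of the fibre"
holds if and only if it holds at the generic point. -/
theorem generic_assMaxFib (hF : Coh.IsCoh F) :
    ∃ U : S.Opens, genericPoint S ∈ U ∧ ∀ s ∈ U,
      (AssMaxFib f F s ↔ AssMaxFib f F (genericPoint S)) := by
  classical
  obtain ⟨U₁, hU₁, kpk⟩ := generic_relPkg f F hF
  by_cases hgen : AssMaxFib f F (genericPoint S)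
  · obtain ⟨U₂, hU₂, kmax⟩ := generic_max f
    refine ⟨U₁ ⊓ U₂, ⟨hU₁, hU₂⟩, fun s hs => ⟨fun _ => hgen, fun _ => ?_⟩⟩
    intro z hz hfz y hyz hfy
    obtain ⟨x, hx, hfx, hmin⟩ := (kpk z (by rw [hfz]; exact hs.1)).1 hz
    have hxmax : ∀ w : X, w ⤳ x → w = x := by
      intro w hw
      have h1 : f w ⤳ genericPoint S := hfx ▸ hw.map f.continuous
      have h2 : f w = genericPoint S := (h1.antisymm (genericPoint_specializes _)).eq
      exact hgen x hx hfx w hw h2
    exact kmax x hxmax hfx z (by rw [hfz]; exact hs.2) hmin y hyz (by rw [hfy, hfz])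
  · have hgen' := hgen
    unfold AssMaxFib at hgen'
    push Not at hgen'
    obtain ⟨x, hx, hfx, y, hyx, hfy, hne⟩ := hgen'
    have hn : ¬ x ⤳ y := fun hxy => hne (hyx.antisymm hxy).eq
    obtain ⟨U₂, hU₂, kdim⟩ := generic_dim f F hF
    obtain ⟨U₃, hU₃, ksep⟩ := generic_sep_pair f y x hfy hn
    refine ⟨U₁ ⊓ U₂ ⊓ U₃, ⟨⟨hU₁, hU₂⟩, hU₃⟩, fun s hs => ⟨fun H => ?_, fun H => absurd H hgen⟩⟩
    exfalso
    obtain ⟨z₀, hfz₀, hxz₀⟩ := (kdim x hx hfx).2 s hs.1.2
    obtain ⟨z₁, hmin₁, -, hfz₁⟩ := exists_minPt f x z₀ hxz₀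
    have hfz₁s : f z₁ = s := by rw [hfz₁, hfz₀]
    have hz₁ : z₁ ∈ MoreMor.relAss f F :=
      (kpk z₁ (by rw [hfz₁s]; exact hs.1.1)).2.1 x hx hfx hmin₁
    obtain ⟨z₂, hmin₂, hz₂z₁, hfz₂⟩ := exists_minPt f y z₁ (hyx.trans hmin₁.1)
    have hfz₂s : f z₂ = s := by rw [hfz₂, hfz₁s]
    have h3 : z₂ = z₁ := H z₁ hz₁ hfz₁s z₂ hz₂z₁ hfz₂s
    exact ksep z₂ (by rw [hfz₂s]; exact hs.2) hmin₂ (h3 ▸ hmin₁.1)

end Global

end Groth.Agent.H76.AssGen
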