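import Mathlib
import Groth.Agent.H76.FlatModel
import Groth.Agent.Lib.Helper48.UnramifiedModel

/-!
# Finite type `ℤ`-models of G-unramified algebras (helper76)
-/

set_option autoImplicit false
universe u

open TensorProduct Groth.Agent.H76.FlatDescentLocal Groth.Agent.H76.FlatModel

namespace Groth.Agent.H76.UnramModel

attribute [local instance] MvPolynomial.algebraMvPolynomial

section Aux

variable {R₀ R S₀ S : Type u} [CommRing R₀] [CommRing R] [CommRing S₀] [CommRing S]
  [Algebra R₀ R] [Algebra R S] [Algebra R₀ S] [IsScalarTower R₀ R S] {n r : ℕ}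
  [Algebra (MvPolynomial (Fin n) R) S] [IsScalarTower R (MvPolynomial (Fin n) R) S]
  [Algebra R₀ S₀] [Algebra (MvPolynomial (Fin n) R₀) S₀]
  [IsScalarTower R₀ (MvPolynomial (Fin n) R₀) S₀]

/-- The comparison algebra structure `S₀ → S` and the pushout property. -/
theorem exists_algebra_isPushout
    (hsurj : Function.Surjective (algebraMap (MvPolynomial (Fin n) R) S))
    (hsurj₀ : Function.Surjective (algebraMap (MvPolynomial (Fin n) R₀) S₀))
    (f₀ : Fin r → MvPolynomial (Fin n) R₀)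
    (hker : RingHom.ker (algebraMap (MvPolynomial (Fin n) R) S) =
      Ideal.span (Set.range fun k => MvPolynomial.map (algebraMap R₀ R) (f₀ k)))
    (hker₀ : RingHom.ker (algebraMap (MvPolynomial (Fin n) R₀) S₀) = Ideal.span (Set.range f₀)) :
    ∃ (_ : Algebra S₀ S) (_ : IsScalarTower R₀ S₀ S), Algebra.IsPushout R₀ R S₀ S := by
  classical
  let ψ : MvPolynomial (Fin n) R₀ →+* S :=
    (algebraMap (MvPolynomial (Fin n) R) S).comp (MvPolynomial.map (algebraMap R₀ R))
  have hψ : RingHom.ker (algebraMap (MvPolynomial (Fin n) R₀) S₀) ≤ RingHom.ker ψ := by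
    rw [hker₀, Ideal.span_le]
    rintro _ ⟨k, rfl⟩
    show algebraMap (MvPolynomial (Fin n) R) S
      (MvPolynomial.map (algebraMap R₀ R) (f₀ k)) = 0
    rw [← RingHom.mem_ker, hker]
    exact Ideal.subset_span ⟨k, rfl⟩
  let φ : S₀ →+* S := RingHom.liftOfSurjective (algebraMap (MvPolynomial (Fin n) R₀) S₀) hsurj₀
    ⟨ψ, hψ⟩
  have hφ : ∀ p, φ (algebraMap (MvPolynomial (Fin n) R₀) S₀ p) = ψ p := fun p =>
    RingHom.liftOfSurjective_comp_apply _ hsurj₀ ⟨ψ, hψ⟩ p
  letI algS₀S : Algebra S₀ S := φ.toAlgebra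
  have hC : ∀ x : R₀, ψ (MvPolynomial.C x) = algebraMap R₀ S x := by
    intro x
    simp only [ψ, RingHom.coe_comp, Function.comp_apply, MvPolynomial.map_C]
    rw [IsScalarTower.algebraMap_apply R₀ R S,
      IsScalarTower.algebraMap_apply R (MvPolynomial (Fin n) R) S]
    rfl
  haveI towR₀S₀S : IsScalarTower R₀ S₀ S := by
    refine IsScalarTower.of_algebraMap_eq (fun x => ?_)
    rw [IsScalarTower.algebraMap_apply R₀ (MvPolynomial (Fin n) R₀) S₀]
    show _ = φ _
    rw [MvPolynomial.algebraMap_eq, hφ, hC]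
  exact ⟨algS₀S, towR₀S₀S, isPushout_quotient hsurj hsurj₀ f₀ hker hker₀ (fun p => hφ p)⟩

end Aux

section Core

variable {R₀ R S : Type u} [CommRing R₀] [CommRing R] [CommRing S]
  [Algebra R₀ R] [Algebra R S] [Algebra R₀ S] [IsScalarTower R₀ R S] {n m : ℕ}

/-- Core construction: once generators of the kernel and the Jacobian-type certificates are
defined over `R₀ ⊆ R`, the quotient of `R₀[x]` is a G-unramified model. -/
theorem exists_model_of_lifts (hinj : Function.Injective (algebraMap R₀ R))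
    (φ : MvPolynomial (Fin n) R →ₐ[R] S) (hφ : Function.Surjective φ)
    (g₀ : Fin m → MvPolynomial (Fin n) R₀)
    (hg : RingHom.ker φ.toRingHom =
      Ideal.span (Set.range fun j => MvPolynomial.map (algebraMap R₀ R) (g₀ j)))
    (a₀ : Fin n → Fin m → MvPolynomial (Fin n) R₀)
    (b₀ : Fin n → Fin n → Fin m → MvPolynomial (Fin n) R₀)
    (hb : ∀ k l, ∑ j, b₀ k l j * g₀ j =
      MvPolynomial.pderiv l (∑ j, a₀ k j * g₀ j) - if k = l then 1 else 0) :
    ∃ (S₀ : Type u) (_ : CommRing S₀) (_ : Algebra R₀ S₀) (_ : Algebra.FinitePresentation R₀ S₀)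
      (_ : Algebra.FormallyUnramified R₀ S₀), Nonempty (R ⊗[R₀] S₀ ≃ₐ[R] S) := by
  classical
  -- abstract the quotient
  obtain ⟨S₀, _, _, π, hπ, hkerπ⟩ : ∃ (S₀ : Type u) (_ : CommRing S₀) (_ : Algebra R₀ S₀)
      (π : MvPolynomial (Fin n) R₀ →ₐ[R₀] S₀), Function.Surjective π ∧
        RingHom.ker π.toRingHom = Ideal.span (Set.range g₀) :=
    ⟨MvPolynomial (Fin n) R₀ ⧸ Ideal.span (Set.range g₀), inferInstance, inferInstance,
      Ideal.Quotient.mkₐ R₀ _, Ideal.Quotient.mkₐ_surjective R₀ _, Ideal.Quotient.mkₐ_ker R₀ _⟩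
  have hπg : ∀ j, π (g₀ j) = 0 := fun j => by
    have : g₀ j ∈ RingHom.ker π.toRingHom := by
      rw [hkerπ]; exact Ideal.subset_span ⟨j, rfl⟩
    exact this
  have hfp : Algebra.FinitePresentation R₀ S₀ := by
    refine Algebra.FinitePresentation.of_surjective hπ ?_
    rw [hkerπ]
    exact Submodule.fg_span (Set.finite_range g₀)
  have hunr : Algebra.FormallyUnramified R₀ S₀ := by
    refine Groth.Agent.Lib.Helper48.formallyUnramified_of_pderiv π hπ
      (fun k => ∑ j, a₀ k j * g₀ j) (fun k => ?_) (fun k l => ?_)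
    · rw [map_sum]
      refine Finset.sum_eq_zero fun j _ => ?_
      rw [map_mul, hπg, mul_zero]
    · have h1 := congrArg π (hb k l)
      rw [map_sum, map_sub] at h1
      have h2 : ∑ j, π (b₀ k l j * g₀ j) = 0 :=
        Finset.sum_eq_zero fun j _ => by rw [map_mul, hπg, mul_zero]
      rw [h2] at h1
      have h3 := sub_eq_zero.mp h1.symm
      rw [h3]
      split_ifs <;> simp
  refine ⟨S₀, _, _, hfp, hunr, ?_⟩
  letI : Algebra (MvPolynomial (Fin n) R) S := φ.toRingHom.toAlgebra
  haveI : IsScalarTower R (MvPolynomial (Fin n) R) S :=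
    IsScalarTower.of_algebraMap_eq fun r => (φ.commutes r).symm
  letI : Algebra (MvPolynomial (Fin n) R₀) S₀ := π.toRingHom.toAlgebra
  haveI : IsScalarTower R₀ (MvPolynomial (Fin n) R₀) S₀ :=
    IsScalarTower.of_algebraMap_eq fun r => (π.commutes r).symm
  obtain ⟨_, _, hpo⟩ := exists_algebra_isPushout (R₀ := R₀) (R := R) (S₀ := S₀) (S := S)
    (n := n) (r := m) hφ hπ g₀ hg hkerπ
  exact ⟨Algebra.IsPushout.equiv R₀ R S₀ S⟩

end Core

section Main

variable (R S : Type u) [CommRing R] [CommRing S] [Algebra R S]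

/-- A G-unramified algebra descends to a finite type `ℤ`-algebra. -/
theorem exists_unram_model [Algebra.FinitePresentation R S] [Algebra.FormallyUnramified R S] :
    ∃ (R₀ : Type u) (_ : CommRing R₀) (_ : Algebra.FiniteType ℤ R₀) (S₀ : Type u)
      (_ : CommRing S₀) (_ : Algebra R₀ S₀) (_ : Algebra.FinitePresentation R₀ S₀)
      (_ : Algebra.FormallyUnramified R₀ S₀) (_ : Algebra R₀ R),
      Nonempty (R ⊗[R₀] S₀ ≃ₐ[R] S) := by
  classical
  obtain ⟨n, φ, hφ, hfg⟩ := Algebra.FinitePresentation.out (R := R) (A := S)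
  obtain ⟨m, g, hg⟩ := Submodule.fg_iff_exists_fin_generating_family.mp hfg
  obtain ⟨f, hf, he⟩ := Groth.Agent.Lib.Helper48.exists_pderiv_of_formallyUnramified φ hφ
  have hg' : Ideal.span (Set.range g) = RingHom.ker φ.toRingHom := hg
  have ha : ∀ k, ∃ a : Fin m → MvPolynomial (Fin n) R, ∑ j, a j * g j = f k := fun k => by
    apply Ideal.mem_span_range_iff_exists_fun.mp
    rw [hg']
    exact hf k
  choose a ha using ha
  have hb : ∀ k l, ∃ b : Fin m → MvPolynomial (Fin n) R,
      ∑ j, b j * g j = MvPolynomial.pderiv l (f k) - if k = l then 1 else 0 := fun k l => by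
    apply Ideal.mem_span_range_iff_exists_fun.mp
    rw [hg']
    show φ _ = 0
    rw [map_sub, he]
    split_ifs <;> simp
  choose b hb using hb
  -- the finite set of coefficients
  obtain ⟨t, htg, hta, htb⟩ : ∃ t : Finset R, (∀ j, (g j).coeffs ⊆ t) ∧
      (∀ k j, (a k j).coeffs ⊆ t) ∧ (∀ k l j, (b k l j).coeffs ⊆ t) := by
    refine ⟨(Finset.univ.biUnion fun j => (g j).coeffs) ∪
      (Finset.univ.biUnion fun kj : Fin n × Fin m => (a kj.1 kj.2).coeffs) ∪
      (Finset.univ.biUnion fun klj : Fin n × Fin n × Fin m =>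
        (b klj.1 klj.2.1 klj.2.2).coeffs), fun j x hx => ?_, fun k j x hx => ?_,
        fun k l j x hx => ?_⟩
    · exact Finset.mem_union_left _ (Finset.mem_union_left _
        (Finset.mem_biUnion.mpr ⟨j, Finset.mem_univ _, hx⟩))
    · exact Finset.mem_union_left _ (Finset.mem_union_right _
        (Finset.mem_biUnion.mpr ⟨(k, j), Finset.mem_univ _, hx⟩))
    · exact Finset.mem_union_right _
        (Finset.mem_biUnion.mpr ⟨(k, l, j), Finset.mem_univ _, hx⟩)
  have hg₀ := fun j => exists_map_eq t (g j) (htg j)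
  choose g₀ hg₀ using hg₀
  have ha₀ := fun k j => exists_map_eq t (a k j) (hta k j)
  choose a₀ ha₀ using ha₀
  have hb₀ := fun k l j => exists_map_eq t (b k l j) (htb k l j)
  choose b₀ hb₀ using hb₀
  have hinj : Function.Injective (algebraMap (Stg t) R) := algebraMap_stg_injective t
  have hminj : Function.Injective (MvPolynomial.map (σ := Fin n) (algebraMap (Stg t) R)) :=
    MvPolynomial.map_injective _ hinj
  have hker : RingHom.ker φ.toRingHom =
      Ideal.span (Set.range fun j => MvPolynomial.map (algebraMap (Stg t) R) (g₀ j)) := by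
    rw [← hg']
    congr 2
    funext j
    exact (hg₀ j).symm
  have hbb : ∀ k l, ∑ j, b₀ k l j * g₀ j =
      MvPolynomial.pderiv l (∑ j, a₀ k j * g₀ j) - if k = l then 1 else 0 := by
    intro k l
    apply hminj
    rw [map_sub, ← MvPolynomial.pderiv_map, map_sum, map_sum]
    simp only [map_mul, hg₀, ha₀, hb₀]
    rw [hb, ha]
    split_ifs <;> simp
  obtain ⟨S₀, _, _, hfp, hunr, hiso⟩ := exists_model_of_lifts (R₀ := Stg t) (R := R) (S := S)
    hinj φ hφ g₀ hker a₀ b₀ hbb
  exact ⟨Stg t, inferInstance, inferInstance, S₀, _, _, hfp, hunr, inferInstance, hiso⟩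

end Main

end Groth.Agent.H76.UnramModel
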