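import Mathlib
import Groth.Agent.H76.MilnorEtale

/-!
# Valuation rings as fibre products, and étaleness composed from a prime (helper76)

For a valuation ring `A` and a prime `p`, `A = A/p ×_{κ(p)} A_p` is a Milnor square.  If `B` is a
domain over `A`, `P` a prime of `B` over `p` with `B_P = B ⊗_A A_p`, and both `A_p → B_P` and
`A/p → B/P` are étale, then `A → B` is étale.
-/

set_option autoImplicit false
universe u

open TensorProduct

namespace Groth.Agent.H76.ValMilnor

section ValRing

variable {A : Type u} [CommRing A] [IsDomain A] [ValuationRing A] (p : Ideal A) [p.IsPrime]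

theorem exists_eq_mul_of_mem {a t : A} (ha : a ∈ p) (ht : t ∉ p) : ∃ c ∈ p, a = t * c := by
  rcases ValuationRing.dvd_total a t with h | h
  · exact absurd (Ideal.mem_of_dvd p h ha) ht
  · obtain ⟨c, rfl⟩ := h
    exact ⟨c, (Ideal.IsPrime.mem_or_mem inferInstance ha).resolve_left ht, rfl⟩

theorem exists_algebraMap_eq_of_mem_maximalIdeal (y : Localization.AtPrime p)
    (hy : y ∈ IsLocalRing.maximalIdeal (Localization.AtPrime p)) :
    ∃ c ∈ p, algebraMap A (Localization.AtPrime p) c = y := by
  obtain ⟨a, s, rfl⟩ := IsLocalization.exists_mk'_eq p.primeCompl y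
  rw [IsLocalization.AtPrime.mk'_mem_maximal_iff (Localization.AtPrime p) p] at hy
  obtain ⟨c, hc, rfl⟩ := exists_eq_mul_of_mem p hy s.2
  refine ⟨c, hc, ?_⟩
  rw [eq_comm, IsLocalization.mk'_eq_iff_eq_mul, map_mul, mul_comm]

theorem isFibreSquare :
    EtMil.IsFibreSquare A (A ⧸ p) (Localization.AtPrime p) p.ResidueField := by
  refine ⟨IsLocalRing.residue_surjective, ?_⟩
  intro b a' h
  obtain ⟨b₀, rfl⟩ := Ideal.Quotient.mk_surjective b
  have h1 : algebraMap (A ⧸ p) p.ResidueField (Ideal.Quotient.mk p b₀) =
      algebraMap (Localization.AtPrime p) p.ResidueField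
        (algebraMap A (Localization.AtPrime p) b₀) := by
    rw [← IsScalarTower.algebraMap_apply, ← Ideal.Quotient.algebraMap_eq,
      ← IsScalarTower.algebraMap_apply]
  have h2 : a' - algebraMap A (Localization.AtPrime p) b₀ ∈
      IsLocalRing.maximalIdeal (Localization.AtPrime p) := by
    rw [← IsLocalRing.residue_eq_zero_iff, map_sub, sub_eq_zero]
    rw [h1] at h
    exact h.symm
  obtain ⟨c, hc, hc'⟩ := exists_algebraMap_eq_of_mem_maximalIdeal p _ h2
  refine ⟨b₀ + c, ⟨?_, ?_⟩, ?_⟩
  · rw [← Ideal.Quotient.algebraMap_eq, map_add, Ideal.Quotient.algebraMap_eq,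
      Ideal.Quotient.eq_zero_iff_mem.mpr hc, add_zero]
  · rw [map_add, hc']; ring
  · rintro x ⟨-, hx⟩
    apply IsLocalization.injective (Localization.AtPrime p) (Ideal.primeCompl_le_nonZeroDivisors p)
    rw [hx, map_add, hc']; ring

end ValRing

section Main

variable {A B : Type u} [CommRing A] [IsDomain A] [ValuationRing A] [CommRing B] [IsDomain B]
  [Algebra A B]

theorem exists_eq_mul_of_mem_map (p : Ideal A) [p.IsPrime] {t : A} (ht : t ∉ p) (y : B)
    (hy : y ∈ p.map (algebraMap A B)) :
    ∃ y' ∈ p.map (algebraMap A B), y = algebraMap A B t * y' := by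
  rw [Ideal.map] at hy
  induction hy using Submodule.span_induction with
  | mem x hx =>
    obtain ⟨a, ha, rfl⟩ := hx
    obtain ⟨c, hc, rfl⟩ := exists_eq_mul_of_mem p ha ht
    exact ⟨algebraMap A B c, Ideal.mem_map_of_mem _ hc, map_mul _ _ _⟩
  | zero => exact ⟨0, zero_mem _, by rw [mul_zero]⟩
  | add x y _ _ hx hy =>
    obtain ⟨x', hx', rfl⟩ := hx
    obtain ⟨y', hy', rfl⟩ := hy
    exact ⟨x' + y', add_mem hx' hy', by rw [mul_add]⟩
  | smul b x _ hx =>
    obtain ⟨x', hx', rfl⟩ := hx
    exact ⟨b * x', Ideal.mul_mem_left _ _ hx', by rw [smul_eq_mul]; ring⟩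

theorem map_comap_eq_of_unramified (hinj : Function.Injective (algebraMap A B)) (P : Ideal B)
    [P.IsPrime]
    (hloc : IsLocalization
      (Algebra.algebraMapSubmonoid B (P.comap (algebraMap A B)).primeCompl) (Localization.AtPrime P))
    (hmax : (IsLocalRing.maximalIdeal (Localization.AtPrime (P.comap (algebraMap A B)))).map
        (Localization.localRingHom (P.comap (algebraMap A B)) P (algebraMap A B) rfl) =
        IsLocalRing.maximalIdeal (Localization.AtPrime P)) :
    (P.comap (algebraMap A B)).map (algebraMap A B) = P := by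
  refine le_antisymm Ideal.map_comap_le ?_
  intro x hx
  have h1 : algebraMap B (Localization.AtPrime P) x ∈
      IsLocalRing.maximalIdeal (Localization.AtPrime P) := by
    rw [← Localization.AtPrime.map_eq_maximalIdeal]
    exact Ideal.mem_map_of_mem _ hx
  rw [← hmax, ← Localization.AtPrime.map_eq_maximalIdeal, Ideal.map_map] at h1
  have hcomp : (Localization.localRingHom (P.comap (algebraMap A B)) P (algebraMap A B) rfl).comp
      (algebraMap A (Localization.AtPrime (P.comap (algebraMap A B)))) =
      (algebraMap B (Localization.AtPrime P)).comp (algebraMap A B) := by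
    ext a
    simp only [RingHom.comp_apply, Localization.localRingHom_to_map]
  rw [hcomp, ← Ideal.map_map] at h1
  obtain ⟨⟨⟨y, hy⟩, ⟨m, hm⟩⟩, h2⟩ := (IsLocalization.mem_map_algebraMap_iff
    (Algebra.algebraMapSubmonoid B (P.comap (algebraMap A B)).primeCompl)
    (Localization.AtPrime P)).mp h1
  obtain ⟨t, ht, rfl⟩ := hm
  simp only at h2
  rw [← map_mul] at h2
  have h3 : x * algebraMap A B t = y :=
    IsLocalization.injective (Localization.AtPrime P) (Ideal.primeCompl_le_nonZeroDivisors P) h2
  obtain ⟨y', hy', rfl⟩ := exists_eq_mul_of_mem_map (P.comap (algebraMap A B)) ht y hy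
  have ht0 : algebraMap A B t ≠ 0 := by
    intro h0
    apply ht
    have : t = 0 := hinj (by rw [h0, map_zero])
    rw [this]; exact zero_mem _
  have : x = y' := by
    apply mul_right_cancel₀ ht0
    rw [h3, mul_comm]
  rw [this]; exact hy'

/-- **Étaleness composed from a prime**: `A` a valuation ring, `B` a domain over `A`, `P` a prime
of `B` with `B_P = B ⊗_A A_p`.  If `A_p → B_P` and `A/p → B/P` are étale, so is `A → B`. -/
theorem etale_of_atPrime_of_quotient (hinj : Function.Injective (algebraMap A B)) (P : Ideal B)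
    [P.IsPrime]
    (hloc : IsLocalization
      (Algebra.algebraMapSubmonoid B (P.comap (algebraMap A B)).primeCompl) (Localization.AtPrime P))
    (hA : (Localization.localRingHom (P.comap (algebraMap A B)) P (algebraMap A B) rfl).Etale)
    (hB : (Ideal.quotientMap P (algebraMap A B)
      (le_refl (Ideal.comap (algebraMap A B) P))).Etale) :
    Algebra.Etale A B := by
  letI alg1 : Algebra (Localization.AtPrime (P.comap (algebraMap A B))) (Localization.AtPrime P) :=
    (Localization.localRingHom (P.comap (algebraMap A B)) P (algebraMap A B) rfl).toAlgebra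
  have tower1 : IsScalarTower A (Localization.AtPrime (P.comap (algebraMap A B)))
      (Localization.AtPrime P) :=
    IsScalarTower.of_algebraMap_eq fun x => by
      rw [RingHom.algebraMap_toAlgebra, Localization.localRingHom_to_map,
        ← IsScalarTower.algebraMap_apply]
  have et1 : Algebra.Etale (Localization.AtPrime (P.comap (algebraMap A B)))
      (Localization.AtPrime P) := hA
  haveI : IsLocalHom (algebraMap (Localization.AtPrime (P.comap (algebraMap A B)))
      (Localization.AtPrime P)) :=
    Localization.isLocalHom_localRingHom _ _ _ _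
  have hmax := Algebra.FormallyUnramified.map_maximalIdeal
    (R := Localization.AtPrime (P.comap (algebraMap A B))) (S := Localization.AtPrime P)
  have hP : (P.comap (algebraMap A B)).map (algebraMap A B) = P :=
    map_comap_eq_of_unramified hinj P hloc hmax
  haveI := hloc
  haveI : Algebra.IsPushout A B (Localization.AtPrime (P.comap (algebraMap A B)))
      (Localization.AtPrime P) :=
    Algebra.isPushout_of_isLocalization (P.comap (algebraMap A B)).primeCompl _ B _
  haveI : Algebra.IsPushout A (Localization.AtPrime (P.comap (algebraMap A B))) B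
      (Localization.AtPrime P) := Algebra.IsPushout.symm inferInstance
  haveI etA' : Algebra.Etale (Localization.AtPrime (P.comap (algebraMap A B)))
      (Localization.AtPrime (P.comap (algebraMap A B)) ⊗[A] B) :=
    Algebra.Etale.of_equiv (Algebra.IsPushout.equiv A
      (Localization.AtPrime (P.comap (algebraMap A B))) B (Localization.AtPrime P)).symm
  letI alg2 : Algebra (A ⧸ P.comap (algebraMap A B)) (B ⧸ P) :=
    (Ideal.quotientMap P (algebraMap A B) (le_refl (Ideal.comap (algebraMap A B) P))).toAlgebra
  have et2 : Algebra.Etale (A ⧸ P.comap (algebraMap A B)) (B ⧸ P) := hB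
  let e : (B ⧸ P) ≃ₐ[A ⧸ P.comap (algebraMap A B)] (A ⧸ P.comap (algebraMap A B)) ⊗[A] B :=
    AlgEquiv.ofRingEquiv (f := (Ideal.quotEquivOfEq hP.symm).trans
      (Algebra.TensorProduct.quotIdealMapEquivQuotTensor B (P.comap (algebraMap A B))).toRingEquiv)
      (by
        intro x
        obtain ⟨a, rfl⟩ := Ideal.Quotient.mk_surjective x
        rw [RingHom.algebraMap_toAlgebra, Ideal.quotientMap_mk, RingEquiv.trans_apply,
          Ideal.quotEquivOfEq_mk, Algebra.TensorProduct.algebraMap_apply]
        change (Algebra.TensorProduct.quotIdealMapEquivQuotTensor B (P.comap (algebraMap A B)))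
          (Ideal.Quotient.mk _ (algebraMap A B a)) = _
        rw [Algebra.TensorProduct.quotIdealMapEquivQuotTensor_mk, Algebra.algebraMap_self,
          RingHom.id_apply, Algebra.algebraMap_eq_smul_one, TensorProduct.tmul_smul,
          TensorProduct.smul_tmul', Algebra.smul_def, mul_one, Ideal.Quotient.algebraMap_eq])
  haveI etB : Algebra.Etale (A ⧸ P.comap (algebraMap A B))
      ((A ⧸ P.comap (algebraMap A B)) ⊗[A] B) := Algebra.Etale.of_equiv e
  exact MilnorEtale.etale_of_baseChangePair (isFibreSquare (P.comap (algebraMap A B))) B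

end Main

end Groth.Agent.H76.ValMilnor
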