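import Mathlib
import Groth.Agent.H76.ValMilnor

/-!
# Localizing a valuation ring of an algebraic extension at the primes of the base (helper76)

For an algebraic extension `L/K` of valued fields with valuation rings `A ⊆ B` and a prime `P` of `B`
over `p`, every element of `B ∖ P` divides an element of `A ∖ p`; hence `B_P = B ⊗_A A_p`.
-/

set_option autoImplicit false
universe u

open Polynomial

namespace Groth.Agent.H76.ValAlgLoc

section Dvd

variable {B : Type*} [CommRing B] [IsDomain B] [ValuationRing B] (P : Ideal B) [P.IsPrime]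

theorem dvd_of_mem_of_notMem {s x : B} (hs : s ∉ P) (hx : x ∈ P) : s ∣ x := by
  rcases ValuationRing.dvd_total s x with h | h
  · exact h
  · exact absurd (Ideal.mem_of_dvd P h hx) hs

/-- If `G(s) ∈ P` for `s ∉ P` and some coefficient of `G` is not in `P`, then `s` divides a
coefficient of `G` not in `P`. -/
theorem exists_coeff_dvd {s : B} (hs : s ∉ P) :
    ∀ (k : ℕ) (G : B[X]), G.coeff k ∉ P → G.eval s ∈ P → ∃ j, G.coeff j ∉ P ∧ s ∣ G.coeff j := by
  have key : ∀ G : B[X], G.eval s ∈ P → G.coeff 0 ∉ P → s ∣ G.coeff 0 := by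
    intro G hG h0
    have hdec : G.eval s = G.divX.eval s * s + G.coeff 0 := by
      conv_lhs => rw [← Polynomial.divX_mul_X_add G]
      simp
    have h1 : s ∣ G.eval s := dvd_of_mem_of_notMem P hs hG
    have h2 : s ∣ G.divX.eval s * s := Dvd.intro_left _ rfl
    rw [hdec] at h1
    exact (dvd_add_right h2).mp h1
  intro k
  induction k with
  | zero =>
    intro G hk hG
    exact ⟨0, hk, key G hG hk⟩
  | succ k ih =>
    intro G hk hG
    by_cases h0 : G.coeff 0 ∈ P
    · have hdec : G.eval s = G.divX.eval s * s + G.coeff 0 := by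
        conv_lhs => rw [← Polynomial.divX_mul_X_add G]
        simp
      have h1 : G.divX.eval s * s ∈ P := by
        have : G.divX.eval s * s = G.eval s - G.coeff 0 := by rw [hdec]; ring
        rw [this]; exact sub_mem hG h0
      have h2 : G.divX.eval s ∈ P := (Ideal.IsPrime.mem_or_mem inferInstance h1).resolve_right hs
      obtain ⟨j, hj, hdvd⟩ := ih G.divX (by rwa [Polynomial.coeff_divX]) h2
      rw [Polynomial.coeff_divX] at hj hdvd
      exact ⟨j + 1, hj, hdvd⟩
    · exact ⟨0, h0, key G hG h0⟩

end Dvd

section Loc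

variable {A B : Type*} [CommRing A] [CommRing B] [Algebra A B] (P : Ideal B) [P.IsPrime]

theorem isLocalization_of_dvd
    (hV : ∀ s : B, s ∉ P → ∃ t : A, t ∉ P.comap (algebraMap A B) ∧ s ∣ algebraMap A B t) :
    IsLocalization (Algebra.algebraMapSubmonoid B (P.comap (algebraMap A B)).primeCompl)
      (Localization.AtPrime P) := by
  set M := Algebra.algebraMapSubmonoid B (P.comap (algebraMap A B)).primeCompl with hM
  have hle : M ≤ P.primeCompl := by
    rintro x ⟨t, ht, rfl⟩
    exact ht
  have hdvd : ∀ n ∈ P.primeCompl, ∃ m ∈ M, n ∣ m := by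
    intro n hn
    obtain ⟨t, ht, hd⟩ := hV n hn
    exact ⟨algebraMap A B t, ⟨t, ht, rfl⟩, hd⟩
  haveI : IsLocalization P.primeCompl (Localization M) :=
    IsLocalization.of_le_of_exists_dvd M P.primeCompl hle hdvd
  exact IsLocalization.isLocalization_of_algEquiv M
    (IsLocalization.algEquiv P.primeCompl (Localization M) (Localization.AtPrime P))

end Loc

section Val

open Valuation

variable {K L Γ₀ Γ₁ : Type*} [Field K] [Field L] [Algebra K L] [Algebra.IsAlgebraic K L]
  [LinearOrderedCommGroupWithZero Γ₀] [LinearOrderedCommGroupWithZero Γ₁]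
  (vK : Valuation K Γ₀) (vL : Valuation L Γ₁) [vK.HasExtension vL]

/-- A nonzero polynomial over `K` can be rescaled to have coefficients in the valuation ring, one
of them equal to `1`. -/
theorem exists_integral_scaling (f : K[X]) (hf : f ≠ 0) :
    ∃ (c : K) (g : (vK.valuationSubring)[X]) (k : ℕ),
      g.map (algebraMap vK.valuationSubring K) = C c * f ∧ g.coeff k = 1 := by
  have hne : f.support.Nonempty := Polynomial.support_nonempty.mpr hf
  obtain ⟨k, hk, hmax⟩ := Finset.exists_max_image f.support (fun i => vK (f.coeff i)) hne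
  have hc : f.coeff k ≠ 0 := Polynomial.mem_support_iff.mp hk
  have hle : ∀ i, vK (f.coeff i) ≤ vK (f.coeff k) := by
    intro i
    by_cases hi : i ∈ f.support
    · exact hmax i hi
    · rw [Polynomial.notMem_support_iff.mp hi, map_zero]; exact zero_le'
  have hlift : C (f.coeff k)⁻¹ * f ∈ Polynomial.lifts (algebraMap vK.valuationSubring K) := by
    rw [Polynomial.lifts_iff_coeff_lifts]
    intro i
    rw [Polynomial.coeff_C_mul]
    have hmem : (f.coeff k)⁻¹ * f.coeff i ∈ vK.valuationSubring := by
      rw [Valuation.mem_valuationSubring_iff, map_mul, map_inv₀]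
      rw [inv_mul_le_iff₀ (by rw [zero_lt_iff]; exact (Valuation.ne_zero_iff vK).mpr hc), mul_one]
      exact hle i
    exact ⟨⟨_, hmem⟩, rfl⟩
  obtain ⟨g, hg⟩ := (Polynomial.mem_lifts _).mp hlift
  refine ⟨(f.coeff k)⁻¹, g, k, hg, ?_⟩
  have h1 : algebraMap vK.valuationSubring K (g.coeff k) = 1 := by
    rw [← Polynomial.coeff_map, hg, Polynomial.coeff_C_mul, inv_mul_cancel₀ hc]
  exact Subtype.ext h1

theorem exists_dvd_algebraMap (P : Ideal vL.valuationSubring) [P.IsPrime]
    (s : vL.valuationSubring) (hs : s ∉ P) :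
    ∃ t : vK.valuationSubring,
      t ∉ P.comap (algebraMap vK.valuationSubring vL.valuationSubring) ∧
        s ∣ algebraMap vK.valuationSubring vL.valuationSubring t := by
  obtain ⟨f, hf0, hf⟩ := Algebra.IsAlgebraic.isAlgebraic (R := K) (s : L)
  obtain ⟨c, g, k, hg, hk⟩ := exists_integral_scaling vK f hf0
  set G : (vL.valuationSubring)[X] :=
    g.map (algebraMap vK.valuationSubring vL.valuationSubring) with hG
  have heval : G.eval s = 0 := by
    apply Subtype.val_injective
    change algebraMap vL.valuationSubring L (G.eval s) = algebraMap vL.valuationSubring L 0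
    rw [map_zero, hG, Polynomial.eval_map, Polynomial.hom_eval₂,
      ← IsScalarTower.algebraMap_eq,
      IsScalarTower.algebraMap_eq vK.valuationSubring K L, ← Polynomial.eval₂_map, hg,
      Polynomial.eval₂_mul, Polynomial.eval₂_C]
    change _ * Polynomial.aeval (s : L) f = 0
    rw [hf, mul_zero]
  have hcoeff : G.coeff k ∉ P := by
    rw [hG, Polynomial.coeff_map, hk, map_one]
    exact fun h => (Ideal.IsPrime.ne_top inferInstance) ((Ideal.eq_top_iff_one P).mpr h)
  obtain ⟨j, hj, hdvd⟩ := exists_coeff_dvd P hs k G hcoeff (by rw [heval]; exact zero_mem _)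
  rw [hG, Polynomial.coeff_map] at hj hdvd
  exact ⟨g.coeff j, hj, hdvd⟩

theorem isLocalization_atPrime (P : Ideal vL.valuationSubring) [P.IsPrime] :
    IsLocalization (Algebra.algebraMapSubmonoid vL.valuationSubring
      (P.comap (algebraMap vK.valuationSubring vL.valuationSubring)).primeCompl)
      (Localization.AtPrime P) :=
  isLocalization_of_dvd P (exists_dvd_algebraMap vK vL P)

end Val

end Groth.Agent.H76.ValAlgLoc
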