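import Mathlib
import Groth.Agent.H76.DVRThrough

/-!
# Valuative criteria tested on valuation subrings of residue fields of a generizing family
-/

set_option autoImplicit false
universe u

namespace Groth.Agent.H76.ValThrough

open CategoryTheory CategoryTheory.Limits AlgebraicGeometry IsLocalRing
open Groth.Agent.H76.DVRThrough Groth.Agent.Lib.Helper20.CompVal

/-- Existence of a lift for a valuative square whose generic point is a specialization of `h u`,
from existence and uniqueness of lifts for valuation subrings of `κ(u)`. -/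
theorem hasLift_of_lifts {X S U : Scheme.{u}} (f : X ⟶ S) (h : U ⟶ X) (Sq : ValuativeCommSq f)
    (u : U) (hux' : h.base u ⤳ Sq.i₁.base (closedPoint Sq.K))
    (Hex : ∀ (R : ValuationSubring (U.residueField u)) (y : Spec (CommRingCat.of R) ⟶ S),
      Spec.map (CommRingCat.ofHom R.subtype) ≫ y = U.fromSpecResidueField u ≫ h ≫ f →
      ∃ l : Spec (CommRingCat.of R) ⟶ X, l ≫ f = y ∧
        Spec.map (CommRingCat.ofHom R.subtype) ≫ l = U.fromSpecResidueField u ≫ h)
    (Hun : ∀ (R : ValuationSubring (U.residueField u)) (l₁ l₂ : Spec (CommRingCat.of R) ⟶ X),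
      l₁ ≫ f = l₂ ≫ f →
      Spec.map (CommRingCat.ofHom R.subtype) ≫ l₁ = U.fromSpecResidueField u ≫ h →
      Spec.map (CommRingCat.ofHom R.subtype) ≫ l₂ = U.fromSpecResidueField u ≫ h → l₁ = l₂) :
    Sq.commSq.HasLift := by
  let x' : X := Sq.i₁.base (closedPoint Sq.K)
  let φ : X.presheaf.stalk x' ⟶ CommRingCat.of Sq.K := Scheme.stalkClosedPointTo Sq.i₁
  have hφ : Spec.map φ ≫ X.fromSpecStalk x' = Sq.i₁ :=
    Scheme.Spec_stalkClosedPointTo_fromSpecStalk Sq.i₁
  have hφloc : IsLocalHom φ.hom := Scheme.isLocalHom_stalkClosedPointTo' Sq.i₁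
  let s : S := Sq.i₂.base (closedPoint Sq.R)
  let ψ : S.presheaf.stalk s ⟶ CommRingCat.of Sq.R := Scheme.stalkClosedPointTo Sq.i₂
  have hψ : Spec.map ψ ≫ S.fromSpecStalk s = Sq.i₂ :=
    Scheme.Spec_stalkClosedPointTo_fromSpecStalk Sq.i₂
  have hψloc : IsLocalHom ψ.hom := Scheme.isLocalHom_stalkClosedPointTo' Sq.i₂
  let ι : X.presheaf.stalk x' →+* U.residueField u := (toRes h u hux').hom
  obtain ⟨V, R, hRV, hV, hVloc, h2, h3⟩ :=
    exists_comp_valuationSubring (X.presheaf.stalk x') (U.residueField u) ι Sq.K φ.hom Sq.R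
  -- `f x' ⤳ s`
  have hfx's : f.base x' ⤳ s := by
    have h1 : (Spec.map (CommRingCat.ofHom (algebraMap Sq.R Sq.K))).base (closedPoint Sq.K) ⤳
        closedPoint Sq.R := IsLocalRing.specializes_closedPoint _
    have h2 := h1.map Sq.i₂.base.hom.continuous
    have h3 : Sq.i₂.base ((Spec.map (CommRingCat.ofHom (algebraMap Sq.R Sq.K))).base
        (closedPoint Sq.K)) = f.base x' := by
      rw [← Scheme.Hom.comp_apply, ← Sq.commSq.w, Scheme.Hom.comp_apply]
    rw [← h3]
    exact h2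
  have hs : (h ≫ f).base u ⤳ s := (hux'.map f.base.hom.continuous).trans hfx's
  have E1 : S.presheaf.stalkSpecializes hfx's ≫ f.stalkMap x' ≫ φ =
      ψ ≫ CommRingCat.ofHom (algebraMap Sq.R Sq.K) := by
    apply Spec.map_injective
    have : Mono (S.fromSpecStalk s) := inferInstance
    rw [← cancel_mono (S.fromSpecStalk s)]
    rw [Spec.map_comp, Spec.map_comp, Spec.map_comp, Category.assoc, Category.assoc, Category.assoc,
      Scheme.SpecMap_stalkSpecializes_fromSpecStalk, Scheme.SpecMap_stalkMap_fromSpecStalk,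
      reassoc_of% hφ, hψ, Sq.commSq.w]
  -- `R` contains the image of `O_{S,s}`
  have hRβ : ∀ b, (toRes (h ≫ f) u hs).hom b ∈ R := by
    intro b
    have e := toRes_comp h f u hux' hfx's
    let o : X.presheaf.stalk x' := (S.presheaf.stalkSpecializes hfx's ≫ f.stalkMap x').hom b
    have ho : φ.hom o = algebraMap Sq.R Sq.K (ψ.hom b) := congrArg (fun g => g.hom b) E1
    have hb : (toRes (h ≫ f) u hs).hom b = ι o := (congrArg (fun g => g.hom b) e).symm
    rw [hb]
    exact (h2 o (ψ.hom b) ho).1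
  obtain ⟨S₀, hS₀, hsS₀⟩ : ∃ S₀ : S.Opens, IsAffineOpen S₀ ∧ s ∈ S₀ := by
    obtain ⟨_, ⟨W, hW, rfl⟩, hyW, -⟩ :=
      S.isBasis_affineOpens.exists_subset_of_mem_open (Set.mem_univ s) isOpen_univ
    exact ⟨W, hW, hyW⟩
  -- the lift for `R`
  let βR : S.presheaf.stalk s ⟶ CommRingCat.of R :=
    CommRingCat.ofHom ((toRes (h ≫ f) u hs).hom.codRestrict R.toSubring hRβ)
  let yR : Spec (CommRingCat.of R) ⟶ S := Spec.map βR ≫ S.fromSpecStalk s
  have hyR : Spec.map (CommRingCat.ofHom R.subtype) ≫ yR = U.fromSpecResidueField u ≫ h ≫ f := by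
    have e : βR ≫ CommRingCat.ofHom R.subtype = toRes (h ≫ f) u hs := by
      ext a; rfl
    rw [← Spec.map_comp_assoc, e, SpecMap_toRes_fromSpecStalk]
  obtain ⟨lR, hlRf, hlR⟩ := Hex R yR hyR
  have hlRS₀ : f.base (lR.base (closedPoint R)) ∈ S₀ := by
    have h4 : (lR ≫ f).base (closedPoint R) ∈ Set.range (S.fromSpecStalk s).base := by
      rw [hlRf, Scheme.Hom.comp_apply]
      exact ⟨_, rfl⟩
    rw [Scheme.range_fromSpecStalk] at h4
    exact (h4 : _ ⤳ s).mem_open S₀.isOpen hsS₀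
  obtain ⟨hux, hx1, -⟩ := center_of_lift h u R lR hlR
  -- `x' ⤳ x` by uniqueness
  have hx'x : x' ⤳ lR.base (closedPoint R) := by
    let ρ : X.presheaf.stalk x' ⟶ CommRingCat.of V :=
      CommRingCat.ofHom (ι.codRestrict V.toSubring hV)
    have hρloc : IsLocalHom ρ.hom := by
      constructor
      intro o ho
      by_contra hnu
      have h1 := hVloc o hnu
      have h2 := (V.valuation_eq_one_iff _).mp ho
      have h3 : V.valuation (ι o) = 1 := h2
      rw [h3] at h1
      exact lt_irrefl _ h1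
    let incRV : CommRingCat.of R ⟶ CommRingCat.of V :=
      CommRingCat.ofHom (ValuationSubring.inclusion R V hRV)
    let m₁ : Spec (CommRingCat.of V) ⟶ X := Spec.map incRV ≫ lR
    let m₂ : Spec (CommRingCat.of V) ⟶ X := Spec.map ρ ≫ X.fromSpecStalk x'
    let incV : CommRingCat.of V ⟶ U.residueField u := CommRingCat.ofHom V.subtype
    have g1 : Spec.map incV ≫ m₁ = U.fromSpecResidueField u ≫ h := by
      have e : incRV ≫ incV = CommRingCat.ofHom R.subtype := by
        ext a; rfl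
      rw [← Spec.map_comp_assoc, e, hlR]
    have g2 : Spec.map incV ≫ m₂ = U.fromSpecResidueField u ≫ h := by
      have e : ρ ≫ incV = toRes h u hux' := by
        ext a; rfl
      rw [← Spec.map_comp_assoc, e, SpecMap_toRes_fromSpecStalk]
    have c2 : m₂.base (closedPoint V) = x' := by
      rw [Scheme.Hom.comp_apply, Spec_closedPoint (f := ρ), Scheme.fromSpecStalk_closedPoint]
    have c1 : m₁.base (closedPoint V) ⤳ lR.base (closedPoint R) := by
      rw [Scheme.Hom.comp_apply]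
      exact (IsLocalRing.specializes_closedPoint _).map lR.base.hom.continuous
    have hf12 : m₁ ≫ f = m₂ ≫ f := by
      apply eq_of_common_affine incV Subtype.val_injective S₀ hS₀
      · rw [Scheme.Hom.comp_apply]
        exact (c1.map f.base.hom.continuous).mem_open S₀.isOpen hlRS₀
      · rw [Scheme.Hom.comp_apply, c2]
        exact hfx's.mem_open S₀.isOpen hsS₀
      · calc Spec.map incV ≫ m₁ ≫ f = (Spec.map incV ≫ m₁) ≫ f := (Category.assoc _ _ _).symm
          _ = (Spec.map incV ≫ m₂) ≫ f := by rw [g1, g2]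
          _ = _ := Category.assoc _ _ _
    have h12 : m₁ = m₂ := Hun V m₁ m₂ hf12 g1 g2
    rw [h12, c2] at c1
    exact c1
  -- the ring map `O_{X,x} → Sq.R`
  let g : X.presheaf.stalk (lR.base (closedPoint R)) →+* Sq.K :=
    (X.presheaf.stalkSpecializes hx'x ≫ φ).hom
  have hinj : Function.Injective (algebraMap Sq.R Sq.K) := IsFractionRing.injective Sq.R Sq.K
  have hg : ∀ a, g a ∈ (algebraMap Sq.R Sq.K).range := by
    intro a
    let a' : X.presheaf.stalk x' := (X.presheaf.stalkSpecializes hx'x).hom a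
    have ha' : ι a' = (toRes h u hux).hom a :=
      congrArg (fun g => g.hom a) (toRes_stalkSpecializes h u hux' hx'x)
    have hmem : ι a' ∈ R := by rw [ha']; exact hx1 a
    obtain ⟨r, hr, -⟩ := h3 a' hmem
    exact ⟨r, hr⟩
  let e : Sq.R ≃+* (algebraMap Sq.R Sq.K).range :=
    RingEquiv.ofBijective (algebraMap Sq.R Sq.K).rangeRestrict
      ⟨fun a b hab => hinj (congrArg Subtype.val hab),
        (algebraMap Sq.R Sq.K).rangeRestrict_surjective⟩
  let θ : X.presheaf.stalk (lR.base (closedPoint R)) →+* Sq.R :=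
    e.symm.toRingHom.comp (g.codRestrict (algebraMap Sq.R Sq.K).range hg)
  have hθ : ∀ a, algebraMap Sq.R Sq.K (θ a) = g a := by
    intro a
    have h1 : e (θ a) = g.codRestrict (algebraMap Sq.R Sq.K).range hg a := e.apply_symm_apply _
    exact congrArg Subtype.val h1
  let θ' : X.presheaf.stalk (lR.base (closedPoint R)) ⟶ CommRingCat.of Sq.R := CommRingCat.ofHom θ
  have hθ' : θ' ≫ CommRingCat.ofHom (algebraMap Sq.R Sq.K) =
      X.presheaf.stalkSpecializes hx'x ≫ φ := by
    ext a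
    exact hθ a
  let l : Spec (CommRingCat.of Sq.R) ⟶ X := Spec.map θ' ≫ X.fromSpecStalk _
  have hl1 : Spec.map (CommRingCat.ofHom (algebraMap Sq.R Sq.K)) ≫ l = Sq.i₁ := by
    show _ ≫ Spec.map θ' ≫ X.fromSpecStalk _ = _
    rw [← Spec.map_comp_assoc, hθ', Spec.map_comp, Category.assoc,
      Scheme.SpecMap_stalkSpecializes_fromSpecStalk, hφ]
  have hl2 : l ≫ f = Sq.i₂ := by
    apply eq_of_common_affine (CommRingCat.ofHom (algebraMap Sq.R Sq.K)) hinj S₀ hS₀
    · have h4 : l.base (closedPoint Sq.R) ∈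
          Set.range (X.fromSpecStalk (lR.base (closedPoint R))).base := by
        show (Spec.map θ' ≫ X.fromSpecStalk (lR.base (closedPoint R))).base _ ∈ _
        rw [Scheme.Hom.comp_apply]
        exact ⟨_, rfl⟩
      rw [Scheme.range_fromSpecStalk] at h4
      rw [Scheme.Hom.comp_apply]
      exact ((h4 : _ ⤳ _).map f.base.hom.continuous).mem_open S₀.isOpen hlRS₀
    · exact hsS₀
    · rw [reassoc_of% hl1, Sq.commSq.w]
  exact ⟨⟨⟨l, hl1, hl2⟩⟩⟩


/-- A lift of a valuative square induces a lift for the composite valuation ring, with the same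
closed point. -/
theorem exists_lift_composite {X S U : Scheme.{u}} (f : X ⟶ S) (h : U ⟶ X)
    (Sq : ValuativeCommSq f)
    (u : U) (hux' : h.base u ⤳ Sq.i₁.base (closedPoint Sq.K))
    (R : ValuationSubring (U.residueField u))
    (h2 : ∀ (o : X.presheaf.stalk (Sq.i₁.base (closedPoint Sq.K))) (a : Sq.R),
      (Scheme.stalkClosedPointTo Sq.i₁).hom o = algebraMap Sq.R Sq.K a →
        (toRes h u hux').hom o ∈ R ∧ (¬ IsUnit a → R.valuation ((toRes h u hux').hom o) < 1))
    (l : Spec (CommRingCat.of Sq.R) ⟶ X)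
    (hl1 : Spec.map (CommRingCat.ofHom (algebraMap Sq.R Sq.K)) ≫ l = Sq.i₁) :
    ∃ L : Spec (CommRingCat.of R) ⟶ X,
      Spec.map (CommRingCat.ofHom R.subtype) ≫ L = U.fromSpecResidueField u ≫ h ∧
      L.base (closedPoint R) = l.base (closedPoint Sq.R) := by
  let x' : X := Sq.i₁.base (closedPoint Sq.K)
  let φ : X.presheaf.stalk x' ⟶ CommRingCat.of Sq.K := Scheme.stalkClosedPointTo Sq.i₁
  have hφ : Spec.map φ ≫ X.fromSpecStalk x' = Sq.i₁ :=
    Scheme.Spec_stalkClosedPointTo_fromSpecStalk Sq.i₁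
  let θ : X.presheaf.stalk (l.base (closedPoint Sq.R)) ⟶ CommRingCat.of Sq.R :=
    Scheme.stalkClosedPointTo l
  have hθ : Spec.map θ ≫ X.fromSpecStalk _ = l := Scheme.Spec_stalkClosedPointTo_fromSpecStalk l
  have hθloc : IsLocalHom θ.hom := Scheme.isLocalHom_stalkClosedPointTo' l
  have hx'x : x' ⤳ l.base (closedPoint Sq.R) := by
    have h1 : (Spec.map (CommRingCat.ofHom (algebraMap Sq.R Sq.K)) ≫ l).base (closedPoint Sq.K) =
        x' := by rw [hl1]
    rw [← h1, Scheme.Hom.comp_apply]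
    exact (IsLocalRing.specializes_closedPoint _).map l.base.hom.continuous
  have RI : θ ≫ CommRingCat.ofHom (algebraMap Sq.R Sq.K) =
      X.presheaf.stalkSpecializes hx'x ≫ φ := by
    apply Spec.map_injective
    rw [← cancel_mono (X.fromSpecStalk (l.base (closedPoint Sq.R))), Spec.map_comp, Category.assoc,
      hθ, hl1, Spec.map_comp, Category.assoc, Scheme.SpecMap_stalkSpecializes_fromSpecStalk, hφ]
  have hkey : ∀ a : X.presheaf.stalk (l.base (closedPoint Sq.R)),
      (toRes h u (hux'.trans hx'x)).hom a ∈ R ∧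
      (¬ IsUnit (θ.hom a) → R.valuation ((toRes h u (hux'.trans hx'x)).hom a) < 1) := by
    intro a
    have e1 : (toRes h u (hux'.trans hx'x)).hom a =
        (toRes h u hux').hom ((X.presheaf.stalkSpecializes hx'x).hom a) :=
      (congrArg (fun g => g.hom a) (toRes_stalkSpecializes h u hux' hx'x)).symm
    have e2 : φ.hom ((X.presheaf.stalkSpecializes hx'x).hom a) =
        algebraMap Sq.R Sq.K (θ.hom a) := (congrArg (fun g => g.hom a) RI).symm
    rw [e1]
    exact h2 _ _ e2
  let θR : X.presheaf.stalk (l.base (closedPoint Sq.R)) ⟶ CommRingCat.of R :=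
    CommRingCat.ofHom ((toRes h u (hux'.trans hx'x)).hom.codRestrict R.toSubring
      (fun a => (hkey a).1))
  have hθRloc : IsLocalHom θR.hom := by
    constructor
    intro a ha
    by_contra hnu
    have hnu' : ¬ IsUnit (θ.hom a) := fun hu => hnu (hθloc.map_nonunit a hu)
    have h1 := (hkey a).2 hnu'
    have h3 : R.valuation ((toRes h u (hux'.trans hx'x)).hom a) = 1 :=
      (R.valuation_eq_one_iff _).mp ha
    rw [h3] at h1
    exact lt_irrefl _ h1
  refine ⟨Spec.map θR ≫ X.fromSpecStalk _, ?_, ?_⟩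
  · have e : θR ≫ CommRingCat.ofHom R.subtype = toRes h u (hux'.trans hx'x) := by
      ext a; rfl
    rw [← Spec.map_comp_assoc, e, SpecMap_toRes_fromSpecStalk]
  · rw [Scheme.Hom.comp_apply, Spec_closedPoint (f := θR), Scheme.fromSpecStalk_closedPoint]

/-- Uniqueness of lifts for a valuative square whose generic point is a specialization of `h u`,
from uniqueness of lifts for valuation subrings of `κ(u)`. -/
theorem subsingleton_liftStruct {X S U : Scheme.{u}} (f : X ⟶ S) (h : U ⟶ X)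
    (Sq : ValuativeCommSq f)
    (u : U) (hux' : h.base u ⤳ Sq.i₁.base (closedPoint Sq.K))
    (Hun : ∀ (R : ValuationSubring (U.residueField u)) (l₁ l₂ : Spec (CommRingCat.of R) ⟶ X),
      l₁ ≫ f = l₂ ≫ f →
      Spec.map (CommRingCat.ofHom R.subtype) ≫ l₁ = U.fromSpecResidueField u ≫ h →
      Spec.map (CommRingCat.ofHom R.subtype) ≫ l₂ = U.fromSpecResidueField u ≫ h → l₁ = l₂) :
    Subsingleton Sq.commSq.LiftStruct := by
  constructor
  intro L₁ L₂
  have hφloc : IsLocalHom (Scheme.stalkClosedPointTo Sq.i₁).hom :=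
    Scheme.isLocalHom_stalkClosedPointTo' Sq.i₁
  obtain ⟨V, R, hRV, hV, hVloc, h2, h3⟩ :=
    exists_comp_valuationSubring (X.presheaf.stalk (Sq.i₁.base (closedPoint Sq.K)))
      (U.residueField u) (toRes h u hux').hom Sq.K (Scheme.stalkClosedPointTo Sq.i₁).hom Sq.R
  obtain ⟨M₁, g1, c1⟩ := exists_lift_composite f h Sq u hux' R h2 L₁.l L₁.fac_left
  obtain ⟨M₂, g2, c2⟩ := exists_lift_composite f h Sq u hux' R h2 L₂.l L₂.fac_left
  let s : S := Sq.i₂.base (closedPoint Sq.R)
  obtain ⟨S₀, hS₀, hsS₀⟩ : ∃ S₀ : S.Opens, IsAffineOpen S₀ ∧ s ∈ S₀ := by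
    obtain ⟨_, ⟨W, hW, rfl⟩, hyW, -⟩ :=
      S.isBasis_affineOpens.exists_subset_of_mem_open (Set.mem_univ s) isOpen_univ
    exact ⟨W, hW, hyW⟩
  have hM : M₁ ≫ f = M₂ ≫ f := by
    apply eq_of_common_affine (CommRingCat.ofHom R.subtype) Subtype.val_injective S₀ hS₀
    · rw [Scheme.Hom.comp_apply, c1, ← Scheme.Hom.comp_apply, L₁.fac_right]
      exact hsS₀
    · rw [Scheme.Hom.comp_apply, c2, ← Scheme.Hom.comp_apply, L₂.fac_right]
      exact hsS₀
    · calc Spec.map (CommRingCat.ofHom R.subtype) ≫ M₁ ≫ f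
          = (Spec.map (CommRingCat.ofHom R.subtype) ≫ M₁) ≫ f := (Category.assoc _ _ _).symm
        _ = (Spec.map (CommRingCat.ofHom R.subtype) ≫ M₂) ≫ f := by rw [g1, g2]
        _ = _ := Category.assoc _ _ _
  have hM12 : M₁ = M₂ := Hun R M₁ M₂ hM g1 g2
  have hc : L₁.l.base (closedPoint Sq.R) = L₂.l.base (closedPoint Sq.R) := by
    rw [← c1, ← c2, hM12]
  obtain ⟨X₀, hX₀, hxX₀⟩ : ∃ X₀ : X.Opens, IsAffineOpen X₀ ∧
      L₁.l.base (closedPoint Sq.R) ∈ X₀ := by
    obtain ⟨_, ⟨W, hW, rfl⟩, hyW, -⟩ :=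
      X.isBasis_affineOpens.exists_subset_of_mem_open
        (Set.mem_univ (L₁.l.base (closedPoint Sq.R))) isOpen_univ
    exact ⟨W, hW, hyW⟩
  have hl : L₁.l = L₂.l := by
    apply eq_of_common_affine (CommRingCat.ofHom (algebraMap Sq.R Sq.K))
      (IsFractionRing.injective Sq.R Sq.K) X₀ hX₀ _ _ hxX₀ (hc ▸ hxX₀)
    rw [L₁.fac_left, L₂.fac_left]
  exact CommSq.LiftStruct.ext hl

end Groth.Agent.H76.ValThrough
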