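import Mathlib.RingTheory.PowerSeries.Order
import Mathlib.RingTheory.PowerSeries.Basic
import Mathlib.Algebra.Algebra.Subalgebra.Basic
import Mathlib.Algebra.Field.Basic

/-!
# Subalgebras of `k[[t]]` closed in the `t`-adic topology and their value semigroups (helper76)
-/

set_option autoImplicit false
universe u

namespace Groth.Agent.H76.ValueSemigroup

open PowerSeries

variable {k : Type u} [Field k]

/-- Killing the leading term: if `order b = m ≤ order r`, some `r - l • b` has order `> m`. -/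
theorem exists_smul_sub_order_gt (r b : PowerSeries k) (m : ℕ) (hb : PowerSeries.order b = m)
    (hr : (m : ℕ∞) ≤ PowerSeries.order r) :
    ∃ l : k, ((m + 1 : ℕ) : ℕ∞) ≤ PowerSeries.order (r - l • b) := by
  obtain ⟨hbm, hb'⟩ := PowerSeries.order_eq_nat.mp hb
  refine ⟨PowerSeries.coeff m r / PowerSeries.coeff m b, ?_⟩
  apply PowerSeries.nat_le_order
  intro i hi
  rw [map_sub, PowerSeries.coeff_smul]
  rcases Nat.lt_succ_iff_lt_or_eq.mp hi with hlt | rfl
  · rw [hb' i hlt, PowerSeries.coeff_of_lt_order i (lt_of_lt_of_le (by exact_mod_cast hlt) hr)]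
    simp
  · rw [smul_eq_mul, div_mul_cancel₀ _ hbm, sub_self]

/-- A `t`-adically closed subalgebra contains every series of order at least the conductor of its
value set. -/
theorem mem_of_le_order (A : Subalgebra k (PowerSeries k))
    (hcl : ∀ f : PowerSeries k, (∀ n : ℕ, ∃ g ∈ A, (n : ℕ∞) ≤ PowerSeries.order (f - g)) → f ∈ A)
    (Γ : Set ℕ) (hΓ : ∀ n : ℕ, n ∈ Γ ↔ ∃ f ∈ A, PowerSeries.order f = n)
    (c : ℕ) (hc : ∀ n : ℕ, c ≤ n → n ∈ Γ) (h : PowerSeries k)
    (hh : (c : ℕ∞) ≤ PowerSeries.order h) : h ∈ A := by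
  apply hcl
  have key : ∀ n : ℕ, ∃ a ∈ A, ((c + n : ℕ) : ℕ∞) ≤ PowerSeries.order (h - a) := by
    intro n
    induction n with
    | zero => exact ⟨0, A.zero_mem, by simpa using hh⟩
    | succ n ih =>
      obtain ⟨a, ha, hle⟩ := ih
      obtain ⟨b, hb, hbo⟩ := (hΓ (c + n)).mp (hc _ (Nat.le_add_right c n))
      obtain ⟨l, hl⟩ := exists_smul_sub_order_gt (h - a) b (c + n) hbo hle
      refine ⟨a + l • b, A.add_mem ha (A.smul_mem hb l), ?_⟩
      have : h - (a + l • b) = h - a - l • b := by ring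
      rw [this]
      exact hl
  intro n
  obtain ⟨a, ha, hle⟩ := key n
  refine ⟨a, ha, le_trans ?_ hle⟩
  exact_mod_cast Nat.le_add_left n c

end Groth.Agent.H76.ValueSemigroup
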