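import Mathlib
import Groth.Agent.H76.ValueSemigroup

/-!
# Finitely generated modules over a subalgebra of `k[[t]]` with finite normalisation (helper76)

If `k[[t]]` is a finite module over the subalgebra `A`, an `A`-submodule `N` of `k[[t]]` that has
elements of every order `≥ c'` contains all series of order `≥ c'` (Nakayama).
-/

set_option autoImplicit false
universe u

namespace Groth.Agent.H76.ValueModule

open PowerSeries

variable {k : Type u} [Field k]

/-- `X ^ n ∣ f ↔ n ≤ order f`. -/
theorem X_pow_dvd_iff_le_order (n : ℕ) (f : PowerSeries k) :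
    (X : PowerSeries k) ^ n ∣ f ↔ (n : ℕ∞) ≤ order f := by
  rw [PowerSeries.X_pow_dvd_iff]
  constructor
  · intro h; exact nat_le_order f n h
  · intro h m hm; exact coeff_of_lt_order m (lt_of_lt_of_le (by exact_mod_cast hm) h)

/-- `k[[t]]` is not a finite-dimensional `k`-vector space. -/
theorem not_finite_powerSeries : ¬ Module.Finite k (PowerSeries k) := by
  intro h
  have : IsArtinianRing (PowerSeries k) := IsArtinianRing.of_finite k _
  have hf := IsArtinianRing.isField_of_isDomain (PowerSeries k)
  obtain ⟨b, hb⟩ := hf.mul_inv_cancel (X_ne_zero : (X : PowerSeries k) ≠ 0)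
  have := congrArg (constantCoeff (R := k)) hb
  simp at this

/-- An element of positive finite order exists in a subalgebra over which `k[[t]]` is finite. -/
theorem exists_pos_order (A : Subalgebra k (PowerSeries k))
    (hA : Module.Finite ↥A (PowerSeries k)) :
    ∃ a ∈ A, ∃ e : ℕ, 0 < e ∧ order a = e := by
  by_contra hcon
  push_neg at hcon
  have hbot : A = ⊥ := by
    rw [eq_bot_iff]
    intro f hf
    have hg : f - algebraMap k _ (coeff 0 f) ∈ A := A.sub_mem hf (A.algebraMap_mem _)
    have h0 : f - algebraMap k _ (coeff 0 f) = 0 := by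
      by_contra hne
      have hne' : order (f - algebraMap k _ (coeff 0 f)) ≠ ⊤ := fun h => hne (order_eq_top.mp h)
      obtain ⟨e, he⟩ := ENat.ne_top_iff_exists.mp hne'
      have he0 : 0 < e := by
        rcases Nat.eq_zero_or_pos e with h | h
        · exfalso
          subst h
          have hc := (order_eq_nat.mp he.symm).1
          apply hc
          simp
        · exact h
      exact hcon _ hg e he0 he.symm
    rw [sub_eq_zero] at h0
    rw [h0]; exact Subalgebra.algebraMap_mem _ _
  subst hbot
  exact not_finite_powerSeries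
    (Module.Finite.trans (R := k) (↥(⊥ : Subalgebra k (PowerSeries k))) (PowerSeries k))

/-- Nakayama: an `A`-submodule with elements of every order `≥ c'` contains everything of order
`≥ c'`, when `k[[t]]` is finite over `A`. -/
theorem mem_of_le_order (A : Subalgebra k (PowerSeries k))
    (hA : Module.Finite ↥A (PowerSeries k))
    (N : Submodule ↥A (PowerSeries k)) (c' : ℕ)
    (hN : ∀ n : ℕ, c' ≤ n → ∃ g ∈ N, order g = n)
    (f : PowerSeries k) (hf : (c' : ℕ∞) ≤ order f) : f ∈ N := by
  obtain ⟨a, haA, e, he, hae⟩ := exists_pos_order A hA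
  let T : Submodule ↥A (PowerSeries k) :=
    Submodule.map (LinearMap.mulLeft ↥A ((X : PowerSeries k) ^ c')) ⊤
  have hT : ∀ g : PowerSeries k, g ∈ T ↔ (c' : ℕ∞) ≤ order g := by
    intro g
    rw [← X_pow_dvd_iff_le_order]
    simp only [T, Submodule.mem_map, Submodule.mem_top, true_and, LinearMap.mulLeft_apply]
    exact ⟨fun ⟨y, hy⟩ => ⟨y, hy.symm⟩, fun ⟨y, hy⟩ => ⟨y, hy.symm⟩⟩
  have hTfg : T.FG := Submodule.FG.map _ hA.fg_top
  have hI : Ideal.span {(⟨a, haA⟩ : ↥A)} ≤ Ideal.jacobson ⊥ := by
    rw [Ideal.span_le, Set.singleton_subset_iff, SetLike.mem_coe, Ideal.mem_jacobson_bot]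
    intro y
    have hloc : IsLocalHom (algebraMap ↥A (PowerSeries k)) := by
      have : Algebra.IsIntegral ↥A (PowerSeries k) := Algebra.IsIntegral.of_finite _ _
      exact RingHom.IsIntegral.isLocalHom (algebraMap_isIntegral_iff.mpr this)
        Subtype.val_injective
    apply isUnit_of_map_unit (algebraMap ↥A (PowerSeries k))
    rw [PowerSeries.isUnit_iff_constantCoeff]
    have ha0 : constantCoeff a = 0 := by
      rw [← coeff_zero_eq_constantCoeff_apply]
      exact coeff_of_lt_order 0 (by rw [hae]; exact_mod_cast he)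
    have : algebraMap ↥A (PowerSeries k) (⟨a, haA⟩ * y + 1) = a * (y : PowerSeries k) + 1 := rfl
    rw [this, map_add, map_mul, ha0, zero_mul, zero_add, map_one]
    exact isUnit_one
  have hle : T ≤ N ⊔ Ideal.span {(⟨a, haA⟩ : ↥A)} • T := by
    intro g hg
    rw [hT] at hg
    have key : ∀ j : ℕ, ∃ b ∈ N, ((c' + j : ℕ) : ℕ∞) ≤ order (g - b) := by
      intro j
      induction j with
      | zero => exact ⟨0, N.zero_mem, by simpa using hg⟩
      | succ j ih =>
        obtain ⟨b, hb, hle⟩ := ih
        obtain ⟨b', hb', hbo⟩ := hN (c' + j) (Nat.le_add_right _ _)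
        obtain ⟨l, hl⟩ := ValueSemigroup.exists_smul_sub_order_gt (g - b) b' (c' + j) hbo hle
        refine ⟨b + l • b', N.add_mem hb ?_, ?_⟩
        · have : l • b' = (algebraMap k ↥A l) • b' := by
            rw [algebraMap_smul]
          rw [this]; exact N.smul_mem _ hb'
        · have : g - (b + l • b') = g - b - l • b' := by ring
          rw [this]; exact_mod_cast hl
    obtain ⟨b, hb, hble⟩ := key e
    have ha_ne : a ≠ 0 := by
      intro h; rw [h, order_zero] at hae; exact ENat.top_ne_natCast e hae
    have hae' : a.order.toNat = e := by rw [hae]; rfl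
    have hfac : (X : PowerSeries k) ^ e * divXPowOrder a = a := by
      rw [← hae']; exact X_pow_order_mul_divXPowOrder
    obtain ⟨v, hv⟩ := (isUnit_divided_by_X_pow_order ha_ne).exists_right_inv
    obtain ⟨w, hw⟩ := (X_pow_dvd_iff_le_order (c' + e) (g - b)).mpr hble
    have hh'T : (X : PowerSeries k) ^ c' * (v * w) ∈ T := by
      simp only [T, Submodule.mem_map, Submodule.mem_top, true_and, LinearMap.mulLeft_apply]
      exact ⟨_, rfl⟩
    have hg_eq : g = b + (⟨a, haA⟩ : ↥A) • ((X : PowerSeries k) ^ c' * (v * w)) := by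
      have h1 : (⟨a, haA⟩ : ↥A) • ((X : PowerSeries k) ^ c' * (v * w))
          = a * ((X : PowerSeries k) ^ c' * (v * w)) := rfl
      rw [h1]
      have h2 : g = b + (g - b) := by ring
      conv_lhs => rw [h2, hw]
      congr 1
      have hXe : a * v = (X : PowerSeries k) ^ e := by
        calc a * v = (X : PowerSeries k) ^ e * divXPowOrder a * v := by rw [hfac]
          _ = (X : PowerSeries k) ^ e * (divXPowOrder a * v) := by ring
          _ = (X : PowerSeries k) ^ e := by rw [hv, mul_one]
      calc (X : PowerSeries k) ^ (c' + e) * w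
          = (X : PowerSeries k) ^ c' * ((X : PowerSeries k) ^ e * w) := by
            rw [pow_add]; ring
        _ = (X : PowerSeries k) ^ c' * (a * v * w) := by rw [hXe]
        _ = a * ((X : PowerSeries k) ^ c' * (v * w)) := by ring
    rw [hg_eq]
    exact Submodule.add_mem_sup hb
      (Submodule.smul_mem_smul (Ideal.subset_span rfl) hh'T)
  exact Submodule.le_of_le_smul_of_le_jacobson_bot hTfg hI hle ((hT f).mpr hf)

end Groth.Agent.H76.ValueModule
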